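import Cfsg.Agent.Chev.Checks

/-! Descent of positive roots to the fundamental ones. -/

set_option autoImplicit false

namespace CfsgLib.Chev

namespace Data

variable (K : Data)

/-- every positive root is fundamental or can be lowered by a reflection -/
noncomputable def descOK : Bool :=
  (List.range K.npos).all fun k =>
    (List.range K.l).any fun i =>
      Nat.beq (K.p i) (K.npos + k) ||
        (Nat.ble K.npos (K.w i (K.npos + k)) && Nat.blt (K.w i (K.npos + k)) (K.npos + k))

end Data

end CfsgLib.Chev
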