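import Cfsg.Agent.Chev.Checks

/-!
Consequences of the checks: the relations between root elements, the monomial elements and the
diagonal elements, over an arbitrary field.
-/

set_option autoImplicit false

namespace CfsgLib.Chev

open Cfsg.Lie Matrix

/-- all checks succeed for the datum -/
structure Good (K : Data) (D : ChevalleyDatum) : Prop where
  fits : K.tab.Fits D
  rootsChk : K.rootsOK D = true
  heightChk : ∀ r < D.nroots, K.heightRowOK D r = true
  addChk : ∀ r < D.nroots, addOK K.tab r = true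
  monChk : ∀ i < D.rank, K.monOK i = true
  hChk : ∀ i < D.rank, K.hOK i = true
  conjChk : ∀ i < D.rank, ∀ s < D.nroots, K.conjOK D i s = true
  baseChk : ∀ e ∈ K.basePairs, e.1 < D.nroots ∧ e.2 < D.nroots ∧ K.commBaseOK e.1 e.2 = true
  stabChk : ∀ r ∈ K.reps, r < D.nroots ∧ ∀ s < D.nroots, K.stabMoveOK r s = true
  moveChk : ∀ r < D.nroots, K.commMoveOK r = true

variable {K : Data} {D : ChevalleyDatum}

/-! ### Roots -/

namespace Good

theorem n_eq (hG : Good K D) : K.n = D.nroots := hG.fits.nroots_eq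

theorem l_eq (hG : Good K D) : K.l = D.rank := hG.fits.rank_eq

theorem neg_eq (hG : Good K D) {r : ℕ} (hr : r < D.nroots) : D.neg r = D.nroots - 1 - r :=
  hG.fits.neg_eq r hr

theorem Kneg_eq (hG : Good K D) (r : ℕ) : K.neg r = D.nroots - 1 - r := by
  rw [Data.neg, hG.fits.nroots_eq]

theorem nroots_eq_two_mul (hG : Good K D) : D.nroots = 2 * K.npos := by
  have h := hG.rootsChk
  simp only [Data.rootsOK, Bool.and_eq_true] at h
  have := Nat.eq_of_beq_eq_true h.1.1
  rw [← hG.n_eq]; omega

theorem refl_facts (hG : Good K D) {i : ℕ} (hi : i < D.rank) :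
    D.simple i = K.p i ∧ K.npos ≤ K.p i ∧ K.p i < D.nroots ∧
    K.w i (K.p i) = K.neg (K.p i) ∧
    ∀ s < D.nroots, K.w i s < D.nroots ∧ K.w i (K.w i s) = s ∧
      K.w i (K.neg s) = K.neg (K.w i s) ∧ D.reflectRoot i s = K.w i s ∧
      (K.npos ≤ s → s ≠ K.p i → K.npos ≤ K.w i s) := by
  have h := hG.rootsChk
  simp only [Data.rootsOK, Bool.and_eq_true, List.all_eq_true, List.mem_range] at h
  obtain ⟨⟨⟨⟨h1, h2⟩, h3⟩, h4⟩, h5⟩ := h.1.2 i (hG.l_eq ▸ hi)
  simp only [Nat.ble_eq, Nat.blt_eq, hG.n_eq] at h2 h3 h5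
  refine ⟨Nat.eq_of_beq_eq_true h1, h2, h3, Nat.eq_of_beq_eq_true h4, fun s hs => ?_⟩
  obtain ⟨⟨⟨⟨g1, g2⟩, g3⟩, g4⟩, g5⟩ := h5 s hs
  refine ⟨g1, Nat.eq_of_beq_eq_true g2, Nat.eq_of_beq_eq_true g3, Nat.eq_of_beq_eq_true g4,
    fun a b => ?_⟩
  simp only [Bool.or_eq_true] at g5
  rcases g5 with (g | g) | g
  · simp [Nat.ble_eq_true_of_le a] at g
  · exact absurd (Nat.eq_of_beq_eq_true g) b
  · exact Nat.le_of_ble_eq_true g

theorem simple_eq (hG : Good K D) {i : ℕ} (hi : i < D.rank) : D.simple i = K.p i :=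
  (hG.refl_facts hi).1

theorem npos_le_p (hG : Good K D) {i : ℕ} (hi : i < D.rank) : K.npos ≤ K.p i := (hG.refl_facts hi).2.1

theorem p_lt (hG : Good K D) {i : ℕ} (hi : i < D.rank) : K.p i < D.nroots := (hG.refl_facts hi).2.2.1

theorem w_p (hG : Good K D) {i : ℕ} (hi : i < D.rank) : K.w i (K.p i) = K.neg (K.p i) :=
  (hG.refl_facts hi).2.2.2.1

theorem w_lt (hG : Good K D) {i s : ℕ} (hi : i < D.rank) (hs : s < D.nroots) :
    K.w i s < D.nroots := ((hG.refl_facts hi).2.2.2.2 s hs).1

theorem w_w (hG : Good K D) {i s : ℕ} (hi : i < D.rank) (hs : s < D.nroots) :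
    K.w i (K.w i s) = s := ((hG.refl_facts hi).2.2.2.2 s hs).2.1

theorem w_neg (hG : Good K D) {i s : ℕ} (hi : i < D.rank) (hs : s < D.nroots) :
    K.w i (K.neg s) = K.neg (K.w i s) := ((hG.refl_facts hi).2.2.2.2 s hs).2.2.1

theorem reflectRoot_eq (hG : Good K D) {i s : ℕ} (hi : i < D.rank) (hs : s < D.nroots) :
    D.reflectRoot i s = K.w i s := ((hG.refl_facts hi).2.2.2.2 s hs).2.2.2.1

theorem npos_le_w (hG : Good K D) {i s : ℕ} (hi : i < D.rank) (hs : s < D.nroots)
    (hpos : K.npos ≤ s) (hne : s ≠ K.p i) : K.npos ≤ K.w i s :=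
  ((hG.refl_facts hi).2.2.2.2 s hs).2.2.2.2 hpos hne

theorem root_facts (hG : Good K D) {r : ℕ} (hr : r < D.nroots) :
    (D.IsPosRoot r ↔ K.npos ≤ r) ∧ (D.IsNegRoot r ↔ r < K.npos) ∧
    (r + 1 < D.nroots → K.phi r < K.phi (r + 1)) ∧ K.phi (K.neg r) = - K.phi r := by
  have h := hG.rootsChk
  simp only [Data.rootsOK, Bool.and_eq_true, List.all_eq_true, List.mem_range] at h
  obtain ⟨⟨⟨h1, h2⟩, h3⟩, h4⟩ := h.2 r (hG.n_eq ▸ hr)
  rw [beq_iff_eq] at h1 h2
  rw [intEq_iff] at h4
  refine ⟨?_, ?_, fun hr1 => ?_, h4⟩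
  · rw [← Nat.ble_eq, ← h1, decide_eq_true_iff]
  · rw [← Nat.blt_eq, ← h2, decide_eq_true_iff]
  · simp only [Bool.or_eq_true, decide_eq_true_eq] at h3
    rcases h3 with h3 | h3
    · exfalso
      have := Nat.eq_of_beq_eq_true h3
      rw [hG.n_eq] at this
      omega
    · exact h3

theorem isPosRoot_iff (hG : Good K D) (r : ℕ) : D.IsPosRoot r ↔ K.npos ≤ r ∧ r < D.nroots :=
  ⟨fun h => ⟨(hG.root_facts h.1).1.1 h, h.1⟩, fun h => (hG.root_facts h.2).1.2 h.1⟩

theorem isNegRoot_iff (hG : Good K D) (r : ℕ) : D.IsNegRoot r ↔ r < K.npos := by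
  refine ⟨fun h => (hG.root_facts h.1).2.1.1 h, fun h => ?_⟩
  have : r < D.nroots := by have := hG.nroots_eq_two_mul; omega
  exact (hG.root_facts this).2.1.2 h

theorem Kneg_lt (hG : Good K D) {r : ℕ} (hr : r < D.nroots) : K.neg r < D.nroots := by
  rw [hG.Kneg_eq]; omega

theorem Kneg_Kneg (hG : Good K D) {r : ℕ} (hr : r < D.nroots) : K.neg (K.neg r) = r := by
  rw [hG.Kneg_eq, hG.Kneg_eq]; omega

theorem phi_lt_phi (hG : Good K D) {r s : ℕ} (hrs : r < s) (hs : s < D.nroots) :
    K.phi r < K.phi s := by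
  induction s with
  | zero => omega
  | succ s ih =>
    have h1 := (hG.root_facts (r := s) (by omega)).2.2.1 hs
    rcases Nat.lt_or_ge r s with h | h
    · exact lt_trans (ih h (by omega)) h1
    · obtain rfl : r = s := by omega
      exact h1

theorem phi_pos (hG : Good K D) {r : ℕ} (h : K.npos ≤ r) (hr : r < D.nroots) : 0 < K.phi r := by
  have h1 := (hG.root_facts hr).2.2.2
  have h2 := hG.phi_lt_phi (r := K.neg r) (s := r)
    (by rw [hG.Kneg_eq]; have := hG.nroots_eq_two_mul; omega) hr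
  omega

/-! ### Chains -/

theorem entry_eq (hG : Good K D) {r s : ℕ} (hr : r < D.nroots) (hs : s < D.nroots) :
    D.chainEntry r s = K.entry r s := by
  have h1 := hG.fits.chain_eq r hr s hs
  have h2 := hG.fits.chain_single r hr s hs
  rw [Data.entry, ← h1, hG.l_eq, ChevalleyDatum.chainEntry, chainCol]
  rw [← List.head?_filter]
  generalize ((D.chain.getD r #[]).toList.filter fun e => decide (e.1 = s)) = L at h2 ⊢
  match L with
  | [] => simp
  | [e] =>
    simp only [List.head?_cons, List.flatMap_cons, List.flatMap_nil, List.append_nil,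
      List.map_map, Function.comp_def, Nat.add_sub_cancel_left]
    exact (List.zipIdx_map_fst 0 e.2.toList).symm
  | e :: e' :: L => simp at h2

theorem chainTerms_mem (hG : Good K D) {r s : ℕ} (hr : r < D.nroots) (hs : s < D.nroots)
    {q : ℕ × ℕ × ℤ} (hq : q ∈ K.tab.chainTerms r s) :
    D.rank ≤ q.1 ∧ q.1 < dim D ∧ 0 < q.2.1 := by
  rw [← hG.fits.chain_eq r hr s hs, chainCol] at hq
  simp only [List.mem_flatMap, List.mem_filter, List.mem_map] at hq
  obtain ⟨e, ⟨he, -⟩, p, hp, rfl⟩ := hq
  have hp1 : p.1 ∈ e.2.toList := by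
    obtain ⟨-, h2, h3⟩ := List.mem_zipIdx hp
    rw [h3]; exact List.getElem_mem _
  have := (hG.fits.chain_key r hr e he).2.2 p.1 hp1
  simp only [dim]; omega

theorem phi_chain (hG : Good K D) {r s : ℕ} (hr : r < D.nroots) (hs : s < D.nroots)
    {q : ℕ × ℕ × ℤ} (hq : q ∈ K.tab.chainTerms r s) :
    K.phi (q.1 - D.rank) = (q.2.1 : ℤ) * K.phi r + K.phi s := by
  have hq' := hq
  rw [← hG.fits.chain_eq r hr s hs, chainCol] at hq'
  simp only [List.mem_flatMap, List.mem_filter, decide_eq_true_eq] at hq'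
  obtain ⟨e, ⟨he, hes⟩, -⟩ := hq'
  have h := hG.heightChk r hr
  simp only [Data.heightRowOK, List.all_eq_true, intEq_iff] at h
  have := h e he q (hes.symm ▸ hq)
  rwa [hG.l_eq, hes] at this

theorem entry_lt (hG : Good K D) {r s : ℕ} (hr : r < D.nroots) (hs : s < D.nroots)
    {q : ℕ × ℤ} (hq : q ∈ K.entry r s) : q.1 < D.nroots := by
  rw [Data.entry, List.mem_map] at hq
  obtain ⟨q', hq', rfl⟩ := hq
  have := hG.chainTerms_mem hr hs hq'
  simp only [dim] at this
  rw [hG.l_eq]; omega

theorem croot_lt (hG : Good K D) {r s i k : ℕ} (hr : r < D.nroots) (hs : s < D.nroots)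
    (h : K.croot r s i = some k) : k < D.nroots := by
  rw [Data.croot, Option.map_eq_some_iff] at h
  obtain ⟨q, hq, rfl⟩ := h
  exact hG.entry_lt hr hs (List.mem_of_getElem? hq)

theorem chainRoot_eq (hG : Good K D) {r s : ℕ} (hr : r < D.nroots) (hs : s < D.nroots) (i : ℕ) :
    D.chainRoot r s i = K.croot r s i := by
  rw [ChevalleyDatum.chainRoot, Data.croot, hG.entry_eq hr hs]

theorem chainM_eq (hG : Good K D) {r s : ℕ} (hr : r < D.nroots) (hs : s < D.nroots) (i : ℕ) :
    D.chainM r s i = K.cM r s i := by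
  rw [ChevalleyDatum.chainM, Data.cM, hG.entry_eq hr hs]

theorem commTerms_eq (hG : Good K D) {r s : ℕ} (hr : r < D.nroots) (hs : s < D.nroots) :
    D.commTerms r s = K.comm r s := by
  unfold ChevalleyDatum.commTerms Data.comm
  simp only [hG.chainRoot_eq hr hs, hG.chainM_eq hr hs, hG.chainRoot_eq hs hr,
    hG.chainM_eq hs hr]
  congr 1
  have e1 : ((K.croot r s 3).bind fun k => D.chainRoot k s 1) =
      ((K.croot r s 3).bind fun k => K.croot k s 1) := by
    cases h : K.croot r s 3 with
    | none => rfl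
    | some k => exact hG.chainRoot_eq (hG.croot_lt hr hs h) hs 1
  have e2 : ((K.croot s r 3).bind fun k => D.chainRoot k r 1) =
      ((K.croot s r 3).bind fun k => K.croot k r 1) := by
    cases h : K.croot s r 3 with
    | none => rfl
    | some k => exact hG.chainRoot_eq (hG.croot_lt hs hr h) hr 1
  have e3 : ((K.croot r s 1).map fun k => D.chainM k r 2 / 3).getD 0 =
      ((K.croot r s 1).map fun k => K.cM k r 2 / 3).getD 0 := by
    cases h : K.croot r s 1 with
    | none => rfl
    | some k => simp [hG.chainM_eq (hG.croot_lt hr hs h) hr 2]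
  have e4 : ((K.croot r s 1).map fun k => -2 * D.chainM k s 2 / 3).getD 0 =
      ((K.croot r s 1).map fun k => -2 * K.cM k s 2 / 3).getD 0 := by
    cases h : K.croot r s 1 with
    | none => rfl
    | some k => simp [hG.chainM_eq (hG.croot_lt hr hs h) hs 2]
  rw [e1, e2, e3, e4]

theorem comm_mem (hG : Good K D) {r s : ℕ} (hr : r < D.nroots) (hs : s < D.nroots)
    {c : ℕ × ℤ × ℕ × ℕ} (hc : c ∈ K.comm r s) :
    c.1 < D.nroots ∧ 0 < c.2.2.1 ∧ 0 < c.2.2.2 := by
  simp only [Data.comm, List.mem_filterMap, List.mem_cons, List.not_mem_nil, or_false] at hc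
  obtain ⟨x, hx, hxc⟩ := hc
  rw [Option.map_eq_some_iff] at hxc
  obtain ⟨k, hk, rfl⟩ := hxc
  rcases hx with rfl | rfl | rfl | rfl | rfl | rfl | rfl
  all_goals first
    | exact ⟨hG.croot_lt hr hs hk, Nat.succ_pos _, Nat.succ_pos _⟩
    | exact ⟨hG.croot_lt hs hr hk, Nat.succ_pos _, Nat.succ_pos _⟩
    | (obtain ⟨k', hk1, hk2⟩ := Option.bind_eq_some_iff.1 hk
       exact ⟨hG.croot_lt (hG.croot_lt hr hs hk1) hs hk2, Nat.succ_pos _, Nat.succ_pos _⟩)
    | (obtain ⟨k', hk1, hk2⟩ := Option.bind_eq_some_iff.1 hk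
       exact ⟨hG.croot_lt (hG.croot_lt hs hr hk1) hr hk2, Nat.succ_pos _, Nat.succ_pos _⟩)

end Good

/-! ### Matrices by columns -/

section Columns

variable {F : Type*} [Field F]

/-- the vector described by a list of terms -/
def vecOf (D : ChevalleyDatum) (t u : F) (L : List Term) : D.Idx → F :=
  fun a => evalTerms t u L (code D a)

theorem vecOf_single (D : ChevalleyDatum) (t u : F) (b : D.Idx) :
    vecOf D t u [⟨code D b, 0, 0, 1⟩] = Pi.single b 1 := by
  funext a
  simp [vecOf, evalTerms, Term.val, Pi.single_apply, (code_injective D).eq_iff, eq_comm]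

theorem x_of_lt (D : ChevalleyDatum) {r : ℕ} (hr : r < D.nroots) (t : F) :
    D.x F r t = D.xMat F ⟨r, hr⟩ t := by rw [ChevalleyDatum.x, dif_pos hr]

theorem x_of_not_lt (D : ChevalleyDatum) {r : ℕ} (hr : ¬ r < D.nroots) (t : F) :
    D.x F r t = 1 := by rw [ChevalleyDatum.x, dif_neg hr]

theorem x_mulVec_vecOf (hG : Good K D) {t u : F} (ht : t ≠ 0) (hu : u ≠ 0) (x : Letter)
    (hx : x.root < D.nroots) (L : List Term) :
    D.x F x.root (x.arg t u) *ᵥ vecOf D t u L = vecOf D t u (applyX K.tab x L) := by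
  funext a
  rw [x_of_lt D hx, vecOf, evalTerms_applyX D hG.fits ht hu x hx]
  simp [Matrix.mulVec, dotProduct, vecOf]

theorem matrix_ext_single {M M' : Matrix D.Idx D.Idx F}
    (h : ∀ b, M *ᵥ Pi.single b 1 = M' *ᵥ Pi.single b 1) : M = M' := by
  ext a b
  have := congrFun (h b) a
  simpa [Matrix.mulVec_single_one] using this

theorem termsEq_sound : ∀ {L M : List Term}, termsEq L M = true → L = M
  | [], [], _ => rfl
  | [], _ :: _, h => by simp [termsEq] at h
  | _ :: _, [], h => by simp [termsEq] at h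
  | a :: L, b :: M, h => by
    have h' : (Nat.beq a.row b.row && intEq a.ea b.ea && intEq a.eb b.eb && intEq a.coef b.coef &&
      termsEq L M) = true := h
    simp only [Bool.and_eq_true, intEq_iff] at h'
    obtain ⟨⟨⟨⟨h1, h2⟩, h3⟩, h4⟩, h5⟩ := h'
    have h1 := Nat.eq_of_beq_eq_true h1
    cases a; cases b
    simp_all [termsEq_sound h5]

theorem vecOf_eq_of_agree (D : ChevalleyDatum) (t u : F) {L M : List Term}
    (h : agree L M = true) : vecOf D t u L = vecOf D t u M := by
  funext a
  rw [agree, Bool.or_eq_true] at h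
  rcases h with h | h
  · rw [termsEq_sound h]
  · exact evalTerms_eq_of_sameTerms t u h _

theorem wordMat_mulVec_single (hG : Good K D) {t u : F} (ht : t ≠ 0) (hu : u ≠ 0)
    (w : List Letter) (hw : ∀ x ∈ w, x.root < D.nroots) (b : D.Idx) :
    D.wordMat F (evalWord t u w) *ᵥ Pi.single b 1 = vecOf D t u (wordCol K.tab w (code D b)) := by
  funext a
  rw [vecOf, evalTerms_wordCol D hG.fits ht hu w hw a b]
  simp [Matrix.mulVec_single_one]

/-- a column of `x_r` fixes its basis vector when it is trivial -/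
theorem x_fix_of_trivialCol (hG : Good K D) {r : ℕ} (hr : r < D.nroots) (b : D.Idx)
    (h : trivialCol K.tab r (code D b) = true) (t : F) :
    D.x F r t *ᵥ Pi.single b 1 = Pi.single b 1 := by
  funext a
  rw [x_of_lt D hr]
  have hc := colEq_sound h
  rw [hG.fits.col_eq hr (code_lt D b)] at hc
  simp [Matrix.mulVec_single_one, xMat_apply_eq_evalCol, hc, evalCol, Pi.single_apply,
    (code_injective D).eq_iff, eq_comm]

theorem wordMat_fix (D : ChevalleyDatum) (v : D.Idx → F) :
    ∀ (w : List (ℕ × F)), (∀ p ∈ w, D.x F p.1 p.2 *ᵥ v = v) → D.wordMat F w *ᵥ v = v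
  | [], _ => by simp [ChevalleyDatum.wordMat]
  | p :: w, h => by
    have e : D.wordMat F (p :: w) = D.x F p.1 p.2 * D.wordMat F w := by
      simp [ChevalleyDatum.wordMat]
    rw [e, ← Matrix.mulVec_mulVec, wordMat_fix D v w (fun q hq => h q (List.mem_cons_of_mem _ hq)),
      h p (by simp)]

theorem wordMat_nil (D : ChevalleyDatum) : D.wordMat F [] = 1 := rfl

theorem wordMat_cons (D : ChevalleyDatum) (p : ℕ × F) (w : List (ℕ × F)) :
    D.wordMat F (p :: w) = D.x F p.1 p.2 * D.wordMat F w := by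
  simp [ChevalleyDatum.wordMat]

theorem wordMat_append (D : ChevalleyDatum) (v w : List (ℕ × F)) :
    D.wordMat F (v ++ w) = D.wordMat F v * D.wordMat F w := by
  simp [ChevalleyDatum.wordMat]

end Columns

/-! ### Columns as vectors -/

/-- the vector of a column list -/
def colVec {F : Type*} [Field F] (D : ChevalleyDatum) (z : F) (L : List (ℕ × ℕ × ℤ)) : D.Idx → F :=
  fun a => evalCol z L (code D a)

theorem colVec_nil {F : Type*} [Field F] (D : ChevalleyDatum) (z : F) : colVec D z [] = 0 := rfl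

theorem colVec_cons' {F : Type*} [Field F] (D : ChevalleyDatum) (z : F) (e : ℕ × ℕ × ℤ)
    (L : List (ℕ × ℕ × ℤ)) : colVec D z (e :: L) = colVec D z [e] + colVec D z L := by
  funext a; simp [colVec, evalCol]

theorem colVec_cons {F : Type*} [Field F] (D : ChevalleyDatum) (z : F) (b : D.Idx)
    (L : List (ℕ × ℕ × ℤ)) :
    colVec D z ((code D b, 0, 1) :: L) = colVec D z [(code D b, 0, 1)] + colVec D z L :=
  colVec_cons' D z _ L

theorem colVec_head {F : Type*} [Field F] (D : ChevalleyDatum) (z : F) (b : D.Idx) :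
    colVec D z [(code D b, 0, 1)] = Pi.single b 1 := by
  funext a
  simp [colVec, evalCol, Pi.single_apply, (code_injective D).eq_iff, eq_comm]

theorem x_single {F : Type*} [Field F] (hG : Good K D) {r : ℕ} (hr : r < D.nroots) (b : D.Idx)
    (z : F) : D.x F r z *ᵥ Pi.single b 1 = colVec D z (K.tab.col r (code D b)) := by
  funext a
  rw [x_of_lt D hr, colVec, hG.fits.col_eq hr (code_lt D b)]
  simp [xMat_apply_eq_evalCol]

theorem linearCol_sound {T : Tab} {r j : ℕ} (h : linearCol T r j = true) :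
    ∃ L, T.col r j = (j, 0, 1) :: L ∧
      ∀ q ∈ L, q.2.1 = 1 ∧ q.1 < T.dim ∧ trivialCol T r q.1 = true := by
  unfold linearCol at h
  cases hc : T.col r j with
  | nil => rw [hc] at h; simp at h
  | cons e L =>
    rw [hc] at h
    simp only [Bool.and_eq_true, intEq_iff] at h
    obtain ⟨⟨⟨h1, h2⟩, h3⟩, h4⟩ := h
    refine ⟨L, ?_, ?_⟩
    · rw [show e = (j, 0, 1) from
        Prod.ext (Nat.eq_of_beq_eq_true h1) (Prod.ext (Nat.eq_of_beq_eq_true h2) h3)]
    · clear hc
      induction L with
      | nil => simp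
      | cons q L ih =>
        simp only [Bool.and_eq_true, Nat.blt_eq] at h4
        exact List.forall_mem_cons.2 ⟨⟨Nat.eq_of_beq_eq_true h4.1.1.1, h4.1.1.2, h4.1.2⟩, ih h4.2⟩

/-! ### The relations -/

namespace Good

variable {F : Type*} [Field F]

theorem x_zero (hG : Good K D) (r : ℕ) : D.x F r 0 = 1 := by
  by_cases hr : r < D.nroots
  · rw [x_of_lt D hr]
    ext a b
    rw [xMat_apply_eq_evalCol]
    have hk : ∀ e ∈ (colList D r (code D b)).tail, 0 < e.2.1 := by
      intro e he
      rw [colList] at he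
      split_ifs at he
      · simp at he; simp [he]
      · simp at he
      · simp at he
        rcases he with rfl | ⟨i, -, rfl⟩ <;> simp
      · simp only [List.tail_cons, chainCol, List.mem_flatMap, List.mem_map] at he
        obtain ⟨_, -, q, -, rfl⟩ := he
        simp
    have hh : ∃ L, colList D r (code D b) = (code D b, 0, 1) :: L := by
      rw [colList]; split_ifs <;> exact ⟨_, rfl⟩
    obtain ⟨L, hL⟩ := hh
    rw [hL] at hk ⊢
    rw [evalCol_cons]
    have hz : evalCol (0 : F) L (code D a) = 0 := by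
      refine List.sum_eq_zero ?_
      intro x hx
      obtain ⟨e, he, rfl⟩ := List.mem_map.1 hx
      simp [zero_pow (hk e he).ne']
    simp [hz, Matrix.one_apply, (code_injective D).eq_iff, eq_comm]
  · exact x_of_not_lt D hr 0

theorem x_add (hG : Good K D) (r : ℕ) (t u : F) :
    D.x F r t * D.x F r u = D.x F r (t + u) := by
  by_cases hr : r < D.nroots
  · by_cases ht : t = 0
    · simp [ht, hG.x_zero]
    by_cases hu : u = 0
    · simp [hu, hG.x_zero]
    have h := hG.addChk r hr
    simp only [addOK, List.all_eq_true, List.mem_range, Bool.or_eq_true] at h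
    refine matrix_ext_single fun b => ?_
    rcases h (code D b) (by rw [hG.fits.dim_eq]; exact code_lt D b) with h' | h'
    · obtain ⟨L, hL, hq⟩ := linearCol_sound h'
      have hcol : ∀ z : F, D.x F r z *ᵥ Pi.single b 1 = Pi.single b 1 + colVec D z L := by
        intro z
        rw [x_single hG hr, hL, colVec_cons, colVec_head]
      have hlin : ∀ z : F, colVec D z L = z • colVec D (1 : F) L := by
        intro z
        funext a
        simp only [colVec, evalCol, Pi.smul_apply, smul_eq_mul, ← List.sum_map_mul_left]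
        refine congrArg List.sum (List.map_congr_left fun q hq' => ?_)
        rw [(hq q hq').1, pow_one, pow_one]
        split_ifs <;> ring
      have hfix : ∀ (M : List (ℕ × ℕ × ℤ)),
          (∀ q ∈ M, q.1 < dim D ∧ trivialCol K.tab r q.1 = true) →
          D.x F r t *ᵥ colVec D u M = colVec D u M := by
        intro M
        induction M with
        | nil => intro _; simp [colVec_nil]
        | cons q M ih =>
          intro hM
          obtain ⟨c, hc⟩ := exists_code_eq D (hM q (by simp)).1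
          have e : colVec D u [q] = ((q.2.2 : F) * u ^ q.2.1) • Pi.single c (1 : F) := by
            funext a
            simp [colVec, evalCol, ← hc, Pi.single_apply, (code_injective D).eq_iff, eq_comm]
          rw [colVec_cons', Matrix.mulVec_add, ih (fun q' hq' => hM q' (List.mem_cons_of_mem _ hq')),
            e, Matrix.mulVec_smul, x_fix_of_trivialCol hG hr c (hc ▸ (hM q (by simp)).2)]
      rw [← Matrix.mulVec_mulVec, hcol u, Matrix.mulVec_add, hcol t,
        hfix L (fun q hq' => ⟨by rw [← hG.fits.dim_eq]; exact (hq q hq').2.1, (hq q hq').2.2⟩),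
        hcol (t + u), hlin t, hlin u, hlin (t + u), add_smul, add_assoc]
    · have hw : D.wordMat F (evalWord t u [⟨r, 1, 1, 0⟩, ⟨r, 1, 0, 1⟩]) =
          D.x F r t * D.x F r u := by
        simp [evalWord, ChevalleyDatum.wordMat, Letter.arg]
      rw [← hw, wordMat_mulVec_single hG ht hu _ (by simp [hr])]
      funext a
      rw [vecOf, evalTerms_eq_of_sameTerms t u h', Matrix.mulVec_single_one]
      simp only [Matrix.col_apply]
      rw [x_of_lt D hr, xMat_apply_eq_evalCol, sumCol,
        hG.fits.col_eq hr (code_lt D b)]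
      induction colList D r (code D b) with
      | nil => simp [evalTerms, evalCol]
      | cons e L ih =>
        rw [List.flatMap_cons, evalTerms_append, ih, evalCol_cons]
        congr 1
        simp only [evalTerms, List.map_map, Function.comp_def, Term.val]
        by_cases he : e.1 = code D a
        · simp only [he, if_true]
          rw [add_pow, Finset.mul_sum, Finset.sum_eq_multiset_sum, Finset.range_val,
            ← Multiset.coe_range, Multiset.map_coe, Multiset.sum_coe]
          refine congrArg List.sum (List.map_congr_left fun i hi => ?_)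
          simp only [zpow_natCast]
          push_cast
          ring
        · simp [he]
  · simp [x_of_not_lt D hr]

theorem x_neg_mul (hG : Good K D) (r : ℕ) (t : F) : D.x F r (-t) * D.x F r t = 1 := by
  rw [hG.x_add, neg_add_cancel, hG.x_zero]

theorem x_mul_neg (hG : Good K D) (r : ℕ) (t : F) : D.x F r t * D.x F r (-t) = 1 := by
  rw [hG.x_add, add_neg_cancel, hG.x_zero]

theorem monOK_apply (hG : Good K D) {i : ℕ} (hi : i < D.rank) (b : D.Idx) (t u : F) :
    D.nMat F (D.simple i) 1 *ᵥ Pi.single b 1 = vecOf D t u (K.monCol i (code D b)) := by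
  have h := hG.monChk i hi
  simp only [Data.monOK, List.all_eq_true, List.mem_range] at h
  have h' := vecOf_eq_of_agree D (1 : F) 1 (h (code D b) (by rw [hG.fits.dim_eq]; exact code_lt D b))
  have hn : D.nMat F (D.simple i) 1 = D.wordMat F (evalWord (1 : F) 1
      [⟨K.p i, 1, 0, 0⟩, ⟨K.neg (K.p i), -1, 0, 0⟩, ⟨K.p i, 1, 0, 0⟩]) := by
    simp [ChevalleyDatum.nMat, ChevalleyDatum.nWord, evalWord, Letter.arg, hG.simple_eq hi,
      hG.neg_eq (hG.p_lt hi), hG.Kneg_eq]
  rw [hn, wordMat_mulVec_single hG one_ne_zero one_ne_zero _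
    (by simp [hG.p_lt hi, hG.Kneg_lt (hG.p_lt hi)]), h']
  funext a
  simp only [vecOf, evalTerms, Data.monCol]
  cases Nat.blt (code D b) K.l <;> simp [Term.val]

theorem nMat_vecOf (hG : Good K D) {i : ℕ} (hi : i < D.rank) (t u : F) (L : List Term) :
    D.nMat F (D.simple i) 1 *ᵥ vecOf D t u L = vecOf D t u (K.monApply i L) := by
  induction L with
  | nil => funext a; simp [vecOf, evalTerms, Data.monApply, Matrix.mulVec, dotProduct]
  | cons e L ih =>
    have e1 : vecOf D t u (e :: L) = vecOf D t u [e] + vecOf D t u L := by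
      funext a; simp [vecOf, evalTerms]
    have e2 : K.monApply i (e :: L) = K.monApply i [e] ++ K.monApply i L := by
      simp [Data.monApply]
    have e3 : vecOf D t u (K.monApply i [e] ++ K.monApply i L) =
        vecOf D t u (K.monApply i [e]) + vecOf D t u (K.monApply i L) := by
      funext a; simp [vecOf, evalTerms_append]
    rw [e1, Matrix.mulVec_add, ih, e2, e3]
    congr 1
    by_cases h : e.row < dim D
    · obtain ⟨b, hb⟩ := exists_code_eq D h
      have e4 : vecOf D t u [e] = ((e.coef : F) * t ^ e.ea * u ^ e.eb) • Pi.single b (1 : F) := by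
        funext a
        simp [vecOf, evalTerms, Term.val, ← hb, Pi.single_apply, (code_injective D).eq_iff,
          eq_comm]
      rw [e4, Matrix.mulVec_smul, hG.monOK_apply hi b t u]
      funext a
      have hblt : Nat.blt e.row K.tab.dim = true := by
        simpa [Nat.blt_eq, hG.fits.dim_eq] using h
      simp only [Data.monApply, List.flatMap_cons, List.flatMap_nil, List.append_nil, vecOf,
        hblt, cond_true, Pi.smul_apply, smul_eq_mul, evalTerms, List.map_map,
        ← List.sum_map_mul_left]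
      rw [← hb]
      refine congrArg List.sum (List.map_congr_left fun q hq => ?_)
      have hq0 : q.ea = 0 ∧ q.eb = 0 := by
        revert hq
        simp only [Data.monCol]
        cases Nat.blt (code D b) K.l
        · simp +contextual
        · simp only [cond_true, List.mem_cons, List.not_mem_nil, or_false]
          rintro (rfl | rfl) <;> exact ⟨rfl, rfl⟩
      simp only [Function.comp, Term.val, hq0.1, hq0.2, zpow_zero, mul_one, Int.cast_mul]
      split_ifs <;> ring
    · have e4 : vecOf D t u [e] = 0 := by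
        funext a
        simp only [vecOf, evalTerms, List.map_cons, List.map_nil, List.sum_cons, List.sum_nil,
          add_zero, Term.val, Pi.zero_apply, ite_eq_right_iff]
        intro h'; exact absurd (h' ▸ code_lt D a) h
      rw [e4, Matrix.mulVec_zero]
      funext a
      simp [Data.monApply, vecOf, evalTerms,
        show Nat.blt e.row K.tab.dim = false from by
          rw [Bool.eq_false_iff]; simpa [Nat.blt_eq, hG.fits.dim_eq] using h]

theorem nMat_root (hG : Good K D) {i : ℕ} (hi : i < D.rank) (s : Fin D.nroots) :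
    D.nMat F (D.simple i) 1 *ᵥ Pi.single (Sum.inr s) 1 =
      (K.eta i s.val : F) • Pi.single (Sum.inr ⟨K.w i s.val, hG.w_lt hi s.isLt⟩) 1 := by
  rw [hG.monOK_apply hi (Sum.inr s) 1 1]
  funext a
  have hb : Nat.blt (code D (Sum.inr s)) K.l = false := by
    rw [Bool.eq_false_iff]; simp [Nat.blt_eq, code, hG.l_eq]
  simp only [Data.monCol, hb, cond_false]
  have hc : K.l + K.w i (code D (Sum.inr s) - K.l) =
      code D (Sum.inr ⟨K.w i s.val, hG.w_lt hi s.isLt⟩) := by
    simp [code, hG.l_eq]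
  rw [hc]
  simp only [vecOf, evalTerms, List.map_cons, List.map_nil, List.sum_cons, List.sum_nil, add_zero,
    Term.val, zpow_zero, mul_one, (code_injective D).eq_iff, Pi.smul_apply, Pi.single_apply,
    smul_eq_mul, mul_ite, mul_zero]
  simp [code, hG.l_eq, eq_comm]

theorem eta_ne_zero (K : Data) (i s : ℕ) : (K.eta i s : F) ≠ 0 := by
  unfold Data.eta
  cases Nat.beq ((K.sgn.get i >>> s) &&& 1) 0 <;> simp

theorem eta_sq (K : Data) (i s : ℕ) : K.eta i s * K.eta i s = 1 := by
  unfold Data.eta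
  cases Nat.beq ((K.sgn.get i >>> s) &&& 1) 0 <;> simp

theorem eta_eq_or (K : Data) (i s : ℕ) : K.eta i s = 1 ∨ K.eta i s = -1 := by
  unfold Data.eta
  cases Nat.beq ((K.sgn.get i >>> s) &&& 1) 0 <;> simp

theorem nMat_mul_inv (hG : Good K D) {i : ℕ} (hi : i < D.rank) :
    D.nMat F (D.simple i) 1 * D.wordMat F [(K.p i, -1), (K.neg (K.p i), 1), (K.p i, -1)] = 1 ∧
    D.wordMat F [(K.p i, -1), (K.neg (K.p i), 1), (K.p i, -1)] * D.nMat F (D.simple i) 1 = 1 := by
  simp only [ChevalleyDatum.nMat, ChevalleyDatum.nWord, wordMat_cons, wordMat_nil,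
    hG.simple_eq hi, hG.neg_eq (hG.p_lt hi), ← hG.Kneg_eq, mul_one, inv_one]
  set a := D.x F (K.p i) 1
  set a' := D.x F (K.p i) (-1)
  set c := D.x F (K.neg (K.p i)) (-1)
  set c' := D.x F (K.neg (K.p i)) 1
  have h1 : a * a' = 1 := hG.x_mul_neg _ _
  have h2 : a' * a = 1 := hG.x_neg_mul _ _
  have h3 : c * c' = 1 := hG.x_neg_mul _ _
  have h4 : c' * c = 1 := hG.x_mul_neg _ _
  constructor
  · calc a * (c * a) * (a' * (c' * a')) = a * c * (a * a') * (c' * a') := by noncomm_ring
      _ = a * (c * c') * a' := by rw [h1]; noncomm_ring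
      _ = 1 := by rw [h3, mul_one, h1]
  · calc a' * (c' * a') * (a * (c * a)) = a' * c' * (a' * a) * (c * a) := by noncomm_ring
      _ = a' * (c' * c) * a := by rw [h2]; noncomm_ring
      _ = 1 := by rw [h4, mul_one, h2]

theorem nMat_mulVec_injective (hG : Good K D) {i : ℕ} (hi : i < D.rank) :
    Function.Injective fun v : D.Idx → F => D.nMat F (D.simple i) 1 *ᵥ v := by
  intro v v' h
  have := congrArg (fun z => D.wordMat F [(K.p i, -1), (K.neg (K.p i), 1), (K.p i, -1)] *ᵥ z) h
  simpa [Matrix.mulVec_mulVec, (hG.nMat_mul_inv (F := F) hi).2] using this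

theorem conj_col (hG : Good K D) {i s : ℕ} (hi : i < D.rank) (hs : s < D.nroots) {t : F}
    (ht : t ≠ 0) (b : D.Idx) (h : K.conjColOK i s (code D b) = true) :
    D.x F (K.w i s) ((K.eta i s : F) * t) *ᵥ (D.nMat F (D.simple i) 1 *ᵥ Pi.single b 1) =
      D.nMat F (D.simple i) 1 *ᵥ (D.x F s t *ᵥ Pi.single b 1) := by
  have h' := vecOf_eq_of_agree D t (1 : F) h
  rw [← hG.nMat_vecOf hi, ← x_mulVec_vecOf hG ht one_ne_zero _ (hG.w_lt hi hs),
    ← x_mulVec_vecOf hG ht one_ne_zero _ hs, ← hG.nMat_vecOf hi, vecOf_single] at h'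
  simpa [Letter.arg] using h'

theorem conjKey_col (hG : Good K D) {i s : ℕ} (hi : i < D.rank) (hs : s < D.nroots)
    (v : Fin D.nroots) (h : K.conjKeyOK i s v.val = true) (t : F) :
    D.x F (K.w i s) ((K.eta i s : F) * t) *ᵥ (D.nMat F (D.simple i) 1 *ᵥ Pi.single (Sum.inr v) 1) =
      D.nMat F (D.simple i) 1 *ᵥ (D.x F s t *ᵥ Pi.single (Sum.inr v) 1) := by
  simp only [Data.conjKeyOK, Bool.and_eq_true, Bool.not_eq_true'] at h
  obtain ⟨⟨h1, h2⟩, h3⟩ := h
  have hv1 : v.val ≠ s := fun e => by simp [e] at h1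
  have hv2 : v.val ≠ K.neg s := fun e => by simp [e] at h2
  have hws := hG.w_lt hi hs
  have hwv := hG.w_lt hi v.isLt
  have g1 : K.w i v.val ≠ K.w i s := fun h => hv1 (by
    rw [← hG.w_w hi v.isLt, h, hG.w_w hi hs])
  have g2 : K.w i v.val ≠ K.neg (K.w i s) := fun h => hv2 (by
    rw [← hG.w_w hi v.isLt, h, ← hG.w_neg hi hs, hG.w_w hi (hG.Kneg_lt hs)])
  have hcol : ∀ {r : ℕ} (y : Fin D.nroots), r < D.nroots → y.val ≠ r → y.val ≠ K.neg r →
      K.tab.col r (code D (Sum.inr y)) =
        (code D (Sum.inr y), 0, 1) :: K.tab.chainTerms r y.val := by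
    intro r y hr e1 e2
    rw [hG.fits.col_eq hr (code_lt D _), colList, if_neg (by simp [code]),
      if_neg (by simp [code]; omega),
      if_neg (by rw [hG.fits.neg_eq r hr, ← hG.Kneg_eq]; simp [code]; omega)]
    rw [show code D (Sum.inr y) - D.rank = y.val from Nat.add_sub_cancel_left _ _,
      hG.fits.chain_eq r hr y.val y.isLt]
  rw [hG.nMat_root hi, Matrix.mulVec_smul,
    x_single hG hws, hcol ⟨K.w i v.val, hwv⟩ hws g1 g2, colVec_cons, colVec_head,
    x_single hG hs, hcol v hs hv1 hv2, colVec_cons, colVec_head, Matrix.mulVec_add, smul_add,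
    hG.nMat_root hi, colEq_sound h3]
  congr 1
  have hrows : ∀ q ∈ K.tab.chainTerms s v.val, D.rank ≤ q.1 ∧ q.1 < dim D :=
    fun q hq => ⟨(hG.chainTerms_mem hs v.isLt hq).1, (hG.chainTerms_mem hs v.isLt hq).2.1⟩
  clear h3 hcol
  revert hrows
  generalize K.tab.chainTerms s v.val = L
  intro hrows
  induction L with
  | nil => simp [colVec_nil]
  | cons q L ih =>
    have hstep := ih (fun q' hq' => hrows q' (List.mem_cons_of_mem _ hq'))
    obtain ⟨hq1, hq2⟩ := hrows q (by simp)
    have hu : q.1 - D.rank < D.nroots := by simp only [dim] at hq2; omega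
    have eR : colVec D t [q] = ((q.2.2 : F) * t ^ q.2.1) •
        Pi.single (Sum.inr (⟨q.1 - D.rank, hu⟩ : Fin D.nroots)) (1 : F) := by
      funext a
      have : q.1 = code D (Sum.inr (⟨q.1 - D.rank, hu⟩ : Fin D.nroots)) := by simp [code]; omega
      simp only [colVec, evalCol, List.map_cons, List.map_nil, List.sum_cons, List.sum_nil, add_zero,
        Pi.smul_apply, Pi.single_apply, smul_eq_mul]
      conv_lhs => rw [this]
      simp [(code_injective D).eq_iff, eq_comm]
    rw [colVec_cons' D t q L, Matrix.mulVec_add, ← hstep, eR, Matrix.mulVec_smul, hG.nMat_root hi,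
      colVec_cons', smul_add]
    congr 1
    funext a
    simp only [colVec, evalCol, List.map_cons, List.map_nil, List.sum_cons, List.sum_nil, add_zero,
      Pi.smul_apply, Pi.single_apply, smul_eq_mul, Int.mul_def, Nat.add_eq, Nat.sub_eq, hG.l_eq]
    rw [show D.rank + K.w i (q.1 - D.rank) =
      code D (Sum.inr (⟨K.w i (q.1 - D.rank), hG.w_lt hi hu⟩ : Fin D.nroots)) from rfl]
    simp only [(code_injective D).eq_iff]
    have hp : (Data.ipow (K.eta i s) q.2.1 : ℤ) = (K.eta i s) ^ q.2.1 := by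
      induction q.2.1 with
      | zero => rw [pow_zero]; rfl
      | succ k ihk =>
        show K.eta i s * Data.ipow (K.eta i s) k = _
        rw [ihk, pow_succ, mul_comm]
    have hsq : (K.eta i s : F) ^ q.2.1 * (K.eta i s : F) ^ q.2.1 = 1 := by
      rw [← mul_pow, ← Int.cast_mul, eta_sq, Int.cast_one, one_pow]
    have hvq : (K.eta i v.val : F) * (K.eta i v.val : F) = 1 := by
      rw [← Int.cast_mul, eta_sq, Int.cast_one]
    rw [hp]
    by_cases hab : a = Sum.inr (⟨K.w i (q.1 - D.rank), hG.w_lt hi hu⟩ : Fin D.nroots)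
    · rw [if_pos hab, if_pos hab.symm]
      push_cast
      rw [mul_pow]
      calc _ = ((K.eta i (q.1 - D.rank) : F) * (q.2.2 : F) * t ^ q.2.1) *
            ((K.eta i v.val : F) * (K.eta i v.val : F)) *
            ((K.eta i s : F) ^ q.2.1 * (K.eta i s : F) ^ q.2.1) := by ring
        _ = _ := by rw [hsq, hvq]; ring
    · rw [if_neg hab, if_neg (Ne.symm hab)]
      simp

theorem trivialCol_of_notKey (hG : Good K D) {s v : ℕ} (hs : s < D.nroots) (hv : v < D.nroots)
    (h1 : v ≠ s) (h2 : v ≠ K.neg s) (h3 : ∀ e ∈ (D.chain.getD s #[]).toList, e.1 ≠ v) :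
    trivialCol K.tab s (D.rank + v) = true := by
  have hc : K.tab.col s (D.rank + v) = [(D.rank + v, 0, 1)] := by
    rw [hG.fits.col_eq hs (by simp [dim]; omega), colList, if_neg (by omega), if_neg (by omega),
      if_neg (by rw [hG.fits.neg_eq s hs, ← hG.Kneg_eq]; omega), chainCol,
      List.filter_eq_nil_iff.2 (fun e he => by simpa using fun hh => h3 e he (by omega))]
    rfl
  simp only [trivialCol, hc]
  simp [colEq, intEq]
  rfl

theorem nMat_conj (hG : Good K D) {i s : ℕ} (hi : i < D.rank) (hs : s < D.nroots) (t : F) :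
    D.nMat F (D.simple i) 1 * D.x F s t =
      D.x F (K.w i s) ((K.eta i s : F) * t) * D.nMat F (D.simple i) 1 := by
  by_cases ht : t = 0
  · simp [ht, hG.x_zero]
  refine matrix_ext_single fun b => ?_
  rw [← Matrix.mulVec_mulVec, ← Matrix.mulVec_mulVec]
  have hc := hG.conjChk i hi s hs
  simp only [Data.conjOK, Bool.and_eq_true, List.all_eq_true, List.mem_range] at hc
  obtain ⟨⟨⟨hc1, hc2⟩, hc3⟩, hc4⟩ := hc
  rcases b with j | v
  · exact (hG.conj_col hi hs ht _ (hc1 _ (by rw [hG.l_eq]; exact j.isLt))).symm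
  by_cases h1 : v.val = s
  · exact (hG.conj_col hi hs ht _ (by rw [code, h1, ← hG.l_eq]; exact hc2)).symm
  by_cases h2 : v.val = K.neg s
  · exact (hG.conj_col hi hs ht _ (by rw [code, h2, ← hG.l_eq]; exact hc3)).symm
  by_cases h3 : ∃ e ∈ (D.chain.getD s #[]).toList, e.1 = v.val
  · obtain ⟨e, he, hev⟩ := h3
    exact (hG.conjKey_col hi hs v (hev ▸ hc4 e he) t).symm
  push_neg at h3
  have hfix : ∀ t : F, D.x F s t *ᵥ Pi.single (Sum.inr v) 1 = Pi.single (Sum.inr v) 1 :=
    x_fix_of_trivialCol hG hs (Sum.inr v) (hG.trivialCol_of_notKey hs v.isLt h1 h2 h3)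
  rw [hfix, hG.nMat_root hi, Matrix.mulVec_smul]
  congr 1
  -- the image column is fixed as well
  have hws := hG.w_lt hi hs
  have hwv := hG.w_lt hi v.isLt
  have g1 : K.w i v.val ≠ K.w i s := fun h => h1 (by
    rw [← hG.w_w hi v.isLt, h, hG.w_w hi hs])
  have g2 : K.w i v.val ≠ K.neg (K.w i s) := fun h => h2 (by
    rw [← hG.w_w hi v.isLt, h, ← hG.w_neg hi hs, hG.w_w hi (hG.Kneg_lt hs)])
  by_cases g3 : ∃ e ∈ (D.chain.getD (K.w i s) #[]).toList, e.1 = K.w i v.val
  · obtain ⟨e, he, hev⟩ := g3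
    have hk := hG.conjChk i hi _ hws
    simp only [Data.conjOK, Bool.and_eq_true, List.all_eq_true] at hk
    have hη : ((K.eta i s : F) * t) ≠ 0 := mul_ne_zero (eta_ne_zero K i s) ht
    have hk' := hG.conjKey_col hi hws ⟨K.w i v.val, hwv⟩
      (show K.conjKeyOK i (K.w i s) (K.w i v.val) = true from hev ▸ hk.2 e he)
      ((K.eta i s : F) * t)
    rw [hG.w_w hi hs, hG.nMat_root hi, Matrix.mulVec_smul] at hk'
    have hv : (⟨K.w i (K.w i v.val), hG.w_lt hi hwv⟩ : Fin D.nroots) = v :=
      Fin.ext (hG.w_w hi v.isLt)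
    rw [hv, hfix] at hk'
    refine (hG.nMat_mulVec_injective hi ?_).symm
    simp only
    rw [← hk', hG.nMat_root hi, hv]
  · push_neg at g3
    rw [x_fix_of_trivialCol hG hws (Sum.inr ⟨K.w i v.val, hwv⟩)
      (hG.trivialCol_of_notKey hws hwv g1 g2 g3)]

theorem hMat_simple (hG : Good K D) {i : ℕ} (hi : i < D.rank) {c : F} (hc : c ≠ 0) :
    D.hMat F (D.simple i) c = Matrix.diagonal
      (Sum.elim (fun _ => (1 : F)) (fun s : Fin D.nroots => c ^ (D.cartan i s))) := by
  refine matrix_ext_single fun b => ?_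
  have hw : D.hMat F (D.simple i) c = D.wordMat F (evalWord c 1
      [⟨K.p i, 1, 1, 0⟩, ⟨K.neg (K.p i), -1, -1, 0⟩, ⟨K.p i, 1, 1, 0⟩,
        ⟨K.p i, -1, 0, 0⟩, ⟨K.neg (K.p i), 1, 0, 0⟩, ⟨K.p i, -1, 0, 0⟩]) := by
    simp [ChevalleyDatum.hMat, ChevalleyDatum.hWord, ChevalleyDatum.nWord, evalWord, Letter.arg,
      hG.simple_eq hi, hG.neg_eq (hG.p_lt hi), hG.Kneg_eq]
  have h := hG.hChk i hi
  simp only [Data.hOK, List.all_eq_true, List.mem_range] at h
  rw [hw, wordMat_mulVec_single hG hc one_ne_zero _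
    (by simp [hG.p_lt hi, hG.Kneg_lt (hG.p_lt hi)]),
    vecOf_eq_of_agree D c 1 (h (code D b) (by rw [hG.fits.dim_eq]; exact code_lt D b))]
  funext a
  simp only [vecOf, evalTerms, List.map_cons, List.map_nil, List.sum_cons, List.sum_nil, add_zero,
    Term.val, Matrix.mulVec_single_one, Matrix.col_apply, Matrix.diagonal_apply,
    (code_injective D).eq_iff]
  rcases b with j | s
  · rw [show Nat.blt (code D (Sum.inl j)) K.l = true from by
      simp [Nat.blt_eq, code, hG.l_eq], cond_true]
    by_cases hab : a = Sum.inl j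
    · subst hab; simp
    · simp [hab, Ne.symm hab]
  · rw [show Nat.blt (code D (Sum.inr s)) K.l = false from by
      rw [Bool.eq_false_iff]; simp [Nat.blt_eq, code, hG.l_eq], cond_false]
    by_cases hab : a = Sum.inr s
    · subst hab
      have hc' := hG.fits.cartan_eq i hi s.val s.isLt
      simp only [Array.getD_eq_getD_getElem?] at hc'
      simp [code, hG.l_eq, ChevalleyDatum.cartan, hc']
    · simp [hab, Ne.symm hab]

theorem nMat_mul_wordMat (hG : Good K D) {i : ℕ} (hi : i < D.rank) :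
    ∀ w : List (ℕ × F), (∀ p ∈ w, p.1 < D.nroots) →
      D.nMat F (D.simple i) 1 * D.wordMat F w =
        D.wordMat F (w.map fun p => (K.w i p.1, (K.eta i p.1 : F) * p.2)) * D.nMat F (D.simple i) 1
  | [], _ => by simp [wordMat_nil]
  | p :: w, h => by
    rw [wordMat_cons, ← mul_assoc, hG.nMat_conj hi (h p (by simp)), mul_assoc,
      hG.nMat_mul_wordMat hi w (fun q hq => h q (List.mem_cons_of_mem _ hq)), List.map_cons,
      wordMat_cons, mul_assoc]

theorem evalWord_commLetters (hG : Good K D) {r s : ℕ} (hr : r < D.nroots) (hs : s < D.nroots)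
    (t u : F) : evalWord t u (K.commLetters r s) = D.commWord F r s t u := by
  simp only [ChevalleyDatum.commWord, hG.commTerms_eq hr hs, evalWord, Data.commLetters,
    List.map_map]
  refine List.map_congr_left fun c _ => ?_
  simp only [Function.comp, Letter.arg, zpow_natCast, Prod.mk.injEq, true_and]
  rw [neg_pow t, Int.cast_mul, Int.cast_pow, Int.cast_neg, Int.cast_one]
  ring

theorem commutator_base (hG : Good K D) {r s : ℕ} (hrs : (r, s) ∈ K.basePairs)
    (hsr : s ≠ r) (hneg : s ≠ K.neg r) {t u : F} (ht : t ≠ 0) (hu : u ≠ 0) :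
    D.x F s u * D.x F r t = D.x F r t * D.x F s u * D.wordMat F (D.commWord F r s t u) := by
  obtain ⟨hrn, hs, h⟩ : r < D.nroots ∧ s < D.nroots ∧ K.commBaseOK r s = true :=
    hG.baseChk (r, s) hrs
  simp only [Data.commBaseOK, Bool.or_eq_true, List.all_eq_true, List.mem_range] at h
  rcases h with (h | h) | h
  · exact absurd (Nat.eq_of_beq_eq_true h) hsr
  · exact absurd (Nat.eq_of_beq_eq_true h) hneg
  have hR : ∀ x ∈ (⟨r, 1, 1, 0⟩ :: ⟨s, 1, 0, 1⟩ :: K.commLetters r s : List Letter),
      x.root < D.nroots := by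
    intro x hx
    simp only [List.mem_cons, Data.commLetters, List.mem_map] at hx
    rcases hx with rfl | rfl | ⟨c, hc, rfl⟩
    exacts [hrn, hs, (hG.comm_mem hrn hs hc).1]
  have e1 : D.x F s u * D.x F r t = D.wordMat F (evalWord t u [⟨s, 1, 0, 1⟩, ⟨r, 1, 1, 0⟩]) := by
    simp [evalWord, Letter.arg, ChevalleyDatum.wordMat]
  have e2 : D.x F r t * D.x F s u * D.wordMat F (D.commWord F r s t u) =
      D.wordMat F (evalWord t u (⟨r, 1, 1, 0⟩ :: ⟨s, 1, 0, 1⟩ :: K.commLetters r s)) := by
    rw [← hG.evalWord_commLetters hrn hs t u]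
    simp [evalWord, Letter.arg, ChevalleyDatum.wordMat, mul_assoc]
  rw [e1, e2]
  refine matrix_ext_single fun b => ?_
  rcases h (code D b) (by rw [hG.fits.dim_eq]; exact code_lt D b) with h' | h'
  · have hall : ∀ x ∈ (⟨r, 1, 1, 0⟩ :: ⟨s, 1, 0, 1⟩ :: K.commLetters r s : List Letter),
        trivialCol K.tab x.root (code D b) = true := by
      revert h'
      generalize (⟨r, 1, 1, 0⟩ :: ⟨s, 1, 0, 1⟩ :: K.commLetters r s : List Letter) = w
      intro h'
      induction w with
      | nil => simp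
      | cons x w ih =>
        have h'' : (trivialCol K.tab x.root (code D b) && fixedBy K.tab w (code D b)) = true := h'
        rw [Bool.and_eq_true] at h''
        exact List.forall_mem_cons.2 ⟨h''.1, ih h''.2⟩
    rw [wordMat_fix, wordMat_fix]
    · intro p hp
      simp only [evalWord, List.mem_map] at hp
      obtain ⟨x, hx, rfl⟩ := hp
      exact x_fix_of_trivialCol hG (hR x hx) b (hall x hx) _
    · intro p hp
      simp only [evalWord, List.mem_map] at hp
      obtain ⟨x, hx, rfl⟩ := hp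
      have hx' : x ∈ (⟨r, 1, 1, 0⟩ :: ⟨s, 1, 0, 1⟩ :: K.commLetters r s : List Letter) := by
        simp only [List.mem_cons, List.not_mem_nil, or_false] at hx ⊢
        tauto
      exact x_fix_of_trivialCol hG (hR x hx') b (hall x hx') _
  · rw [wordMat_mulVec_single hG ht hu _ (by simp [hrn, hs]),
      wordMat_mulVec_single hG ht hu _ hR, vecOf_eq_of_agree D t u h']

theorem commEq_sound : ∀ {L M : List (ℕ × ℤ × ℕ × ℕ)}, Data.commEq L M = true → L = M
  | [], [], _ => rfl
  | [], _ :: _, h => by simp [Data.commEq] at h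
  | _ :: _, [], h => by simp [Data.commEq] at h
  | a :: L, b :: M, h => by
    have h' : (Nat.beq a.1 b.1 && intEq a.2.1 b.2.1 && Nat.beq a.2.2.1 b.2.2.1 &&
      Nat.beq a.2.2.2 b.2.2.2 && Data.commEq L M) = true := h
    simp only [Bool.and_eq_true, intEq_iff] at h'
    obtain ⟨⟨⟨⟨h1, h2⟩, h3⟩, h4⟩, h5⟩ := h'
    rw [commEq_sound h5, Prod.ext (Nat.eq_of_beq_eq_true h1) (Prod.ext h2
      (Prod.ext (Nat.eq_of_beq_eq_true h3) (Nat.eq_of_beq_eq_true h4)))]

theorem noSum_comm {r s : ℕ} (h : K.noSum r s = true) : K.comm r s = [] := by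
  have h1 : K.tab.chainTerms r s = [] ∧ K.tab.chainTerms s r = [] := by
    unfold Data.noSum at h
    cases hr : K.tab.chainTerms r s with
    | nil =>
      cases hs : K.tab.chainTerms s r with
      | nil => exact ⟨rfl, rfl⟩
      | cons a L => rw [hr, hs] at h; simp at h
    | cons a L => rw [hr] at h; simp at h
  simp [Data.comm, Data.croot, Data.entry, h1.1, h1.2]

theorem formula_of_move (hG : Good K D) {i r s : ℕ} (hi : i < D.rank) (hr : r < D.nroots)
    (hs : s < D.nroots) (hm : K.moveStep i r s = true) (t u : F)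
    (f : D.x F (K.w i s) ((K.eta i s : F) * u) * D.x F (K.w i r) ((K.eta i r : F) * t) =
      D.x F (K.w i r) ((K.eta i r : F) * t) * D.x F (K.w i s) ((K.eta i s : F) * u) *
        D.wordMat F (D.commWord F (K.w i r) (K.w i s) ((K.eta i r : F) * t) ((K.eta i s : F) * u))) :
    D.x F s u * D.x F r t = D.x F r t * D.x F s u * D.wordMat F (D.commWord F r s t u) := by
  have e : ((K.comm r s).map fun c =>
        (K.w i c.1,
          K.eta i c.1 * c.2.1 * K.eta i r ^ c.2.2.1 * K.eta i s ^ c.2.2.2, c.2.2)) =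
      K.comm (K.w i r) (K.w i s) := by
    rw [Data.moveStep, Bool.or_eq_true, Bool.and_eq_true] at hm
    rcases hm with ⟨h1, h2⟩ | hm
    · simp [noSum_comm h1, noSum_comm h2]
    · exact commEq_sound hm
  set r' := K.w i r
  set s' := K.w i s
  have hr' : r' < D.nroots := hG.w_lt hi hr
  have hs' : s' < D.nroots := hG.w_lt hi hs
  set N := D.nMat F (D.simple i) 1 with hN
  have hw : N * D.wordMat F (D.commWord F r s t u) =
      D.wordMat F (D.commWord F r' s' ((K.eta i r : F) * t) ((K.eta i s : F) * u)) * N := by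
    rw [hN, hG.nMat_mul_wordMat hi]
    · congr 2
      simp only [ChevalleyDatum.commWord, hG.commTerms_eq hr hs, hG.commTerms_eq hr' hs', ← e,
        List.map_map]
      refine List.map_congr_left fun c _ => ?_
      simp only [Function.comp, Prod.mk.injEq, true_and]
      have h1 : ((K.eta i r : F)) ^ c.2.2.1 * ((K.eta i r : F)) ^ c.2.2.1 = 1 := by
        rw [← mul_pow, ← Int.cast_mul, eta_sq, Int.cast_one, one_pow]
      have h2 : ((K.eta i s : F)) ^ c.2.2.2 * ((K.eta i s : F)) ^ c.2.2.2 = 1 := by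
        rw [← mul_pow, ← Int.cast_mul, eta_sq, Int.cast_one, one_pow]
      push_cast
      rw [neg_mul_eq_mul_neg ((K.eta i r : F)) t, mul_pow (K.eta i r : F), mul_pow (K.eta i s : F)]
      symm
      calc _ = (K.eta i c.1 : F) * ((c.2.1 : F) * (-t) ^ c.2.2.1 * u ^ c.2.2.2) *
            (((K.eta i r : F)) ^ c.2.2.1 * ((K.eta i r : F)) ^ c.2.2.1) *
            (((K.eta i s : F)) ^ c.2.2.2 * ((K.eta i s : F)) ^ c.2.2.2) := by ring
        _ = _ := by rw [h1, h2, mul_one, mul_one]
    · intro p hp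
      simp only [ChevalleyDatum.commWord, List.mem_map] at hp
      obtain ⟨c, hc, rfl⟩ := hp
      rw [hG.commTerms_eq hr hs] at hc
      exact (hG.comm_mem hr hs hc).1
  have key : N * (D.x F s u * D.x F r t) =
      N * (D.x F r t * D.x F s u * D.wordMat F (D.commWord F r s t u)) := by
    have c1 := hG.nMat_conj (F := F) hi hs u
    have c2 := hG.nMat_conj (F := F) hi hr t
    rw [← hN] at c1 c2
    calc N * (D.x F s u * D.x F r t) = (N * D.x F s u) * D.x F r t := by rw [mul_assoc]
      _ = D.x F s' ((K.eta i s : F) * u) * (D.x F r' ((K.eta i r : F) * t) * N) := by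
        rw [c1, mul_assoc, c2]
      _ = D.x F r' ((K.eta i r : F) * t) * D.x F s' ((K.eta i s : F) * u) *
            (D.wordMat F (D.commWord F r' s' ((K.eta i r : F) * t) ((K.eta i s : F) * u)) * N) := by
        rw [← mul_assoc, f, mul_assoc]
      _ = D.x F r' ((K.eta i r : F) * t) * (D.x F s' ((K.eta i s : F) * u) * N) *
            D.wordMat F (D.commWord F r s t u) := by
        rw [← hw]; simp only [mul_assoc]
      _ = D.x F r' ((K.eta i r : F) * t) * N * D.x F s u *
            D.wordMat F (D.commWord F r s t u) := by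
        rw [← c1]; simp only [mul_assoc]
      _ = N * (D.x F r t * D.x F s u * D.wordMat F (D.commWord F r s t u)) := by
        rw [← c2]; simp only [mul_assoc]
  have hinv := (hG.nMat_mul_inv (F := F) hi).2
  rw [← hN] at hinv
  have := congrArg (fun z => D.wordMat F [(K.p i, -1), (K.neg (K.p i), 1), (K.p i, -1)] * z) key
  simpa [← mul_assoc, hinv] using this

theorem basePair_cases (K : Data) (r s : ℕ) {b : Bool}
    (h : List.rec (motive := fun _ => Bool) b
      (fun e _ ih => (Nat.beq e.1 r && Nat.beq e.2 s) || ih) K.basePairs = true) :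
    b = true ∨ (r, s) ∈ K.basePairs := by
  revert h
  generalize K.basePairs = L
  intro h
  induction L with
  | nil => exact Or.inl h
  | cons e L ih =>
    simp only [Bool.or_eq_true, Bool.and_eq_true] at h
    rcases h with ⟨h1, h2⟩ | h
    · exact Or.inr (by rw [← Nat.eq_of_beq_eq_true h1, ← Nat.eq_of_beq_eq_true h2]; simp)
    · exact (ih h).imp id (List.mem_cons_of_mem _)

theorem commWord_triv (hG : Good K D) {r s : ℕ} (hr : r < D.nroots) (hs : s < D.nroots) {t u : F}
    (h0 : t = 0 ∨ u = 0) :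
    D.x F s u * D.x F r t = D.x F r t * D.x F s u * D.wordMat F (D.commWord F r s t u) := by
  have hw : D.wordMat F (D.commWord F r s t u) = 1 := by
    refine List.prod_eq_one ?_
    intro x hx
    simp only [ChevalleyDatum.commWord, List.mem_map] at hx
    obtain ⟨p, ⟨c, hc, rfl⟩, rfl⟩ := hx
    rw [hG.commTerms_eq hr hs] at hc
    obtain ⟨-, h1, h2⟩ := hG.comm_mem hr hs hc
    rcases h0 with rfl | rfl <;> simp [zero_pow h1.ne', zero_pow h2.ne', hG.x_zero]
  rw [hw]
  rcases h0 with rfl | rfl <;> simp [hG.x_zero]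

theorem image_ne (hG : Good K D) {i r s : ℕ} (hi : i < D.rank) (hr : r < D.nroots)
    (hs : s < D.nroots) (hsr : s ≠ r) (hneg : s ≠ K.neg r) :
    K.w i s ≠ K.w i r ∧ K.w i s ≠ K.neg (K.w i r) :=
  ⟨fun h => hsr (by rw [← hG.w_w hi hs, ← hG.w_w hi hr]; exact congrArg _ h), fun h => hneg (by
      have := congrArg (K.w i) h
      rwa [hG.w_w hi hs, ← hG.w_neg hi hr, hG.w_w hi (hG.Kneg_lt hr)] at this)⟩

theorem commutator_rep (hG : Good K D) {r : ℕ} (hr : r ∈ K.reps) : ∀ (d s : ℕ), s < D.nroots →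
    K.sdist r s ≤ d → s ≠ r → s ≠ K.neg r → ∀ t u : F,
      D.x F s u * D.x F r t = D.x F r t * D.x F s u * D.wordMat F (D.commWord F r s t u) := by
  obtain ⟨hrn, hst⟩ := hG.stabChk r hr
  intro d
  induction d using Nat.strong_induction_on with
  | _ d ih =>
    intro s hs hd hsr hneg t u
    by_cases h0 : t = 0 ∨ u = 0
    · exact hG.commWord_triv hrn hs h0
    push_neg at h0
    have hm := hst s hs
    simp only [Data.stabMoveOK, Bool.or_eq_true] at hm
    rcases hm with (hm | hm) | hm
    · exact absurd (Nat.eq_of_beq_eq_true hm) hsr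
    · exact absurd (Nat.eq_of_beq_eq_true hm) hneg
    rcases basePair_cases K r s hm with hm | hm
    · simp only [Bool.and_eq_true] at hm
      obtain ⟨⟨⟨hi, hfix⟩, hd'⟩, hm⟩ := hm
      rw [Nat.blt_eq, hG.l_eq] at hi
      rw [Nat.blt_eq] at hd'
      have hfix := Nat.eq_of_beq_eq_true hfix
      obtain ⟨g1, g2⟩ := hG.image_ne hi hrn hs hsr hneg
      refine hG.formula_of_move hi hrn hs hm t u ?_
      rw [hfix] at g1 g2 ⊢
      exact ih _ (by omega) _ (hG.w_lt hi hs) le_rfl g1 g2 _ _
    · exact hG.commutator_base hm hsr hneg h0.1 h0.2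

theorem commutator_formula_aux (hG : Good K D) : ∀ (d r : ℕ), r < D.nroots → K.dist r ≤ d →
    ∀ s < D.nroots, s ≠ r → s ≠ K.neg r → ∀ t u : F,
      D.x F s u * D.x F r t = D.x F r t * D.x F s u * D.wordMat F (D.commWord F r s t u) := by
  intro d
  induction d using Nat.strong_induction_on with
  | _ d ih =>
    intro r hr hd s hs hsr hneg t u
    have hm := hG.moveChk r hr
    simp only [Data.commMoveOK, Bool.or_eq_true, Bool.and_eq_true, List.all_eq_true,
      List.mem_range] at hm
    rcases hm with hm | ⟨⟨hi, hd'⟩, hm⟩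
    · exact hG.commutator_rep (by simpa using hm) _ s hs le_rfl hsr hneg t u
    rw [Nat.blt_eq, hG.l_eq] at hi
    rw [Nat.blt_eq] at hd'
    rcases hm s (hG.n_eq ▸ hs) with (hm' | hm') | hm'
    · exact absurd (Nat.eq_of_beq_eq_true hm') hsr
    · exact absurd (Nat.eq_of_beq_eq_true hm') hneg
    obtain ⟨g1, g2⟩ := hG.image_ne hi hr hs hsr hneg
    exact hG.formula_of_move hi hr hs hm' t u
      (ih _ (by omega) _ (hG.w_lt hi hr) le_rfl _ (hG.w_lt hi hs) g1 g2 _ _)

theorem commutator_formula (hG : Good K D) {r s : ℕ} (hr : r < D.nroots) (hs : s < D.nroots)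
    (hsr : s ≠ r) (hneg : s ≠ D.neg r) (t u : F) :
    D.x F s u * D.x F r t = D.x F r t * D.x F s u * D.wordMat F (D.commWord F r s t u) :=
  hG.commutator_formula_aux (K.dist r) r hr le_rfl s hs hsr
    (by rw [hG.Kneg_eq, ← hG.neg_eq hr]; exact hneg) t u

end Good

end CfsgLib.Chev

namespace CfsgLib.Chev

theorem of_chunk {f : ℕ → Bool} {c m : ℕ} (h : ((List.range m).all fun k => f (c + k)) = true)
    {r : ℕ} (h1 : c ≤ r) (h2 : r < c + m) : f r = true := by
  simp only [List.all_eq_true, List.mem_range] at h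
  obtain ⟨k, rfl⟩ := Nat.exists_eq_add_of_le h1
  exact h k (by omega)

end CfsgLib.Chev
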