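import Cfsg.Agent.Chev.Checks2
import Cfsg.Agent.Chev.Checks3
import Cfsg.Agent.Chev.Sound

/-! All checks on a datum, bundled. -/

set_option autoImplicit false

namespace CfsgLib.Chev

open Cfsg.Lie

/-- all checks, including linearity, succeed -/
structure Fine (K : Data) (D : ChevalleyDatum) : Prop extends Good K D where
  corootChk : K.corootOK = true
  descChk : K.descOK = true
  linChk : ∀ r < D.nroots, K.linRowOK D r = true
  pairChk : ∀ r < D.nroots, K.pairMoveOK r = true
  hRepChk : ∀ r ∈ K.reps, K.hRepOK r = true

theorem of_all_range {f : ℕ → Bool} {n : ℕ} (h : (List.range n).all f = true) {r : ℕ} (hr : r < n) :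
    f r = true := by
  simp only [List.all_eq_true, List.mem_range] at h
  exact h r hr

end CfsgLib.Chev
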