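import Cfsg.Agent.Chev.Run.B2Desc
import Cfsg.Agent.Chev.Run.B2All
import Cfsg.Agent.Chev.Fine

/-! All checks for type B2. -/

set_option autoImplicit false

namespace CfsgLib.Chev.B2

theorem fine : Fine data Cfsg.Lie.chevB2 where
  fits := tab_fits
  rootsChk := rootsOK
  corootChk := corootOK
  descChk := descOK
  monChk i hi := by
    have hi' : i < 2 := hi
    interval_cases i
    · exact (Bool.and_eq_true _ _ ▸ mon0).1
    · exact (Bool.and_eq_true _ _ ▸ mon1).1
  hChk i hi := by
    have hi' : i < 2 := hi
    interval_cases i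
    · exact (Bool.and_eq_true _ _ ▸ mon0).2
    · exact (Bool.and_eq_true _ _ ▸ mon1).2
  pairChk r hr := of_all_range pairMoves hr
  heightChk r hr := by
    have hr' : r < 8 := hr
    exact of_chunk height0 (by omega) (by omega)
  linChk r hr := by
    have hr' : r < 8 := hr
    exact of_chunk lin0 (by omega) (by omega)
  addChk r hr := by
    have hr' : r < 8 := hr
    exact of_chunk add0 (by omega) (by omega)
  moveChk r hr := by
    have hr' : r < 8 := hr
    exact of_chunk move0 (by omega) (by omega)
  conjChk i hi s hs := by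
    have hi' : i < 2 := hi
    have hs' : s < 8 := hs
    interval_cases i
    · exact of_chunk conj0_0 (by omega) (by omega)
    · exact of_chunk conj1_0 (by omega) (by omega)
  hRepChk r hr := by
    have hr' : r ∈ ([6, 7] : List ℕ) := hr
    simp only [List.mem_cons, List.not_mem_nil, or_false] at hr'
    rcases hr' with rfl | rfl
    · exact hRep0
    · exact hRep1
  stabChk r hr := by
    have hr' : r ∈ ([6, 7] : List ℕ) := hr
    simp only [List.mem_cons, List.not_mem_nil, or_false] at hr'
    rcases hr' with rfl | rfl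
    · exact ⟨show (6 : ℕ) < 8 by omega, fun s hs => of_all_range stab0 hs⟩
    · exact ⟨show (7 : ℕ) < 8 by omega, fun s hs => of_all_range stab1 hs⟩
  baseChk e he := by
    have he' : e ∈ ([(6, 7), (6, 5), (6, 3), (7, 6), (7, 4), (7, 2)] : List (ℕ × ℕ)) := he
    simp only [List.mem_cons, List.not_mem_nil, or_false] at he'
    rcases he' with rfl | rfl | rfl | rfl | rfl | rfl
    · exact ⟨show (6 : ℕ) < 8 by omega, show (7 : ℕ) < 8 by omega, basePair0⟩
    · exact ⟨show (6 : ℕ) < 8 by omega, show (5 : ℕ) < 8 by omega, basePair1⟩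
    · exact ⟨show (6 : ℕ) < 8 by omega, show (3 : ℕ) < 8 by omega, basePair2⟩
    · exact ⟨show (7 : ℕ) < 8 by omega, show (6 : ℕ) < 8 by omega, basePair3⟩
    · exact ⟨show (7 : ℕ) < 8 by omega, show (4 : ℕ) < 8 by omega, basePair4⟩
    · exact ⟨show (7 : ℕ) < 8 by omega, show (2 : ℕ) < 8 by omega, basePair5⟩

end CfsgLib.Chev.B2
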