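import Cfsg.Agent.Chev.Run.D4Desc
import Cfsg.Agent.Chev.Run.D4All
import Cfsg.Agent.Chev.Fine

/-! All checks for type D4. -/

set_option autoImplicit false

namespace CfsgLib.Chev.D4

theorem fine : Fine data Cfsg.Lie.chevD4 where
  fits := tab_fits
  rootsChk := rootsOK
  corootChk := corootOK
  descChk := descOK
  monChk i hi := by
    have hi' : i < 4 := hi
    interval_cases i
    · exact (Bool.and_eq_true _ _ ▸ mon0).1
    · exact (Bool.and_eq_true _ _ ▸ mon1).1
    · exact (Bool.and_eq_true _ _ ▸ mon2).1
    · exact (Bool.and_eq_true _ _ ▸ mon3).1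
  hChk i hi := by
    have hi' : i < 4 := hi
    interval_cases i
    · exact (Bool.and_eq_true _ _ ▸ mon0).2
    · exact (Bool.and_eq_true _ _ ▸ mon1).2
    · exact (Bool.and_eq_true _ _ ▸ mon2).2
    · exact (Bool.and_eq_true _ _ ▸ mon3).2
  pairChk r hr := of_all_range pairMoves hr
  heightChk r hr := by
    have hr' : r < 24 := hr
    exact of_chunk height0 (by omega) (by omega)
  linChk r hr := by
    have hr' : r < 24 := hr
    exact of_chunk lin0 (by omega) (by omega)
  addChk r hr := by
    have hr' : r < 24 := hr
    exact of_chunk add0 (by omega) (by omega)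
  moveChk r hr := by
    have hr' : r < 24 := hr
    exact of_chunk move0 (by omega) (by omega)
  conjChk i hi s hs := by
    have hi' : i < 4 := hi
    have hs' : s < 24 := hs
    interval_cases i
    · exact of_chunk conj0_0 (by omega) (by omega)
    · exact of_chunk conj1_0 (by omega) (by omega)
    · exact of_chunk conj2_0 (by omega) (by omega)
    · exact of_chunk conj3_0 (by omega) (by omega)
  hRepChk r hr := by
    have hr' : r ∈ ([23] : List ℕ) := hr
    simp only [List.mem_cons, List.not_mem_nil, or_false] at hr'
    rcases hr' with rfl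
    · exact hRep0
  stabChk r hr := by
    have hr' : r ∈ ([23] : List ℕ) := hr
    simp only [List.mem_cons, List.not_mem_nil, or_false] at hr'
    rcases hr' with rfl
    · exact ⟨show (23 : ℕ) < 24 by omega, fun s hs => of_all_range stab0 hs⟩
  baseChk e he := by
    have he' : e ∈ ([(23, 22), (23, 18), (23, 13), (23, 12), (23, 9)] : List (ℕ × ℕ)) := he
    simp only [List.mem_cons, List.not_mem_nil, or_false] at he'
    rcases he' with rfl | rfl | rfl | rfl | rfl
    · exact ⟨show (23 : ℕ) < 24 by omega, show (22 : ℕ) < 24 by omega, basePair0⟩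
    · exact ⟨show (23 : ℕ) < 24 by omega, show (18 : ℕ) < 24 by omega, basePair1⟩
    · exact ⟨show (23 : ℕ) < 24 by omega, show (13 : ℕ) < 24 by omega, basePair2⟩
    · exact ⟨show (23 : ℕ) < 24 by omega, show (12 : ℕ) < 24 by omega, basePair3⟩
    · exact ⟨show (23 : ℕ) < 24 by omega, show (9 : ℕ) < 24 by omega, basePair4⟩

end CfsgLib.Chev.D4
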