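import Cfsg.Agent.Chev.Run.E6Desc
import Cfsg.Agent.Chev.Run.E6A
import Cfsg.Agent.Chev.Run.E6B0
import Cfsg.Agent.Chev.Run.E6B1
import Cfsg.Agent.Chev.Fine

/-! All checks for type E6. -/

set_option autoImplicit false

namespace CfsgLib.Chev.E6

theorem fine : Fine data Cfsg.Lie.chevE6 where
  fits := tab_fits
  rootsChk := rootsOK
  corootChk := corootOK
  descChk := descOK
  monChk i hi := by
    have hi' : i < 6 := hi
    interval_cases i
    · exact (Bool.and_eq_true _ _ ▸ mon0).1
    · exact (Bool.and_eq_true _ _ ▸ mon1).1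
    · exact (Bool.and_eq_true _ _ ▸ mon2).1
    · exact (Bool.and_eq_true _ _ ▸ mon3).1
    · exact (Bool.and_eq_true _ _ ▸ mon4).1
    · exact (Bool.and_eq_true _ _ ▸ mon5).1
  hChk i hi := by
    have hi' : i < 6 := hi
    interval_cases i
    · exact (Bool.and_eq_true _ _ ▸ mon0).2
    · exact (Bool.and_eq_true _ _ ▸ mon1).2
    · exact (Bool.and_eq_true _ _ ▸ mon2).2
    · exact (Bool.and_eq_true _ _ ▸ mon3).2
    · exact (Bool.and_eq_true _ _ ▸ mon4).2
    · exact (Bool.and_eq_true _ _ ▸ mon5).2
  pairChk r hr := of_all_range pairMoves hr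
  heightChk r hr := by
    have hr' : r < 72 := hr
    by_cases h0 : r < 36
    · exact of_chunk height0 (by omega) h0
    exact of_chunk height1 (by omega) (by omega)
  linChk r hr := by
    have hr' : r < 72 := hr
    by_cases h0 : r < 36
    · exact of_chunk lin0 (by omega) h0
    exact of_chunk lin1 (by omega) (by omega)
  addChk r hr := by
    have hr' : r < 72 := hr
    by_cases h0 : r < 36
    · exact of_chunk add0 (by omega) h0
    exact of_chunk add1 (by omega) (by omega)
  moveChk r hr := by
    have hr' : r < 72 := hr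
    by_cases h0 : r < 36
    · exact of_chunk move0 (by omega) h0
    exact of_chunk move1 (by omega) (by omega)
  conjChk i hi s hs := by
    have hi' : i < 6 := hi
    have hs' : s < 72 := hs
    interval_cases i
    · exact of_chunk conj0_0 (by omega) (by omega)
    · exact of_chunk conj1_0 (by omega) (by omega)
    · exact of_chunk conj2_0 (by omega) (by omega)
    · exact of_chunk conj3_0 (by omega) (by omega)
    · exact of_chunk conj4_0 (by omega) (by omega)
    · exact of_chunk conj5_0 (by omega) (by omega)
  hRepChk r hr := by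
    have hr' : r ∈ ([71] : List ℕ) := hr
    simp only [List.mem_cons, List.not_mem_nil, or_false] at hr'
    rcases hr' with rfl
    · exact hRep0
  stabChk r hr := by
    have hr' : r ∈ ([71] : List ℕ) := hr
    simp only [List.mem_cons, List.not_mem_nil, or_false] at hr'
    rcases hr' with rfl
    · exact ⟨show (71 : ℕ) < 72 by omega, fun s hs => of_all_range stab0 hs⟩
  baseChk e he := by
    have he' : e ∈ ([(71, 70), (71, 60), (71, 25)] : List (ℕ × ℕ)) := he
    simp only [List.mem_cons, List.not_mem_nil, or_false] at he'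
    rcases he' with rfl | rfl | rfl
    · exact ⟨show (71 : ℕ) < 72 by omega, show (70 : ℕ) < 72 by omega, basePair0⟩
    · exact ⟨show (71 : ℕ) < 72 by omega, show (60 : ℕ) < 72 by omega, basePair1⟩
    · exact ⟨show (71 : ℕ) < 72 by omega, show (25 : ℕ) < 72 by omega, basePair2⟩

end CfsgLib.Chev.E6
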