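import Cfsg.Agent.Chev.Run.E7Desc
import Cfsg.Agent.Chev.Run.E7A
import Cfsg.Agent.Chev.Run.E7B0
import Cfsg.Agent.Chev.Run.E7B1
import Cfsg.Agent.Chev.Run.E7B2
import Cfsg.Agent.Chev.Run.E7B3
import Cfsg.Agent.Chev.Run.E7H
import Cfsg.Agent.Chev.Run.E7M
import Cfsg.Agent.Chev.Fine

/-! All checks for type E7. -/

set_option autoImplicit false

namespace CfsgLib.Chev.E7

theorem fine : Fine data Cfsg.Lie.chevE7 where
  fits := tab_fits
  rootsChk := rootsOK
  corootChk := corootOK
  descChk := descOK
  monChk i hi := by
    have hi' : i < 7 := hi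
    interval_cases i
    · exact (Bool.and_eq_true _ _ ▸ mon0).1
    · exact (Bool.and_eq_true _ _ ▸ mon1).1
    · exact (Bool.and_eq_true _ _ ▸ mon2).1
    · exact (Bool.and_eq_true _ _ ▸ mon3).1
    · exact (Bool.and_eq_true _ _ ▸ mon4).1
    · exact (Bool.and_eq_true _ _ ▸ mon5).1
    · exact (Bool.and_eq_true _ _ ▸ mon6).1
  hChk i hi := by
    have hi' : i < 7 := hi
    interval_cases i
    · exact (Bool.and_eq_true _ _ ▸ mon0).2
    · exact (Bool.and_eq_true _ _ ▸ mon1).2
    · exact (Bool.and_eq_true _ _ ▸ mon2).2
    · exact (Bool.and_eq_true _ _ ▸ mon3).2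
    · exact (Bool.and_eq_true _ _ ▸ mon4).2
    · exact (Bool.and_eq_true _ _ ▸ mon5).2
    · exact (Bool.and_eq_true _ _ ▸ mon6).2
  pairChk r hr := of_all_range pairMoves hr
  heightChk r hr := by
    have hr' : r < 126 := hr
    by_cases h0 : r < 42
    · exact of_chunk height0 (by omega) h0
    by_cases h1 : r < 84
    · exact of_chunk height1 (by omega) h1
    exact of_chunk height2 (by omega) (by omega)
  linChk r hr := by
    have hr' : r < 126 := hr
    by_cases h0 : r < 42
    · exact of_chunk lin0 (by omega) h0
    by_cases h1 : r < 84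
    · exact of_chunk lin1 (by omega) h1
    exact of_chunk lin2 (by omega) (by omega)
  addChk r hr := by
    have hr' : r < 126 := hr
    by_cases h0 : r < 42
    · exact of_chunk add0 (by omega) h0
    by_cases h1 : r < 84
    · exact of_chunk add1 (by omega) h1
    exact of_chunk add2 (by omega) (by omega)
  moveChk r hr := by
    have hr' : r < 126 := hr
    by_cases h0 : r < 42
    · exact of_chunk move0 (by omega) h0
    by_cases h1 : r < 84
    · exact of_chunk move1 (by omega) h1
    exact of_chunk move2 (by omega) (by omega)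
  conjChk i hi s hs := by
    have hi' : i < 7 := hi
    have hs' : s < 126 := hs
    interval_cases i
    · exact of_chunk conj0_0 (by omega) (by omega)
    · exact of_chunk conj1_0 (by omega) (by omega)
    · exact of_chunk conj2_0 (by omega) (by omega)
    · exact of_chunk conj3_0 (by omega) (by omega)
    · exact of_chunk conj4_0 (by omega) (by omega)
    · exact of_chunk conj5_0 (by omega) (by omega)
    · exact of_chunk conj6_0 (by omega) (by omega)
  hRepChk r hr := by
    have hr' : r ∈ ([125] : List ℕ) := hr
    simp only [List.mem_cons, List.not_mem_nil, or_false] at hr'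
    rcases hr' with rfl
    · exact hRep0
  stabChk r hr := by
    have hr' : r ∈ ([125] : List ℕ) := hr
    simp only [List.mem_cons, List.not_mem_nil, or_false] at hr'
    rcases hr' with rfl
    · exact ⟨show (125 : ℕ) < 126 by omega, fun s hs => of_all_range stab0 hs⟩
  baseChk e he := by
    have he' : e ∈ ([(125, 124), (125, 92), (125, 32)] : List (ℕ × ℕ)) := he
    simp only [List.mem_cons, List.not_mem_nil, or_false] at he'
    rcases he' with rfl | rfl | rfl
    · exact ⟨show (125 : ℕ) < 126 by omega, show (124 : ℕ) < 126 by omega, basePair0⟩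
    · exact ⟨show (125 : ℕ) < 126 by omega, show (92 : ℕ) < 126 by omega, basePair1⟩
    · exact ⟨show (125 : ℕ) < 126 by omega, show (32 : ℕ) < 126 by omega, basePair2⟩

end CfsgLib.Chev.E7
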