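import Cfsg.Agent.Chev.Run.E8Desc
import Cfsg.Agent.Chev.Run.E8A
import Cfsg.Agent.Chev.Run.E8B0
import Cfsg.Agent.Chev.Run.E8B1
import Cfsg.Agent.Chev.Run.E8B2
import Cfsg.Agent.Chev.Run.E8B3
import Cfsg.Agent.Chev.Run.E8B4
import Cfsg.Agent.Chev.Run.E8B5
import Cfsg.Agent.Chev.Run.E8B6
import Cfsg.Agent.Chev.Run.E8B7
import Cfsg.Agent.Chev.Run.E8H
import Cfsg.Agent.Chev.Run.E8L
import Cfsg.Agent.Chev.Run.E8M0
import Cfsg.Agent.Chev.Run.E8M1
import Cfsg.Agent.Chev.Fine

/-! All checks for type E8. -/

set_option autoImplicit false

namespace CfsgLib.Chev.E8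

theorem fine : Fine data Cfsg.Lie.chevE8 where
  fits := tab_fits
  rootsChk := rootsOK
  corootChk := corootOK
  descChk := descOK
  monChk i hi := by
    have hi' : i < 8 := hi
    interval_cases i
    · exact (Bool.and_eq_true _ _ ▸ mon0).1
    · exact (Bool.and_eq_true _ _ ▸ mon1).1
    · exact (Bool.and_eq_true _ _ ▸ mon2).1
    · exact (Bool.and_eq_true _ _ ▸ mon3).1
    · exact (Bool.and_eq_true _ _ ▸ mon4).1
    · exact (Bool.and_eq_true _ _ ▸ mon5).1
    · exact (Bool.and_eq_true _ _ ▸ mon6).1
    · exact (Bool.and_eq_true _ _ ▸ mon7).1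
  hChk i hi := by
    have hi' : i < 8 := hi
    interval_cases i
    · exact (Bool.and_eq_true _ _ ▸ mon0).2
    · exact (Bool.and_eq_true _ _ ▸ mon1).2
    · exact (Bool.and_eq_true _ _ ▸ mon2).2
    · exact (Bool.and_eq_true _ _ ▸ mon3).2
    · exact (Bool.and_eq_true _ _ ▸ mon4).2
    · exact (Bool.and_eq_true _ _ ▸ mon5).2
    · exact (Bool.and_eq_true _ _ ▸ mon6).2
    · exact (Bool.and_eq_true _ _ ▸ mon7).2
  pairChk r hr := of_all_range pairMoves hr
  heightChk r hr := by
    have hr' : r < 240 := hr
    by_cases h0 : r < 40
    · exact of_chunk height0 (by omega) h0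
    by_cases h1 : r < 80
    · exact of_chunk height1 (by omega) h1
    by_cases h2 : r < 120
    · exact of_chunk height2 (by omega) h2
    by_cases h3 : r < 160
    · exact of_chunk height3 (by omega) h3
    by_cases h4 : r < 200
    · exact of_chunk height4 (by omega) h4
    exact of_chunk height5 (by omega) (by omega)
  linChk r hr := by
    have hr' : r < 240 := hr
    by_cases h0 : r < 40
    · exact of_chunk lin0 (by omega) h0
    by_cases h1 : r < 80
    · exact of_chunk lin1 (by omega) h1
    by_cases h2 : r < 120
    · exact of_chunk lin2 (by omega) h2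
    by_cases h3 : r < 160
    · exact of_chunk lin3 (by omega) h3
    by_cases h4 : r < 200
    · exact of_chunk lin4 (by omega) h4
    exact of_chunk lin5 (by omega) (by omega)
  addChk r hr := by
    have hr' : r < 240 := hr
    by_cases h0 : r < 40
    · exact of_chunk add0 (by omega) h0
    by_cases h1 : r < 80
    · exact of_chunk add1 (by omega) h1
    by_cases h2 : r < 120
    · exact of_chunk add2 (by omega) h2
    by_cases h3 : r < 160
    · exact of_chunk add3 (by omega) h3
    by_cases h4 : r < 200
    · exact of_chunk add4 (by omega) h4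
    exact of_chunk add5 (by omega) (by omega)
  moveChk r hr := by
    have hr' : r < 240 := hr
    by_cases h0 : r < 40
    · exact of_chunk move0 (by omega) h0
    by_cases h1 : r < 80
    · exact of_chunk move1 (by omega) h1
    by_cases h2 : r < 120
    · exact of_chunk move2 (by omega) h2
    by_cases h3 : r < 160
    · exact of_chunk move3 (by omega) h3
    by_cases h4 : r < 200
    · exact of_chunk move4 (by omega) h4
    exact of_chunk move5 (by omega) (by omega)
  conjChk i hi s hs := by
    have hi' : i < 8 := hi
    have hs' : s < 240 := hs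
    interval_cases i
    · by_cases h0 : s < 80
      · exact of_chunk conj0_0 (by omega) h0
      by_cases h1 : s < 160
      · exact of_chunk conj0_1 (by omega) h1
      exact of_chunk conj0_2 (by omega) (by omega)
    · by_cases h0 : s < 80
      · exact of_chunk conj1_0 (by omega) h0
      by_cases h1 : s < 160
      · exact of_chunk conj1_1 (by omega) h1
      exact of_chunk conj1_2 (by omega) (by omega)
    · by_cases h0 : s < 80
      · exact of_chunk conj2_0 (by omega) h0
      by_cases h1 : s < 160
      · exact of_chunk conj2_1 (by omega) h1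
      exact of_chunk conj2_2 (by omega) (by omega)
    · by_cases h0 : s < 80
      · exact of_chunk conj3_0 (by omega) h0
      by_cases h1 : s < 160
      · exact of_chunk conj3_1 (by omega) h1
      exact of_chunk conj3_2 (by omega) (by omega)
    · by_cases h0 : s < 80
      · exact of_chunk conj4_0 (by omega) h0
      by_cases h1 : s < 160
      · exact of_chunk conj4_1 (by omega) h1
      exact of_chunk conj4_2 (by omega) (by omega)
    · by_cases h0 : s < 80
      · exact of_chunk conj5_0 (by omega) h0
      by_cases h1 : s < 160
      · exact of_chunk conj5_1 (by omega) h1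
      exact of_chunk conj5_2 (by omega) (by omega)
    · by_cases h0 : s < 80
      · exact of_chunk conj6_0 (by omega) h0
      by_cases h1 : s < 160
      · exact of_chunk conj6_1 (by omega) h1
      exact of_chunk conj6_2 (by omega) (by omega)
    · by_cases h0 : s < 80
      · exact of_chunk conj7_0 (by omega) h0
      by_cases h1 : s < 160
      · exact of_chunk conj7_1 (by omega) h1
      exact of_chunk conj7_2 (by omega) (by omega)
  hRepChk r hr := by
    have hr' : r ∈ ([239] : List ℕ) := hr
    simp only [List.mem_cons, List.not_mem_nil, or_false] at hr'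
    rcases hr' with rfl
    · exact hRep0
  stabChk r hr := by
    have hr' : r ∈ ([239] : List ℕ) := hr
    simp only [List.mem_cons, List.not_mem_nil, or_false] at hr'
    rcases hr' with rfl
    · exact ⟨show (239 : ℕ) < 240 by omega, fun s hs => of_all_range stab0 hs⟩
  baseChk e he := by
    have he' : e ∈ ([(239, 238), (239, 226), (239, 119)] : List (ℕ × ℕ)) := he
    simp only [List.mem_cons, List.not_mem_nil, or_false] at he'
    rcases he' with rfl | rfl | rfl
    · exact ⟨show (239 : ℕ) < 240 by omega, show (238 : ℕ) < 240 by omega, basePair0⟩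
    · exact ⟨show (239 : ℕ) < 240 by omega, show (226 : ℕ) < 240 by omega, basePair1⟩
    · exact ⟨show (239 : ℕ) < 240 by omega, show (119 : ℕ) < 240 by omega, basePair2⟩

end CfsgLib.Chev.E8
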