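import Cfsg.Agent.Chev.FineG2
import Cfsg.Agent.Chev.FineB2
import Cfsg.Agent.Chev.FineD4
import Cfsg.Agent.Chev.FineF4
import Cfsg.Agent.Chev.FineE6
import Cfsg.Agent.Chev.FineE7
import Cfsg.Agent.Chev.FineE8

/-! The seven tabulated data pass all checks. -/

set_option autoImplicit false

namespace CfsgLib.Chev

open Cfsg.Lie

theorem fine_of_mem {D : ChevalleyDatum}
    (hD : D ∈ [chevG2, chevB2, chevD4, chevF4, chevE6, chevE7, chevE8]) : ∃ K : Data, Fine K D := by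
  simp only [List.mem_cons, List.not_mem_nil, or_false] at hD
  rcases hD with rfl | rfl | rfl | rfl | rfl | rfl | rfl
  exacts [⟨_, G2.fine⟩, ⟨_, B2.fine⟩, ⟨_, D4.fine⟩, ⟨_, F4.fine⟩, ⟨_, E6.fine⟩, ⟨_, E7.fine⟩,
    ⟨_, E8.fine⟩]

end CfsgLib.Chev
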