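import Cfsg.Agent.Chev.Weyl
import Cfsg.Prelude.Def_LieExceptional

/-!
The (B,N)-pair of a Chevalley group.
-/

set_option autoImplicit false

namespace CfsgLib.Chev

open Cfsg.Lie Matrix

variable {K : Data} {D : ChevalleyDatum} {F : Type*} [Field F]

/-- positive roots other than a fundamental one -/
def posExcept (K : Data) (D : ChevalleyDatum) (i : ℕ) : Set ℕ :=
  {r | (K.npos ≤ r ∧ r < D.nroots) ∧ r ≠ K.p i}

theorem mul_mem_doubleCoset {G : Type*} [Group G] (B : Subgroup G) {a b n : G}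
    (ha : a ∈ B) (hb : b ∈ B) : a * n * b ∈ DoubleCoset.doubleCoset n (B : Set G) B :=
  DoubleCoset.mem_doubleCoset.2 ⟨a, ha, b, hb, rfl⟩

namespace Fine

theorem p_injective (hK : Fine K D) {i j : ℕ} (hi : i < D.rank) (hj : j < D.rank)
    (h : K.p i = K.p j) : i = j := by
  by_contra hne
  have h1 := ((hK.coroot_facts.2 i hi).2 j hj).1
  have h2 := ((hK.coroot_facts.2 j hj).2 j hj).1
  rw [if_neg hne, h, h2, if_pos rfl] at h1
  exact one_ne_zero h1

theorem neg_p_lt (hK : Fine K D) {i : ℕ} (hi : i < D.rank) : K.neg (K.p i) < K.npos := by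
  rw [hK.toGood.Kneg_eq]
  have := hK.toGood.npos_le_p hi
  have := hK.toGood.p_lt hi
  have := hK.toGood.nroots_eq_two_mul
  omega

theorem sU_conj_posExcept (hK : Fine K D) {i : ℕ} (hi : i < D.rank) {g : GL D.Idx F}
    (hg : g ∈ genU hK F (posExcept K D i)) :
    sU hK i * g * (sU hK i)⁻¹ ∈ genU hK F (posExcept K D i) := by
  induction hg using Subgroup.closure_induction with
  | mem x hx =>
    obtain ⟨r, ⟨⟨h1, h2⟩, h3⟩, t, rfl⟩ := hx
    rw [hK.sU_conj_xU hi h2]
    refine hK.mem_genU (show K.w i r ∈ posExcept K D i from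
      ⟨⟨hK.toGood.npos_le_w hi h2 h1 h3, hK.toGood.w_lt hi h2⟩, ?_⟩) _
    intro h
    have := hK.toGood.w_w hi h2
    rw [h, hK.toGood.w_p hi] at this
    have := hK.neg_p_lt hi
    omega
  | one => simp
  | mul a b _ _ ha hb => simpa [mul_assoc] using mul_mem ha hb
  | inv a _ ha => simpa [mul_assoc] using inv_mem ha

theorem sU_normalizer_posExcept (hK : Fine K D) {i : ℕ} (hi : i < D.rank) :
    sU hK i ∈ Subgroup.normalizer (genU hK F (posExcept K D i) : Set (GL D.Idx F)) := by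
  rw [Subgroup.mem_normalizer_iff]
  refine fun g => ⟨hK.sU_conj_posExcept hi, fun hg => ?_⟩
  have h2 := hK.sU_conj_posExcept hi hg
  -- the square of `n_i` is diagonal, hence normalises as well
  have hN := hK.diagonal_le_normalizer_genU (F := F) (posExcept K D i)
    (hK.sU_sq_mem ⟨i, hi⟩)
  have e : sU hK i * (sU hK i * g * (sU hK i)⁻¹) * (sU hK i)⁻¹ =
      sU hK i * sU hK i * g * (sU hK i * sU hK i)⁻¹ := by group
  rw [e] at h2
  exact (Subgroup.mem_normalizer_iff.1 hN g).2 h2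

theorem xU_p_normalizer (hK : Fine K D) {i : ℕ} (hi : i < D.rank) (t : F) :
    xU hK (K.p i) t ∈ Subgroup.normalizer (genU hK F (posExcept K D i) : Set (GL D.Idx F)) := by
  refine hK.xU_mem_normalizer (hK.toGood.p_lt hi) (fun s hs hsn => ?_) t
  refine Or.inr ⟨hK.pos_ne_neg (hK.toGood.npos_le_p hi) (hK.toGood.p_lt hi) hs.1.1, fun c hc => ?_⟩
  have := hK.comm_gt (hK.toGood.p_lt hi) hsn (hK.toGood.npos_le_p hi) hs.1.1 hc
  exact ⟨⟨le_trans (hK.toGood.npos_le_p hi) this.1.le, this.2.2⟩, this.1.ne'⟩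

theorem neg_p_eq_conj (hK : Fine K D) {i : ℕ} (hi : i < D.rank) (t : F) :
    xU hK (K.neg (K.p i)) t =
      sU hK i * xU hK (K.p i) ((K.eta i (K.p i) : F) * t) * (sU hK i)⁻¹ := by
  rw [hK.sU_conj_xU hi (hK.toGood.p_lt hi), hK.toGood.w_p hi, ← mul_assoc, ← Int.cast_mul,
    Good.eta_sq, Int.cast_one, one_mul]

theorem root_pair_le_normalizer (hK : Fine K D) {i : ℕ} (hi : i < D.rank) :
    D.rootSubgroup F (K.p i) ⊔ D.rootSubgroup F (K.neg (K.p i)) ≤
      Subgroup.normalizer (genU hK F (posExcept K D i) : Set (GL D.Idx F)) := by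
  refine sup_le (fun g hg => ?_) (fun g hg => ?_)
  · obtain ⟨t, rfl⟩ := hK.mem_rootSubgroup_iff.1 hg
    exact hK.xU_p_normalizer hi t
  · obtain ⟨t, rfl⟩ := hK.mem_rootSubgroup_iff.1 hg
    rw [hK.neg_p_eq_conj hi]
    exact mul_mem (mul_mem (hK.sU_normalizer_posExcept hi) (hK.xU_p_normalizer hi _))
      (inv_mem (hK.sU_normalizer_posExcept hi))

theorem posExcept_le_pos (hK : Fine K D) (i : ℕ) :
    genU hK F (posExcept K D i) ≤ D.posUnipotent F := by
  rw [hK.posUnipotent_eq]; exact hK.genU_mono fun r hr => hr.1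

theorem pos_eq_sup (hK : Fine K D) {i : ℕ} (hi : i < D.rank) :
    genU hK F (posExcept K D i) ⊔ D.rootSubgroup F (K.p i) = D.posUnipotent F := by
  refine le_antisymm (sup_le (hK.posExcept_le_pos i) fun g hg => ?_) ?_
  · obtain ⟨t, rfl⟩ := hK.mem_rootSubgroup_iff.1 hg
    exact hK.xU_mem_pos (hK.toGood.npos_le_p hi) t
  · rw [hK.posUnipotent_eq, genU, Subgroup.closure_le]
    rintro g ⟨r, hr, t, rfl⟩
    by_cases h : r = K.p i
    · exact Subgroup.mem_sup_right (h ▸ hK.xU_mem_rootSubgroup r t)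
    · exact Subgroup.mem_sup_left (hK.mem_genU (show r ∈ posExcept K D i from ⟨hr, h⟩) t)

theorem pos_split (hK : Fine K D) {i : ℕ} (hi : i < D.rank) {g : GL D.Idx F}
    (hg : g ∈ D.posUnipotent F) :
    ∃ v ∈ genU hK F (posExcept K D i), ∃ c : F, g = v * xU hK (K.p i) c := by
  rw [← hK.pos_eq_sup hi] at hg
  have hg' : g ∈ ((genU hK F (posExcept K D i) ⊔ D.rootSubgroup F (K.p i) : Subgroup _) :
      Set (GL D.Idx F)) := hg
  rw [Subgroup.coe_mul_of_right_le_normalizer_left _ _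
    (le_sup_left.trans (hK.root_pair_le_normalizer hi))] at hg'
  obtain ⟨v, hv, x, hx, rfl⟩ := hg'
  obtain ⟨c, rfl⟩ := hK.mem_rootSubgroup_iff.1 hx
  exact ⟨v, hv, c, rfl⟩

theorem xU_mem_borel (hK : Fine K D) {r : ℕ} (hr : K.npos ≤ r) (t : F) :
    xU hK r t ∈ D.borelSubgroup F := Subgroup.mem_sup_left (hK.xU_mem_pos hr t)

theorem nU_eq (hK : Fine K D) {r : ℕ} (hr : r < D.nroots) (z : Fˣ) :
    nU hK r (z : F) = tU K D (hParam K r z) * nU hK r 1 := by
  have e : (tU K D (hParam K r z) : GL D.Idx F) = nU hK r (z : F) * nU hK r (-1) := by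
    refine Units.ext ?_
    rw [hK.coe_tU_hParam hr, Units.val_mul, coe_nU, coe_nU]
    simp [ChevalleyDatum.hMat, ChevalleyDatum.hWord, ChevalleyDatum.nMat, wordMat_append]
  rw [e, nU_neg_one, inv_mul_cancel_right]

/-- `x_{-p}(t) = x_p(a) h n_p x_p(a)` -/
theorem neg_p_decomp (hK : Fine K D) {i : ℕ} (hi : i < D.rank) {t : F} (ht : t ≠ 0) :
    ∃ h ∈ D.diagonalSubgroup F,
      xU hK (K.neg (K.p i)) t = xU hK (K.p i) t⁻¹ * h * sU hK i * xU hK (K.p i) t⁻¹ := by
  have hp := hK.toGood.p_lt hi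
  refine ⟨tU K D (hParam K (K.p i) (-(Units.mk0 t ht)⁻¹)), hK.tU_mem_diagonal _, ?_⟩
  have e := hK.nU_eq (F := F) hp (-(Units.mk0 t ht)⁻¹)
  rw [show nU hK (K.p i) (1 : F) = sU hK i by rw [sU, hK.toGood.simple_eq hi]] at e
  have hz : ((-(Units.mk0 t ht)⁻¹ : Fˣ) : F) = -t⁻¹ := by simp
  rw [mul_assoc (xU hK (K.p i) t⁻¹), ← e, hz]
  have : nU hK (K.p i) (-t⁻¹) =
      xU hK (K.p i) (-t⁻¹) * (xU hK (K.neg (K.p i)) t * xU hK (K.p i) (-t⁻¹)) := by
    rw [nU, ChevalleyDatum.nWord, hK.toGood.neg_eq hp, ← hK.toGood.Kneg_eq]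
    simp [wordU, inv_neg]
  rw [this, ← xU_inv]
  group

theorem conj_moves (hK : Fine K D) {n : GL D.Idx F} {σ : Equiv.Perm (Fin D.nroots)}
    (hn : Moves hK n σ) (r : Fin D.nroots) (t : F) :
    ∃ u : F, xU hK r.val t * n = n * xU hK (σ⁻¹ r).val u := by
  obtain ⟨a, ha⟩ := hK.moves_inv hn r
  exact ⟨(a : F) * t, by rw [← ha]; group⟩

theorem bn_axiom (hK : Fine K D) {i : ℕ} (hi : i < D.rank) {n : GL D.Idx F}
    (hn : n ∈ D.monomialSubgroup F) {b : GL D.Idx F} (hb : b ∈ D.borelSubgroup F) :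
    sU hK i * b * n ∈
      DoubleCoset.doubleCoset (sU hK i * n) (D.borelSubgroup F : Set (GL D.Idx F)) (D.borelSubgroup F) ∪
      DoubleCoset.doubleCoset n (D.borelSubgroup F : Set (GL D.Idx F)) (D.borelSubgroup F) := by
  set B := D.borelSubgroup F with hB
  set s := sU (F := F) hK i with hs
  obtain ⟨u, hu, h, hh, rfl⟩ := hK.mem_borel_iff.1 hb
  obtain ⟨v, hv, c, rfl⟩ := hK.pos_split hi hu
  obtain ⟨L, hL⟩ := hK.exists_moves hn
  obtain ⟨h', hh', hsh⟩ := hK.sU_normalizes (F := F) ⟨i, hi⟩ hh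
  -- move the torus part to the left
  obtain ⟨th, hth⟩ := hK.mem_diagonal_iff.1 hh'
  have hv' : s * v * s⁻¹ ∈ B :=
    Subgroup.mem_sup_left (hK.posExcept_le_pos i (hK.sU_conj_posExcept hi hv))
  set c' : F := (K.eta i (K.p i) : F) * c
  have hneg : s * xU hK (K.p i) c * s⁻¹ = xU hK (K.neg (K.p i)) c' := by
    rw [hs, hK.sU_conj_xU hi (hK.toGood.p_lt hi), hK.toGood.w_p hi]
  set c'' : F := ((torusChar K D th (K.neg (K.p i)))⁻¹ : Fˣ) * c' with hc''
  have hmove : xU hK (K.neg (K.p i)) c' * h' = h' * xU hK (K.neg (K.p i)) c'' := by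
    have := hK.tU_conj_xU th (hK.toGood.Kneg_lt (hK.toGood.p_lt hi)) c''
    rw [hth, hc'', ← mul_assoc _ _ c', ← Units.val_mul, mul_inv_cancel, Units.val_one, one_mul,
      ← hc''] at this
    rw [← this]; group
  have main : s * (v * xU hK (K.p i) c * h) * n =
      (s * v * s⁻¹) * h' * (xU hK (K.neg (K.p i)) c'' * s * n) := by
    calc s * (v * xU hK (K.p i) c * h) * n
        = (s * v * s⁻¹) * (s * xU hK (K.p i) c * s⁻¹) * (s * h) * n := by group
      _ = (s * v * s⁻¹) * (xU hK (K.neg (K.p i)) c' * h') * s * n := by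
        rw [hneg, show s * h = h' * s from hsh]; group
      _ = _ := by rw [hmove]; group
  rw [main]
  have hhB : h' ∈ B := Subgroup.mem_sup_right hh'
  by_cases hc0 : c'' = 0
  · left
    rw [hc0, xU_zero, one_mul]
    simpa using mul_mem_doubleCoset B (n := s * n) (B.mul_mem hv' hhB) B.one_mem
  by_cases hpos : K.npos ≤ ((wPerm hK L)⁻¹ (pFin hK ⟨i, hi⟩)).val
  · left
    obtain ⟨u', hu'⟩ := hK.conj_moves hL (pFin hK ⟨i, hi⟩) ((K.eta i (K.p i) : F) * c'')
    have e : xU hK (K.neg (K.p i)) c'' * s * n =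
        s * n * xU hK ((wPerm hK L)⁻¹ (pFin hK ⟨i, hi⟩)).val u' := by
      rw [hK.neg_p_eq_conj hi, mul_assoc s n, ← hu', hs]
      simp only [pFin]
      group
    rw [e, ← mul_assoc]
    exact mul_mem_doubleCoset B (B.mul_mem hv' hhB) (hK.xU_mem_borel hpos _)
  · right
    obtain ⟨d, hd, hdec⟩ := hK.neg_p_decomp hi hc0
    obtain ⟨u', hu'⟩ := hK.conj_moves hL (negFin hK (pFin hK ⟨i, hi⟩))
      ((K.eta i (K.p i) : F) * c''⁻¹)
    have e1 : xU hK (K.p i) c''⁻¹ * s = s * xU hK (K.neg (K.p i)) ((K.eta i (K.p i) : F) * c''⁻¹) := by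
      have := hK.sU_inv_conj_xU (F := F) hi (hK.toGood.p_lt hi) c''⁻¹
      have hηn : K.eta i (K.neg (K.p i)) = K.eta i (K.p i) :=
        ((hK.coroot_facts.1 _ (hK.toGood.p_lt hi)).2 i hi).2.2
      rw [hK.toGood.w_p hi, hηn] at this
      rw [← this, hs]; group
    have e : xU hK (K.neg (K.p i)) c'' * s * n =
        (xU hK (K.p i) c''⁻¹ * d * (s * s)) * n *
          xU hK ((wPerm hK L)⁻¹ (negFin hK (pFin hK ⟨i, hi⟩))).val u' := by
      rw [hdec, mul_assoc (xU hK (K.p i) c''⁻¹ * d * s) (xU hK (K.p i) c''⁻¹) s, e1,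
        mul_assoc _ n, ← hu']
      simp only [negFin, pFin]
      group
    rw [e, ← mul_assoc, ← mul_assoc]
    refine mul_mem_doubleCoset B (B.mul_mem (B.mul_mem hv' hhB) (B.mul_mem (B.mul_mem
      (hK.xU_mem_borel (hK.toGood.npos_le_p hi) _) (Subgroup.mem_sup_right hd))
      (Subgroup.mem_sup_right (hK.sU_sq_mem ⟨i, hi⟩)))) (hK.xU_mem_borel ?_ _)
    have hneg' : ∀ (L : List (Fin D.rank)) (r : Fin D.nroots),
        (wPerm hK L)⁻¹ (negFin hK r) = negFin hK ((wPerm hK L)⁻¹ r) := fun L r => by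
      apply (wPerm hK L).injective
      rw [hK.wPerm_negFin]
      simp
    rw [hneg', hK.negFin_pos_iff]
    exact Nat.lt_of_not_le hpos

theorem group_eq_sup (hK : Fine K D) :
    D.borelSubgroup F ⊔ D.monomialSubgroup F = D.group F := by
  refine le_antisymm (sup_le hK.borel_le_group hK.monomial_le_group) ?_
  set T := D.borelSubgroup F ⊔ D.monomialSubgroup F
  have key : ∀ r, K.npos ≤ r → r < D.nroots → ∀ t : F, xU hK (K.neg r) t ∈ T := by
    intro r
    induction r using Nat.strong_induction_on with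
    | _ r ih =>
      intro hpos hr t
      obtain ⟨i, hi, h | ⟨h1, h2⟩⟩ := hK.desc hr hpos
      · subst h
        rw [hK.neg_p_eq_conj hi]
        have hs : sU hK i ∈ T := Subgroup.mem_sup_right (hK.sU_mem_monomial hi)
        exact mul_mem (mul_mem hs (Subgroup.mem_sup_left (hK.xU_mem_borel hpos _))) (inv_mem hs)
      · have hw := hK.toGood.w_lt hi hr
        have hs : sU hK i ∈ T := Subgroup.mem_sup_right (hK.sU_mem_monomial hi)
        have e := hK.sU_conj_xU (F := F) hi (hK.toGood.Kneg_lt hw)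
          ((K.eta i (K.neg (K.w i r)) : F) * t)
        rw [hK.toGood.w_neg hi hw, hK.toGood.w_w hi hr, ← mul_assoc, ← Int.cast_mul, Good.eta_sq,
          Int.cast_one, one_mul] at e
        rw [← e]
        exact mul_mem (mul_mem hs (ih _ h2 h1 hw _)) (inv_mem hs)
  rw [← hK.pos_sup_neg, sup_le_iff]
  refine ⟨le_sup_left.trans le_sup_left, ?_⟩
  rw [hK.negUnipotent_eq, genU, Subgroup.closure_le]
  rintro g ⟨r, hr, t, rfl⟩
  have hr' : r < K.npos := hr
  have h2 := hK.toGood.nroots_eq_two_mul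
  have := key (K.neg r) (by rw [hK.toGood.Kneg_eq]; omega) (hK.toGood.Kneg_lt (by omega)) t
  rwa [hK.toGood.Kneg_Kneg (by omega)] at this

theorem conj_borel_ne (hK : Fine K D) {i : ℕ} (hi : i < D.rank) :
    ∃ b ∈ D.borelSubgroup F, sU hK i * b * sU hK i ∉ D.borelSubgroup F := by
  refine ⟨xU hK (K.p i) 1, hK.xU_mem_borel (hK.toGood.npos_le_p hi) 1, fun h => ?_⟩
  have e : sU hK i * xU hK (K.p i) (1 : F) * sU hK i =
      xU hK (K.neg (K.p i)) (K.eta i (K.p i) : F) * (sU hK i * sU hK i) := by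
    have := hK.sU_conj_xU (F := F) hi (hK.toGood.p_lt hi) 1
    rw [hK.toGood.w_p hi, mul_one] at this
    rw [← this]; group
  rw [e] at h
  have hmem : xU hK (K.neg (K.p i)) (K.eta i (K.p i) : F) ∈
      D.borelSubgroup F ⊓ D.negUnipotent F := by
    refine ⟨?_, hK.xU_mem_neg (hK.neg_p_lt hi) _⟩
    have := Subgroup.mul_mem _ h (Subgroup.inv_mem _
      (Subgroup.mem_sup_right (hK.sU_sq_mem (F := F) ⟨i, hi⟩) : sU hK i * sU hK i ∈ D.borelSubgroup F))
    rwa [mul_inv_cancel_right] at this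
  rw [hK.borel_inf_neg, Subgroup.mem_bot] at hmem
  exact Good.eta_ne_zero K i (K.p i)
    ((hK.xU_eq_one_iff (hK.toGood.Kneg_lt (hK.toGood.p_lt hi)) _).1 hmem)

theorem sU_inj_mod (hK : Fine K D) {i j : ℕ} (hi : i < D.rank) (hj : j < D.rank)
    (h : (sU hK i : GL D.Idx F)⁻¹ * sU hK j ∈ D.borelSubgroup F) : i = j := by
  have hH : (sU hK i : GL D.Idx F)⁻¹ * sU hK j ∈ D.diagonalSubgroup F := by
    rw [← hK.borel_inf_monomial]
    exact ⟨h, Subgroup.mul_mem _ (Subgroup.inv_mem _ (hK.sU_mem_monomial hi)) (hK.sU_mem_monomial hj)⟩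
  have e := hK.moves_unique (hK.moves_diagonal hH)
    (hK.moves_mul (hK.moves_inv (hK.moves_sU ⟨i, hi⟩)) (hK.moves_sU ⟨j, hj⟩))
  have h' : sPerm hK ⟨j, hj⟩ = sPerm hK ⟨i, hi⟩ := by
    have := congrArg (fun σ => sPerm hK ⟨i, hi⟩ * σ) e
    simpa [← mul_assoc] using this.symm
  by_contra hne
  have hpi := hK.toGood.npos_le_w hj (hK.toGood.p_lt hi) (hK.toGood.npos_le_p hi)
    (fun hpp => hne (hK.p_injective hi hj hpp))
  have := congrArg (fun σ : Equiv.Perm (Fin D.nroots) => (σ (pFin hK ⟨i, hi⟩)).val) h'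
  simp only [sPerm_val, pFin] at this
  rw [hK.toGood.w_p hi] at this
  have := hK.neg_p_lt hi
  omega

/-- the representatives of the fundamental reflections inside the group -/
def simpleReps (D : ChevalleyDatum) (F : Type*) [Field F] : Set ↥(D.group F) :=
  {n : ↥(D.group F) | ∃ i < D.rank,
    ((n : GL D.Idx F) : Matrix D.Idx D.Idx F) = D.nMat F (D.simple i) 1}

theorem eq_sU_of_mem (hK : Fine K D) {n : ↥(D.group F)} (hn : n ∈ simpleReps D F) :
    ∃ i < D.rank, (n : GL D.Idx F) = sU hK i := by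
  obtain ⟨i, hi, h⟩ := hn
  exact ⟨i, hi, Units.ext (h.trans (coe_sU hK i).symm)⟩

theorem sU_lift_mem (hK : Fine K D) (i : Fin D.rank) :
    (⟨sU hK i.val, hK.monomial_le_group (hK.sU_mem_monomial i.isLt)⟩ : ↥(D.group F)) ∈
      simpleReps D F := ⟨i.val, i.isLt, coe_sU hK i.val⟩

theorem simpleReps_subset (hK : Fine K D) :
    simpleReps D F ⊆ ((D.monomialSubgroup F).subgroupOf (D.group F) : Set ↥(D.group F)) := by
  intro n hn
  obtain ⟨i, hi, h⟩ := hK.eq_sU_of_mem hn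
  rw [SetLike.mem_coe, Subgroup.mem_subgroupOf, h]
  exact hK.sU_mem_monomial hi

theorem bn_closure_sup (hK : Fine K D) :
    Subgroup.closure (simpleReps D F) ⊔ ((D.borelSubgroup F).subgroupOf (D.group F) ⊓
        (D.monomialSubgroup F).subgroupOf (D.group F)) =
      (D.monomialSubgroup F).subgroupOf (D.group F) := by
  refine le_antisymm (sup_le ((Subgroup.closure_le _).2 hK.simpleReps_subset) inf_le_right) ?_
  intro n hn
  obtain ⟨L, t, ht, hnt⟩ := hK.exists_sWord (Subgroup.mem_subgroupOf.1 hn)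
  have ht' : (⟨t, hK.diagonal_le_group ht⟩ : ↥(D.group F)) ∈
      (D.borelSubgroup F).subgroupOf (D.group F) ⊓
        (D.monomialSubgroup F).subgroupOf (D.group F) :=
    Subgroup.mem_inf.2 ⟨Subgroup.mem_subgroupOf.2 (Subgroup.mem_sup_right ht),
      Subgroup.mem_subgroupOf.2 (Subgroup.mem_sup_left ht)⟩
  have key : ∀ L : List (Fin D.rank), ∃ m ∈ Subgroup.closure (simpleReps D F),
      (m : GL D.Idx F) = sWord hK F L := by
    intro L
    induction L with
    | nil => exact ⟨1, Subgroup.one_mem _, rfl⟩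
    | cons i L ih =>
      obtain ⟨m, hm, hmv⟩ := ih
      refine ⟨_, Subgroup.mul_mem _ (Subgroup.subset_closure (hK.sU_lift_mem i)) hm, ?_⟩
      rw [Subgroup.coe_mul, hmv, hK.sWord_cons]
  obtain ⟨m, hm, hmv⟩ := key L
  have e : n = (⟨t, hK.diagonal_le_group ht⟩ : ↥(D.group F)) * m :=
    Subtype.ext (by rw [hnt, Subgroup.coe_mul, hmv])
  rw [e]
  exact Subgroup.mul_mem _ (Subgroup.mem_sup_right ht') (Subgroup.mem_sup_left hm)

theorem bn_mul_mem_union (hK : Fine K D) {s : ↥(D.group F)} (hs : s ∈ simpleReps D F)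
    {n : ↥(D.group F)} (hn : n ∈ (D.monomialSubgroup F).subgroupOf (D.group F))
    {b : ↥(D.group F)} (hb : b ∈ (D.borelSubgroup F).subgroupOf (D.group F)) :
    s * b * n ∈ DoubleCoset.doubleCoset (s * n)
        ((D.borelSubgroup F).subgroupOf (D.group F) : Set ↥(D.group F))
        ((D.borelSubgroup F).subgroupOf (D.group F)) ∪
      DoubleCoset.doubleCoset n ((D.borelSubgroup F).subgroupOf (D.group F) : Set ↥(D.group F))
        ((D.borelSubgroup F).subgroupOf (D.group F)) := by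
  obtain ⟨i, hi, hsi⟩ := hK.eq_sU_of_mem hs
  have lift : ∀ m : ↥(D.group F), ∀ x ∈ D.borelSubgroup F, ∀ y ∈ D.borelSubgroup F,
      (s : GL D.Idx F) * b * n = x * m * y →
      s * b * n ∈ DoubleCoset.doubleCoset m
        ((D.borelSubgroup F).subgroupOf (D.group F) : Set ↥(D.group F))
        ((D.borelSubgroup F).subgroupOf (D.group F)) := by
    intro m x hx y hy hxy
    refine DoubleCoset.mem_doubleCoset.2 ⟨⟨x, hK.borel_le_group hx⟩, ?_,
      ⟨y, hK.borel_le_group hy⟩, ?_, Subtype.ext hxy⟩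
    · exact Subgroup.mem_subgroupOf.2 hx
    · exact Subgroup.mem_subgroupOf.2 hy
  have hax := hK.bn_axiom hi (Subgroup.mem_subgroupOf.1 hn) (Subgroup.mem_subgroupOf.1 hb)
  rw [← hsi] at hax
  rcases hax with hax | hax
  · obtain ⟨x, hx, y, hy, hxy⟩ := DoubleCoset.mem_doubleCoset.1 hax
    exact Set.mem_union_left _ (lift (s * n) x hx y hy hxy)
  · obtain ⟨x, hx, y, hy, hxy⟩ := DoubleCoset.mem_doubleCoset.1 hax
    exact Set.mem_union_right _ (lift n x hx y hy hxy)

theorem bn_conj_ne (hK : Fine K D) {s : ↥(D.group F)} (hs : s ∈ simpleReps D F) :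
    (fun b : ↥(D.group F) => s * b * s) ''
        ((D.borelSubgroup F).subgroupOf (D.group F) : Set ↥(D.group F)) ≠
      ((D.borelSubgroup F).subgroupOf (D.group F) : Set ↥(D.group F)) := by
  intro heq
  obtain ⟨i, hi, hsi⟩ := hK.eq_sU_of_mem hs
  obtain ⟨b, hb, hbn⟩ := hK.conj_borel_ne (F := F) hi
  refine hbn ?_
  have := (Set.ext_iff.1 heq (s * ⟨b, hK.borel_le_group hb⟩ * s)).1
    ⟨_, Subgroup.mem_subgroupOf.2 hb, rfl⟩
  rw [← hsi]
  exact Subgroup.mem_subgroupOf.1 this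

/-- the (B,N)-pair -/
noncomputable def bnPair (hK : Fine K D) (F : Type*) [Field F] : Cfsg.BNPair ↥(D.group F) where
  B := (D.borelSubgroup F).subgroupOf (D.group F)
  N := (D.monomialSubgroup F).subgroupOf (D.group F)
  S := simpleReps D F
  sup_eq_top := by
    rw [← Subgroup.subgroupOf_sup hK.borel_le_group hK.monomial_le_group, hK.group_eq_sup,
      Subgroup.subgroupOf_self]
  conj_mem n hn t ht := by
    simp only [Subgroup.mem_subgroupOf, Subgroup.mem_inf, Subgroup.coe_mul, InvMemClass.coe_inv]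
      at hn ht ⊢
    have hH : (t : GL D.Idx F) ∈ D.diagonalSubgroup F := hK.borel_inf_monomial (F := F) ▸ ht
    exact Subgroup.mem_sup_right
      ((Subgroup.mem_normalizer_iff.1 (hK.monomial_le_normalizer_diagonal hn) _).1 hH)
  subset := hK.simpleReps_subset
  sq_mem := by
    rintro n ⟨i, hi, h⟩
    rw [Subgroup.mem_subgroupOf, Subgroup.coe_mul,
      show (n : GL D.Idx F) = sU hK i from Units.ext (h.trans (coe_sU hK i).symm)]
    exact Subgroup.mem_sup_right (hK.sU_sq_mem ⟨i, hi⟩)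
  inj := by
    rintro n ⟨i, hi, h⟩ m ⟨j, hj, h'⟩ hmem
    rw [Subgroup.mem_subgroupOf, Subgroup.coe_mul, InvMemClass.coe_inv,
      show (n : GL D.Idx F) = sU hK i from Units.ext (h.trans (coe_sU hK i).symm),
      show (m : GL D.Idx F) = sU hK j from Units.ext (h'.trans (coe_sU hK j).symm)] at hmem
    obtain rfl := hK.sU_inj_mod hi hj hmem
    exact Subtype.ext (Units.ext (h.trans h'.symm))
  closure_sup := hK.bn_closure_sup
  mul_mem_union _ hs _ hn _ hb := hK.bn_mul_mem_union hs hn hb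
  conj_ne _ hs := hK.bn_conj_ne hs

theorem bnPair_B (hK : Fine K D) :
    (hK.bnPair F).B = (D.borelSubgroup F).subgroupOf (D.group F) := rfl

theorem bnPair_N (hK : Fine K D) :
    (hK.bnPair F).N = (D.monomialSubgroup F).subgroupOf (D.group F) := rfl

theorem bnPair_S (hK : Fine K D) : (hK.bnPair F).S = simpleReps D F := rfl

theorem borel_union_coset (hK : Fine K D) {i : ℕ} (hi : i < D.rank) :
    ∃ P : Subgroup (GL D.Idx F), (P : Set (GL D.Idx F)) =
      (D.borelSubgroup F : Set (GL D.Idx F)) ∪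
        DoubleCoset.doubleCoset (sU hK i) (D.borelSubgroup F : Set (GL D.Idx F)) (D.borelSubgroup F) := by
  set B := D.borelSubgroup F
  set s := sU (F := F) hK i
  set U : Set (GL D.Idx F) := (B : Set (GL D.Idx F)) ∪ DoubleCoset.doubleCoset s (B : Set (GL D.Idx F)) B
  have hsq : s * s ∈ B := Subgroup.mem_sup_right (hK.sU_sq_mem ⟨i, hi⟩)
  have key : ∀ b ∈ B, s * b * s ∈ U := by
    intro b hb
    rcases hK.bn_axiom hi (hK.sU_mem_monomial hi) hb with h | h
    · obtain ⟨x, hx, y, hy, hxy⟩ := DoubleCoset.mem_doubleCoset.1 h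
      exact Or.inl (hxy ▸ B.mul_mem (B.mul_mem hx hsq) hy)
    · exact Or.inr h
  have hmulB : ∀ g ∈ U, ∀ b ∈ B, g * b ∈ U ∧ b * g ∈ U := by
    rintro g (hg | hg) b hb
    · exact ⟨Or.inl (B.mul_mem hg hb), Or.inl (B.mul_mem hb hg)⟩
    · obtain ⟨x, hx, y, hy, rfl⟩ := DoubleCoset.mem_doubleCoset.1 hg
      refine ⟨Or.inr ?_, Or.inr ?_⟩
      · rw [mul_assoc _ y b]; exact mul_mem_doubleCoset B hx (B.mul_mem hy hb)
      · rw [show b * (x * s * y) = b * x * s * y by group]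
        exact mul_mem_doubleCoset B (B.mul_mem hb hx) hy
  refine ⟨{ carrier := U, one_mem' := Or.inl B.one_mem, mul_mem' := ?_, inv_mem' := ?_ }, rfl⟩
  · rintro g g' (hg | hg) hg'
    · exact (hmulB g' hg' g hg).2
    · obtain ⟨x, hx, y, hy, rfl⟩ := DoubleCoset.mem_doubleCoset.1 hg
      rcases hg' with hg' | hg'
      · exact (hmulB _ (Or.inr (mul_mem_doubleCoset B hx hy)) g' hg').1
      · obtain ⟨x', hx', y', hy', rfl⟩ := DoubleCoset.mem_doubleCoset.1 hg'
        have := (hmulB _ ((hmulB _ (key (y * x') (B.mul_mem hy hx')) x hx).2) y' hy').1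
        rwa [show x * s * y * (x' * s * y') = x * (s * (y * x') * s) * y' by group]
  · rintro g (hg | hg)
    · exact Or.inl (B.inv_mem hg)
    · obtain ⟨x, hx, y, hy, rfl⟩ := DoubleCoset.mem_doubleCoset.1 hg
      refine Or.inr ?_
      rw [show (x * s * y)⁻¹ = (y⁻¹ * (s * s)⁻¹) * s * x⁻¹ by group]
      exact mul_mem_doubleCoset B (B.mul_mem (B.inv_mem hy) (B.inv_mem hsq)) (B.inv_mem hx)

end Fine

end CfsgLib.Chev
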