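import Cfsg.Agent.Chev.Unip

/-!
`U`, `V`, `H` and `B = UH`: order, unipotence, nilpotency, intersections.
-/

set_option autoImplicit false

namespace CfsgLib.Chev

open Cfsg.Lie Matrix

variable {K : Data} {D : ChevalleyDatum} {F : Type*} [Field F]

namespace Fine

theorem posRoots_eq (hK : Fine K D) :
    D.posRoots = List.range' K.npos (D.nroots - K.npos) := by
  have h2 := hK.toGood.nroots_eq_two_mul
  have e : List.range D.nroots = List.range K.npos ++ List.range' K.npos (D.nroots - K.npos) := by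
    conv_rhs => rw [List.range_eq_range', show List.range' K.npos (D.nroots - K.npos) =
      List.range' (0 + K.npos) (D.nroots - K.npos) by rw [Nat.zero_add]]
    rw [List.range'_append_1, List.range_eq_range']
    congr 1
    omega
  unfold ChevalleyDatum.posRoots
  rw [e, List.filter_append, List.filter_eq_nil_iff.2, List.filter_eq_self.2, List.nil_append]
  · intro r hr
    rw [List.mem_range'_1] at hr
    simpa using (hK.toGood.isPosRoot_iff r).2 ⟨hr.1, by omega⟩
  · intro r hr h
    rw [List.mem_range] at hr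
    have := ((hK.toGood.isPosRoot_iff r).1 (by simpa using h)).1
    omega

theorem pos_normal_form (hK : Fine K D) {g : GL D.Idx F} (hg : g ∈ D.posUnipotent F) :
    ∃ t : ℕ → F, (∀ r, ¬ D.IsPosRoot r → t r = 0) ∧ g = ordProd hK K.npos t := by
  rw [hK.posUnipotent_eq] at hg
  obtain ⟨t, ht, hgt⟩ := hK.exists_ordProd hK.closedPos_all _ K.npos rfl g
    (hK.genU_mono (T := {r | r ∈ {r | K.npos ≤ r ∧ r < D.nroots} ∧ K.npos ≤ r})
      (fun r hr => ⟨hr, hr.1⟩) hg)
  refine ⟨t, fun r hr => ht r (Or.inl fun h => hr ((hK.toGood.isPosRoot_iff r).2 h)), hgt⟩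

theorem ordProd_mem_pos (hK : Fine K D) (t : ℕ → F) :
    ordProd hK K.npos t ∈ D.posUnipotent F := by
  rw [hK.posUnipotent_eq]
  exact hK.ordProd_mem fun r h1 h2 => Or.inl ⟨h1, h2⟩

theorem coe_ordProd_pos (hK : Fine K D) (t : ℕ → F) :
    (ordProd hK K.npos t : Matrix D.Idx D.Idx F) =
      D.wordMat F (D.posRoots.map fun r => (r, t r)) := by
  rw [hK.posRoots_eq]; exact coe_wordU hK _

theorem card_pos (hK : Fine K D) [Fintype F] :
    Nat.card (D.posUnipotent F) = Fintype.card F ^ (D.nroots / 2) := by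
  have h2 := hK.toGood.nroots_eq_two_mul
  let ext : (Fin K.npos → F) → ℕ → F := fun v r =>
    if h : K.npos ≤ r ∧ r < D.nroots then v ⟨r - K.npos, by omega⟩ else 0
  let φ : (Fin K.npos → F) → D.posUnipotent F := fun v =>
    ⟨ordProd hK K.npos (ext v), hK.ordProd_mem_pos _⟩
  have hφ : Function.Bijective φ := by
    constructor
    · intro v w h
      funext k
      have hk := k.isLt
      have hkr : K.npos ≤ K.npos + k.val ∧ K.npos + k.val < D.nroots := by omega
      have h' := hK.ordProd_inj _ K.npos rfl le_rfl _ _ (congrArg Subtype.val h) (K.npos + k.val)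
        hkr.1 hkr.2
      simp only [ext, dif_pos hkr, Nat.add_sub_cancel_left] at h'
      exact h'
    · rintro ⟨g, hg⟩
      obtain ⟨t, -, rfl⟩ := hK.pos_normal_form hg
      refine ⟨fun k => t (K.npos + k.val), Subtype.ext ?_⟩
      simp only [φ]
      unfold ordProd
      congr 1
      refine List.map_congr_left fun r hr => ?_
      rw [List.mem_range'_1] at hr
      have hr' : K.npos ≤ r ∧ r < D.nroots := by omega
      simp only [ext, dif_pos hr']
      rw [show K.npos + (r - K.npos) = r by omega]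
  rw [← Nat.card_congr (Equiv.ofBijective φ hφ), Nat.card_fun, Nat.card_fin,
    Nat.card_eq_fintype_card, show D.nroots / 2 = K.npos by omega]

theorem pos_raise (hK : Fine K D) {g : GL D.Idx F} (hg : g ∈ D.posUnipotent F) :
    Raise D K.phi 1 (g : Matrix D.Idx D.Idx F) := by
  rw [hK.posUnipotent_eq] at hg
  refine hK.genU_raise hK.isLin_phi one_pos (fun r hr hrn => ?_) hg
  have := hK.toGood.phi_pos hr.1 hrn
  omega

theorem isLin_neg_phi (hK : Fine K D) : IsLin K D (fun r => - K.phi r) where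
  neg r hr := by rw [hK.isLin_phi.neg r hr]
  chain r hr s hs q hq := by
    rw [hK.isLin_phi.chain r hr s hs q hq, neg_add, smul_neg]

theorem neg_raise (hK : Fine K D) {g : GL D.Idx F} (hg : g ∈ D.negUnipotent F) :
    Raise D (fun r => - K.phi r) 1 (g : Matrix D.Idx D.Idx F) := by
  rw [hK.negUnipotent_eq] at hg
  refine hK.genU_raise hK.isLin_neg_phi one_pos (fun r hr hrn => ?_) hg
  have h2 := hK.toGood.nroots_eq_two_mul
  have hr' : r < K.npos := hr
  have hp := hK.toGood.phi_pos (r := K.neg r)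
    (by rw [hK.toGood.Kneg_eq]; omega) (hK.toGood.Kneg_lt hrn)
  rw [hK.isLin_phi.neg r hrn] at hp
  show (1 : ℤ) ≤ - K.phi r
  omega

theorem wt_neg_phi (D : ChevalleyDatum) (f : ℕ → ℤ) (a : D.Idx) :
    wt D (fun r => - f r) a = - wt D f a := by
  rcases a with i | s <;> simp [wt]

theorem sub_one_pow (hK : Fine K D) {g : GL D.Idx F} (hg : g ∈ D.posUnipotent F) :
    ((g : Matrix D.Idx D.Idx F) - 1) ^ (D.rank + D.nroots) = 0 := by
  obtain ⟨h1, h2⟩ := hK.pos_raise hg
  set N := (g : Matrix D.Idx D.Idx F) - 1 with hN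
  have hlt : ∀ a b, N a b ≠ 0 → wt D K.phi b < wt D K.phi a := by
    intro a b h
    by_cases hab : a = b
    · subst hab; exact absurd (by rw [hN, Matrix.sub_apply, h1, Matrix.one_apply_eq, sub_self]) h
    · rw [hN, Matrix.sub_apply, Matrix.one_apply_ne hab, sub_zero] at h
      have := h2 a b hab h
      omega
  classical
  let o : D.Idx → ℕ := fun a => (Finset.univ.filter fun x => wt D K.phi x < wt D K.phi a).card
  have ho : ∀ a b, wt D K.phi b < wt D K.phi a → o b < o a := by
    intro a b h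
    refine Finset.card_lt_card ⟨fun x hx => ?_, fun hsub => ?_⟩
    · simp only [Finset.mem_filter, Finset.mem_univ, true_and] at hx ⊢
      omega
    · have hb : b ∈ Finset.univ.filter fun x => wt D K.phi x < wt D K.phi a := by simp [h]
      have := hsub hb
      simp at this
  have key : ∀ k a b, (N ^ k) a b ≠ 0 → o b + k ≤ o a := by
    intro k
    induction k with
    | zero =>
      intro a b h
      by_cases hab : a = b
      · subst hab; simp
      · rw [pow_zero, Matrix.one_apply_ne hab] at h; exact absurd rfl h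
    | succ k ih =>
      intro a b h
      rw [pow_succ, Matrix.mul_apply] at h
      obtain ⟨c, -, hc⟩ := Finset.exists_ne_zero_of_sum_ne_zero h
      have g1 := ih a c (left_ne_zero_of_mul hc)
      have g2 := ho c b (hlt c b (right_ne_zero_of_mul hc))
      omega
  ext a b
  by_contra h
  have := key _ a b h
  have hcard : o a < D.rank + D.nroots := by
    have : o a < (Finset.univ : Finset D.Idx).card := by
      refine Finset.card_lt_card ⟨Finset.subset_univ _, fun hsub => ?_⟩
      have := hsub (Finset.mem_univ a)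
      simp at this
    simpa using this
  omega

theorem dmat_diag (χ : ℕ → F) {a b : D.Idx} (hab : a ≠ b) : dmat D χ a b = 0 :=
  Matrix.diagonal_apply_ne _ hab

theorem diagonal_offdiag (hK : Fine K D) {g : GL D.Idx F} (hg : g ∈ D.diagonalSubgroup F)
    {a b : D.Idx} (hab : a ≠ b) : (g : Matrix D.Idx D.Idx F) a b = 0 := by
  obtain ⟨c, rfl⟩ := hK.mem_diagonal_iff.1 hg
  rw [coe_tU]
  exact dmat_diag (F := F) _ hab

theorem pos_inf_diagonal (hK : Fine K D) : D.posUnipotent F ⊓ D.diagonalSubgroup F = ⊥ := by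
  rw [eq_bot_iff]
  rintro g ⟨hu, hh⟩
  rw [Subgroup.mem_bot]
  refine Units.ext ?_
  ext a b
  by_cases hab : a = b
  · subst hab; rw [(hK.pos_raise hu).1, Units.val_one, Matrix.one_apply_eq]
  · rw [hK.diagonal_offdiag hh hab, Units.val_one, Matrix.one_apply_ne hab]

theorem diagonal_le_normalizer_genU (hK : Fine K D) (T : Set ℕ) :
    D.diagonalSubgroup F ≤ Subgroup.normalizer (genU hK F T : Set (GL D.Idx F)) := by
  have key : ∀ h ∈ D.diagonalSubgroup F, ∀ g ∈ genU hK F T, h * g * h⁻¹ ∈ genU hK F T := by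
    intro h hh g hg
    obtain ⟨c, rfl⟩ := hK.mem_diagonal_iff.1 hh
    induction hg using Subgroup.closure_induction with
    | mem x hx =>
      obtain ⟨r, hr, t, rfl⟩ := hx
      by_cases hrn : r < D.nroots
      · rw [hK.tU_conj_xU c hrn]; exact hK.mem_genU hr _
      · rw [xU_of_not_lt hK hrn, mul_one, mul_inv_cancel]; exact one_mem _
    | one => simp
    | mul a b _ _ ha hb => simpa [mul_assoc] using mul_mem ha hb
    | inv a _ ha => simpa [mul_assoc] using inv_mem ha
  intro h hh
  rw [Subgroup.mem_normalizer_iff]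
  refine fun g => ⟨key h hh g, fun hg => ?_⟩
  have := key h⁻¹ (inv_mem hh) _ hg
  have e : h⁻¹ * (h * g * h⁻¹) * h⁻¹⁻¹ = g := by group
  rwa [e] at this

theorem diagonal_le_normalizer_pos (hK : Fine K D) :
    D.diagonalSubgroup F ≤ Subgroup.normalizer (D.posUnipotent F : Set (GL D.Idx F)) := by
  rw [hK.posUnipotent_eq]; exact hK.diagonal_le_normalizer_genU _

theorem diagonal_le_normalizer_neg (hK : Fine K D) :
    D.diagonalSubgroup F ≤ Subgroup.normalizer (D.negUnipotent F : Set (GL D.Idx F)) := by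
  rw [hK.negUnipotent_eq]; exact hK.diagonal_le_normalizer_genU _

theorem mem_borel_iff (hK : Fine K D) {g : GL D.Idx F} :
    g ∈ D.borelSubgroup F ↔ ∃ u ∈ D.posUnipotent F, ∃ h ∈ D.diagonalSubgroup F, g = u * h := by
  constructor
  · intro hg
    have hg' : g ∈ ((D.posUnipotent F ⊔ D.diagonalSubgroup F : Subgroup _) : Set (GL D.Idx F)) := hg
    rw [Subgroup.coe_mul_of_right_le_normalizer_left _ _ hK.diagonal_le_normalizer_pos] at hg'
    obtain ⟨u, hu, h, hh, rfl⟩ := hg'
    exact ⟨u, hu, h, hh, rfl⟩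
  · rintro ⟨u, hu, h, hh, rfl⟩
    exact mul_mem (Subgroup.mem_sup_left hu) (Subgroup.mem_sup_right hh)

theorem borel_raise (hK : Fine K D) {g : GL D.Idx F} (hg : g ∈ D.borelSubgroup F) {a b : D.Idx}
    (hab : a ≠ b) (h : (g : Matrix D.Idx D.Idx F) a b ≠ 0) :
    wt D K.phi b + 1 ≤ wt D K.phi a := by
  obtain ⟨u, hu, t, ht, rfl⟩ := hK.mem_borel_iff.1 hg
  rw [Units.val_mul, Matrix.mul_apply] at h
  obtain ⟨c, -, hc⟩ := Finset.exists_ne_zero_of_sum_ne_zero h
  by_cases hcb : c = b
  · subst hcb; exact (hK.pos_raise hu).2 a c hab (left_ne_zero_of_mul hc)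
  · exact absurd (hK.diagonal_offdiag ht hcb) (right_ne_zero_of_mul hc)

theorem borel_inf_neg (hK : Fine K D) : D.borelSubgroup F ⊓ D.negUnipotent F = ⊥ := by
  rw [eq_bot_iff]
  rintro g ⟨hb, hv⟩
  rw [Subgroup.mem_bot]
  refine Units.ext ?_
  ext a b
  by_cases hab : a = b
  · subst hab; rw [(hK.neg_raise hv).1, Units.val_one, Matrix.one_apply_eq]
  · rw [Units.val_one, Matrix.one_apply_ne hab]
    by_contra h
    have g1 := hK.borel_raise hb hab h
    have g2 := (hK.neg_raise hv).2 a b hab h
    rw [wt_neg_phi, wt_neg_phi] at g2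
    omega

theorem borel_inf_neg_sup_diagonal (hK : Fine K D) :
    D.borelSubgroup F ⊓ (D.negUnipotent F ⊔ D.diagonalSubgroup F) = D.diagonalSubgroup F := by
  refine le_antisymm ?_ (le_inf le_sup_right le_sup_right)
  rintro g ⟨hb, hg⟩
  have hg' : g ∈ ((D.negUnipotent F ⊔ D.diagonalSubgroup F : Subgroup _) : Set (GL D.Idx F)) := hg
  rw [Subgroup.coe_mul_of_right_le_normalizer_left _ _ hK.diagonal_le_normalizer_neg] at hg'
  obtain ⟨v, hv, h, hh, rfl⟩ := hg'
  have hvb : v ∈ D.borelSubgroup F ⊓ D.negUnipotent F := by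
    refine ⟨?_, hv⟩
    have hhB : h ∈ D.borelSubgroup F := Subgroup.mem_sup_right hh
    have := Subgroup.mul_mem _ hb (Subgroup.inv_mem _ hhB)
    simpa using this
  rw [hK.borel_inf_neg, Subgroup.mem_bot] at hvb
  simpa [hvb] using hh

/-- the tail of `U` from the root `a` -/
def tail (hK : Fine K D) (F : Type*) [Field F] (a : ℕ) : Subgroup (GL D.Idx F) :=
  genU hK F {r | (K.npos ≤ r ∧ r < D.nroots) ∧ a ≤ r}

theorem pos_isNilpotent (hK : Fine K D) : Group.IsNilpotent (D.posUnipotent F) := by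
  set P := D.posUnipotent F
  have htail : ∀ a, hK.tail F a ≤ P := by
    intro a
    rw [show P = _ from hK.posUnipotent_eq]
    exact hK.genU_mono fun r hr => hr.1
  have hnorm : ∀ a, ∀ g ∈ P, g ∈ Subgroup.normalizer (hK.tail F a : Set (GL D.Idx F)) := by
    intro a
    show P ≤ _
    rw [show P = _ from hK.posUnipotent_eq, genU, Subgroup.closure_le]
    rintro g ⟨r, ⟨hr, hrn⟩, t, rfl⟩
    refine hK.xU_mem_normalizer hrn (fun s hs hsn => ?_) t
    refine Or.inr ⟨hK.pos_ne_neg hr hrn hs.1.1, fun c hc => ?_⟩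
    have := hK.comm_gt hrn hsn hr hs.1.1 hc
    exact ⟨⟨le_trans hr this.1.le, this.2.2⟩, le_trans hs.2 this.2.1.le⟩
  -- commutators raise the level
  have hcomm : ∀ a, ∀ x ∈ hK.tail F a, ∀ y ∈ P, x * y * x⁻¹ * y⁻¹ ∈ hK.tail F (a + 1) := by
    intro a
    have hN : ∀ g ∈ P, ∀ z ∈ hK.tail F (a + 1), g * z * g⁻¹ ∈ hK.tail F (a + 1) :=
      fun g hg z hz => (Subgroup.mem_normalizer_iff.1 (hnorm (a + 1) g hg) z).1 hz
    intro x hx
    induction hx using Subgroup.closure_induction with
    | mem x hx =>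
      obtain ⟨s, hs, u, rfl⟩ := hx
      intro y hy
      have hxP : xU hK s u ∈ P := htail a (hK.mem_genU hs u)
      rw [show P = _ from hK.posUnipotent_eq] at hy
      induction hy using Subgroup.closure_induction with
      | mem y hy =>
        obtain ⟨r, ⟨hr, hrn⟩, t, rfl⟩ := hy
        by_cases hsr : s = r
        · subst hsr
          rw [xU_inv, xU_inv, xU_mul, xU_mul, xU_mul, show u + t + -u + -t = 0 by ring, xU_zero]
          exact one_mem _
        · have hf := hK.conj_formula hrn hs.1.2 hsr (hK.pos_ne_neg hr hrn hs.1.1) t u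
          have hw : wordU hK (D.commWord F r s t u) ∈ hK.tail F (a + 1) := by
            refine hK.commWord_mem hrn hs.1.2 (fun c hc => ?_) t u
            have := hK.comm_gt hrn hs.1.2 hr hs.1.1 hc
            exact ⟨⟨le_trans hr this.1.le, this.2.2⟩, Nat.succ_le_of_lt (lt_of_le_of_lt hs.2 this.2.1)⟩
          have hrP : xU hK r t ∈ P := hK.xU_mem_pos hr t
          have h1 := hN _ (mul_mem (inv_mem (inv_mem hrP)) hxP) _ hw
          have e : xU hK s u * xU hK r t * (xU hK s u)⁻¹ * (xU hK r t)⁻¹ =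
              (xU hK r t)⁻¹⁻¹ * xU hK s u * wordU hK (D.commWord F r s t u) *
                ((xU hK r t)⁻¹⁻¹ * xU hK s u)⁻¹ := by
            rw [inv_inv, mul_assoc (xU hK r t) (xU hK s u) _, ← hf]; group
          rwa [e]
      | one => simp
      | mul y z hy hz h1 h2 =>
        have hyP : y ∈ P := by rw [show P = _ from hK.posUnipotent_eq]; exact hy
        have e : xU hK s u * (y * z) * (xU hK s u)⁻¹ * (y * z)⁻¹ =
            (xU hK s u * y * (xU hK s u)⁻¹ * y⁻¹) *
              (y * (xU hK s u * z * (xU hK s u)⁻¹ * z⁻¹) * y⁻¹) := by group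
        rw [e]; exact mul_mem h1 (hN y hyP _ h2)
      | inv y hy h1 =>
        have hyP : y ∈ P := by rw [show P = _ from hK.posUnipotent_eq]; exact hy
        have e : xU hK s u * y⁻¹ * (xU hK s u)⁻¹ * y⁻¹⁻¹ =
            y⁻¹ * (xU hK s u * y * (xU hK s u)⁻¹ * y⁻¹)⁻¹ * y⁻¹⁻¹ := by group
        rw [e]; exact hN _ (inv_mem hyP) _ (inv_mem h1)
    | one => intro y _; simp
    | mul x z hx hz h1 h2 =>
      intro y hy
      have hxP : x ∈ P := htail a hx
      have e : x * z * y * (x * z)⁻¹ * y⁻¹ =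
          (x * (z * y * z⁻¹ * y⁻¹) * x⁻¹) * (x * y * x⁻¹ * y⁻¹) := by group
      rw [e]; exact mul_mem (hN x hxP _ (h2 y hy)) (h1 y hy)
    | inv x hx h1 =>
      intro y hy
      have hxP : x ∈ P := htail a hx
      have e : x⁻¹ * y * x⁻¹⁻¹ * y⁻¹ = x⁻¹ * (x * y * x⁻¹ * y⁻¹)⁻¹ * x⁻¹⁻¹ := by group
      rw [e]; exact hN _ (inv_mem hxP) _ (inv_mem (h1 y hy))
  rw [Subgroup.isNilpotent_iff_lowerCentralSeries]
  refine ⟨D.nroots, ?_⟩
  have hle : ∀ k, P.lowerCentralSeries k ≤ hK.tail F k := by
    intro k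
    induction k with
    | zero =>
      rw [Subgroup.lowerCentralSeries_zero, show P = _ from hK.posUnipotent_eq]
      exact hK.genU_mono fun r hr => ⟨hr, Nat.zero_le r⟩
    | succ k ih =>
      rw [Subgroup.lowerCentralSeries_succ, Subgroup.commutator_le]
      intro x hx y hy
      rw [commutatorElement_def]
      exact hcomm k x (ih hx) y hy
  rw [eq_bot_iff]
  refine (hle D.nroots).trans ?_
  rw [tail, genU, Subgroup.closure_le]
  rintro g ⟨r, hr, t, rfl⟩
  have := hr.1.2
  have := hr.2
  omega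

end Fine

end CfsgLib.Chev

namespace CfsgLib.Chev

open Cfsg.Lie

namespace Fine

variable {K : Data} {D : ChevalleyDatum} {F : Type*} [Field F]

theorem borel_isSolvable (hK : Fine K D) : Group.IsSolvable ↥(D.borelSubgroup F) := by
  have hn : D.posUnipotent F ≤ D.borelSubgroup F := le_sup_left
  haveI hnorm : ((D.posUnipotent F).subgroupOf (D.borelSubgroup F)).Normal :=
    (Subgroup.normal_subgroupOf_iff_le_normalizer hn).2
      (sup_le Subgroup.le_normalizer hK.diagonal_le_normalizer_pos)
  haveI hnil : Group.IsNilpotent ↥(D.posUnipotent F) := hK.pos_isNilpotent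
  haveI hsU : Group.IsSolvable ↥((D.posUnipotent F).subgroupOf (D.borelSubgroup F)) :=
    solvable_of_solvable_injective (f := (Subgroup.subgroupOfEquivOfLe hn).toMonoidHom)
      (MulEquiv.injective _)
  haveI hcomm : Group.IsSolvable
      (↥(D.borelSubgroup F) ⧸ (D.posUnipotent F).subgroupOf (D.borelSubgroup F)) := by
    refine isSolvable_of_comm fun a b => ?_
    induction a using QuotientGroup.induction_on with
    | _ x =>
      induction b using QuotientGroup.induction_on with
      | _ y =>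
        obtain ⟨u, hu, h, hh, hx⟩ := hK.mem_borel_iff.1 x.2
        obtain ⟨v, hv, k, hk, hy⟩ := hK.mem_borel_iff.1 y.2
        have ex : (x : ↥(D.borelSubgroup F) ⧸ (D.posUnipotent F).subgroupOf (D.borelSubgroup F)) =
            ((⟨h, Subgroup.mem_sup_right hh⟩ : ↥(D.borelSubgroup F)) : _) := by
          refine (QuotientGroup.eq.2 ?_).symm
          rw [Subgroup.mem_subgroupOf, Subgroup.coe_mul, Subgroup.coe_inv, hx]
          have := (Subgroup.mem_normalizer_iff.1 (hK.diagonal_le_normalizer_pos (inv_mem hh)) u).1 hu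
          simpa [mul_assoc] using this
        have ey : (y : ↥(D.borelSubgroup F) ⧸ (D.posUnipotent F).subgroupOf (D.borelSubgroup F)) =
            ((⟨k, Subgroup.mem_sup_right hk⟩ : ↥(D.borelSubgroup F)) : _) := by
          refine (QuotientGroup.eq.2 ?_).symm
          rw [Subgroup.mem_subgroupOf, Subgroup.coe_mul, Subgroup.coe_inv, hy]
          have := (Subgroup.mem_normalizer_iff.1 (hK.diagonal_le_normalizer_pos (inv_mem hk)) v).1 hv
          simpa [mul_assoc] using this
        rw [ex, ey, ← QuotientGroup.mk_mul, ← QuotientGroup.mk_mul]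
        congr 1
        refine Subtype.ext ?_
        obtain ⟨c, rfl⟩ := hK.mem_diagonal_iff.1 hh
        obtain ⟨d, rfl⟩ := hK.mem_diagonal_iff.1 hk
        simp only [Subgroup.coe_mul]
        rw [← tU_mul, ← tU_mul, mul_comm c d]
  exact solvable_of_ker_le_range ((D.posUnipotent F).subgroupOf (D.borelSubgroup F)).subtype
    (QuotientGroup.mk' ((D.posUnipotent F).subgroupOf (D.borelSubgroup F))) (by simp)

end Fine

end CfsgLib.Chev
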