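import Cfsg.Agent.Chev.Weyl

/-!
Linear functions transported by the Weyl group; inversion sets; orders of unipotent subgroups.
-/

set_option autoImplicit false

namespace CfsgLib.Chev

open Cfsg.Lie Matrix

variable {K : Data} {D : ChevalleyDatum} {F : Type*} [Field F]

/-- the image of a root index under a permutation of the roots -/
def permNat (σ : Equiv.Perm (Fin D.nroots)) (r : ℕ) : ℕ :=
  if h : r < D.nroots then (σ ⟨r, h⟩).val else r

theorem permNat_fin (σ : Equiv.Perm (Fin D.nroots)) (r : Fin D.nroots) :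
    permNat σ r.val = (σ r).val := by simp [permNat, r.isLt]

theorem permNat_lt {σ : Equiv.Perm (Fin D.nroots)} {r : ℕ} (hr : r < D.nroots) :
    permNat σ r < D.nroots := by simp [permNat, hr]

/-- positive roots made negative -/
def invSet (K : Data) (D : ChevalleyDatum) (σ : Equiv.Perm (Fin D.nroots)) : Set ℕ :=
  {r | (K.npos ≤ r ∧ r < D.nroots) ∧ permNat σ r < K.npos}

/-- positive roots kept positive -/
def keepSet (K : Data) (D : ChevalleyDatum) (σ : Equiv.Perm (Fin D.nroots)) : Set ℕ :=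
  {r | (K.npos ≤ r ∧ r < D.nroots) ∧ K.npos ≤ permNat σ r}

namespace Fine

theorem isLin_comp_w (hK : Fine K D) {M : Type*} [AddCommGroup M] {f : ℕ → M} (hf : IsLin K D f)
    {i : ℕ} (hi : i < D.rank) : IsLin K D (fun r => f (K.w i r)) where
  neg r hr := by rw [hK.toGood.w_neg hi hr, hf.neg _ (hK.toGood.w_lt hi hr)]
  chain r hr s hs q hq := by
    have hG := hK.toGood
    have hq' := hq
    rw [← hG.fits.chain_eq r hr s hs, chainCol] at hq'
    simp only [List.mem_flatMap, List.mem_filter, decide_eq_true_eq] at hq'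
    obtain ⟨e, ⟨he, hes⟩, -⟩ := hq'
    have hc := hG.conjChk i hi r hr
    simp only [Data.conjOK, Bool.and_eq_true, List.all_eq_true, List.mem_range] at hc
    have hk := hc.2 e he
    rw [hes] at hk
    simp only [Data.conjKeyOK, Bool.and_eq_true] at hk
    have heq := colEq_sound hk.2
    have hu : q.1 - D.rank < D.nroots := by
      have := hG.chainTerms_mem hr hs hq
      simp only [dim] at this
      omega
    have hmap : ∀ L : List (ℕ × ℕ × ℤ), q ∈ L → ∃ z : ℤ, (D.rank + K.w i (q.1 - D.rank), q.2.1, z) ∈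
        List.rec (motive := fun _ => List (ℕ × ℕ × ℤ)) []
          (fun q _ ih =>
            (Nat.add K.l (K.w i (Nat.sub q.1 K.l)), q.2.1,
              Int.mul (Int.mul (K.eta i (Nat.sub q.1 K.l)) q.2.2)
                (Int.mul (K.eta i s) (Data.ipow (K.eta i r) q.2.1))) :: ih) L := by
      intro L hL
      induction L with
      | nil => simp at hL
      | cons a L ih =>
        rcases List.mem_cons.1 hL with rfl | hL
        · refine ⟨Int.mul (Int.mul (K.eta i (Nat.sub q.1 K.l)) q.2.2)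
            (Int.mul (K.eta i s) (Data.ipow (K.eta i r) q.2.1)), List.mem_cons.2 (Or.inl ?_)⟩
          rw [hG.l_eq]
          rfl
        · obtain ⟨z, hz⟩ := ih hL
          exact ⟨z, List.mem_cons_of_mem _ hz⟩
    obtain ⟨z, hz⟩ := hmap _ hq
    rw [← heq] at hz
    have := hf.chain _ (hG.w_lt hi hr) _ (hG.w_lt hi hs) _ hz
    simpa using this

theorem isLin_comp_wPerm (hK : Fine K D) {M : Type*} [AddCommGroup M] :
    ∀ (L : List (Fin D.rank)) {f : ℕ → M}, IsLin K D f →
      IsLin K D (fun r => f (permNat (wPerm hK L) r))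
  | [], f, hf => by
    have : ∀ r, r < D.nroots → f (permNat (wPerm hK []) r) = f r := fun r hr => by
      simp [permNat, hr, wPerm]
    refine ⟨fun r hr => ?_, fun r hr s hs q hq => ?_⟩
    · rw [this _ (hK.toGood.Kneg_lt hr), this _ hr, hf.neg r hr]
    · have hu : q.1 - D.rank < D.nroots := by
        have := hK.toGood.chainTerms_mem hr hs hq
        simp only [dim] at this
        omega
      rw [this _ hr, this _ hs, this _ hu, hf.chain r hr s hs q hq]
  | i :: L, f, hf => by
    have h := hK.isLin_comp_wPerm L (hK.isLin_comp_w hf i.isLt)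
    have : ∀ r, r < D.nroots →
        f (permNat (wPerm hK (i :: L)) r) = f (K.w i.val (permNat (wPerm hK L) r)) := fun r hr => by
      simp [permNat, hr, hK.wPerm_cons, sPerm_val]
    refine ⟨fun r hr => ?_, fun r hr s hs q hq => ?_⟩
    · rw [this _ (hK.toGood.Kneg_lt hr), this _ hr]; exact h.neg r hr
    · have hu : q.1 - D.rank < D.nroots := by
        have := hK.toGood.chainTerms_mem hr hs hq
        simp only [dim] at this
        omega
      rw [this _ hr, this _ hs, this _ hu]; exact h.chain r hr s hs q hq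

theorem phi_nonneg_iff (hK : Fine K D) {r : ℕ} (hr : r < D.nroots) :
    (0 < K.phi r ↔ K.npos ≤ r) ∧ (K.phi r < 0 ↔ r < K.npos) := by
  rcases Nat.lt_or_ge r K.npos with h | h
  · have h2 := hK.toGood.nroots_eq_two_mul
    have := hK.toGood.phi_pos (r := K.neg r) (by rw [hK.toGood.Kneg_eq]; omega) (hK.toGood.Kneg_lt hr)
    rw [hK.isLin_phi.neg r hr] at this
    exact ⟨⟨fun h' => by omega, fun h' => by omega⟩, ⟨fun _ => h, fun _ => by omega⟩⟩
  · have := hK.toGood.phi_pos h hr
    exact ⟨⟨fun _ => h, fun _ => this⟩, ⟨fun h' => by omega, fun h' => by omega⟩⟩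

theorem comm_perm_sign (hK : Fine K D) (L : List (Fin D.rank)) {r s : ℕ} (hr : r < D.nroots)
    (hs : s < D.nroots) {c : ℕ × ℤ × ℕ × ℕ} (hc : c ∈ K.comm r s) :
    (permNat (wPerm hK L) r < K.npos → permNat (wPerm hK L) s < K.npos →
      permNat (wPerm hK L) c.1 < K.npos) ∧
    (K.npos ≤ permNat (wPerm hK L) r → K.npos ≤ permNat (wPerm hK L) s →
      K.npos ≤ permNat (wPerm hK L) c.1) := by
  have h := hK.comm_weight (hK.isLin_comp_wPerm L hK.isLin_phi) hr hs hc
  simp only [nsmul_eq_mul] at h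
  obtain ⟨hc1, h2, h3⟩ := hK.toGood.comm_mem hr hs hc
  have a1 : (1 : ℤ) ≤ (c.2.2.1 : ℤ) := by exact_mod_cast h2
  have a2 : (1 : ℤ) ≤ (c.2.2.2 : ℤ) := by exact_mod_cast h3
  refine ⟨fun g1 g2 => ?_, fun g1 g2 => ?_⟩
  · have g1' := (hK.phi_nonneg_iff (permNat_lt hr)).2.2 g1
    have g2' := (hK.phi_nonneg_iff (permNat_lt hs)).2.2 g2
    exact (hK.phi_nonneg_iff (permNat_lt hc1)).2.1 (by nlinarith)
  · have g1' := (hK.phi_nonneg_iff (permNat_lt hr)).1.2 g1
    have g2' := (hK.phi_nonneg_iff (permNat_lt hs)).1.2 g2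
    exact (hK.phi_nonneg_iff (permNat_lt hc1)).1.1 (by nlinarith)

theorem closedPos_invSet (hK : Fine K D) (L : List (Fin D.rank)) :
    ClosedPos hK (invSet K D (wPerm hK L)) where
  pos r hr := hr.1
  closed r hr s hs c hc := by
    have := hK.comm_gt hr.1.2 hs.1.2 hr.1.1 hs.1.1 hc
    exact ⟨⟨le_trans hr.1.1 this.1.le, this.2.2⟩,
      (hK.comm_perm_sign L hr.1.2 hs.1.2 hc).1 hr.2 hs.2⟩

theorem closedPos_keepSet (hK : Fine K D) (L : List (Fin D.rank)) :
    ClosedPos hK (keepSet K D (wPerm hK L)) where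
  pos r hr := hr.1
  closed r hr s hs c hc := by
    have := hK.comm_gt hr.1.2 hs.1.2 hr.1.1 hs.1.1 hc
    exact ⟨⟨le_trans hr.1.1 this.1.le, this.2.2⟩,
      (hK.comm_perm_sign L hr.1.2 hs.1.2 hc).2 hr.2 hs.2⟩

theorem card_genU (hK : Fine K D) [Fintype F] {S : Set ℕ} (hS : ClosedPos hK S) :
    Nat.card (genU hK F S) = Fintype.card F ^ Nat.card S := by
  classical
  let φ : (S → F) → genU hK F S := fun v =>
    ⟨ordProd hK K.npos (fun r => if h : r ∈ S then v ⟨r, h⟩ else 0),
      hK.ordProd_mem fun r _ _ => if h : r ∈ S then Or.inl h else Or.inr (by simp [h])⟩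
  have hφ : Function.Bijective φ := by
    constructor
    · intro v w h
      funext ⟨r, hr⟩
      have h' := hK.ordProd_inj _ K.npos rfl le_rfl _ _ (congrArg Subtype.val h) r
        (hS.pos r hr).1 (hS.pos r hr).2
      simpa [hr] using h'
    · rintro ⟨g, hg⟩
      obtain ⟨t, ht, rfl⟩ := hK.exists_ordProd hS _ K.npos rfl g
        (hK.genU_mono (T := {r | r ∈ S ∧ K.npos ≤ r}) (fun r hr => ⟨hr, (hS.pos r hr).1⟩) hg)
      refine ⟨fun r => t r.val, Subtype.ext ?_⟩
      simp only [φ]
      unfold ordProd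
      congr 1
      refine List.map_congr_left fun r _ => ?_
      by_cases h : r ∈ S
      · simp [h]
      · simp [h, ht r (Or.inl h)]
  have hfin : S.Finite := (Set.finite_Iio D.nroots).subset fun r hr => (hS.pos r hr).2
  have := hfin.fintype
  rw [← Nat.card_congr (Equiv.ofBijective φ hφ), Nat.card_fun, Nat.card_eq_fintype_card (α := F)]

/-- `U = U⁺ U⁻` for a permutation -/
theorem pos_factor (hK : Fine K D) (L : List (Fin D.rank)) {g : GL D.Idx F}
    (hg : g ∈ D.posUnipotent F) :
    ∃ p ∈ genU hK F (keepSet K D (wPerm hK L)), ∃ m ∈ genU hK F (invSet K D (wPerm hK L)),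
      g = p * m := by
  have key : ∀ (k a : ℕ), D.nroots - a = k → K.npos ≤ a →
      ∀ g ∈ genU hK F {r | (K.npos ≤ r ∧ r < D.nroots) ∧ a ≤ r},
      ∃ p ∈ genU hK F (keepSet K D (wPerm hK L)), ∃ m ∈ genU hK F (invSet K D (wPerm hK L)),
        g = p * m := by
    intro k
    induction k with
    | zero =>
      intro a ha _ g hg
      refine ⟨1, Subgroup.one_mem _, 1, Subgroup.one_mem _, ?_⟩
      have : g ∈ (⊥ : Subgroup (GL D.Idx F)) := by
        refine (Subgroup.closure_le _).2 ?_ hg
        rintro x ⟨r, hr, t, rfl⟩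
        have := hr.1.2
        have := hr.2
        omega
      rw [Subgroup.mem_bot] at this
      rw [this, mul_one]
    | succ k ih =>
      intro a ha hpos g hg
      have han : a < D.nroots := by omega
      have hnorm : ∀ t, xU hK a t ∈
          Subgroup.normalizer (genU hK F {r | (K.npos ≤ r ∧ r < D.nroots) ∧ a + 1 ≤ r} :
            Set (GL D.Idx F)) := by
        intro t
        refine hK.xU_mem_normalizer han (fun s hs hsn => ?_) t
        refine Or.inr ⟨hK.pos_ne_neg hpos han hs.1.1, fun c hc => ?_⟩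
        have := hK.comm_gt han hsn hpos hs.1.1 hc
        exact ⟨⟨le_trans hpos this.1.le, this.2.2⟩, this.1⟩
      obtain ⟨t, -, rfl⟩ := hK.exists_ordProd hK.closedPos_all _ a rfl g hg
      rw [hK.ordProd_step han]
      have hy : ordProd hK (a + 1) t ∈
          genU hK F {r | (K.npos ≤ r ∧ r < D.nroots) ∧ a + 1 ≤ r} :=
        hK.ordProd_mem fun r h1 h2 => Or.inl ⟨⟨le_trans hpos (by omega), h2⟩, h1⟩
      by_cases hs : K.npos ≤ permNat (wPerm hK L) a
      · obtain ⟨p, hp, m, hm, e⟩ := ih (a + 1) (by omega) (by omega) _ hy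
        refine ⟨xU hK a (t a) * p, Subgroup.mul_mem _ (hK.mem_genU ?_ _) hp, m, hm, by
          rw [e, mul_assoc]⟩
        exact ⟨⟨hpos, han⟩, hs⟩
      · have hy' := (Subgroup.mem_normalizer_iff.1 (hnorm (t a)) _).1 hy
        obtain ⟨p, hp, m, hm, e⟩ := ih (a + 1) (by omega) (by omega) _ hy'
        refine ⟨p, hp, m * xU hK a (t a), Subgroup.mul_mem _ hm (hK.mem_genU ?_ _), by
          rw [← mul_assoc, ← e]; group⟩
        exact ⟨⟨hpos, han⟩, Nat.lt_of_not_le hs⟩
  rw [hK.posUnipotent_eq] at hg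
  exact key _ K.npos rfl le_rfl g
    (hK.genU_mono (T := {r | (K.npos ≤ r ∧ r < D.nroots) ∧ K.npos ≤ r}) (fun r hr => ⟨hr, hr.1⟩) hg)

end Fine

end CfsgLib.Chev
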