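import Cfsg.Agent.Chev.BN
import Cfsg.Agent.Chev.Inv
import Cfsg.Agent.Base.BNPairProps

/-!
The Bruhat normal form of a Chevalley group and the resulting order formula.
-/

set_option autoImplicit false

namespace CfsgLib.Chev

open Cfsg.Lie Matrix

variable {K : Data} {D : ChevalleyDatum} {F : Type*} [Field F]

/-- the group of permutations of the roots generated by the reflections -/
noncomputable def weylGrp (hK : Fine K D) : Subgroup (Equiv.Perm (Fin D.nroots)) :=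
  Subgroup.closure (Set.range (sPerm hK))

namespace Fine

theorem mem_weylGrp_iff (hK : Fine K D) {σ : Equiv.Perm (Fin D.nroots)} :
    σ ∈ weylGrp hK ↔ ∃ L : List (Fin D.rank), wPerm hK L = σ := by
  constructor
  · intro h
    induction h using Subgroup.closure_induction_left with
    | one => exact ⟨[], rfl⟩
    | mul_left x hx y _ hy =>
      obtain ⟨i, rfl⟩ := hx
      obtain ⟨L, rfl⟩ := hy
      exact ⟨i :: L, hK.wPerm_cons i L⟩
    | inv_mul_cancel x hx y _ hy =>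
      obtain ⟨i, rfl⟩ := hx
      obtain ⟨L, rfl⟩ := hy
      exact ⟨i :: L, by rw [hK.wPerm_cons, hK.sPerm_inv]⟩
  · rintro ⟨L, rfl⟩
    refine Subgroup.list_prod_mem _ fun x hx => ?_
    obtain ⟨i, -, rfl⟩ := List.mem_map.1 hx
    exact Subgroup.subset_closure ⟨i, rfl⟩

theorem sWord_mem_monomial (hK : Fine K D) (L : List (Fin D.rank)) :
    sWord hK F L ∈ D.monomialSubgroup F := by
  refine Subgroup.list_prod_mem _ fun x hx => ?_
  obtain ⟨i, -, rfl⟩ := List.mem_map.1 hx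
  exact hK.sU_mem_monomial i.isLt

theorem conj_root_le_neg_iff (hK : Fine K D) {n : GL D.Idx F}
    {σ : Equiv.Perm (Fin D.nroots)} (hn : Moves hK n σ) {r : ℕ} (hr : r < D.nroots) :
    (D.rootSubgroup F r).map (MulAut.conj n).toMonoidHom ≤ D.negUnipotent F ↔
      permNat σ r < K.npos := by
  obtain ⟨a, ha⟩ := hn ⟨r, hr⟩
  have e : permNat σ r = (σ ⟨r, hr⟩).val := by simp [permNat, hr]
  constructor
  · intro h
    by_contra hpos
    have hmem : xU hK (σ ⟨r, hr⟩).val ((a : F) * 1) ∈ D.negUnipotent F := by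
      rw [← ha 1]
      exact h ⟨xU hK r 1, hK.xU_mem_rootSubgroup r 1, rfl⟩
    have hb : xU hK (σ ⟨r, hr⟩).val ((a : F) * 1) ∈ D.borelSubgroup F :=
      hK.xU_mem_borel (by omega) _
    have : xU hK (σ ⟨r, hr⟩).val ((a : F) * 1) ∈ D.borelSubgroup F ⊓ D.negUnipotent F := ⟨hb, hmem⟩
    rw [hK.borel_inf_neg, Subgroup.mem_bot] at this
    exact mul_ne_zero a.ne_zero one_ne_zero ((hK.xU_eq_one_iff (σ ⟨r, hr⟩).isLt _).1 this)
  · intro h
    rintro x ⟨y, hy, rfl⟩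
    obtain ⟨t, rfl⟩ := hK.mem_rootSubgroup_iff.1 hy
    show n * xU hK r t * n⁻¹ ∈ _
    rw [ha t]
    exact hK.xU_mem_neg (by omega) _

theorem closure_minus_eq (hK : Fine K D) {n : GL D.Idx F} {σ : Equiv.Perm (Fin D.nroots)}
    (hn : Moves hK n σ) :
    Subgroup.closure {x : GL D.Idx F | ∃ (r : ℕ) (t : F), D.IsPosRoot r ∧
      (D.rootSubgroup F r).map (MulAut.conj n).toMonoidHom ≤ D.negUnipotent F ∧
        (x : Matrix D.Idx D.Idx F) = D.x F r t} = genU hK F (invSet K D σ) := by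
  unfold genU invSet
  congr 1
  ext x
  constructor
  · rintro ⟨r, t, hr, hle, hx⟩
    have hr' := (hK.toGood.isPosRoot_iff r).1 hr
    exact ⟨r, ⟨hr', (hK.conj_root_le_neg_iff hn hr'.2).1 hle⟩, t, eq_xU hK hx⟩
  · rintro ⟨r, ⟨hr, hlt⟩, t, rfl⟩
    exact ⟨r, t, (hK.toGood.isPosRoot_iff r).2 hr, (hK.conj_root_le_neg_iff hn hr.2).2 hlt,
      coe_xU hK r t⟩

theorem conj_genU_le (hK : Fine K D) {n : GL D.Idx F} {σ : Equiv.Perm (Fin D.nroots)}
    (hn : Moves hK n σ) {S T : Set ℕ} (h : ∀ r ∈ S, r < D.nroots ∧ permNat σ r ∈ T)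
    {g : GL D.Idx F} (hg : g ∈ genU hK F S) : n * g * n⁻¹ ∈ genU hK F T := by
  induction hg using Subgroup.closure_induction with
  | mem x hx =>
    obtain ⟨r, hr, t, rfl⟩ := hx
    obtain ⟨hrn, hrT⟩ := h r hr
    obtain ⟨a, ha⟩ := hn ⟨r, hrn⟩
    rw [ha t]
    refine hK.mem_genU ?_ _
    rwa [← permNat_fin]
  | one => simp
  | mul a b _ _ ha hb => simpa [mul_assoc] using Subgroup.mul_mem _ ha hb
  | inv a _ ha => simpa [mul_assoc] using Subgroup.inv_mem _ ha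

theorem invSet_le_pos (hK : Fine K D) (σ : Equiv.Perm (Fin D.nroots)) :
    genU hK F (invSet K D σ) ≤ D.posUnipotent F := by
  rw [hK.posUnipotent_eq]; exact hK.genU_mono fun r hr => hr.1

theorem conj_invSet_mem_neg (hK : Fine K D) {n : GL D.Idx F} {σ : Equiv.Perm (Fin D.nroots)}
    (hn : Moves hK n σ) {g : GL D.Idx F} (hg : g ∈ genU hK F (invSet K D σ)) :
    n * g * n⁻¹ ∈ D.negUnipotent F := by
  rw [hK.negUnipotent_eq]
  exact hK.conj_genU_le hn (fun r hr => ⟨hr.1.2, hr.2⟩) hg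

theorem conj_keepSet_mem_pos (hK : Fine K D) {n : GL D.Idx F} {σ : Equiv.Perm (Fin D.nroots)}
    (hn : Moves hK n σ) {g : GL D.Idx F} (hg : g ∈ genU hK F (keepSet K D σ)) :
    n * g * n⁻¹ ∈ D.posUnipotent F := by
  rw [hK.posUnipotent_eq]
  exact hK.conj_genU_le hn (T := {r | K.npos ≤ r ∧ r < D.nroots})
    (fun r hr => ⟨hr.1.2, hr.2, permNat_lt hr.1.2⟩) hg

theorem coset_normal_form (hK : Fine K D) (L : List (Fin D.rank)) {n : GL D.Idx F}
    (hn : n ∈ D.monomialSubgroup F) (hm : Moves hK n (wPerm hK L)) {b b' : GL D.Idx F}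
    (hb : b ∈ D.borelSubgroup F) (hb' : b' ∈ D.borelSubgroup F) :
    ∃ c ∈ D.borelSubgroup F, ∃ u ∈ genU hK F (invSet K D (wPerm hK L)), b * n * b' = c * n * u := by
  obtain ⟨v, hv, h, hh, rfl⟩ := hK.mem_borel_iff.1 hb'
  set v' := h⁻¹ * v * h with hv'
  have hv'U : v' ∈ D.posUnipotent F := by
    have := (Subgroup.mem_normalizer_iff.1
      (hK.diagonal_le_normalizer_pos (Subgroup.inv_mem _ hh)) v).1 hv
    simpa [hv'] using this
  obtain ⟨p, hp, m, hmm, e⟩ := hK.pos_factor L hv'U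
  have h1 : n * h * n⁻¹ ∈ D.borelSubgroup F := Subgroup.mem_sup_right
    ((Subgroup.mem_normalizer_iff.1 (hK.monomial_le_normalizer_diagonal hn) h).1 hh)
  have h2 : n * p * n⁻¹ ∈ D.borelSubgroup F := Subgroup.mem_sup_left (hK.conj_keepSet_mem_pos hm hp)
  refine ⟨b * (n * h * n⁻¹) * (n * p * n⁻¹),
    Subgroup.mul_mem _ (Subgroup.mul_mem _ hb h1) h2, m, hmm, ?_⟩
  have : v * h = h * (p * m) := by rw [← e, hv']; group
  rw [this]; group

theorem normal_form_exists (hK : Fine K D) {g : GL D.Idx F} (hg : g ∈ D.group F) :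
    ∃ b ∈ D.borelSubgroup F, ∃ L : List (Fin D.rank),
      ∃ u ∈ genU hK F (invSet K D (wPerm hK L)), g = b * sWord hK F L * u := by
  obtain ⟨n, hn⟩ := CfsgLib.Base.BN.exists_rep (hK.bnPair F) ⟨g, hg⟩
  obtain ⟨b, hb, c, hc, e⟩ := (CfsgLib.Base.BN.mem_C (hK.bnPair F)).1 hn
  have hnN : ((n : ↥(D.group F)) : GL D.Idx F) ∈ D.monomialSubgroup F :=
    Subgroup.mem_subgroupOf.1 n.2
  obtain ⟨L, t, ht, hnt⟩ := hK.exists_sWord hnN
  have hbt : (b : GL D.Idx F) * t ∈ D.borelSubgroup F :=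
    Subgroup.mul_mem _ (Subgroup.mem_subgroupOf.1 hb) (Subgroup.mem_sup_right ht)
  obtain ⟨c', hc', u, hu, e'⟩ := hK.coset_normal_form L (hK.sWord_mem_monomial L)
    (hK.moves_sWord L) hbt (Subgroup.mem_subgroupOf.1 hc)
  refine ⟨c', hc', L, u, hu, ?_⟩
  rw [← e', show g = (b : GL D.Idx F) * (n : ↥(D.group F)) * c from congrArg Subtype.val e, hnt]
  group

theorem normal_form_index (hK : Fine K D) {b b' n n' u u' : GL D.Idx F}
    (hb : b ∈ D.borelSubgroup F) (hb' : b' ∈ D.borelSubgroup F)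
    (hn : n ∈ D.monomialSubgroup F) (hn' : n' ∈ D.monomialSubgroup F)
    (hu : u ∈ D.posUnipotent F) (hu' : u' ∈ D.posUnipotent F) (h : b * n * u = b' * n' * u') :
    n⁻¹ * n' ∈ D.diagonalSubgroup F := by
  have hG := hK.monomial_le_group (F := F)
  set P := hK.bnPair F
  let m : P.N := ⟨⟨n, hG hn⟩, Subgroup.mem_subgroupOf.2 hn⟩
  let m' : P.N := ⟨⟨n', hG hn'⟩, Subgroup.mem_subgroupOf.2 hn'⟩
  have hu2 : u ∈ D.borelSubgroup F := Subgroup.mem_sup_left hu
  have hu2' : u' ∈ D.borelSubgroup F := Subgroup.mem_sup_left hu'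
  have hmem : ∀ {x : GL D.Idx F} (hx : x ∈ D.borelSubgroup F),
      (⟨x, hK.borel_le_group hx⟩ : ↥(D.group F)) ∈ P.B := fun hx => Subgroup.mem_subgroupOf.2 hx
  have hC : (⟨b, hK.borel_le_group hb⟩ * ⟨n, hG hn⟩ * ⟨u, hK.borel_le_group hu2⟩ : ↥(D.group F)) ∈
      CfsgLib.Base.BN.C P (CfsgLib.Base.BN.π P m) :=
    (CfsgLib.Base.BN.mem_C P).2 ⟨_, hmem hb, _, hmem hu2, rfl⟩
  have hC' : (⟨b, hK.borel_le_group hb⟩ * ⟨n, hG hn⟩ * ⟨u, hK.borel_le_group hu2⟩ : ↥(D.group F)) ∈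
      CfsgLib.Base.BN.C P (CfsgLib.Base.BN.π P m') :=
    (CfsgLib.Base.BN.mem_C P).2 ⟨_, hmem hb', _, hmem hu2', Subtype.ext h⟩
  have := Subgroup.mem_subgroupOf.1
    ((CfsgLib.Base.BN.π_eq P).1 (CfsgLib.Base.BN.eq_of_mem P hC hC'))
  rw [← hK.borel_inf_monomial]
  exact ⟨this, Subgroup.mul_mem _ (Subgroup.inv_mem _ hn) hn'⟩

theorem normal_form_factors (hK : Fine K D) {b b' n u u' : GL D.Idx F}
    {σ : Equiv.Perm (Fin D.nroots)} (hm : Moves hK n σ)
    (hb : b ∈ D.borelSubgroup F) (hb' : b' ∈ D.borelSubgroup F)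
    (hu : u ∈ genU hK F (invSet K D σ)) (hu' : u' ∈ genU hK F (invSet K D σ))
    (h : b * n * u = b' * n * u') : b = b' ∧ u = u' := by
  have e : b'⁻¹ * b = n * (u' * u⁻¹) * n⁻¹ := by
    calc b'⁻¹ * b = b'⁻¹ * (b * n * u) * (n * u)⁻¹ := by group
      _ = _ := by rw [h]; group
  have hmem : b'⁻¹ * b ∈ D.borelSubgroup F ⊓ D.negUnipotent F :=
    ⟨Subgroup.mul_mem _ (Subgroup.inv_mem _ hb') hb,
      e ▸ hK.conj_invSet_mem_neg hm (Subgroup.mul_mem _ hu' (Subgroup.inv_mem _ hu))⟩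
  rw [hK.borel_inf_neg, Subgroup.mem_bot] at hmem
  have hbb : b = b' := (inv_mul_eq_one.1 hmem).symm
  exact ⟨hbb, by subst hbb; exact mul_left_cancel h⟩

/-- a word for an element of the Weyl group -/
noncomputable def wordOf (hK : Fine K D) (σ : weylGrp hK) : List (Fin D.rank) :=
  (hK.mem_weylGrp_iff.1 σ.2).choose

theorem wPerm_wordOf (hK : Fine K D) (σ : weylGrp hK) :
    wPerm hK (hK.wordOf σ) = σ.val := (hK.mem_weylGrp_iff.1 σ.2).choose_spec

theorem card_borel (hK : Fine K D) :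
    Nat.card (D.borelSubgroup F) =
      Nat.card (D.posUnipotent F) * Nat.card (D.diagonalSubgroup F) := by
  rw [← Nat.card_prod]
  refine Nat.card_congr (Equiv.ofBijective
    (fun x : D.posUnipotent F × D.diagonalSubgroup F => (⟨x.1.val * x.2.val,
      hK.mem_borel_iff.2 ⟨_, x.1.2, _, x.2.2, rfl⟩⟩ : D.borelSubgroup F)) ⟨?_, ?_⟩).symm
  · intro x y h
    have h' : x.1.val * x.2.val = y.1.val * y.2.val := congrArg Subtype.val h
    have hmem : y.1.val⁻¹ * x.1.val ∈ D.posUnipotent F ⊓ D.diagonalSubgroup F := by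
      refine ⟨Subgroup.mul_mem _ (Subgroup.inv_mem _ y.1.2) x.1.2, ?_⟩
      rw [show y.1.val⁻¹ * x.1.val = y.2.val * x.2.val⁻¹ by
        rw [eq_mul_inv_iff_mul_eq, mul_assoc, h', inv_mul_cancel_left]]
      exact Subgroup.mul_mem _ y.2.2 (Subgroup.inv_mem _ x.2.2)
    rw [hK.pos_inf_diagonal, Subgroup.mem_bot] at hmem
    have h1 : x.1 = y.1 := Subtype.ext (inv_mul_eq_one.1 hmem).symm
    refine Prod.ext h1 (Subtype.ext ?_)
    rw [h1] at h'
    exact mul_left_cancel h'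
  · rintro ⟨g, hg⟩
    obtain ⟨u, hu, t, ht, rfl⟩ := hK.mem_borel_iff.1 hg
    exact ⟨(⟨u, hu⟩, ⟨t, ht⟩), rfl⟩

theorem card_group_sum (hK : Fine K D) [Fintype F] [Fintype (weylGrp hK)] :
    Nat.card (D.group F) = Nat.card (D.borelSubgroup F) *
      ∑ σ : weylGrp hK, Fintype.card F ^ Nat.card (invSet K D σ.val) := by
  classical
  let f : (Σ σ : weylGrp hK, D.borelSubgroup F × genU hK F (invSet K D σ.val)) → D.group F :=
    fun x => ⟨x.2.1.val * sWord hK F (hK.wordOf x.1) * x.2.2.val,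
      Subgroup.mul_mem _ (Subgroup.mul_mem _ (hK.borel_le_group x.2.1.2)
        (hK.monomial_le_group (hK.sWord_mem_monomial _))) (hK.genU_le_group _ x.2.2.2)⟩
  have hf : Function.Bijective f := by
    constructor
    · rintro ⟨σ, b, u⟩ ⟨τ, b', u'⟩ h
      have h' : b.val * sWord hK F (hK.wordOf σ) * u.val =
          b'.val * sWord hK F (hK.wordOf τ) * u'.val := congrArg Subtype.val h
      have hH := hK.normal_form_index b.2 b'.2 (hK.sWord_mem_monomial _) (hK.sWord_mem_monomial _)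
        (hK.invSet_le_pos _ u.2) (hK.invSet_le_pos _ u'.2) h'
      have e := hK.moves_unique (hK.moves_diagonal hH)
        (hK.moves_mul (hK.moves_inv (hK.moves_sWord (hK.wordOf σ))) (hK.moves_sWord (hK.wordOf τ)))
      rw [hK.wPerm_wordOf, hK.wPerm_wordOf] at e
      obtain rfl : σ = τ := Subtype.ext (inv_mul_eq_one.1 e.symm)
      obtain ⟨h1, h2⟩ := hK.normal_form_factors (σ := σ.val)
        (by rw [← hK.wPerm_wordOf σ]; exact hK.moves_sWord _) b.2 b'.2 u.2 u'.2 h'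
      rw [Subtype.ext h1, Subtype.ext h2]
    · rintro ⟨g, hg⟩
      obtain ⟨b, hb, L, u, hu, rfl⟩ := hK.normal_form_exists hg
      let σ : weylGrp hK := ⟨wPerm hK L, hK.mem_weylGrp_iff.2 ⟨L, rfl⟩⟩
      have hH : sWord hK F L * (sWord hK F (hK.wordOf σ))⁻¹ ∈ D.diagonalSubgroup F := by
        refine hK.mem_diagonal_of_moves_one
          (Subgroup.mul_mem _ (hK.sWord_mem_monomial _) (Subgroup.inv_mem _ (hK.sWord_mem_monomial _))) ?_
        have := hK.moves_mul (hK.moves_sWord (F := F) L)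
          (hK.moves_inv (hK.moves_sWord (hK.wordOf σ)))
        rwa [hK.wPerm_wordOf σ, mul_inv_cancel] at this
      refine ⟨⟨σ, ⟨b * (sWord hK F L * (sWord hK F (hK.wordOf σ))⁻¹),
        Subgroup.mul_mem _ hb (Subgroup.mem_sup_right hH)⟩, ⟨u, hu⟩⟩, Subtype.ext ?_⟩
      show b * (sWord hK F L * (sWord hK F (hK.wordOf σ))⁻¹) * sWord hK F (hK.wordOf σ) * u = _
      group
  rw [← Nat.card_congr (Equiv.ofBijective f hf), Nat.card_sigma, Finset.mul_sum]
  refine Finset.sum_congr rfl fun σ _ => ?_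
  rw [Nat.card_prod, ← hK.wPerm_wordOf σ, hK.card_genU (hK.closedPos_invSet (hK.wordOf σ))]

end Fine

end CfsgLib.Chev
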