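import Cfsg.Agent.Chev.Checks2

/-! Checkers for centralisers of products of root elements of extremal roots. -/

set_option autoImplicit false

namespace CfsgLib.Chev.Data

variable (K : Data)

/-- membership in a set of roots given as a bit mask -/
noncomputable def inMask (S r : ℕ) : Bool := !(Nat.beq ((S >>> r) &&& 1) 0)

/-- the root `r` is the top of the orbit `S` -/
noncomputable def topOrbitOK (r S : ℕ) : Bool :=
  Nat.ble K.npos r && Nat.blt r K.n && inMask S r &&
  ((List.range K.n).all fun s => !(inMask S s) ||
    (decide (K.phi s ≤ K.phi r) && (List.range K.l).all fun i => inMask S (K.w i s))) &&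
  (List.range K.l).all fun i => Nat.beq (K.w i r) r ||
    (K.tab.chainTerms (K.p i) (K.w i r)).any fun q => Nat.beq q.1 (K.l + r)

/-- the roots `R` commute with the positive roots and with `- p_i` for `i` in `J`; `J` is their stabiliser -/
noncomputable def centOK (R J : List ℕ) : Bool :=
  (R.all fun r =>
    (List.range K.n).all fun s =>
      !(Nat.ble K.npos s || J.any fun i => Nat.beq s (K.neg (K.p i))) || Nat.beq s r ||
        (!(Nat.beq s (K.neg r)) && (K.comm r s).all fun c => Nat.beq (c.2.1.natAbs % 2) 0)) &&
  (J.all fun i => Nat.blt i K.l && R.all fun r => Nat.beq (K.w i r) r) &&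
  (List.range K.l).all fun i => J.contains i || R.any fun r =>
    !(Nat.beq (K.w i r) r) &&
      (List.range K.l).all fun k => intEq (K.tab.A k r) (bif Nat.beq k i then 1 else 0)

end CfsgLib.Chev.Data
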