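import Cfsg.Agent.Chev.CentCheck
import Cfsg.Agent.Chev.Bruhat

/-!
Centralisers of products of root elements for roots on top of their orbits (characteristic 2 signs).
-/

set_option autoImplicit false

namespace CfsgLib.Chev

open Cfsg.Lie

variable {K : Data} {D : ChevalleyDatum} {F : Type*} [Field F]

/-- the subgroup `U ⊔ ⟨X_{-p_i} : i ∈ J⟩` -/
noncomputable def centSub (hK : Fine K D) (F : Type*) [Field F] (J : List ℕ) :
    Subgroup (GL D.Idx F) :=
  D.posUnipotent F ⊔ genU hK F {s | ∃ i ∈ J, s = K.neg (K.p i)}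

/-- the product of the root elements with parameter one -/
noncomputable def topElt (hK : Fine K D) (F : Type*) [Field F] (R : List ℕ) : GL D.Idx F :=
  wordU hK (R.map fun r => (r, (1 : F)))

namespace Fine

theorem ordProd_zero (hK : Fine K D) {t : ℕ → F} : ∀ (k a : ℕ), D.nroots - a = k →
    (∀ r, a ≤ r → r < D.nroots → t r = 0) → ordProd hK a t = 1 := by
  intro k
  induction k with
  | zero => intro a ha _; exact ordProd_top hK (by omega) t
  | succ k ih =>
    intro a ha h
    rw [hK.ordProd_step (by omega), h a le_rfl (by omega), xU_zero, one_mul]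
    exact ih (a + 1) (by omega) fun r h1 h2 => h r (by omega) h2

theorem ordProd_at (hK : Fine K D) {t : ℕ → F} {r : ℕ} (hr : r < D.nroots) : ∀ (k a : ℕ), r - a = k →
    a ≤ r → (∀ x, a ≤ x → x < r → t x = 0) →
      ordProd hK a t = xU hK r (t r) * ordProd hK (r + 1) t := by
  intro k
  induction k with
  | zero =>
    intro a ha hle _
    obtain rfl : a = r := by omega
    exact hK.ordProd_step hr t
  | succ k ih =>
    intro a ha hle h
    rw [hK.ordProd_step (by omega), h a le_rfl (by omega), xU_zero, one_mul]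
    exact ih (a + 1) (by omega) (by omega) fun x h1 h2 => h x (by omega) h2

theorem ordProd_pair (hK : Fine K D) {a r s : ℕ} (hr : a ≤ r) (hrs : r < s) (hs : s < D.nroots)
    (α β : F) :
    ordProd hK a (fun x => if x = r then α else if x = s then β else 0) =
      xU hK r α * xU hK s β := by
  rw [hK.ordProd_at (by omega) _ a rfl hr fun x h1 h2 => by
    rw [if_neg (by omega), if_neg (by omega)]]
  rw [hK.ordProd_at hs _ (r + 1) rfl (by omega) fun x h1 h2 => by
    rw [if_neg (by omega), if_neg (by omega)]]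
  rw [hK.ordProd_zero _ (s + 1) rfl fun x h1 h2 => by rw [if_neg (by omega), if_neg (by omega)]]
  simp [Ne.symm (Nat.ne_of_lt hrs)]

theorem commute_of_comm_nil (hK : Fine K D) {r s : ℕ} (hr : r < D.nroots) (hs : s < D.nroots)
    (hsr : s ≠ r) (hneg : s ≠ K.neg r) [CharP F 2] (hc : ∀ c ∈ K.comm r s, c.2.1.natAbs % 2 = 0) (t u : F) :
    Commute (xU hK r t) (xU hK s u) := by
  have h := hK.conj_formula (F := F) hr hs hsr hneg t u
  have h0 : wordU hK (D.commWord F r s t u) = 1 := by
    refine List.prod_eq_one fun x hx => ?_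
    obtain ⟨p, hp, rfl⟩ := List.mem_map.1 hx
    simp only [ChevalleyDatum.commWord, hK.toGood.commTerms_eq hr hs, List.mem_map] at hp
    obtain ⟨c, hcm, rfl⟩ := hp
    have hz : (c.2.1 : F) = 0 := by
      rw [CharP.intCast_eq_zero_iff F 2]
      exact Int.natAbs_dvd_natAbs.1 (by simpa using Nat.dvd_of_mod_eq_zero (hc c hcm))
    simp [hz, xU_zero]
  rw [h0, mul_one] at h
  show xU hK r t * xU hK s u = xU hK s u * xU hK r t
  calc xU hK r t * xU hK s u = xU hK r t * ((xU hK r t)⁻¹ * xU hK s u * xU hK r t) := by rw [h]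
    _ = _ := by group

section Cent

variable {R J : List ℕ}

theorem cent_facts (hK : Fine K D) (h : K.centOK R J = true) :
    (∀ r ∈ R, ∀ s < D.nroots, (K.npos ≤ s ∨ ∃ i ∈ J, s = K.neg (K.p i)) → s ≠ r →
      s ≠ K.neg r ∧ ∀ c ∈ K.comm r s, c.2.1.natAbs % 2 = 0) ∧
    (∀ i ∈ J, i < D.rank ∧ ∀ r ∈ R, K.w i r = r) ∧
    ∀ i < D.rank, i ∈ J ∨ ∃ r ∈ R, K.w i r ≠ r ∧
      ∀ k < D.rank, K.tab.A k r = if k = i then 1 else 0 := by
  simp only [Data.centOK, Bool.and_eq_true, List.all_eq_true, List.any_eq_true, Bool.or_eq_true,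
    Bool.not_eq_true', Nat.blt_eq, List.mem_range, List.contains_iff_mem,
    intEq_iff, hK.toGood.l_eq, hK.toGood.n_eq] at h
  obtain ⟨⟨h1, h2⟩, h3⟩ := h
  refine ⟨fun r hr s hs hs' hne => ?_, fun i hi => ⟨(h2 i hi).1, fun r hr =>
    Nat.eq_of_beq_eq_true ((h2 i hi).2 r hr)⟩, fun i hi => ?_⟩
  · rcases h1 r hr s hs with (h' | h') | ⟨h', h''⟩
    · rw [Bool.or_eq_false_iff] at h'
      rcases hs' with hs' | ⟨i, hi, e⟩
      · exact absurd (Nat.ble_eq_true_of_le hs') (by rw [h'.1]; simp)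
      · have : (J.any fun i => Nat.beq s (K.neg (K.p i))) = true :=
          List.any_eq_true.2 ⟨i, hi, e ▸ Nat.beq_refl _⟩
        rw [h'.2] at this
        exact absurd this (by simp)
    · exact absurd (Nat.eq_of_beq_eq_true h') hne
    · exact ⟨fun e => by rw [e] at h'; simp [Nat.beq_refl] at h',
        fun c hc => Nat.eq_of_beq_eq_true (h'' c hc)⟩
  · rcases h3 i hi with h' | ⟨r, hr, h', h''⟩
    · exact Or.inl h'
    · refine Or.inr ⟨r, hr, fun e => by rw [e] at h'; simp [Nat.beq_refl] at h', fun k hk => ?_⟩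
      rw [h'' k hk]
      by_cases hki : k = i
      · simp [hki]
      · rw [show Nat.beq k i = false from by rw [Bool.eq_false_iff]; simpa using hki]
        simp [hki]

theorem mem_topOrbit (hK : Fine K D) {r S : ℕ} (h : K.topOrbitOK r S = true) :
    (K.npos ≤ r ∧ r < D.nroots) ∧ Data.inMask S r = true ∧
    (∀ s < D.nroots, Data.inMask S s = true →
      K.phi s ≤ K.phi r ∧ ∀ i < D.rank, Data.inMask S (K.w i s) = true) ∧
    ∀ i < D.rank, K.w i r ≠ r → ∃ q ∈ K.tab.chainTerms (K.p i) (K.w i r), q.1 = D.rank + r := by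
  simp only [Data.topOrbitOK, Bool.and_eq_true, List.all_eq_true, List.any_eq_true, Bool.or_eq_true,
    Bool.not_eq_true', Nat.blt_eq, Nat.ble_eq, List.mem_range, decide_eq_true_eq,
    hK.toGood.l_eq, hK.toGood.n_eq] at h
  obtain ⟨⟨⟨⟨h1, h2⟩, h3⟩, h4⟩, h5⟩ := h
  refine ⟨⟨h1, h2⟩, h3, fun s hs hm => ?_, fun i hi hne => ?_⟩
  · rcases h4 s hs with h | h
    · rw [hm] at h; simp at h
    · exact h
  · rcases h5 i hi with h | ⟨q, hq, h⟩
    · exact absurd (Nat.eq_of_beq_eq_true h) hne
    · exact ⟨q, hq, Nat.eq_of_beq_eq_true h⟩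

theorem orbit_wPerm (hK : Fine K D) {r S : ℕ} (h : K.topOrbitOK r S = true) :
    ∀ (L : List (Fin D.rank)) (s : Fin D.nroots), Data.inMask S s.val = true →
      Data.inMask S (wPerm hK L s).val = true
  | [], s, hs => by simpa [wPerm] using hs
  | i :: L, s, hs => by
    rw [hK.wPerm_cons, Equiv.Perm.mul_apply, sPerm_val]
    exact ((hK.mem_topOrbit h).2.2.1 _ (wPerm hK L s).isLt (hK.orbit_wPerm h L s hs)).2 i.val i.isLt

theorem fix_simple (hK : Fine K D) {r S : ℕ} (h : K.topOrbitOK r S = true) (L : List (Fin D.rank))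
    (hfix : permNat (wPerm hK L) r = r) {j : Fin D.rank}
    (hj : (wPerm hK L (pFin hK j)).val < K.npos) : K.w j.val r = r := by
  obtain ⟨⟨hp, hr⟩, hrS, hS, hchain⟩ := hK.mem_topOrbit h
  by_contra hne
  obtain ⟨q, hq, hqr⟩ := hchain j.val j.isLt hne
  have hG := hK.toGood
  have hw := hG.w_lt j.isLt hr
  have hlin := hK.isLin_comp_wPerm L hK.isLin_phi
  have e := hlin.chain _ (hG.p_lt j.isLt) _ hw q hq
  rw [hqr, Nat.add_sub_cancel_left, hfix, nsmul_eq_mul] at e
  have hk : (1 : ℤ) ≤ (q.2.1 : ℤ) := by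
    exact_mod_cast (hG.chainTerms_mem (hG.p_lt j.isLt) hw hq).2.2
  have hneg : K.phi (permNat (wPerm hK L) (K.p j.val)) < 0 := by
    refine (hK.phi_nonneg_iff (permNat_lt (hG.p_lt j.isLt))).2.2 ?_
    rw [show K.p j.val = (pFin hK j).val from rfl, permNat_fin]
    exact hj
  have hle : K.phi (permNat (wPerm hK L) (K.w j.val r)) ≤ K.phi r := by
    refine (hS _ (permNat_lt hw) ?_).1
    rw [show permNat (wPerm hK L) (K.w j.val r) = (wPerm hK L ⟨K.w j.val r, hw⟩).val from
      permNat_fin _ ⟨_, hw⟩]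
    exact hK.orbit_wPerm h L _ ((hS r hr hrS).2 j.val j.isLt)
  nlinarith

theorem stab_word (hK : Fine K D) (hc : K.centOK R J = true)
    (hR : ∀ r ∈ R, ∃ S, K.topOrbitOK r S = true) : ∀ (m : ℕ) (L : List (Fin D.rank)), L.length ≤ m →
      (∀ r ∈ R, permNat (wPerm hK L) r = r) →
      sWord hK F L ∈ D.diagonalSubgroup F ⊔ Subgroup.closure {g | ∃ i ∈ J, g = sU hK i} := by
  intro m
  induction m with
  | zero =>
    intro L hL _
    rw [List.length_eq_zero_iff.1 (Nat.le_zero.1 hL)]
    exact Subgroup.one_mem _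
  | succ m ih =>
    intro L hL hfix
    by_cases h1 : wPerm hK L = 1
    · exact Subgroup.mem_sup_left (hK.sWord_mem_diagonal L.length L le_rfl h1)
    obtain ⟨j, hj⟩ := hK.exists_descent L.length L le_rfl h1
    have hw : ∀ r ∈ R, K.w j.val r = r := fun r hr => by
      obtain ⟨S, hS⟩ := hR r hr
      exact hK.fix_simple hS L (hfix r hr) hj
    have hjJ : j.val ∈ J := by
      rcases (hK.cent_facts hc).2.2 j.val j.isLt with h | ⟨r, hr, hne, -⟩
      · exact h
      · exact absurd (hw r hr) hne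
    obtain ⟨L', hlen, hperm, t, ht, hword⟩ := hK.exchange_word (F := F) L j hj
    have hfix' : ∀ r ∈ R, permNat (wPerm hK L') r = r := fun r hr => by
      obtain ⟨S, hS⟩ := hR r hr
      have hrn := (hK.mem_topOrbit hS).1.2
      have e : sPerm hK j ⟨r, hrn⟩ = ⟨r, hrn⟩ := Fin.ext (hw r hr)
      have := hfix r hr
      rw [show permNat (wPerm hK L') r = (wPerm hK L' ⟨r, hrn⟩).val from permNat_fin _ ⟨r, hrn⟩,
        hperm, Equiv.Perm.mul_apply, e]
      rwa [show permNat (wPerm hK L) r = (wPerm hK L ⟨r, hrn⟩).val from permNat_fin _ ⟨r, hrn⟩] at this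
    have hm := ih L' (by omega) hfix'
    rw [show sWord hK F L = t * sWord hK F L' * (sU hK j.val)⁻¹ from eq_mul_inv_iff_mul_eq.2 hword]
    exact Subgroup.mul_mem _ (Subgroup.mul_mem _ (Subgroup.mem_sup_left ht) hm)
      (Subgroup.inv_mem _ (Subgroup.mem_sup_right (Subgroup.subset_closure ⟨j.val, hjJ, rfl⟩)))

theorem xU_commute_top (hK : Fine K D) [CharP F 2] (hc : K.centOK R J = true) (hR : ∀ r ∈ R, r < D.nroots)
    {s : ℕ} (hs : K.npos ≤ s ∨ ∃ i ∈ J, s = K.neg (K.p i)) (u : F) :
    Commute (xU hK s u) (topElt hK F R) := by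
  refine Commute.list_prod_right _ _ fun x hx => ?_
  obtain ⟨p, hp, rfl⟩ := List.mem_map.1 hx
  obtain ⟨r, hr, rfl⟩ := List.mem_map.1 hp
  by_cases hsn : s < D.nroots
  · by_cases hsr : s = r
    · subst hsr
      show xU hK s u * xU hK s 1 = xU hK s 1 * xU hK s u
      rw [xU_mul, xU_mul, add_comm]
    · obtain ⟨h1, h2⟩ := (hK.cent_facts hc).1 r hr s hsn hs hsr
      exact (hK.commute_of_comm_nil (hR r hr) hsn hsr h1 h2 1 u).symm
  · rw [xU_of_not_lt hK hsn]; exact Commute.one_left _

theorem sU_mem_centSub (hK : Fine K D) {i : ℕ} (hiJ : i ∈ J) (hi : i < D.rank) :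
    sU hK i ∈ centSub hK F J := by
  have hG := hK.toGood
  refine Subgroup.list_prod_mem _ fun x hx => ?_
  obtain ⟨p, hp, rfl⟩ := List.mem_map.1 hx
  simp only [ChevalleyDatum.nWord, List.mem_cons, List.not_mem_nil, or_false, hG.simple_eq hi,
    hG.neg_eq (hG.p_lt hi), ← hG.Kneg_eq] at hp
  have hpos : ∀ t : F, xU hK (K.p i) t ∈ centSub hK F J := fun t => Subgroup.mem_sup_left (by
    rw [hK.posUnipotent_eq]
    exact hK.mem_genU (T := {r | K.npos ≤ r ∧ r < D.nroots}) ⟨hG.npos_le_p hi, hG.p_lt hi⟩ t)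
  have hneg : ∀ t : F, xU hK (K.neg (K.p i)) t ∈ centSub hK F J := fun t =>
    Subgroup.mem_sup_right (hK.mem_genU (T := {s | ∃ i ∈ J, s = K.neg (K.p i)}) ⟨i, hiJ, rfl⟩ t)
  rcases hp with rfl | rfl | rfl
  · exact hpos _
  · exact hneg _
  · exact hpos _

theorem torus_mem_centSub (hK : Fine K D) (c : ℕ → Fˣ) (hcJ : ∀ i < D.rank, i ∈ J ∨ c i = 1) :
    tU K D c ∈ centSub hK F J := by
  have hG := hK.toGood
  rw [show (tU K D c : GL D.Idx F) =
    wordU hK ((List.range D.rank).flatMap fun i => D.hWord (D.simple i) (c i : F)) from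
      eq_wordU hK (hK.wordMat_hWords c).symm]
  have key : ∀ L : List ℕ, (∀ i ∈ L, i < D.rank) →
      wordU hK (L.flatMap fun i => D.hWord (D.simple i) (c i : F)) ∈ centSub hK F J := by
    intro L hL
    induction L with
    | nil => exact Subgroup.one_mem _
    | cons i L ih =>
      rw [List.flatMap_cons, wordU, List.map_append, List.prod_append]
      refine Subgroup.mul_mem _ ?_ (ih fun j hj => hL j (List.mem_cons_of_mem _ hj))
      have hi := hL i (by simp)
      rcases hcJ i hi with hiJ | hc1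
      · refine Subgroup.list_prod_mem _ fun x hx => ?_
        obtain ⟨p, hp, rfl⟩ := List.mem_map.1 hx
        simp only [ChevalleyDatum.hWord, ChevalleyDatum.nWord, List.cons_append, List.nil_append,
          List.mem_cons, List.not_mem_nil, or_false, hG.simple_eq hi,
          hG.neg_eq (hG.p_lt hi), ← hG.Kneg_eq] at hp
        have hpos : ∀ t : F, xU hK (K.p i) t ∈ centSub hK F J := fun t => Subgroup.mem_sup_left (by
          rw [hK.posUnipotent_eq]
          exact hK.mem_genU (T := {r | K.npos ≤ r ∧ r < D.nroots}) ⟨hG.npos_le_p hi, hG.p_lt hi⟩ t)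
        have hneg : ∀ t : F, xU hK (K.neg (K.p i)) t ∈ centSub hK F J := fun t =>
          Subgroup.mem_sup_right
            (hK.mem_genU (T := {s | ∃ i ∈ J, s = K.neg (K.p i)}) ⟨i, hiJ, rfl⟩ t)
        rcases hp with rfl | rfl | rfl | rfl | rfl | rfl <;> first | exact hpos _ | exact hneg _
      · have e : wordU hK (D.hWord (D.simple i) (c i : F)) = 1 := by
          refine Units.ext ?_
          rw [coe_wordU, hc1, Units.val_one, Units.val_one]
          have := hK.hMat_eq (F := F) (r := D.simple i) (by rw [hG.simple_eq hi]; exact hG.p_lt hi)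
            one_ne_zero
          rw [ChevalleyDatum.hMat] at this
          rw [this, ← dmat_one (D := D)]
          exact dmat_congr fun s _ => one_zpow _
        rw [show ((D.hWord (D.simple i) (c i : F)).map fun p => xU hK p.1 p.2).prod = 1 from e]
        exact Subgroup.one_mem _
  exact key _ fun i hi => List.mem_range.1 hi

/-- the centraliser of the product of top root elements in characteristic two -/
theorem centralizer_top (hK : Fine K D) [CharP F 2] (hc : K.centOK R J = true)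
    (hR : ∀ r ∈ R, ∃ S, K.topOrbitOK r S = true)
    (huniq : ∀ (L : List (Fin D.rank)) (a : ℕ → F), (∀ r ∈ R, a r ≠ 0) →
      wordU hK (R.map fun r => (permNat (wPerm hK L) r, a r)) = topElt hK F R →
      ∀ r ∈ R, permNat (wPerm hK L) r = r ∧ a r = 1) :
    D.group F ⊓ Subgroup.centralizer {topElt hK F R} = centSub hK F J := by
  classical
  have hG := hK.toGood
  have hRn : ∀ r ∈ R, r < D.nroots := fun r hr => by
    obtain ⟨S, hS⟩ := hR r hr; exact (hK.mem_topOrbit hS).1.2
  have hUc : ∀ x ∈ centSub hK F J, Commute x (topElt hK F R) := by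
    have hle : centSub hK F J ≤ Subgroup.centralizer {topElt hK F R} := by
      refine sup_le ?_ ?_
      · rw [hK.posUnipotent_eq, genU, Subgroup.closure_le]
        rintro g ⟨s, hs, u, rfl⟩
        exact Subgroup.mem_centralizer_singleton_iff.2
          (hK.xU_commute_top hc hRn (Or.inl hs.1) u).eq
      · rw [genU, Subgroup.closure_le]
        rintro g ⟨s, hs, u, rfl⟩
        exact Subgroup.mem_centralizer_singleton_iff.2
          (hK.xU_commute_top hc hRn (Or.inr hs) u).eq
    exact fun x hx => Subgroup.mem_centralizer_singleton_iff.1 (hle hx)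
  refine le_antisymm ?_ ?_
  swap
  · refine le_inf (sup_le hK.posUnipotent_le_group (hK.genU_le_group _)) fun x hx => ?_
    exact Subgroup.mem_centralizer_singleton_iff.2 (hUc x hx).eq
  rintro g ⟨hg, hgc⟩
  obtain ⟨b, hb, L, u, hu, rfl⟩ := hK.normal_form_exists hg
  obtain ⟨v, hv, h, hh, rfl⟩ := hK.mem_borel_iff.1 hb
  have huU : u ∈ centSub hK F J := Subgroup.mem_sup_left (hK.invSet_le_pos _ hu)
  have hvU : v ∈ centSub hK F J := Subgroup.mem_sup_left hv
  have hm : Commute (h * sWord hK F L) (topElt hK F R) := by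
    have h1 : Commute (v⁻¹ * (v * h * sWord hK F L * u) * u⁻¹) (topElt hK F R) :=
      ((hUc v hvU).inv_left.mul_left (Subgroup.mem_centralizer_singleton_iff.1 hgc)).mul_left
        (hUc u huU).inv_left
    rwa [show v⁻¹ * (v * h * sWord hK F L * u) * u⁻¹ = h * sWord hK F L by group] at h1
  -- image of the product
  have hmv : Moves hK (h * sWord hK F L) (wPerm hK L) := by
    simpa using hK.moves_mul (hK.moves_diagonal hh) (hK.moves_sWord L)
  have hex : ∀ r, ∃ a : F, a ≠ 0 ∧ (r < D.nroots →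
      h * sWord hK F L * xU hK r 1 * (h * sWord hK F L)⁻¹ = xU hK (permNat (wPerm hK L) r) a) := by
    intro r
    by_cases hr : r < D.nroots
    · obtain ⟨a, ha⟩ := hmv ⟨r, hr⟩
      refine ⟨a, a.ne_zero, fun _ => ?_⟩
      rw [show permNat (wPerm hK L) r = (wPerm hK L ⟨r, hr⟩).val from permNat_fin _ ⟨r, hr⟩]
      simpa using ha 1
    · exact ⟨1, one_ne_zero, fun hr' => absurd hr' hr⟩
  choose a ha0 ha using hex
  have hconj : ∀ T : List ℕ, (∀ r ∈ T, r < D.nroots) →
      h * sWord hK F L * wordU hK (T.map fun r => (r, (1 : F))) * (h * sWord hK F L)⁻¹ =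
        wordU hK (T.map fun r => (permNat (wPerm hK L) r, a r)) := by
    intro T hT
    induction T with
    | nil => simp [wordU]
    | cons r T ih =>
      have e1 : ∀ (p : ℕ × F) (w : List (ℕ × F)), wordU hK (p :: w) = xU hK p.1 p.2 * wordU hK w :=
        fun p w => by simp [wordU]
      rw [List.map_cons, List.map_cons, e1, e1, ← ha r (hT r (by simp)),
        ← ih fun x hx => hT x (List.mem_cons_of_mem _ hx)]
      group
  have himg := huniq L a (fun r _ => ha0 r) (by
    rw [← hconj R hRn]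
    rw [show wordU hK (R.map fun r => (r, (1 : F))) = topElt hK F R from rfl, hm.eq,
      mul_inv_cancel_right])
  have hfix : ∀ r ∈ R, permNat (wPerm hK L) r = r := fun r hr => (himg r hr).1
  -- scalars
  have hS : Subgroup.closure {g : GL D.Idx F | ∃ i ∈ J, g = sU hK i} ≤ centSub hK F J := by
    refine (Subgroup.closure_le _).2 ?_
    rintro g ⟨i, hi, rfl⟩
    exact hK.sU_mem_centSub hi ((hK.cent_facts hc).2.1 i hi).1
  have hSN : Subgroup.closure {g : GL D.Idx F | ∃ i ∈ J, g = sU hK i} ≤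
      Subgroup.normalizer (D.diagonalSubgroup F : Set (GL D.Idx F)) := by
    refine (Subgroup.closure_le _).2 ?_
    rintro g ⟨i, hi, rfl⟩
    exact hK.monomial_le_normalizer_diagonal (hK.sU_mem_monomial ((hK.cent_facts hc).2.1 i hi).1)
  have hmem := hK.stab_word (F := F) hc hR L.length L le_rfl hfix
  rw [sup_comm, ← SetLike.mem_coe, Subgroup.coe_mul_of_left_le_normalizer_right _ _ hSN] at hmem
  obtain ⟨z, hz, d, hd, hzd⟩ := hmem
  have hzd' : z * d = sWord hK F L := hzd
  set h' := z⁻¹ * h * z * d with hh'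
  have hh'H : h' ∈ D.diagonalSubgroup F := by
    refine Subgroup.mul_mem _ ?_ hd
    have := (Subgroup.mem_normalizer_iff.1 (Subgroup.inv_mem _ (hSN hz)) h).1 hh
    rwa [inv_inv] at this
  have hhz : h * sWord hK F L = z * h' := by rw [← hzd', hh']; group
  have hzC := hUc z (hS hz)
  have hh'c : Commute h' (topElt hK F R) := by
    have := hzC.inv_left.mul_left hm
    rwa [hhz, ← mul_assoc, inv_mul_cancel, one_mul] at this
  obtain ⟨c, hcc⟩ := hK.mem_diagonal_iff.1 hh'H
  have hconj' : ∀ T : List ℕ, (∀ r ∈ T, r < D.nroots) →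
      tU K D c * wordU hK (T.map fun r => (r, (1 : F))) * (tU K D c)⁻¹ =
        wordU hK (T.map fun r => (permNat (wPerm hK []) r, (torusChar K D c r : F))) := by
    intro T hT
    induction T with
    | nil => simp [wordU]
    | cons r T ih =>
      have e1 : ∀ (p : ℕ × F) (w : List (ℕ × F)), wordU hK (p :: w) = xU hK p.1 p.2 * wordU hK w :=
        fun p w => by simp [wordU]
      have hr := hT r (by simp)
      have e2 : permNat (wPerm hK []) r = r := by simp [permNat, hr, wPerm]
      rw [List.map_cons, List.map_cons, e1, e1, ← ih fun x hx => hT x (List.mem_cons_of_mem _ hx), e2]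
      have e3 := hK.tU_conj_xU c hr (1 : F)
      rw [mul_one] at e3
      rw [← e3]
      group
  have hchar : ∀ r ∈ R, torusChar K D c r = 1 := by
    intro r hr
    have := huniq [] (fun r => (torusChar K D c r : F)) (fun r _ => Units.ne_zero _) (by
      rw [← hconj' R hRn, hcc, show wordU hK (R.map fun r => (r, (1 : F))) = topElt hK F R from rfl,
        hh'c.eq, mul_inv_cancel_right]) r hr
    exact Units.ext (this.2.trans Units.val_one.symm)
  have hh'C : h' ∈ centSub hK F J := by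
    rw [← hcc]
    refine hK.torus_mem_centSub c fun i hi => ?_
    rcases (hK.cent_facts hc).2.2 i hi with hiJ | ⟨r, hr, -, hA⟩
    · exact Or.inl hiJ
    · refine Or.inr ?_
      have := hchar r hr
      rw [torusChar, Finset.prod_eq_single i (fun k hk hne => by
          rw [hA k (Finset.mem_range.1 hk), if_neg hne, zpow_zero])
        (fun h => absurd (Finset.mem_range.2 hi) h), hA i hi, if_pos rfl, zpow_one] at this
      exact this
  rw [show v * h * sWord hK F L * u = v * (h * sWord hK F L) * u by group, hhz]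
  exact Subgroup.mul_mem _ (Subgroup.mul_mem _ hvU (Subgroup.mul_mem _ (hS hz) hh'C)) huU

theorem centralizer_one (hK : Fine K D) [CharP F 2] {r : ℕ} (hc : K.centOK [r] J = true)
    {S : ℕ} (hS : K.topOrbitOK r S = true) :
    D.group F ⊓ Subgroup.centralizer {topElt hK F [r]} = centSub hK F J := by
  refine hK.centralizer_top hc (fun x hx => ⟨S, by simp at hx; subst hx; exact hS⟩) ?_
  intro L a ha h x hx
  simp only [List.mem_cons, List.not_mem_nil, or_false] at hx
  subst hx
  have hr := (hK.mem_topOrbit hS).1.2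
  simp only [topElt, wordU, List.map_cons, List.map_nil, List.prod_cons, List.prod_nil, mul_one] at h
  have h1 := hK.root_inj (permNat_lt hr) hr (ha x (by simp)) h
  refine ⟨h1, ?_⟩
  rw [h1] at h
  refine sub_eq_zero.1 ((hK.xU_eq_one_iff hr _).1 ?_)
  rw [sub_eq_add_neg, ← xU_mul, ← xU_inv, h, mul_inv_cancel]

theorem centralizer_two (hK : Fine K D) [CharP F 2] {r s : ℕ} (hc : K.centOK [r, s] J = true)
    {S T : ℕ} (hS : K.topOrbitOK r S = true) (hT : K.topOrbitOK s T = true)
    (hrT : Data.inMask T r = false) (hsr : s < r) :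
    D.group F ⊓ Subgroup.centralizer {topElt hK F [r, s]} = centSub hK F J := by
  refine hK.centralizer_top hc (fun x hx => by
    simp at hx; rcases hx with rfl | rfl
    · exact ⟨S, hS⟩
    · exact ⟨T, hT⟩) ?_
  intro L a ha h
  obtain ⟨⟨hrp, hr⟩, -, -, -⟩ := hK.mem_topOrbit hS
  obtain ⟨⟨hsp, hs⟩, hsT, -, -⟩ := hK.mem_topOrbit hT
  simp only [topElt, wordU, List.map_cons, List.map_nil, List.prod_cons, List.prod_nil, mul_one] at h
  set x := permNat (wPerm hK L) r with hx
  set y := permNat (wPerm hK L) s with hy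
  have hxn : x < D.nroots := permNat_lt hr
  have hyn : y < D.nroots := permNat_lt hs
  have hyT : Data.inMask T y = true := by
    rw [hy, show permNat (wPerm hK L) s = (wPerm hK L ⟨s, hs⟩).val from permNat_fin _ ⟨s, hs⟩]
    exact hK.orbit_wPerm hT L _ hsT
  have hxy : x ≠ y := by
    intro e
    have e' : wPerm hK L ⟨r, hr⟩ = wPerm hK L ⟨s, hs⟩ := Fin.ext (by
      rw [← permNat_fin (wPerm hK L) ⟨r, hr⟩, ← permNat_fin (wPerm hK L) ⟨s, hs⟩]; exact e)
    exact absurd (congrArg Fin.val ((wPerm hK L).injective e')) (Nat.ne_of_gt hsr)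
  -- the product lies in `U`
  have hpos : ∀ {z : ℕ} (_ : K.npos ≤ z) (_ : z < D.nroots) (t : F), xU hK z t ∈ D.posUnipotent F := by
    intro z h1 h2 t
    rw [hK.posUnipotent_eq]
    exact hK.mem_genU (T := {r | K.npos ≤ r ∧ r < D.nroots}) ⟨h1, h2⟩ t
  have hneg : ∀ {z : ℕ} (_ : z < K.npos) (t : F), xU hK z t ∈ D.negUnipotent F := by
    intro z h1 t
    rw [hK.negUnipotent_eq]
    exact hK.mem_genU (T := {r | r < K.npos}) h1 t
  have hbot : ∀ {z : ℕ} (_ : z < K.npos) {t : F}, t ≠ 0 → xU hK z t ∉ D.borelSubgroup F := by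
    intro z h1 t ht hB
    have hm : xU hK z t ∈ D.borelSubgroup F ⊓ D.negUnipotent F := ⟨hB, hneg h1 t⟩
    rw [hK.borel_inf_neg, Subgroup.mem_bot] at hm
    exact ht ((hK.xU_eq_one_iff (by have := hK.toGood.nroots_eq_two_mul; omega) t).1 hm)
  have htpos : xU hK r (1 : F) * xU hK s 1 ∈ D.borelSubgroup F :=
    Subgroup.mem_sup_left (Subgroup.mul_mem _ (hpos hrp hr _) (hpos hsp hs _))
  have hxpos : K.npos ≤ x := by
    by_contra hlt
    rw [not_le] at hlt
    rcases Nat.lt_or_ge y K.npos with hy' | hy'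
    · -- both negative
      have hm : xU hK r (1 : F) * xU hK s 1 ∈ D.borelSubgroup F ⊓ D.negUnipotent F :=
        ⟨htpos, h ▸ Subgroup.mul_mem _ (hneg hlt _) (hneg hy' _)⟩
      rw [hK.borel_inf_neg, Subgroup.mem_bot] at hm
      have e := hK.ordProd_pair (a := K.npos) hsp hsr hr (1 : F) 1
      have e0 := hK.ordProd_zero (F := F) (t := fun _ => 0) _ K.npos rfl fun _ _ _ => rfl
      have hcomm : xU hK r (1 : F) * xU hK s 1 = xU hK s 1 * xU hK r 1 := by
        obtain ⟨h1, h2⟩ := (hK.cent_facts hc).1 r (by simp) s hs (Or.inl hsp) (Nat.ne_of_lt hsr)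
        exact (hK.commute_of_comm_nil hr hs (Nat.ne_of_lt hsr) h1 h2 1 1).eq
      have := hK.ordProd_inj _ K.npos rfl le_rfl _ _ ((e.trans (hcomm.symm.trans hm)).trans e0.symm)
        r hrp hr
      simp [Nat.ne_of_gt hsr] at this
    · refine hbot hlt (ha r (by simp)) ?_
      rw [show xU hK x (a r) = xU hK r (1 : F) * xU hK s 1 * (xU hK y (a s))⁻¹ from
        eq_mul_inv_iff_mul_eq.2 h]
      exact Subgroup.mul_mem _ htpos (Subgroup.inv_mem _ (Subgroup.mem_sup_left (hpos hy' hyn _)))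
  have hypos : K.npos ≤ y := by
    by_contra hlt
    rw [not_le] at hlt
    refine hbot hlt (ha s (by simp)) ?_
    rw [show xU hK y (a s) = (xU hK x (a r))⁻¹ * (xU hK r (1 : F) * xU hK s 1) from
      eq_inv_mul_iff_mul_eq.2 h]
    exact Subgroup.mul_mem _ (Subgroup.inv_mem _ (Subgroup.mem_sup_left (hpos hxpos hxn _))) htpos
  -- compare coordinates
  have hR' : ∀ z ∈ [r, s], z < D.nroots := by simp [hr, hs]
  have hcomm : xU hK r (1 : F) * xU hK s 1 = xU hK s 1 * xU hK r 1 := by
    obtain ⟨h1, h2⟩ := (hK.cent_facts hc).1 r (by simp) s hs (Or.inl hsp) (Nat.ne_of_lt hsr)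
    exact (hK.commute_of_comm_nil hr hs (Nat.ne_of_lt hsr) h1 h2 1 1).eq
  have hrhs : xU hK r (1 : F) * xU hK s 1 =
      ordProd hK K.npos (fun z => if z = s then (1 : F) else if z = r then 1 else 0) := by
    rw [hcomm, hK.ordProd_pair hsp hsr hr]
  have himg : xU hK x (a r) * xU hK y (a s) = xU hK y (a s) * xU hK x (a r) := by
    obtain ⟨p, hp1, hp2⟩ : ∃ n : GL D.Idx F, Moves hK n (wPerm hK L) ∧ n = sWord hK F L :=
      ⟨_, hK.moves_sWord L, rfl⟩
    obtain ⟨α, hα⟩ := hp1 ⟨r, hr⟩
    obtain ⟨β, hβ⟩ := hp1 ⟨s, hs⟩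
    have h1 := hα ((α : F)⁻¹ * a r)
    have h2 := hβ ((β : F)⁻¹ * a s)
    rw [mul_inv_cancel_left₀ α.ne_zero, ← permNat_fin] at h1
    rw [mul_inv_cancel_left₀ β.ne_zero, ← permNat_fin] at h2
    obtain ⟨g1, g2⟩ := (hK.cent_facts hc).1 r (by simp) s hs (Or.inl hsp) (Nat.ne_of_lt hsr)
    have hco := (hK.commute_of_comm_nil hr hs (Nat.ne_of_lt hsr) g1 g2
      ((α : F)⁻¹ * a r) ((β : F)⁻¹ * a s)).eq
    rw [hx, hy, ← h1, ← h2]
    simp only
    calc _ = p * (xU hK r ((α : F)⁻¹ * a r) * xU hK s ((β : F)⁻¹ * a s)) * p⁻¹ := by group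
      _ = p * (xU hK s ((β : F)⁻¹ * a s) * xU hK r ((α : F)⁻¹ * a r)) * p⁻¹ := by rw [hco]
      _ = _ := by group
  obtain ⟨f, hf, hfeq⟩ : ∃ f : ℕ → F, (f x = a r ∧ f y = a s ∧ ∀ z, z ≠ x → z ≠ y → f z = 0) ∧
      xU hK x (a r) * xU hK y (a s) = ordProd hK K.npos f := by
    rcases Nat.lt_or_gt_of_ne hxy with hlt | hlt
    · refine ⟨_, ⟨?_, ?_, fun z h1 h2 => ?_⟩, (hK.ordProd_pair hxpos hlt hyn (a r) (a s)).symm⟩
      · simp
      · simp [Ne.symm hxy]
      · simp [h1, h2]
    · refine ⟨_, ⟨?_, ?_, fun z h1 h2 => ?_⟩,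
        himg.trans (hK.ordProd_pair hypos hlt hxn (a s) (a r)).symm⟩
      · simp [hxy]
      · simp
      · simp [h1, h2]
  have hpt := hK.ordProd_inj _ K.npos rfl le_rfl _ _ (hfeq.symm.trans (h.trans hrhs))
  have hy2 : y = s := by
    have := hpt y hypos hyn
    rw [hf.2.1] at this
    by_contra hne
    rw [if_neg hne] at this
    by_cases hyr : y = r
    · rw [hyr, hrT] at hyT; simp at hyT
    · rw [if_neg hyr] at this; exact ha s (by simp) this
  have hx2 : x = r := by
    have := hpt x hxpos hxn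
    rw [hf.1] at this
    by_contra hne
    rw [if_neg (fun e : x = s => hxy (e.trans hy2.symm)), if_neg hne] at this
    exact ha r (by simp) this
  intro z hz
  simp only [List.mem_cons, List.not_mem_nil, or_false] at hz
  rcases hz with rfl | rfl
  · refine ⟨hx2, ?_⟩
    have := hpt x hxpos hxn
    rw [hf.1, hx2, if_neg (Nat.ne_of_gt hsr), if_pos rfl] at this
    exact this
  · refine ⟨hy2, ?_⟩
    have := hpt y hypos hyn
    rw [hf.2.1, hy2, if_pos rfl] at this
    exact this

end Cent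

end Fine

end CfsgLib.Chev
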