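import Cfsg.Agent.Chev.Centralizer
import Cfsg.Agent.Chev.FineF4
import Cfsg.Agent.Chev.FineE6
import Cfsg.Agent.Chev.FineE7
import Cfsg.Agent.Chev.FineE8

/-!
Centralisers of long and short root involutions in F₄ and of root involutions in E₆, E₇, E₈.
-/

set_option autoImplicit false
set_option maxRecDepth 100000

namespace CfsgLib.Chev

open Cfsg.Lie

variable {K : Data} {D : ChevalleyDatum} {F : Type*} [Field F]

theorem Fine.centSub_eq (hK : Fine K D) {J negs : List ℕ}
    (h : J.map (fun i => K.neg (K.p i)) = negs) :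
    centSub hK F J = D.posUnipotent F ⊔
      Subgroup.closure {g : GL D.Idx F | ∃ s ∈ negs, ∃ c : F,
        (g : Matrix D.Idx D.Idx F) = D.x F s c} := by
  unfold centSub genU
  congr 2
  ext g
  subst h
  simp only [List.mem_map]
  constructor
  · rintro ⟨s, ⟨i, hi, rfl⟩, c, rfl⟩; exact ⟨_, ⟨i, hi, rfl⟩, c, coe_xU hK _ _⟩
  · rintro ⟨s, ⟨i, hi, rfl⟩, c, hg⟩; exact ⟨_, ⟨i, hi, rfl⟩, c, eq_xU hK hg⟩

namespace F4

theorem cent47 : data.centOK [47] [0, 1, 2] = true := by decide +kernel
theorem cent44 : data.centOK [44] [1, 2, 3] = true := by decide +kernel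
theorem cent47_44 : data.centOK [47, 44] [1, 2] = true := by decide +kernel
theorem top47 : data.topOrbitOK 47 261691415953527 = true := by decide +kernel
theorem top44 : data.topOrbitOK 44 19783560757128 = true := by decide +kernel

theorem elt_one {r : ℕ} {t : GL chevF4.Idx F}
    (ht : (t : Matrix chevF4.Idx chevF4.Idx F) = chevF4.x F r 1) : t = topElt fine F [r] := by
  rw [eq_xU fine ht]
  simp [topElt, wordU]

theorem elt_two {r s : ℕ} {t : GL chevF4.Idx F}
    (ht : (t : Matrix chevF4.Idx chevF4.Idx F) = chevF4.x F r 1 * chevF4.x F s 1) :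
    t = topElt fine F [r, s] := by
  refine Units.ext ?_
  rw [ht, topElt, coe_wordU]
  simp [ChevalleyDatum.wordMat]

theorem closure_two (a b : ℕ) :
    Subgroup.closure {g : GL chevF4.Idx F | ∃ s ∈ [a, b], ∃ c : F,
      (g : Matrix chevF4.Idx chevF4.Idx F) = chevF4.x F s c} =
      chevF4.rootSubgroup F a ⊔ chevF4.rootSubgroup F b := by
  refine le_antisymm ((Subgroup.closure_le _).2 ?_) (sup_le (Subgroup.closure_mono ?_)
    (Subgroup.closure_mono ?_))
  · rintro g ⟨s, hs, c, hg⟩
    simp only [List.mem_cons, List.not_mem_nil, or_false] at hs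
    rcases hs with rfl | rfl
    · exact Subgroup.mem_sup_left (Subgroup.subset_closure ⟨c, hg⟩)
    · exact Subgroup.mem_sup_right (Subgroup.subset_closure ⟨c, hg⟩)
  · rintro g ⟨c, hg⟩; exact ⟨a, by simp, c, hg⟩
  · rintro g ⟨c, hg⟩; exact ⟨b, by simp, c, hg⟩

theorem closure_three (a b c : ℕ) :
    Subgroup.closure {g : GL chevF4.Idx F | ∃ s ∈ [a, b, c], ∃ u : F,
      (g : Matrix chevF4.Idx chevF4.Idx F) = chevF4.x F s u} =
      chevF4.rootSubgroup F a ⊔ chevF4.rootSubgroup F b ⊔ chevF4.rootSubgroup F c := by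
  refine le_antisymm ((Subgroup.closure_le _).2 ?_) (sup_le (sup_le (Subgroup.closure_mono ?_)
    (Subgroup.closure_mono ?_)) (Subgroup.closure_mono ?_))
  · rintro g ⟨s, hs, u, hg⟩
    simp only [List.mem_cons, List.not_mem_nil, or_false] at hs
    rcases hs with rfl | rfl | rfl
    · exact Subgroup.mem_sup_left (Subgroup.mem_sup_left (Subgroup.subset_closure ⟨u, hg⟩))
    · exact Subgroup.mem_sup_left (Subgroup.mem_sup_right (Subgroup.subset_closure ⟨u, hg⟩))
    · exact Subgroup.mem_sup_right (Subgroup.subset_closure ⟨u, hg⟩)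
  · rintro g ⟨u, hg⟩; exact ⟨a, by simp, u, hg⟩
  · rintro g ⟨u, hg⟩; exact ⟨b, by simp, u, hg⟩
  · rintro g ⟨u, hg⟩; exact ⟨c, by simp, u, hg⟩

theorem centralizer_long [CharP F 2] {t : GL chevF4.Idx F}
    (ht : (t : Matrix chevF4.Idx chevF4.Idx F) = chevF4.x F 47 1) :
    chevF4.group F ⊓ Subgroup.centralizer {t} = chevF4.posUnipotent F ⊔ chevF4.rootSubgroup F 14 ⊔
      chevF4.rootSubgroup F 20 ⊔ chevF4.rootSubgroup F 22 := by
  rw [elt_one ht, fine.centralizer_one cent47 top47,
    fine.centSub_eq (show [0, 1, 2].map (fun i => data.neg (data.p i)) = [14, 20, 22] by decide +kernel),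
    closure_three, ← sup_assoc, ← sup_assoc]

theorem centralizer_short [CharP F 2] {t : GL chevF4.Idx F}
    (ht : (t : Matrix chevF4.Idx chevF4.Idx F) = chevF4.x F 44 1) :
    chevF4.group F ⊓ Subgroup.centralizer {t} = chevF4.posUnipotent F ⊔ chevF4.rootSubgroup F 20 ⊔
      chevF4.rootSubgroup F 22 ⊔ chevF4.rootSubgroup F 23 := by
  rw [elt_one ht, fine.centralizer_one cent44 top44,
    fine.centSub_eq (show [1, 2, 3].map (fun i => data.neg (data.p i)) = [20, 22, 23] by decide +kernel),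
    closure_three, ← sup_assoc, ← sup_assoc]

theorem centralizer_mixed [CharP F 2] {t : GL chevF4.Idx F}
    (ht : (t : Matrix chevF4.Idx chevF4.Idx F) = chevF4.x F 47 1 * chevF4.x F 44 1) :
    chevF4.group F ⊓ Subgroup.centralizer {t} =
      chevF4.posUnipotent F ⊔ chevF4.rootSubgroup F 20 ⊔ chevF4.rootSubgroup F 22 := by
  rw [elt_two ht, fine.centralizer_two cent47_44 top47 top44 (by decide +kernel) (by norm_num),
    fine.centSub_eq (show [1, 2].map (fun i => data.neg (data.p i)) = [20, 22] by decide +kernel),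
    closure_two, ← sup_assoc]

end F4

theorem Fine.centralizer_root (hK : Fine K D) [CharP F 2] {J negs : List ℕ}
    (hc : K.centOK [D.nroots - 1] J = true) (hS : K.topOrbitOK (D.nroots - 1) (2 ^ D.nroots - 1) = true)
    (hn : J.map (fun i => K.neg (K.p i)) = negs) {t : GL D.Idx F}
    (ht : (t : Matrix D.Idx D.Idx F) = D.x F (D.nroots - 1) 1) :
    D.group F ⊓ Subgroup.centralizer {t} = D.posUnipotent F ⊔
      Subgroup.closure {g : GL D.Idx F | ∃ s ∈ negs, ∃ c : F,
        (g : Matrix D.Idx D.Idx F) = D.x F s c} := by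
  rw [← hK.centSub_eq hn, ← hK.centralizer_one hc hS]
  congr 2
  rw [eq_xU hK ht]
  simp [topElt, wordU]

theorem centralizer_E {F : Type*} [Field F] [CharP F 2] (d : ChevalleyDatum × List ℕ)
    (hd : d ∈ [(chevE6, [15, 29, 32, 34, 35]), (chevE7, [47, 52, 56, 59, 61, 62]),
      (chevE8, [77, 98, 104, 109, 113, 116, 118])]) (t : GL d.1.Idx F)
    (ht : (t : Matrix d.1.Idx d.1.Idx F) = d.1.x F (d.1.nroots - 1) 1) :
    d.1.group F ⊓ Subgroup.centralizer {t} = d.1.posUnipotent F ⊔
      Subgroup.closure {g : GL d.1.Idx F | ∃ s ∈ d.2, ∃ c : F,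
        (g : Matrix d.1.Idx d.1.Idx F) = d.1.x F s c} := by
  simp only [List.mem_cons, List.not_mem_nil, or_false] at hd
  rcases hd with rfl | rfl | rfl
  · exact E6.fine.centralizer_root (J := [0, 2, 3, 4, 5]) (by decide +kernel) (by decide +kernel)
      (by decide +kernel) ht
  · exact E7.fine.centralizer_root (J := [1, 2, 3, 4, 5, 6]) (by decide +kernel) (by decide +kernel)
      (by decide +kernel) ht
  · exact E8.fine.centralizer_root (J := [0, 1, 2, 3, 4, 5, 6]) (by decide +kernel) (by decide +kernel)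
      (by decide +kernel) ht

end CfsgLib.Chev
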