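import Cfsg.Agent.Chev.Sparse

/-!
Boolean checkers on the tables of a Chevalley datum and their soundness.
-/

set_option autoImplicit false

namespace CfsgLib.Chev

open Cfsg.Lie

/-- equality of column lists -/
noncomputable def colEq (L : List (ℕ × ℕ × ℤ)) : List (ℕ × ℕ × ℤ) → Bool :=
  List.rec (motive := fun _ => List (ℕ × ℕ × ℤ) → Bool)
    (fun M => List.rec true (fun _ _ _ => false) M)
    (fun a _ ih M => List.rec false
      (fun b M' _ => Nat.beq a.1 b.1 && Nat.beq a.2.1 b.2.1 && intEq a.2.2 b.2.2 && ih M') M) L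

theorem colEq_sound : ∀ {L M : List (ℕ × ℕ × ℤ)}, colEq L M = true → L = M
  | [], [], _ => rfl
  | [], _ :: _, h => by simp [colEq] at h
  | _ :: _, [], h => by simp [colEq] at h
  | a :: L, b :: M, h => by
    have h' : (Nat.beq a.1 b.1 && Nat.beq a.2.1 b.2.1 && intEq a.2.2 b.2.2 &&
        colEq L M) = true := h
    simp only [Bool.and_eq_true, intEq_iff] at h'
    obtain ⟨⟨⟨h1, h2⟩, h3⟩, h4⟩ := h'
    rw [colEq_sound h4, Prod.ext (Nat.eq_of_beq_eq_true h1) (Prod.ext (Nat.eq_of_beq_eq_true h2) h3)]

/-- simultaneous walk over the roots and over a chain row sorted by key -/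
noncomputable def walk (f : ℕ → List (ℕ × ℕ × ℤ))
    (conv : (ℕ × Array (ℕ × ℤ)) → List (ℕ × ℕ × ℤ)) (k : ℕ) :
    ℕ → List (ℕ × Array (ℕ × ℤ)) → Bool :=
  Nat.rec (motive := fun _ => ℕ → List (ℕ × Array (ℕ × ℤ)) → Bool)
    (fun _ L => List.rec true (fun _ _ _ => false) L)
    (fun _ ih s L => List.rec (colEq (f s) [] && ih (s + 1) [])
      (fun e L' _ => bif Nat.beq e.1 s then colEq (f s) (conv e) && ih (s + 1) L'
        else colEq (f s) [] && ih (s + 1) L) L) k

theorem walk_sound (f : ℕ → List (ℕ × ℕ × ℤ))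
    (conv : (ℕ × Array (ℕ × ℤ)) → List (ℕ × ℕ × ℤ)) : ∀ (k s : ℕ) (L : List (ℕ × Array (ℕ × ℤ))),
    walk f conv k s L = true → (∀ e ∈ L, s ≤ e.1) ∧
      (∀ e ∈ L, e.1 < s + k) ∧
      ∀ j, s ≤ j → j < s + k → (L.filter fun e => decide (e.1 = j)).flatMap conv = f j ∧
        (L.filter fun e => decide (e.1 = j)).length ≤ 1
  | 0, s, [], _ => ⟨by simp, by simp, fun j h1 h2 => absurd h2 (by omega)⟩
  | 0, s, _ :: _, h => by simp [walk] at h
  | k + 1, s, [], h => by
    have h' : (colEq (f s) [] && walk f conv k (s + 1) []) = true := h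
    simp only [Bool.and_eq_true] at h'
    refine ⟨by simp, by simp, fun j h1 h2 => ?_⟩
    rcases Nat.lt_or_ge s j with hj | hj
    · exact (walk_sound f conv k _ _ h'.2).2.2 j hj (by omega)
    · obtain rfl : j = s := by omega
      simpa using (colEq_sound h'.1).symm
  | k + 1, s, e :: L', h => by
    have h' : (bif Nat.beq e.1 s then colEq (f s) (conv e) && walk f conv k (s + 1) L'
        else colEq (f s) [] && walk f conv k (s + 1) (e :: L')) = true := h
    cases hb : Nat.beq e.1 s
    · rw [hb, cond_false, Bool.and_eq_true] at h'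
      obtain ⟨ih1, ih3, ih2⟩ := walk_sound f conv k _ _ h'.2
      refine ⟨fun x hx => Nat.le_of_succ_le (ih1 x hx), fun x hx => by have := ih3 x hx; omega,
        fun j h1 h2 => ?_⟩
      rcases Nat.lt_or_ge s j with hj | hj
      · exact ih2 j hj (by omega)
      · obtain rfl : j = s := by omega
        rw [List.filter_eq_nil_iff.2 (fun x hx => by have := ih1 x hx; simp; omega)]
        simpa using (colEq_sound h'.1).symm
    · rw [hb, cond_true, Bool.and_eq_true] at h'
      obtain ⟨ih1, ih3, ih2⟩ := walk_sound f conv k _ _ h'.2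
      have he : e.1 = s := Nat.eq_of_beq_eq_true hb
      refine ⟨fun x hx => ?_, fun x hx => ?_, fun j h1 h2 => ?_⟩
      · rcases List.mem_cons.1 hx with rfl | hx
        · omega
        · exact Nat.le_of_succ_le (ih1 x hx)
      · rcases List.mem_cons.1 hx with rfl | hx
        · omega
        · have := ih3 x hx; omega
      · rcases Nat.lt_or_ge s j with hj | hj
        · rw [List.filter_cons_of_neg (by simp; omega)]
          exact ih2 j hj (by omega)
        · obtain rfl : j = s := by omega
          rw [List.filter_cons_of_pos (by simp [he]),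
            List.filter_eq_nil_iff.2 (fun x hx => by have := ih1 x hx; simp; omega)]
          simpa using (colEq_sound h'.1).symm

/-! ### Packed tables against a datum -/

variable (D : ChevalleyDatum) (T : Tab)

/-- conversion of one chain entry -/
def convEntry (e : ℕ × Array (ℕ × ℤ)) : List (ℕ × ℕ × ℤ) :=
  e.2.toList.zipIdx.map fun q => (D.rank + q.1.1, q.2 + 1, q.1.2)

/-- equality of integer lists -/
noncomputable def zListEq (L : List ℤ) : List ℤ → Bool :=
  List.rec (motive := fun _ => List ℤ → Bool)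
    (fun M => List.rec true (fun _ _ _ => false) M)
    (fun a _ ih M => List.rec false (fun b M' _ => intEq a b && ih M') M) L

theorem zListEq_sound : ∀ {L M : List ℤ}, zListEq L M = true → L = M
  | [], [], _ => rfl
  | [], _ :: _, h => by simp [zListEq] at h
  | _ :: _, [], h => by simp [zListEq] at h
  | a :: L, b :: M, h => by
    have h' : (intEq a b && zListEq L M) = true := h
    simp only [Bool.and_eq_true, intEq_iff] at h'
    rw [h'.1, zListEq_sound h'.2]

/-- one row of the Cartan integers -/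
noncomputable def cartRowOK (i : ℕ) : Bool :=
  zListEq (D.cartanSR.getD i #[]).toList ((List.range D.nroots).map (T.A i))

/-- the tables agree for one root -/
noncomputable def fitsRowOK (r : ℕ) : Bool :=
  Nat.beq (D.negIdx.getD r 0) (D.nroots - 1 - r) &&
    zListEq (D.coroot.getD r #[]).toList ((List.range D.rank).map (T.C r)) &&
    walk (T.chainTerms r) (convEntry D) D.nroots 0 (D.chain.getD r #[]).toList &&
    ((D.chain.getD r #[]).toList.all fun e =>
      !(Nat.beq e.2.size 0) && e.2.toList.all fun q => Nat.blt q.1 D.nroots)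

/-- the tables agree -/
noncomputable def fitsOK : Bool :=
  Nat.beq T.rank D.rank && Nat.beq T.nroots D.nroots && (List.range D.rank).all (cartRowOK D T) &&
    (List.range D.nroots).all (fitsRowOK D T)

theorem fits_of_ok (h : fitsOK D T = true) : T.Fits D := by
  simp only [fitsOK, fitsRowOK, cartRowOK, Bool.and_eq_true, List.all_eq_true, List.mem_range] at h
  obtain ⟨⟨⟨h1, h2⟩, h4⟩, h3⟩ := h
  have hget : ∀ (a : Array ℤ) (f : ℕ → ℤ) (m k : ℕ), a.toList = (List.range m).map f → k < m →
      a.getD k 0 = f k := by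
    intro a f m k e hk
    have hs : a = ((List.range m).map f).toArray := by rw [← e, Array.toArray_toList]
    subst hs
    simp [hk]
  refine ⟨Nat.eq_of_beq_eq_true h1, Nat.eq_of_beq_eq_true h2,
    fun r hr => Nat.eq_of_beq_eq_true (h3 r hr).1.1.1,
    fun i hi r hr => hget _ _ _ r (zListEq_sound (h4 i hi)) hr,
    fun r hr i hi => hget _ _ _ i (zListEq_sound (h3 r hr).1.1.2) hi,
    fun r hr s hs => ?_, fun r hr e he => ?_, fun r hr s hs => ?_⟩
  · exact ((walk_sound _ _ _ _ _ (h3 r hr).1.2).2.2 s (Nat.zero_le _) (by omega)).1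
  · obtain ⟨k1, k2⟩ := (h3 r hr).2 e he
    refine ⟨by simpa using (walk_sound _ _ _ _ _ (h3 r hr).1.2).2.1 e he, ?_, fun q hq => ?_⟩
    · intro hz; simp [hz] at k1
    · simpa [Nat.blt_eq] using k2 q hq
  · exact ((walk_sound _ _ _ _ _ (h3 r hr).1.2).2.2 s (Nat.zero_le _) (by omega)).2

/-! ### Additivity -/

/-- a column of `x_r(t + u)` -/
noncomputable def sumCol (r j : ℕ) : List Term :=
  (T.col r j).flatMap fun e =>
    (List.range (e.2.1 + 1)).map fun (i : ℕ) =>
      ⟨e.1, (i : ℤ), ((e.2.1 - i : ℕ) : ℤ), e.2.2 * (Nat.choose e.2.1 i : ℤ)⟩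

/-- a column of `x_r(t)` is trivial -/
noncomputable def trivialCol (r j : ℕ) : Bool := colEq (T.col r j) [(j, 0, 1)]

/-- a column whose entries off the diagonal are linear and lead to trivial columns -/
noncomputable def linearCol (r j : ℕ) : Bool :=
  List.rec false
    (fun e L _ => Nat.beq e.1 j && Nat.beq e.2.1 0 && intEq e.2.2 1 &&
      List.rec (motive := fun _ => Bool) true
        (fun q _ ih => Nat.beq q.2.1 1 && Nat.blt q.1 T.dim && trivialCol T r q.1 && ih) L)
    (T.col r j)

/-- check of `x_r(t) x_r(u) = x_r(t + u)` -/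
noncomputable def addOK (r : ℕ) : Bool :=
  (List.range T.dim).all fun j =>
    linearCol T r j ||
      sameTerms (wordCol T [⟨r, 1, 1, 0⟩, ⟨r, 1, 0, 1⟩] j) (sumCol T r j)

end CfsgLib.Chev
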