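import Cfsg.Agent.Chev.Cert

/-!
The combinatorial data attached to a packed Chevalley datum (reflections, signs, heights) and the
checkers for it.  Everything here is a Boolean meant for `decide +kernel`.
-/

set_option autoImplicit false

namespace CfsgLib.Chev

open Cfsg.Lie

/-- combinatorial data of a type -/
structure Data where
  tab : Tab
  /-- number of positive roots -/
  npos : ℕ
  /-- fundamental roots, 8 bits each -/
  simp8 : ℕ
  /-- reflection permutations, 8 bits per root -/
  refl : NTree
  /-- signs, 1 bit per root (1 means `-1`) -/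
  sgn : NTree
  /-- shifted additive height (32 bits per root) -/
  height : ℕ
  /-- shift of the height -/
  shift : ℕ
  /-- the roots to which the others are moved by reflections -/
  reps : List ℕ
  /-- for each root, a reflection bringing it closer to `reps` (4 bits) and its distance (8 bits) -/
  path : ℕ
  /-- base pairs for the commutator formula -/
  basePairs : List (ℕ × ℕ)
  /-- for each representative `r`, the packed paths of the roots under the stabiliser of `r` -/
  stabPaths : List (ℕ × ℕ)

namespace Data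

variable (K : Data)

noncomputable def n : ℕ := K.tab.nroots
noncomputable def l : ℕ := K.tab.rank

/-- fundamental root -/
noncomputable def p (i : ℕ) : ℕ := (K.simp8 >>> (8 * i)) &&& 255

/-- negative of a root -/
noncomputable def neg (r : ℕ) : ℕ := K.tab.nroots - 1 - r

/-- reflection -/
noncomputable def w (i s : ℕ) : ℕ := (K.refl.get i >>> (8 * s)) &&& 255

/-- sign of `n_i` on the root vector -/
noncomputable def eta (i s : ℕ) : ℤ :=
  bif Nat.beq ((K.sgn.get i >>> s) &&& 1) 0 then 1 else -1

/-- additive height -/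
noncomputable def phi (r : ℕ) : ℤ := Int.subNatNat ((K.height >>> (40 * r)) &&& (2 ^ 40 - 1)) K.shift

/-- reflection bringing a root closer to `reps` -/
noncomputable def via (r : ℕ) : ℕ := (K.path >>> (12 * r)) &&& 15

/-- distance to `reps` -/
noncomputable def dist (r : ℕ) : ℕ := (K.path >>> (12 * r + 4)) &&& 255

/-- packed paths relative to the representative `r` -/
noncomputable def stabPath (r : ℕ) : ℕ :=
  List.rec 0 (fun e _ ih => bif Nat.beq e.1 r then e.2 else ih) K.stabPaths

/-- reflection fixing `r` that brings `s` closer to a base pair -/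
noncomputable def svia (r s : ℕ) : ℕ := (K.stabPath r >>> (12 * s)) &&& 15

/-- its distance -/
noncomputable def sdist (r s : ℕ) : ℕ := (K.stabPath r >>> (12 * s + 4)) &&& 255

/-- a column of the monomial matrix of `n_i` -/
noncomputable def monCol (i j : ℕ) : List Term :=
  bif Nat.blt j K.l then [⟨j, 0, 0, 1⟩, ⟨i, 0, 0, - K.tab.A j (K.p i)⟩]
  else [⟨K.l + K.w i (j - K.l), 0, 0, K.eta i (j - K.l)⟩]

/-- apply the monomial matrix to a vector -/
noncomputable def monApply (i : ℕ) (L : List Term) : List Term :=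
  L.flatMap fun e =>
    bif Nat.blt e.row K.tab.dim then
      (K.monCol i e.row).map fun q => ⟨q.row, e.ea, e.eb, e.coef * q.coef⟩
    else []

end Data

/-- structural equality of terms lists -/
noncomputable def termsEq (L : List Term) : List Term → Bool :=
  List.rec (motive := fun _ => List Term → Bool)
    (fun M => List.rec true (fun _ _ _ => false) M)
    (fun a _ ih M => List.rec false
      (fun b M' _ => Nat.beq a.row b.row && intEq a.ea b.ea && intEq a.eb b.eb && intEq a.coef b.coef &&
        ih M') M) L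

/-- all letters of a word fix the `j`-th basis vector -/
noncomputable def fixedBy (T : Tab) (w : List Letter) (j : ℕ) : Bool :=
  List.rec true (fun x _ ih => trivialCol T x.root j && ih) w

/-- fast comparison of vectors -/
noncomputable def agree (L M : List Term) : Bool := termsEq L M || sameTerms L M

namespace Data

variable (K : Data) (D : ChevalleyDatum)

/-- range and reflection checks -/
noncomputable def rootsOK : Bool :=
  Nat.beq (2 * K.npos) K.n &&
  ((List.range K.l).all fun i =>
    Nat.beq (D.simple i) (K.p i) && Nat.ble K.npos (K.p i) && Nat.blt (K.p i) K.n &&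
    Nat.beq (K.w i (K.p i)) (K.neg (K.p i)) &&
    (List.range K.n).all fun s =>
      Nat.blt (K.w i s) K.n && Nat.beq (K.w i (K.w i s)) s &&
      Nat.beq (K.w i (K.neg s)) (K.neg (K.w i s)) && Nat.beq (D.reflectRoot i s) (K.w i s) &&
      (!(Nat.ble K.npos s) || Nat.beq s (K.p i) || Nat.ble K.npos (K.w i s))) &&
  ((List.range K.n).all fun r =>
    decide (D.IsPosRoot r) == Nat.ble K.npos r && decide (D.IsNegRoot r) == Nat.blt r K.npos &&
    (Nat.beq (r + 1) K.n || decide (K.phi r < K.phi (r + 1))) &&
    intEq (K.phi (K.neg r)) (- K.phi r))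

/-- the height is additive along a chain -/
noncomputable def heightRowOK (r : ℕ) : Bool :=
  (D.chain.getD r #[]).toList.all fun e =>
    (K.tab.chainTerms r e.1).all fun q =>
      intEq (K.phi (q.1 - K.l)) ((q.2.1 : ℤ) * K.phi r + K.phi e.1)

/-- `n_i` is monomial -/
noncomputable def monOK (i : ℕ) : Bool :=
  (List.range K.tab.dim).all fun j =>
    agree (wordCol K.tab [⟨K.p i, 1, 0, 0⟩, ⟨K.neg (K.p i), -1, 0, 0⟩, ⟨K.p i, 1, 0, 0⟩] j)
      (K.monCol i j)

/-- `h_{p_i}(t)` is diagonal -/
noncomputable def hOK (i : ℕ) : Bool :=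
  (List.range K.tab.dim).all fun j =>
    agree (wordCol K.tab [⟨K.p i, 1, 1, 0⟩, ⟨K.neg (K.p i), -1, -1, 0⟩, ⟨K.p i, 1, 1, 0⟩,
        ⟨K.p i, -1, 0, 0⟩, ⟨K.neg (K.p i), 1, 0, 0⟩, ⟨K.p i, -1, 0, 0⟩] j)
      [⟨j, bif Nat.blt j K.l then 0 else K.tab.A i (j - K.l), 0, 1⟩]

/-- one column of `x_{w s}(η t) n_i = n_i x_s(t)` -/
noncomputable def conjColOK (i s j : ℕ) : Bool :=
  agree (applyX K.tab ⟨K.w i s, K.eta i s, 1, 0⟩ (K.monApply i [⟨j, 0, 0, 1⟩]))
    (K.monApply i (applyX K.tab ⟨s, 1, 1, 0⟩ [⟨j, 0, 0, 1⟩]))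

/-- power of an integer -/
noncomputable def ipow (a : ℤ) (k : ℕ) : ℤ :=
  Nat.rec (motive := fun _ => ℤ) 1 (fun _ ih => Int.mul a ih) k

/-- the chain through `v` is carried to the chain through `w v` -/
noncomputable def conjKeyOK (i s v : ℕ) : Bool :=
  !(Nat.beq v s) && !(Nat.beq v (K.neg s)) &&
  colEq (K.tab.chainTerms (K.w i s) (K.w i v))
    (List.rec (motive := fun _ => List (ℕ × ℕ × ℤ)) []
      (fun q _ ih =>
        (Nat.add K.l (K.w i (Nat.sub q.1 K.l)), q.2.1,
          Int.mul (Int.mul (K.eta i (Nat.sub q.1 K.l)) q.2.2)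
            (Int.mul (K.eta i v) (ipow (K.eta i s) q.2.1))) :: ih)
      (K.tab.chainTerms s v))

/-- conjugation of `x_s` by `n_i` -/
noncomputable def conjOK (i s : ℕ) : Bool :=
  ((List.range K.l).all fun j => K.conjColOK i s j) &&
  K.conjColOK i s (K.l + s) && K.conjColOK i s (K.l + K.neg s) &&
  (D.chain.getD s #[]).toList.all fun e => K.conjKeyOK i s e.1

/-- `(root, coefficient)` list of a chain -/
noncomputable def entry (r s : ℕ) : List (ℕ × ℤ) :=
  (K.tab.chainTerms r s).map fun q => (q.1 - K.l, q.2.2)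

/-- `i r + s` -/
noncomputable def croot (r s i : ℕ) : Option ℕ := ((K.entry r s)[i - 1]?).map Prod.fst

/-- `M_{r,s,i}` -/
noncomputable def cM (r s i : ℕ) : ℤ := (((K.entry r s)[i - 1]?).map Prod.snd).getD 0

/-- terms of the commutator formula -/
noncomputable def comm (r s : ℕ) : List (ℕ × ℤ × ℕ × ℕ) :=
  let rs := K.croot r s 1
  let cands : List (Option ℕ × ℤ × ℕ × ℕ) :=
    [ (K.croot r s 1, K.cM r s 1, 1, 1),
      (K.croot r s 2, K.cM r s 2, 2, 1),
      (K.croot s r 2, K.cM s r 2, 1, 2),
      (K.croot r s 3, K.cM r s 3, 3, 1),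
      (K.croot s r 3, - K.cM s r 3, 1, 3),
      ((K.croot r s 3).bind fun k => K.croot k s 1, (rs.map fun k => K.cM k r 2 / 3).getD 0, 3, 2),
      ((K.croot s r 3).bind fun k => K.croot k r 1, (rs.map fun k => -2 * K.cM k s 2 / 3).getD 0, 2, 3) ]
  cands.filterMap fun c => c.1.map fun k => (k, c.2)

/-- all four chains used by `comm` are empty -/
noncomputable def noSum (r s : ℕ) : Bool :=
  List.rec (motive := fun _ => Bool)
    (List.rec (motive := fun _ => Bool) true (fun _ _ _ => false) (K.tab.chainTerms s r))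
    (fun _ _ _ => false) (K.tab.chainTerms r s)

/-- letters of the right hand side of the commutator formula -/
noncomputable def commLetters (r s : ℕ) : List Letter :=
  (K.comm r s).map fun c => ⟨c.1, c.2.1 * (-1) ^ c.2.2.1, (c.2.2.1 : ℤ), (c.2.2.2 : ℤ)⟩

/-- the commutator formula for one pair, by columns -/
noncomputable def commBaseOK (r s : ℕ) : Bool :=
  Nat.beq s r || Nat.beq s (K.neg r) ||
    (List.range K.tab.dim).all fun j =>
      fixedBy K.tab (⟨r, 1, 1, 0⟩ :: ⟨s, 1, 0, 1⟩ :: K.commLetters r s) j ||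
      agree (wordCol K.tab [⟨s, 1, 0, 1⟩, ⟨r, 1, 1, 0⟩] j)
        (wordCol K.tab (⟨r, 1, 1, 0⟩ :: ⟨s, 1, 0, 1⟩ :: K.commLetters r s) j)

/-- equality of the commutator term lists -/
noncomputable def commEq (L : List (ℕ × ℤ × ℕ × ℕ)) : List (ℕ × ℤ × ℕ × ℕ) → Bool :=
  List.rec (motive := fun _ => List (ℕ × ℤ × ℕ × ℕ) → Bool)
    (fun M => List.rec true (fun _ _ _ => false) M)
    (fun a _ ih M => List.rec false
      (fun b M' _ => Nat.beq a.1 b.1 && intEq a.2.1 b.2.1 && Nat.beq a.2.2.1 b.2.2.1 &&
        Nat.beq a.2.2.2 b.2.2.2 && ih M') M) L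

/-- the commutator terms of `(r, s)` are carried by `n_i` to those of their images -/
noncomputable def moveStep (i r s : ℕ) : Bool :=
  (K.noSum r s && K.noSum (K.w i r) (K.w i s)) ||
    commEq ((K.comm r s).map fun c =>
        (K.w i c.1,
          K.eta i c.1 * c.2.1 * K.eta i r ^ c.2.2.1 * K.eta i s ^ c.2.2.2, c.2.2))
      (K.comm (K.w i r) (K.w i s))

/-- the commutator terms are carried along by reflections -/
noncomputable def commMoveOK (r : ℕ) : Bool :=
  K.reps.contains r ||
    (Nat.blt (K.via r) K.l && Nat.blt (K.dist (K.w (K.via r) r)) (K.dist r) &&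
      (List.range K.n).all fun s =>
        Nat.beq s r || Nat.beq s (K.neg r) || K.moveStep (K.via r) r s)

/-- for a representative `r`, every root is moved to a base pair by the stabiliser of `r` -/
noncomputable def stabMoveOK (r s : ℕ) : Bool :=
  Nat.beq s r || Nat.beq s (K.neg r) ||
    List.rec (motive := fun _ => Bool)
      (Nat.blt (K.svia r s) K.l && Nat.beq (K.w (K.svia r s) r) r &&
        Nat.blt (K.sdist r (K.w (K.svia r s) s)) (K.sdist r s) && K.moveStep (K.svia r s) r s)
      (fun e _ ih => (Nat.beq e.1 r && Nat.beq e.2 s) || ih) K.basePairs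

end Data

end CfsgLib.Chev
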