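import Cfsg.Agent.Chev.Checks

/-! Further checkers: linearity of the Cartan integers, coroots, signs. -/

set_option autoImplicit false

namespace CfsgLib.Chev

open Cfsg.Lie

namespace Data

variable (K : Data) (D : ChevalleyDatum)

/-- value of the root `v` on the coroot of the root `r` -/
noncomputable def pair (r v : ℕ) : ℤ :=
  Nat.rec (motive := fun _ => ℤ) 0 (fun i ih => K.tab.C r i * K.tab.A i v + ih) K.l

/-- coroots: coprime coefficients, fundamental ones, symmetry, signs -/
noncomputable def corootOK : Bool :=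
  ((List.range K.n).all fun r =>
    Nat.beq (((List.range K.l).map fun i => (K.tab.C r i).natAbs).foldr Nat.gcd 0) 1 &&
    (List.range K.l).all fun i =>
      intEq (K.tab.A i (K.neg r)) (- K.tab.A i r) && intEq (K.tab.C (K.neg r) i) (- K.tab.C r i) &&
      intEq (K.eta i (K.neg r)) (K.eta i r)) &&
  (List.range K.l).all fun i => intEq (K.tab.A i (K.p i)) 2 && (List.range K.l).all fun j =>
    intEq (K.tab.C (K.p i) j) (bif Nat.beq i j then 1 else 0) &&
    (List.range K.n).all fun v =>
      intEq (K.tab.A j (K.w i v)) (K.tab.A j v - K.tab.A i v * K.tab.A j (K.p i))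

/-- the Cartan integers are additive along chains -/
noncomputable def linRowOK (r : ℕ) : Bool :=
  (D.chain.getD r #[]).toList.all fun e =>
    (K.tab.chainTerms r e.1).all fun q => (List.range K.l).all fun i =>
      intEq (K.tab.A i (q.1 - K.l)) ((q.2.1 : ℤ) * K.tab.A i r + K.tab.A i e.1)

/-- coroots of reflected roots -/
noncomputable def pairMoveOK (r : ℕ) : Bool :=
  K.reps.contains r ||
    (List.range K.l).all fun j =>
      intEq (K.tab.C (K.w (K.via r) r) j)
        (K.tab.C r j - bif Nat.beq (K.via r) j then K.pair r (K.p (K.via r)) else 0)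

/-- `h_r(t)` of a representative is diagonal -/
noncomputable def hRepOK (r : ℕ) : Bool :=
  (List.range K.tab.dim).all fun j =>
    agree (wordCol K.tab [⟨r, 1, 1, 0⟩, ⟨K.neg r, -1, -1, 0⟩, ⟨r, 1, 1, 0⟩,
        ⟨r, -1, 0, 0⟩, ⟨K.neg r, 1, 0, 0⟩, ⟨r, -1, 0, 0⟩] j)
      [⟨j, bif Nat.blt j K.l then 0 else K.pair r (j - K.l), 0, 1⟩]

end Data

end CfsgLib.Chev
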