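import Cfsg.Agent.Chev.Checks

/-! Checkers for the coset representatives along the parabolic chain of the Weyl group. -/

set_option autoImplicit false

namespace CfsgLib.Chev

/-- a coset representative, packed -/
structure Rep where
  /-- images of all roots, 8 bits each -/
  perm : ℕ
  /-- preimages of the fundamental roots, 8 bits each -/
  invp : ℕ
  /-- number of positive roots made negative -/
  len : ℕ
  /-- index of the parent representative -/
  par : ℕ
  /-- the reflection leading from the parent to this one -/
  gen : ℕ
  /-- for each reflection, target index and correcting reflection (13 bits) -/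
  nxt : ℕ

namespace Data

variable (K : Data)

/-- image of a root under a representative -/
noncomputable def _root_.CfsgLib.Chev.Rep.app (d : Rep) (r : ℕ) : ℕ := (d.perm >>> (8 * r)) &&& 255

/-- preimage of a fundamental root -/
noncomputable def _root_.CfsgLib.Chev.Rep.inv (d : Rep) (i : ℕ) : ℕ := (d.invp >>> (8 * i)) &&& 255

/-- target index -/
noncomputable def _root_.CfsgLib.Chev.Rep.next (d : Rep) (j : ℕ) : ℕ := (d.nxt >>> (13 * j)) &&& 511

/-- correcting reflection plus one, or `0` -/
noncomputable def _root_.CfsgLib.Chev.Rep.fix (d : Rep) (j : ℕ) : ℕ := (d.nxt >>> (13 * j + 9)) &&& 15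

/-- key of a coset -/
noncomputable def repKey (k : ℕ) (d : Rep) : List ℤ :=
  (List.range K.l).map fun i => K.tab.C (d.inv i) (k - 1)

/-- the root lies in the span of the first `m` fundamental roots -/
noncomputable def inFirst (m r : ℕ) : Bool :=
  (List.range K.l).all fun i => Nat.blt i m || intEq (K.tab.C r i) 0

/-- one representative of the level `k` -/
noncomputable def repOK (k : ℕ) (R : List Rep) (idx : ℕ) (d : Rep) : Bool :=
  -- permutation: identity, or one reflection after the parent
  (bif Nat.beq idx 0 then (List.range K.n).all fun r => Nat.beq (d.app r) r
   else Nat.blt d.par idx && Nat.blt d.gen k &&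
    (match R[d.par]? with
     | none => false
     | some e => (List.range K.n).all fun r =>
        Nat.beq (d.app r) (K.w d.gen (e.app r)))) &&
  -- closure under the reflections
  ((List.range k).all fun j =>
    match R[d.next j]? with
    | none => false
    | some e =>
      bif Nat.beq (d.fix j) 0 then
        (List.range K.l).all fun i => Nat.beq (e.app (K.p i)) (K.w j (d.app (K.p i)))
      else Nat.blt (d.fix j) k && (List.range K.l).all fun i =>
        Nat.beq (e.app (K.w (d.fix j - 1) (K.p i))) (K.w j (d.app (K.p i)))) &&
  -- preimages of the fundamental roots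
  ((List.range K.l).all fun i =>
    Nat.blt (d.inv i) K.n && Nat.beq (d.app (d.inv i)) (K.p i)) &&
  -- positivity on the smaller subsystem
  ((List.range K.n).all fun r =>
    !(Nat.ble K.npos r && K.inFirst (k - 1) r) || Nat.ble K.npos (d.app r)) &&
  -- length
  Nat.beq d.len
    (((List.range K.n).filter fun r => Nat.ble K.npos r && Nat.blt (d.app r) K.npos).length)

/-- keys are pairwise different -/
noncomputable def keysOK (k : ℕ) (R : List Rep) : Bool :=
  List.rec true (fun a L ih => (L.all fun b => !(zListEq a b)) && ih) (R.map (K.repKey k))

/-- one level of the chain -/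
noncomputable def levelOK (k : ℕ) (R : List Rep) : Bool :=
  !(R.isEmpty) && K.keysOK k R && R.zipIdx.all fun e => K.repOK k R e.2 e.1

/-- coefficients not moved by other reflections -/
noncomputable def coefOK : Bool :=
  (List.range K.l).all fun i => (List.range K.l).all fun j =>
    Nat.beq i j || (List.range K.n).all fun r => intEq (K.tab.C (K.w i r) j) (K.tab.C r j)

end Data

end CfsgLib.Chev
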