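import Cfsg.Agent.Chev.Checks
import Cfsg.Agent.Chev.PoinCheck

/-! Checker: every positive root is a non-negative combination of the fundamental roots along chains. -/

set_option autoImplicit false

namespace CfsgLib.Chev.Data

variable (K : Data)

/-- non-negative integer -/
noncomputable def intNonneg (a : ℤ) : Bool := Int.rec (fun _ => true) (fun _ => false) a

/-- positive integer -/
noncomputable def intPos (a : ℤ) : Bool :=
  Int.rec (fun m => !(Nat.beq m 0)) (fun _ => false) a

/-- one positive root: fundamental, or a chain step above a smaller positive root -/
noncomputable def combRootOK (v : ℕ) : Bool :=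
  ((List.range K.l).all fun j => intNonneg (K.tab.C v j)) &&
  (List.range K.l).any fun i =>
    Nat.beq (K.p i) v ||
      (Nat.ble K.npos (K.w i v) && Nat.blt (K.w i v) v && intPos (K.tab.C v i) &&
        (K.tab.chainTerms (K.p i) (K.w i v)).any fun q => Nat.beq q.1 (K.l + v))

/-- all positive roots, and invariance of the coefficients -/
noncomputable def combOK : Bool :=
  K.coefOK && (List.range K.npos).all fun k => K.combRootOK (K.npos + k)

theorem intNonneg_iff (a : ℤ) : intNonneg a = true ↔ 0 ≤ a := by
  cases a <;> simp [intNonneg]

theorem intPos_iff (a : ℤ) : intPos a = true ↔ 0 < a := by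
  cases a with
  | ofNat m =>
    cases m with
    | zero => simp [intPos]
    | succ n =>
      refine ⟨fun _ => ?_, fun _ => rfl⟩
      simp
  | negSucc m => simp [intPos]

end CfsgLib.Chev.Data
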