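import Cfsg.Agent.Chev.CoxeterCheck

/-!
Table check: each fundamental root, and its negative, is a commutator component of two other roots
whose images under the reflection are positive for a suitable ordering.
-/

set_option autoImplicit false

namespace CfsgLib.Chev.Data

variable (K : Data)

/-- neither the fundamental root nor its negative -/
noncomputable def offP (i v : ℕ) : Bool := !(Nat.beq v (K.p i)) && !(Nat.beq v (K.neg (K.p i)))

/-- one witness -/
noncomputable def liftRowOK (i r : ℕ) (e : ℕ × ℕ × ℕ × List ℕ) : Bool :=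
  Nat.blt e.1 K.n && Nat.blt e.2.1 K.n && !(Nat.beq e.2.1 e.1) && !(Nat.beq e.2.1 (K.neg e.1)) &&
  K.offP i e.1 && K.offP i e.2.1 && (e.2.2.2.all fun j => Nat.blt j K.l) &&
  Nat.ble K.npos (K.appW e.2.2.2 (K.w i e.1)) && Nat.ble K.npos (K.appW e.2.2.2 (K.w i e.2.1)) &&
  (match (K.comm e.1 e.2.1)[e.2.2.1]? with
    | none => false
    | some c => Nat.beq c.1 r && (intEq c.2.1 1 || intEq c.2.1 (-1)) && (Nat.beq c.2.2.1 1 || Nat.beq c.2.2.2 1)) &&
  (List.range (K.comm e.1 e.2.1).length).all fun k => Nat.beq k e.2.2.1 ||
    match (K.comm e.1 e.2.1)[k]? with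
    | none => false
    | some c => K.offP i c.1

/-- witnesses for all fundamental roots -/
noncomputable def liftOK (W : List (ℕ × ℕ × ℕ × List ℕ)) : Bool :=
  (List.range K.l).all fun i =>
    (match W[2 * i]? with | none => false | some e => K.liftRowOK i (K.p i) e) &&
      match W[2 * i + 1]? with | none => false | some e => K.liftRowOK i (K.neg (K.p i)) e

end CfsgLib.Chev.Data
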