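import Cfsg.Agent.Chev.Bruhat

/-!
The order of the diagonal subgroup, from an invariant-factor certificate of the Cartan matrix.
-/

set_option autoImplicit false

namespace CfsgLib.Chev

open Cfsg.Lie

variable {K : Data} {D : ChevalleyDatum} {F : Type*} [Field F]

/-- the endomorphism `c ↦ (∏ₖ c_k ^ A(k,j))_j` -/
noncomputable def powMat {l : ℕ} {G : Type*} [CommGroup G] (A : Matrix (Fin l) (Fin l) ℤ) :
    (Fin l → G) →* (Fin l → G) where
  toFun c j := ∏ k, c k ^ A k j
  map_one' := by funext j; simp
  map_mul' c d := by funext j; simp [mul_zpow, Finset.prod_mul_distrib]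

theorem powMat_apply {l : ℕ} {G : Type*} [CommGroup G] (A : Matrix (Fin l) (Fin l) ℤ)
    (c : Fin l → G) (j : Fin l) : powMat A c j = ∏ k, c k ^ A k j := rfl

theorem powMat_mul {l : ℕ} {G : Type*} [CommGroup G] (A B : Matrix (Fin l) (Fin l) ℤ)
    (c : Fin l → G) : powMat (A * B) c = powMat B (powMat A c) := by
  funext j
  simp only [powMat_apply, ← Finset.prod_zpow, ← zpow_mul]
  rw [Finset.prod_comm]
  refine Finset.prod_congr rfl fun m _ => ?_
  rw [Matrix.mul_apply]
  induction (Finset.univ : Finset (Fin l)) using Finset.cons_induction with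
  | empty => simp
  | cons a s ha ih => rw [Finset.sum_cons, Finset.prod_cons, zpow_add, ih]

theorem powMat_one {l : ℕ} {G : Type*} [CommGroup G] (c : Fin l → G) :
    powMat (1 : Matrix (Fin l) (Fin l) ℤ) c = c := by
  funext j
  rw [powMat_apply, Finset.prod_eq_single j]
  · simp
  · intro b _ hb; simp [Matrix.one_apply_ne hb]
  · simp

/-- `powMat` of an invertible matrix as an isomorphism -/
noncomputable def powEquiv {l : ℕ} {G : Type*} [CommGroup G] (U U' : Matrix (Fin l) (Fin l) ℤ)
    (h1 : U * U' = 1) (h2 : U' * U = 1) : (Fin l → G) ≃* (Fin l → G) :=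
  { powMat U with
    invFun := powMat U'
    left_inv := fun c => by
      show powMat U' (powMat U c) = c
      rw [← powMat_mul, h1, powMat_one]
    right_inv := fun c => by
      show powMat U (powMat U' c) = c
      rw [← powMat_mul, h2, powMat_one] }

theorem card_ker_powMat {l : ℕ} {G : Type*} [CommGroup G] (U U' V V' A : Matrix (Fin l) (Fin l) ℤ)
    (d : Fin l → ℕ) (hU : U * U' = 1) (hU' : U' * U = 1) (hV : V * V' = 1) (hV' : V' * V = 1)
    (hA : U * A * V = Matrix.diagonal fun i => (d i : ℤ)) :
    Nat.card (powMat (G := G) A).ker = ∏ i, Nat.card (powMonoidHom (d i) : G →* G).ker := by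
  have hA' : A = U' * (Matrix.diagonal fun i => (d i : ℤ)) * V' := by
    rw [← hA, ← mul_assoc, ← mul_assoc, hU', one_mul, mul_assoc, hV, mul_one]
  have hdiag : ∀ c : Fin l → G, ∀ j, powMat (Matrix.diagonal fun i => (d i : ℤ)) c j = c j ^ d j := by
    intro c j
    rw [powMat_apply, Finset.prod_eq_single j]
    · simp
    · intro b _ hb; simp [Matrix.diagonal_apply_ne _ hb]
    · simp
  have hker : ∀ c : Fin l → G, powMat A c = 1 ↔ ∀ j, powMat U' c j ^ d j = 1 := by
    intro c
    rw [hA', powMat_mul, powMat_mul]
    constructor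
    · intro h j
      have := congrArg (powEquiv V' V hV' hV).symm h
      rw [map_one] at this
      have e : powMat (Matrix.diagonal fun i => (d i : ℤ)) (powMat U' c) = 1 := by
        rw [← this]
        exact ((powEquiv V' V hV' hV).symm_apply_apply _).symm
      rw [← hdiag, e, Pi.one_apply]
    · intro h
      have e : powMat (Matrix.diagonal fun i => (d i : ℤ)) (powMat U' c) = 1 := by
        funext j; rw [hdiag, Pi.one_apply, h j]
      rw [e, map_one]
  rw [← Nat.card_pi]
  refine Nat.card_congr
    { toFun := fun c i => ⟨powMat U' c.val i, by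
        rw [MonoidHom.mem_ker]
        exact (hker c.val).1 c.2 i⟩
      invFun := fun x => ⟨powMat U fun i => (x i).val, by
        rw [MonoidHom.mem_ker, hker, ← powMat_mul, hU, powMat_one]
        exact fun j => (x j).2⟩
      left_inv := fun c => Subtype.ext (by
        show powMat U (powMat U' c.val) = c.val
        rw [← powMat_mul, hU', powMat_one])
      right_inv := fun x => by
        funext i
        refine Subtype.ext ?_
        show powMat U' (powMat U fun i => (x i).val) i = (x i).val
        rw [← powMat_mul, hU, powMat_one] }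

/-- the Cartan matrix -/
noncomputable def cartanMat (K : Data) (l : ℕ) : Matrix (Fin l) (Fin l) ℤ :=
  Matrix.of fun k j => K.tab.A k.val (K.p j.val)

/-- parameters extended by one -/
noncomputable def extC {l : ℕ} {G : Type*} [One G] (c : Fin l → G) : ℕ → G :=
  fun i => if h : i < l then c ⟨i, h⟩ else 1

/-- the torus on finitely many parameters -/
noncomputable def tFin (K : Data) (D : ChevalleyDatum) (F : Type*) [Field F] :
    (Fin D.rank → Fˣ) →* GL D.Idx F :=
  (Fine.tHom K D).comp
    { toFun := extC
      map_one' := by funext i; simp [extC]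
      map_mul' := fun a b => by funext i; by_cases h : i < D.rank <;> simp [extC, h] }

namespace Fine

theorem torusChar_extC (hK : Fine K D) (c : Fin D.rank → Fˣ) (s : ℕ) :
    torusChar K D (extC c) s = ∏ k : Fin D.rank, c k ^ K.tab.A k.val s := by
  rw [torusChar, Finset.prod_range]
  exact Finset.prod_congr rfl fun k _ => by simp [extC, k.isLt]

theorem torusChar_eq_one (hK : Fine K D) {c : ℕ → Fˣ}
    (h : ∀ i < D.rank, torusChar K D c (K.p i) = 1) :
    ∀ r < D.nroots, torusChar K D c r = 1 := by
  have hG := hK.toGood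
  have hw : ∀ i < D.rank, ∀ v < D.nroots, torusChar K D c (K.w i v) = torusChar K D c v := by
    intro i hi v hv
    rw [hK.torusChar_w hi c hv]
    congr 1
    funext j
    rw [reflC]
    split_ifs with hj
    · rw [show (∏ k ∈ Finset.range D.rank, c k ^ K.tab.A k (K.p i)) = 1 from h i hi, inv_one, mul_one]
    · rfl
  have hpos : ∀ r, K.npos ≤ r → r < D.nroots → torusChar K D c r = 1 := by
    intro r
    induction r using Nat.strong_induction_on with
    | _ r ih =>
      intro hp hr
      obtain ⟨i, hi, e | ⟨h1, h2⟩⟩ := hK.desc hr hp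
      · subst e; exact h i hi
      · have := ih _ h2 h1 (hG.w_lt hi hr)
        rwa [hw i hi r hr] at this
  intro r hr
  rcases Nat.lt_or_ge r K.npos with h' | h'
  · have hn := hpos (K.neg r) (by rw [hG.Kneg_eq]; have := hG.nroots_eq_two_mul; omega)
      (hG.Kneg_lt hr)
    have := (hK.isCharOn_torusChar c).neg r hr
    rw [hn, ofMul_one, eq_comm, neg_eq_zero, ← ofMul_one] at this
    exact Additive.ofMul.injective this
  · exact hpos r h' hr

theorem tFin_ker (hK : Fine K D) :
    (tFin K D F).ker = (powMat (G := Fˣ) (cartanMat K D.rank)).ker := by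
  ext c
  simp only [MonoidHom.mem_ker]
  constructor
  · intro h
    funext j
    have h' : (dmat D fun s => (torusChar K D (extC c) s : F)) = dmat D fun _ => (1 : F) := by
      rw [dmat_one, ← coe_tU]
      exact congrArg Units.val h
    have : torusChar K D (extC c) (K.p j.val) = 1 :=
      Units.ext ((dmat_inj h' (hK.toGood.p_lt j.isLt)).trans Units.val_one.symm)
    rw [hK.torusChar_extC] at this
    exact this
  · intro h
    have h1 : ∀ r < D.nroots, torusChar K D (extC c) r = 1 := by
      refine hK.torusChar_eq_one fun i hi => ?_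
      rw [hK.torusChar_extC]
      exact congrFun h ⟨i, hi⟩
    refine Units.ext ?_
    show (tU K D (extC c) : GL D.Idx F).val = _
    rw [coe_tU, Units.val_one, ← dmat_one (D := D)]
    exact dmat_congr fun s hs => by rw [h1 s hs, Units.val_one]

theorem tFin_range (hK : Fine K D) : (tFin K D F).range = D.diagonalSubgroup F := by
  refine le_antisymm ?_ ?_
  · rintro g ⟨c, rfl⟩
    exact hK.tU_mem_diagonal _
  · intro g hg
    obtain ⟨c, rfl⟩ := hK.mem_diagonal_iff.1 hg
    refine ⟨fun i => c i.val, Units.ext ?_⟩
    show (tU K D (extC fun i : Fin D.rank => c i.val) : GL D.Idx F).val = _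
    rw [coe_tU, coe_tU]
    refine dmat_congr fun s _ => ?_
    rw [hK.torusChar_extC, torusChar, Finset.prod_range]

theorem card_diagonal (hK : Fine K D) [Fintype F] (U U' V V' : Matrix (Fin D.rank) (Fin D.rank) ℤ)
    (d : Fin D.rank → ℕ) (hU : U * U' = 1) (hU' : U' * U = 1) (hV : V * V' = 1) (hV' : V' * V = 1)
    (hA : U * cartanMat K D.rank * V = Matrix.diagonal fun i => (d i : ℤ)) :
    (∏ i, Nat.gcd (d i) (Fintype.card F - 1)) * Nat.card (D.diagonalSubgroup F) =
      (Fintype.card F - 1) ^ D.rank := by
  classical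
  have hu : Nat.card Fˣ = Fintype.card F - 1 := by
    rw [Nat.card_eq_fintype_card, Fintype.card_units]
  have h1 : Nat.card (powMat (G := Fˣ) (cartanMat K D.rank)).ker =
      ∏ i, Nat.gcd (d i) (Fintype.card F - 1) := by
    rw [card_ker_powMat U U' V V' _ d hU hU' hV hV' hA]
    refine Finset.prod_congr rfl fun i _ => ?_
    rw [IsCyclic.card_powMonoidHom_ker, hu, Nat.gcd_comm]
  have hpow : Nat.card (Fin D.rank → Fˣ) = (Fintype.card F - 1) ^ D.rank := by
    rw [Nat.card_fun, hu, Nat.card_fin]
  rw [← hpow, ← h1, ← hK.tFin_ker, ← hK.tFin_range, ← Subgroup.index_ker, Subgroup.card_mul_index]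

end Fine

end CfsgLib.Chev
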