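import Cfsg.Agent.Chev.PosComb
import Cfsg.Agent.Chev.HCard
import Cfsg.Agent.Chev.Centralizer
import Cfsg.Agent.Chev.Run.Coweight

/-!
Coweights, root subsystems, parabolic subgroups, their Levi decomposition and normalisers.
-/

set_option autoImplicit false

namespace CfsgLib.Chev

open Cfsg.Lie

variable {K : Data} {D : ChevalleyDatum} {F : Type*} [Field F]

/-- the checks used for parabolic subgroups -/
structure Comb (K : Data) (D : ChevalleyDatum) : Prop where
  fine : Fine K D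
  comb : K.combOK = true
  cow : ∃ (B : Matrix (Fin D.rank) (Fin D.rank) ℤ) (d : ℤ), 0 < d ∧
    B * cartanMat K D.rank = Matrix.diagonal fun _ => d

theorem Comb.of_mem {D : ChevalleyDatum}
    (hD : D ∈ [chevG2, chevB2, chevD4, chevF4, chevE6, chevE7, chevE8]) :
    ∃ K : Data, Comb K D := by
  simp only [List.mem_cons, List.not_mem_nil, or_false] at hD
  rcases hD with rfl | rfl | rfl | rfl | rfl | rfl | rfl
  exacts [⟨_, G2.fine, G2.combOK, G2.coweights⟩, ⟨_, B2.fine, B2.combOK, B2.coweights⟩,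
    ⟨_, D4.fine, D4.combOK, D4.coweights⟩, ⟨_, F4.fine, F4.combOK, F4.coweights⟩,
    ⟨_, E6.fine, E6.combOK, E6.coweights⟩, ⟨_, E7.fine, E7.combOK, E7.coweights⟩,
    ⟨_, E8.fine, E8.combOK, E8.coweights⟩]

/-- the positive roots outside a root subsystem -/
def outSet (K : Data) (D : ChevalleyDatum) (J : Set ℕ) : Set ℕ :=
  {r | (K.npos ≤ r ∧ r < D.nroots) ∧ ¬ D.InRootSub J r}

/-- the Weyl group of a root subsystem -/
noncomputable def weylSub (hK : Fine K D) (J : Set ℕ) : Subgroup (Equiv.Perm (Fin D.nroots)) :=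
  Subgroup.closure {σ | ∃ i : Fin D.rank, i.val ∈ J ∧ σ = sPerm hK i}

/-- the monomial elements of a root subsystem -/
noncomputable def monSub (hK : Fine K D) (F : Type*) [Field F] (J : Set ℕ) : Subgroup (GL D.Idx F) :=
  D.diagonalSubgroup F ⊔ Subgroup.closure {g | ∃ i : Fin D.rank, i.val ∈ J ∧ g = sU hK i.val}

theorem Fine.mem_of_xU_mem_genU (hK : Fine K D) {S : Set ℕ} (hS : Fine.ClosedPos hK S) {r : ℕ}
    (hp : K.npos ≤ r) (hr : r < D.nroots) {t : F} (ht : t ≠ 0) (h : xU hK r t ∈ genU hK F S) :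
    r ∈ S := by
  classical
  by_contra hrS
  obtain ⟨a, ha, e⟩ := hK.exists_ordProd hS _ K.npos rfl (xU hK r t)
    (hK.genU_mono (T := {r | r ∈ S ∧ K.npos ≤ r}) (fun r hr => ⟨hr, (hS.pos r hr).1⟩) h)
  have h1 : Fine.ordProd hK K.npos (fun x => if x = r then t else 0) = xU hK r t := by
    rw [hK.ordProd_at hr _ K.npos rfl hp fun x h1 h2 => if_neg (by omega),
      hK.ordProd_zero _ (r + 1) rfl fun x h1 h2 => if_neg (by omega), mul_one, if_pos rfl]
  have := hK.ordProd_inj _ K.npos rfl le_rfl _ _ (h1.trans e) r hp hr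
  rw [if_pos rfl, ha r (Or.inl hrS)] at this
  exact ht this

/-- combinations of the Cartan functionals -/
noncomputable def cFun (K : Data) {l : ℕ} (c : Fin l → ℤ) (r : ℕ) : ℤ := ∑ i, c i * K.tab.A i.val r

namespace Comb

theorem isLin_cFun (hC : Comb K D) (c : Fin D.rank → ℤ) : IsLin K D (cFun K c) :=
  isLin_sum_cartan' hC.fine c
where
  isLin_sum_cartan' (hK : Fine K D) (c : Fin D.rank → ℤ) : IsLin K D (cFun K c) :=
    { neg := fun r hr => by
        simp only [cFun]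
        rw [← Finset.sum_neg_distrib]
        refine Finset.sum_congr rfl fun i _ => ?_
        rw [(hK.isLin_cartan i.isLt).neg r hr, mul_neg]
      chain := fun r hr s hs q hq => by
        simp only [cFun]
        rw [Finset.smul_sum, ← Finset.sum_add_distrib]
        refine Finset.sum_congr rfl fun i _ => ?_
        rw [(hK.isLin_cartan i.isLt).chain r hr s hs q hq, nsmul_eq_mul, nsmul_eq_mul]
        ring }

theorem cFun_w (hC : Comb K D) (c : Fin D.rank → ℤ) {i : ℕ} (hi : i < D.rank) {v : ℕ}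
    (hv : v < D.nroots) : cFun K c (K.w i v) = cFun K c v - K.tab.A i v * cFun K c (K.p i) := by
  simp only [cFun, Finset.mul_sum, ← Finset.sum_sub_distrib]
  refine Finset.sum_congr rfl fun k _ => ?_
  rw [((hC.fine.coroot_facts.2 i hi).2 k.val k.isLt).2 v hv]
  ring

/-- linear functions with prescribed values on the fundamental roots -/
theorem exists_coweight (hC : Comb K D) (T : Set ℕ) :
    ∃ c : Fin D.rank → ℤ, ∀ i : Fin D.rank,
      (i.val ∈ T → cFun K c (K.p i.val) = 0) ∧ (i.val ∉ T → 0 < cFun K c (K.p i.val)) := by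
  classical
  obtain ⟨B, d, hd, hB⟩ := hC.cow
  refine ⟨fun k => ∑ j ∈ Finset.univ.filter (fun j : Fin D.rank => j.val ∉ T), B j k, fun i => ?_⟩
  have e : cFun K (fun k => ∑ j ∈ Finset.univ.filter (fun j : Fin D.rank => j.val ∉ T), B j k)
      (K.p i.val) = ∑ j ∈ Finset.univ.filter (fun j : Fin D.rank => j.val ∉ T),
        (Matrix.diagonal fun _ => d) j i := by
    simp only [cFun, Finset.sum_mul]
    rw [Finset.sum_comm]
    refine Finset.sum_congr rfl fun j _ => ?_
    rw [← hB, Matrix.mul_apply]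
    rfl
  rw [e]
  constructor
  · intro hiT
    refine Finset.sum_eq_zero fun j hj => Matrix.diagonal_apply_ne _ ?_
    rintro rfl
    exact (Finset.mem_filter.1 hj).2 hiT
  · intro hiT
    rw [Finset.sum_eq_single i (fun j _ hne => Matrix.diagonal_apply_ne _ hne)
      (fun h => absurd (by simp [hiT]) h), Matrix.diagonal_apply_eq]
    exact hd

theorem nonneg_of_simple (hC : Comb K D) {f : ℕ → ℤ} (hf : IsLin K D f)
    (h : ∀ i : Fin D.rank, 0 ≤ f (K.p i.val)) :
    ∀ v, K.npos ≤ v → v < D.nroots → 0 ≤ f v := by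
  intro v
  induction v using Nat.strong_induction_on with
  | _ v ih =>
    intro hp hv
    obtain ⟨i, hi, e | ⟨h1, h2, -, k, -, hlin⟩⟩ := hC.fine.comb_step hC.comb hp hv
    · exact e ▸ h ⟨i, hi⟩
    · have a := ih _ h2 h1 (hC.fine.toGood.w_lt hi hv)
      have b := h ⟨i, hi⟩
      rw [hlin f hf, nsmul_eq_mul]
      positivity

theorem inRootSub_iff (hC : Comb K D) {J : Set ℕ} {r : ℕ} (hr : r < D.nroots) :
    D.InRootSub J r ↔ ∀ i < D.rank, i ∉ J → K.tab.C r i = 0 := by
  have e := hC.fine.toGood.fits.coroot_eq r hr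
  exact ⟨fun h i hi hJ => e i hi ▸ h.2 i hi hJ, fun h => ⟨hr, fun i hi hJ => (e i hi).trans (h i hi hJ)⟩⟩

theorem inRootSub_neg (hC : Comb K D) {J : Set ℕ} {r : ℕ} (hr : r < D.nroots) :
    D.InRootSub J (K.neg r) ↔ D.InRootSub J r := by
  rw [hC.inRootSub_iff (hC.fine.toGood.Kneg_lt hr), hC.inRootSub_iff hr]
  refine forall₃_congr fun i hi _ => ?_
  rw [((hC.fine.coroot_facts.1 r hr).2 i hi).2.1, neg_eq_zero]

theorem inRootSub_w (hC : Comb K D) {J : Set ℕ} {i : ℕ} (hi : i < D.rank) (hiJ : i ∈ J) {r : ℕ}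
    (hr : r < D.nroots) : D.InRootSub J (K.w i r) ↔ D.InRootSub J r := by
  rw [hC.inRootSub_iff (hC.fine.toGood.w_lt hi hr), hC.inRootSub_iff hr]
  refine forall₃_congr fun k hk hkJ => ?_
  rw [hC.fine.comb_coef hC.comb hi hk (fun e => hkJ (e ▸ hiJ)) hr]

theorem inRootSub_p (hC : Comb K D) {J : Set ℕ} {i : ℕ} (hi : i < D.rank) :
    D.InRootSub J (K.p i) ↔ i ∈ J := by
  rw [hC.inRootSub_iff (hC.fine.toGood.p_lt hi)]
  constructor
  · intro h
    by_contra hiJ
    have := h i hi hiJ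
    rw [((hC.fine.coroot_facts.2 i hi).2 i hi).1, if_pos rfl] at this
    exact one_ne_zero this
  · intro hiJ k hk hkJ
    rw [((hC.fine.coroot_facts.2 i hi).2 k hk).1, if_neg fun e => hkJ (by rw [← e]; exact hiJ)]

/-- a coweight of `J` detects membership of positive roots -/
theorem cow_pos (hC : Comb K D) {J : Set ℕ} {c : Fin D.rank → ℤ}
    (hc : ∀ i : Fin D.rank, (i.val ∈ J → cFun K c (K.p i.val) = 0) ∧
      (i.val ∉ J → 0 < cFun K c (K.p i.val))) :
    ∀ v, K.npos ≤ v → v < D.nroots →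
      0 ≤ cFun K c v ∧ (cFun K c v = 0 ↔ D.InRootSub J v) := by
  have hf := hC.isLin_cFun c
  have hnn : ∀ i : Fin D.rank, 0 ≤ cFun K c (K.p i.val) := fun i => by
    by_cases h : i.val ∈ J
    · exact ((hc i).1 h).ge
    · exact ((hc i).2 h).le
  intro v
  induction v using Nat.strong_induction_on with
  | _ v ih =>
    intro hp hv
    refine ⟨hC.nonneg_of_simple hf hnn v hp hv, ?_⟩
    obtain ⟨i, hi, e | ⟨h1, h2, hCi, k, hk, hlin⟩⟩ := hC.fine.comb_step hC.comb hp hv
    · subst e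
      rw [hC.inRootSub_p hi]
      exact ⟨fun h => by_contra fun hiJ => ((hc ⟨i, hi⟩).2 hiJ).ne' h, fun h => (hc ⟨i, hi⟩).1 h⟩
    · have hw := hC.fine.toGood.w_lt hi hv
      obtain ⟨i1, i2⟩ := ih _ h2 h1 hw
      have hk' : (0 : ℤ) < (k : ℤ) := by exact_mod_cast hk
      rw [hlin _ hf, nsmul_eq_mul]
      by_cases hiJ : i ∈ J
      · rw [(hc ⟨i, hi⟩).1 hiJ, mul_zero, zero_add, i2, hC.inRootSub_w hi hiJ hv]
      · have h0 := (hc ⟨i, hi⟩).2 hiJ
        refine ⟨fun h => absurd h ?_, fun h => absurd ((hC.inRootSub_iff hv).1 h i hi hiJ) hCi.ne'⟩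
        have : (0 : ℤ) < (k : ℤ) * cFun K c (K.p i) := mul_pos hk' h0
        omega

theorem cow_zero_iff (hC : Comb K D) {J : Set ℕ} {c : Fin D.rank → ℤ}
    (hc : ∀ i : Fin D.rank, (i.val ∈ J → cFun K c (K.p i.val) = 0) ∧
      (i.val ∉ J → 0 < cFun K c (K.p i.val))) {v : ℕ} (hv : v < D.nroots) :
    (cFun K c v = 0 ↔ D.InRootSub J v) ∧ (0 < cFun K c v ↔ v ∈ outSet K D J) := by
  have hG := hC.fine.toGood
  rcases Nat.lt_or_ge v K.npos with h | h
  · obtain ⟨h1, h2⟩ := hC.cow_pos hc (K.neg v)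
      (by rw [hG.Kneg_eq]; have := hG.nroots_eq_two_mul; omega) (hG.Kneg_lt hv)
    rw [(hC.isLin_cFun c).neg v hv] at h1 h2
    rw [hC.inRootSub_neg hv, neg_eq_zero] at h2
    refine ⟨h2, ⟨fun h' => absurd h' (by omega), fun h' => absurd h'.1.1 (Nat.not_le.2 h)⟩⟩
  · obtain ⟨h1, h2⟩ := hC.cow_pos hc v h hv
    refine ⟨h2, ⟨fun h' => ⟨⟨h, hv⟩, fun hin => h'.ne' (h2.2 hin)⟩, fun h' => ?_⟩⟩
    exact lt_of_le_of_ne h1 (Ne.symm fun e => h'.2 (h2.1 e))

theorem closedPos_outSet (hC : Comb K D) (J : Set ℕ) : Fine.ClosedPos hC.fine (outSet K D J) where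
  pos r hr := hr.1
  closed r hr s hs e he := by
    obtain ⟨c, hc⟩ := hC.exists_coweight J
    obtain ⟨h1, h2, h3⟩ := hC.fine.toGood.comm_mem hr.1.2 hs.1.2 he
    have h := hC.fine.comm_weight (hC.isLin_cFun c) hr.1.2 hs.1.2 he
    simp only [nsmul_eq_mul] at h
    have a := (hC.cow_zero_iff hc hr.1.2).2.2 hr
    have b := (hC.cow_zero_iff hc hs.1.2).2.2 hs
    have h2' : (0 : ℤ) < (e.2.2.1 : ℤ) := by exact_mod_cast h2
    have h3' : (0 : ℤ) < (e.2.2.2 : ℤ) := by exact_mod_cast h3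
    refine (hC.cow_zero_iff hc h1).2.1 ?_
    rw [h]
    positivity

theorem unipotentRadical_eq (hC : Comb K D) (J : Set ℕ) :
    D.unipotentRadical F J = genU hC.fine F (outSet K D J) := by
  unfold ChevalleyDatum.unipotentRadical genU
  congr 1
  ext g
  constructor
  · rintro ⟨r, t, hr, hJ, hg⟩
    exact ⟨r, ⟨(hC.fine.toGood.isPosRoot_iff r).1 hr, hJ⟩, t, eq_xU hC.fine hg⟩
  · rintro ⟨r, hr, t, rfl⟩
    exact ⟨r, t, (hC.fine.toGood.isPosRoot_iff r).2 hr.1, hr.2, coe_xU _ _ _⟩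

/-- the parabolic set of roots: positive or in the subsystem -/
def parRoots (K : Data) (D : ChevalleyDatum) (J : Set ℕ) : Set ℕ :=
  {r | r < D.nroots ∧ (K.npos ≤ r ∨ D.InRootSub J r)}

theorem sU_mem_genU (hC : Comb K D) {T : Set ℕ} {i : ℕ} (hi : i < D.rank) (h1 : K.p i ∈ T)
    (h2 : K.neg (K.p i) ∈ T) : sU hC.fine i ∈ genU hC.fine F T := by
  have hG := hC.fine.toGood
  refine hC.fine.wordU_mem_genU fun p hp => ?_
  simp only [ChevalleyDatum.nWord, List.mem_cons, List.not_mem_nil, or_false, hG.simple_eq hi,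
    hG.neg_eq (hG.p_lt hi), ← hG.Kneg_eq] at hp
  rcases hp with rfl | rfl | rfl
  · exact h1
  · exact h2
  · exact h1

theorem parabolic_eq (hC : Comb K D) (J : Set ℕ) :
    D.parabolicSubgroup F J = D.diagonalSubgroup F ⊔ genU hC.fine F (parRoots K D J) := by
  have hK := hC.fine
  have hG := hK.toGood
  refine le_antisymm (sup_le ?_ ?_) (sup_le ?_ ?_)
  · intro b hb
    obtain ⟨u, hu, h, hh, rfl⟩ := hK.mem_borel_iff.1 hb
    refine Subgroup.mul_mem _ (Subgroup.mem_sup_right ?_) (Subgroup.mem_sup_left hh)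
    rw [hK.posUnipotent_eq] at hu
    exact hK.genU_mono (T := parRoots K D J) (fun r hr => ⟨hr.2, Or.inl hr.1⟩) hu
  · refine (Subgroup.closure_le _).2 ?_
    rintro g ⟨j, hjJ, hj, hg⟩
    rw [show g = sU hK j from Units.ext (hg.trans (coe_sU hK j).symm)]
    refine Subgroup.mem_sup_right (hC.sU_mem_genU hj ?_ ?_)
    · exact ⟨hG.p_lt hj, Or.inl (hG.npos_le_p hj)⟩
    · exact ⟨hG.Kneg_lt (hG.p_lt hj),
        Or.inr ((hC.inRootSub_neg (hG.p_lt hj)).2 ((hC.inRootSub_p hj).2 hjJ))⟩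
  · exact le_trans le_sup_right le_sup_left
  · refine (Subgroup.closure_le _).2 ?_
    rintro g ⟨r, ⟨hr, hrJ⟩, t, rfl⟩
    have hpos : ∀ v, K.npos ≤ v → v < D.nroots → ∀ u : F, xU hK v u ∈ D.parabolicSubgroup F J :=
      fun v h1 h2 u => Subgroup.mem_sup_left (hK.xU_mem_borel h1 u)
    have hs : ∀ j < D.rank, j ∈ J → sU hK j ∈ D.parabolicSubgroup F J := fun j hj hjJ =>
      Subgroup.mem_sup_right (Subgroup.subset_closure ⟨j, hjJ, hj, coe_sU hK j⟩)
    have hneg : ∀ v, K.npos ≤ v → v < D.nroots → D.InRootSub J v →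
        ∀ u : F, xU hK (K.neg v) u ∈ D.parabolicSubgroup F J := by
      intro v
      induction v using Nat.strong_induction_on with
      | _ v ih =>
        intro hv1 hv2 hvJ u
        obtain ⟨i, hi, e | ⟨h1, h2, hCi, -, -, -⟩⟩ := hK.comb_step hC.comb hv1 hv2
        · subst e
          rw [hK.neg_p_eq_conj hi]
          have hiJ := (hC.inRootSub_p hi).1 hvJ
          exact Subgroup.mul_mem _ (Subgroup.mul_mem _ (hs i hi hiJ) (hpos _ hv1 hv2 _))
            (Subgroup.inv_mem _ (hs i hi hiJ))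
        · have hiJ : i ∈ J := by
            by_contra hiJ
            exact hCi.ne' ((hC.inRootSub_iff hv2).1 hvJ i hi hiJ)
          have hw := hG.w_lt hi hv2
          have e := hK.sU_conj_xU (F := F) hi (hG.Kneg_lt hw) ((K.eta i (K.neg (K.w i v)) : F) * u)
          rw [hG.w_neg hi hw, hG.w_w hi hv2, ← mul_assoc, ← Int.cast_mul, Good.eta_sq, Int.cast_one,
            one_mul] at e
          rw [← e]
          exact Subgroup.mul_mem _ (Subgroup.mul_mem _ (hs i hi hiJ)
            (ih _ h2 h1 hw ((hC.inRootSub_w hi hiJ hv2).2 hvJ) _))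
            (Subgroup.inv_mem _ (hs i hi hiJ))
    rcases Nat.lt_or_ge r K.npos with h | h
    · have h' := hneg (K.neg r) (by rw [hG.Kneg_eq]; have := hG.nroots_eq_two_mul; omega)
        (hG.Kneg_lt hr) ((hC.inRootSub_neg hr).2 (hrJ.resolve_left (Nat.not_le.2 h))) t
      rwa [hG.Kneg_Kneg hr] at h'
    · exact hpos r h hr t

theorem parabolic_eq' (hC : Comb K D) (J : Set ℕ) :
    D.parabolicSubgroup F J = D.diagonalSubgroup F ⊔ Subgroup.closure
      {g : GL D.Idx F | ∃ (r : ℕ) (t : F), (D.IsPosRoot r ∨ D.InRootSub J r) ∧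
        (g : Matrix D.Idx D.Idx F) = D.x F r t} := by
  rw [hC.parabolic_eq]
  unfold genU
  congr 2
  ext g
  constructor
  · rintro ⟨r, ⟨hr, h⟩, t, rfl⟩
    exact ⟨r, t, h.imp (fun h' => (hC.fine.toGood.isPosRoot_iff r).2 ⟨h', hr⟩) id, coe_xU _ _ _⟩
  · rintro ⟨r, t, h, hg⟩
    rcases h with h | h
    · obtain ⟨h1, h2⟩ := (hC.fine.toGood.isPosRoot_iff r).1 h
      exact ⟨r, ⟨h2, Or.inl h1⟩, t, eq_xU hC.fine hg⟩
    · exact ⟨r, ⟨h.1, Or.inr h⟩, t, eq_xU hC.fine hg⟩

theorem parabolic_le_normalizer (hC : Comb K D) (J : Set ℕ) :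
    D.parabolicSubgroup F J ≤ Subgroup.normalizer (D.unipotentRadical F J : Set (GL D.Idx F)) := by
  have hK := hC.fine
  obtain ⟨c, hc⟩ := hC.exists_coweight J
  rw [hC.parabolic_eq, hC.unipotentRadical_eq]
  refine sup_le (hK.diagonal_le_normalizer_genU _) ((Subgroup.closure_le _).2 ?_)
  rintro g ⟨r, ⟨hr, hrJ⟩, t, rfl⟩
  refine hK.xU_mem_normalizer hr (fun s hs hsn => ?_) t
  by_cases hsr : s = r
  · exact Or.inl hsr
  have hr0 : 0 ≤ cFun K c r := by
    rcases hrJ with h | h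
    · exact (hC.cow_pos hc r h hr).1
    · exact ((hC.cow_zero_iff hc hr).1.2 h).ge
  have hs0 := (hC.cow_zero_iff hc hsn).2.2 hs
  refine Or.inr ⟨fun e => ?_, fun e he => ?_⟩
  · rw [e, (hC.isLin_cFun c).neg r hr] at hs0
    omega
  · obtain ⟨h1, h2, h3⟩ := hK.toGood.comm_mem hr hsn he
    have h := hK.comm_weight (hC.isLin_cFun c) hr hsn he
    simp only [nsmul_eq_mul] at h
    refine (hC.cow_zero_iff hc h1).2.1 ?_
    rw [h]
    have h3' : (0 : ℤ) < (e.2.2.2 : ℤ) := by exact_mod_cast h3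
    positivity

/-- matrices preserving the weights of `f` -/
theorem xU_preserve (hC : Comb K D) {f : ℕ → ℤ} (hf : IsLin K D f) {r : ℕ} (hr : r < D.nroots)
    (h : f r = 0) (t : F) (a b : D.Idx) (hne : (xU hC.fine r t : Matrix D.Idx D.Idx F) a b ≠ 0) :
    wt D f a = wt D f b := by
  rw [coe_xU, x_of_lt D hr, xMat_apply_eq_evalCol] at hne
  obtain ⟨x, hx, hx0⟩ : ∃ x ∈ (colList D r (code D b)).map
      (fun e => if e.1 = code D a then (e.2.2 : F) * t ^ e.2.1 else 0), x ≠ 0 := by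
    by_contra hcon
    push_neg at hcon
    exact hne (List.sum_eq_zero hcon)
  obtain ⟨e, he, rfl⟩ := List.mem_map.1 hx
  by_cases hea : e.1 = code D a
  · rw [hC.fine.toGood.col_weight hf hr a b he hea, h, smul_zero, add_zero]
  · exact absurd (if_neg hea) hx0

theorem levi_preserve (hC : Comb K D) {J : Set ℕ} {c : Fin D.rank → ℤ}
    (hc : ∀ i : Fin D.rank, (i.val ∈ J → cFun K c (K.p i.val) = 0) ∧
      (i.val ∉ J → 0 < cFun K c (K.p i.val))) {g : GL D.Idx F}
    (hg : g ∈ D.leviSubgroup F J) :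
    ∀ a b : D.Idx, (g : Matrix D.Idx D.Idx F) a b ≠ 0 → wt D (cFun K c) a = wt D (cFun K c) b := by
  classical
  let P : GL D.Idx F → Prop := fun g => ∀ a b : D.Idx, (g : Matrix D.Idx D.Idx F) a b ≠ 0 →
    wt D (cFun K c) a = wt D (cFun K c) b
  have hmul : ∀ g h : GL D.Idx F, P g → P h → P (g * h) := by
    intro g h hg hh a b hne
    rw [Units.val_mul, Matrix.mul_apply] at hne
    obtain ⟨x, -, hx⟩ := Finset.exists_ne_zero_of_sum_ne_zero hne
    exact (hg a x (left_ne_zero_of_mul hx)).trans (hh x b (right_ne_zero_of_mul hx))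
  have hdiag : ∀ h ∈ D.diagonalSubgroup F, P h := fun h hh a b hne => by
    by_cases hab : a = b
    · rw [hab]
    · exact absurd (hC.fine.diagonal_offdiag hh hab) hne
  unfold ChevalleyDatum.leviSubgroup at hg
  rw [← Subgroup.closure_eq (D.diagonalSubgroup F), ← Subgroup.closure_union] at hg
  show P g
  induction hg using Subgroup.closure_induction_left with
  | one => exact hdiag 1 (Subgroup.one_mem _)
  | mul_left x hx y _ hy =>
    refine hmul x y ?_ hy
    rcases hx with hx | ⟨r, t, hr, hx⟩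
    · exact hdiag x hx
    · rw [eq_xU hC.fine hx]
      exact hC.xU_preserve (hC.isLin_cFun c) hr.1 ((hC.cow_zero_iff hc hr.1).1.2 hr) t
  | inv_mul_cancel x hx y _ hy =>
    refine hmul x⁻¹ y ?_ hy
    rcases hx with hx | ⟨r, t, hr, hx⟩
    · exact hdiag _ (Subgroup.inv_mem _ hx)
    · rw [eq_xU hC.fine hx, xU_inv]
      exact hC.xU_preserve (hC.isLin_cFun c) hr.1 ((hC.cow_zero_iff hc hr.1).1.2 hr) (-t)

theorem radical_inf_levi (hC : Comb K D) (J : Set ℕ) :
    D.unipotentRadical F J ⊓ D.leviSubgroup F J = ⊥ := by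
  obtain ⟨c, hc⟩ := hC.exists_coweight J
  rw [Subgroup.eq_bot_iff_forall]
  rintro g ⟨hU, hL⟩
  rw [SetLike.mem_coe, hC.unipotentRadical_eq] at hU
  obtain ⟨h1, h2⟩ := hC.fine.genU_raise (hC.isLin_cFun c) one_pos
    (fun r hr hrn => (hC.cow_zero_iff hc hrn).2.2 hr) hU
  refine Units.ext ?_
  ext a b
  by_cases hab : a = b
  · subst hab
    rw [h1, Units.val_one, Matrix.one_apply_eq]
  · rw [Units.val_one, Matrix.one_apply_ne hab]
    by_contra hne
    have e1 := h2 a b hab hne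
    have e2 := hC.levi_preserve hc hL a b hne
    omega

theorem radical_sup_levi (hC : Comb K D) (J : Set ℕ) :
    D.unipotentRadical F J ⊔ D.leviSubgroup F J = D.parabolicSubgroup F J := by
  rw [hC.parabolic_eq]
  unfold ChevalleyDatum.leviSubgroup
  refine le_antisymm (sup_le ?_ (sup_le le_sup_left ?_))
    (sup_le (le_trans le_sup_left le_sup_right) ?_)
  · rw [hC.unipotentRadical_eq]
    exact le_trans (hC.fine.genU_mono (T := parRoots K D J) fun r hr => ⟨hr.1.2, Or.inl hr.1.1⟩) le_sup_right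
  · refine (Subgroup.closure_le _).2 ?_
    rintro g ⟨r, t, hr, hg⟩
    rw [eq_xU hC.fine hg]
    exact Subgroup.mem_sup_right (hC.fine.mem_genU (T := parRoots K D J) ⟨hr.1, Or.inr hr⟩ t)
  · refine (Subgroup.closure_le _).2 ?_
    rintro g ⟨r, ⟨hr, hrJ⟩, t, rfl⟩
    by_cases hin : D.InRootSub J r
    · exact Subgroup.mem_sup_right (Subgroup.mem_sup_right
        (Subgroup.subset_closure ⟨r, t, hin, coe_xU _ _ _⟩))
    · refine Subgroup.mem_sup_left ?_
      rw [hC.unipotentRadical_eq]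
      exact hC.fine.mem_genU (T := outSet K D J) ⟨⟨hrJ.resolve_right hin, hr⟩, hin⟩ t

/-! ### The Weyl group of a subsystem -/

theorem outSet_sPerm (hC : Comb K D) {J : Set ℕ} {i : Fin D.rank} (hi : i.val ∈ J) {r : ℕ}
    (hr : r ∈ outSet K D J) : permNat (sPerm hC.fine i) r ∈ outSet K D J := by
  have hG := hC.fine.toGood
  rw [show permNat (sPerm hC.fine i) r = (sPerm hC.fine i ⟨r, hr.1.2⟩).val from
    permNat_fin _ ⟨r, hr.1.2⟩, sPerm_val]
  refine ⟨⟨hG.npos_le_w i.isLt hr.1.2 hr.1.1 fun e => hr.2 ?_, hG.w_lt i.isLt hr.1.2⟩,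
    fun h => hr.2 ((hC.inRootSub_w i.isLt hi hr.1.2).1 h)⟩
  rw [show r = K.p i.val from e]
  exact (hC.inRootSub_p i.isLt).2 hi

theorem descent_mem (hC : Comb K D) {J : Set ℕ} {L : List (Fin D.rank)}
    (hL : ∀ r ∈ outSet K D J, permNat (wPerm hC.fine L) r ∈ outSet K D J) {j : Fin D.rank}
    (hj : (wPerm hC.fine L (pFin hC.fine j)).val < K.npos) : j.val ∈ J := by
  by_contra hjJ
  have hp : K.p j.val ∈ outSet K D J := ⟨⟨hC.fine.toGood.npos_le_p j.isLt, hC.fine.toGood.p_lt j.isLt⟩,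
    fun h => hjJ ((hC.inRootSub_p j.isLt).1 h)⟩
  have h := (hL _ hp).1.1
  rw [show K.p j.val = (pFin hC.fine j).val from rfl, permNat_fin] at h
  omega

/-- an element preserving the outside roots belongs to the subsystem -/
theorem stab_outSet (hC : Comb K D) {J : Set ℕ} : ∀ (m : ℕ) (L : List (Fin D.rank)), L.length ≤ m →
    (∀ r ∈ outSet K D J, permNat (wPerm hC.fine L) r ∈ outSet K D J) →
      sWord hC.fine F L ∈ monSub hC.fine F J ∧ wPerm hC.fine L ∈ weylSub hC.fine J := by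
  have hK := hC.fine
  intro m
  induction m with
  | zero =>
    intro L hL _
    rw [List.length_eq_zero_iff.1 (Nat.le_zero.1 hL)]
    exact ⟨Subgroup.one_mem _, by simp [wPerm]⟩
  | succ m ih =>
    intro L hL hfix
    by_cases h1 : wPerm hC.fine L = 1
    · exact ⟨Subgroup.mem_sup_left (hK.sWord_mem_diagonal L.length L le_rfl h1),
        h1 ▸ Subgroup.one_mem _⟩
    obtain ⟨j, hj⟩ := hK.exists_descent L.length L le_rfl h1
    have hjJ := hC.descent_mem hfix hj
    obtain ⟨L', hlen, hperm, t, ht, hword⟩ := hK.exchange_word (F := F) L j hj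
    have hfix' : ∀ r ∈ outSet K D J, permNat (wPerm hC.fine L') r ∈ outSet K D J := by
      intro r hr
      have h2 := hfix _ (hC.outSet_sPerm hjJ hr)
      have hr' := (hC.outSet_sPerm hjJ hr).1.2
      rw [show permNat (sPerm hC.fine j) r = (sPerm hC.fine j ⟨r, hr.1.2⟩).val from
        permNat_fin _ ⟨r, hr.1.2⟩, permNat_fin] at h2
      rw [show permNat (wPerm hC.fine L') r = (wPerm hC.fine L' ⟨r, hr.1.2⟩).val from
        permNat_fin _ ⟨r, hr.1.2⟩, hperm, Equiv.Perm.mul_apply]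
      exact h2
    obtain ⟨i1, i2⟩ := ih L' (by omega) hfix'
    constructor
    · rw [show sWord hC.fine F L = t * sWord hC.fine F L' * (sU hC.fine j.val)⁻¹ from
        eq_mul_inv_iff_mul_eq.2 hword]
      exact Subgroup.mul_mem _ (Subgroup.mul_mem _ (Subgroup.mem_sup_left ht) i1)
        (Subgroup.inv_mem _ (Subgroup.mem_sup_right (Subgroup.subset_closure ⟨j, hjJ, rfl⟩)))
    · rw [show wPerm hC.fine L = wPerm hC.fine L' * (sPerm hC.fine j)⁻¹ from
        eq_mul_inv_iff_mul_eq.2 hperm.symm]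
      exact Subgroup.mul_mem _ i2 (Subgroup.inv_mem _ (Subgroup.subset_closure ⟨j, hjJ, rfl⟩))

theorem monSub_le_parabolic (hC : Comb K D) (J : Set ℕ) :
    monSub hC.fine F J ≤ D.parabolicSubgroup F J := by
  refine sup_le (le_trans le_sup_right le_sup_left) ((Subgroup.closure_le _).2 ?_)
  rintro g ⟨i, hi, rfl⟩
  exact Subgroup.mem_sup_right (Subgroup.subset_closure ⟨i.val, hi, i.isLt, coe_sU hC.fine i.val⟩)

theorem parabolic_le_group (hC : Comb K D) (J : Set ℕ) : D.parabolicSubgroup F J ≤ D.group F := by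
  refine sup_le hC.fine.borel_le_group ((Subgroup.closure_le _).2 ?_)
  rintro g ⟨j, -, hj, hg⟩
  rw [show g = sU hC.fine j from Units.ext (hg.trans (coe_sU hC.fine j).symm)]
  exact hC.fine.monomial_le_group (hC.fine.sU_mem_monomial hj)

theorem normalizer_radical (hC : Comb K D) (J : Set ℕ) :
    Subgroup.normalizer (D.unipotentRadical F J : Set (GL D.Idx F)) ⊓ D.group F =
      D.parabolicSubgroup F J := by
  have hK := hC.fine
  refine le_antisymm ?_ (le_inf (hC.parabolic_le_normalizer J) (hC.parabolic_le_group J))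
  rintro g ⟨hn, hg⟩
  obtain ⟨b, hb, L, u, hu, rfl⟩ := hK.normal_form_exists hg
  have hbP : b ∈ D.parabolicSubgroup F J := Subgroup.mem_sup_left hb
  have huP : u ∈ D.parabolicSubgroup F J :=
    Subgroup.mem_sup_left (Subgroup.mem_sup_left (hK.invSet_le_pos _ hu))
  have hs : sWord hC.fine F L ∈ Subgroup.normalizer (D.unipotentRadical F J : Set (GL D.Idx F)) := by
    have := Subgroup.mul_mem _ (Subgroup.mul_mem _
      (Subgroup.inv_mem _ (hC.parabolic_le_normalizer J hbP)) hn)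
      (Subgroup.inv_mem _ (hC.parabolic_le_normalizer J huP))
    rwa [show b⁻¹ * (b * sWord hC.fine F L * u) * u⁻¹ = sWord hC.fine F L by group] at this
  have hfix : ∀ r ∈ outSet K D J, permNat (wPerm hC.fine L) r ∈ outSet K D J := by
    intro r hr
    obtain ⟨a, ha⟩ := hK.moves_sWord (F := F) L ⟨r, hr.1.2⟩
    have hmem := (Subgroup.mem_normalizer_iff.1 hs (xU hK r 1)).1 (by
      rw [hC.unipotentRadical_eq]; exact hK.mem_genU hr _)
    rw [hC.unipotentRadical_eq, ha 1, mul_one] at hmem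
    rw [show permNat (wPerm hC.fine L) r = (wPerm hC.fine L ⟨r, hr.1.2⟩).val from
      permNat_fin _ ⟨r, hr.1.2⟩]
    set s := wPerm hC.fine L ⟨r, hr.1.2⟩
    rcases Nat.lt_or_ge s.val K.npos with hlt | hge
    · exfalso
      have hm : xU hK s.val (a : F) ∈ D.borelSubgroup F ⊓ D.negUnipotent F := by
        refine ⟨Subgroup.mem_sup_left ?_, ?_⟩
        · rw [hK.posUnipotent_eq]
          exact hK.genU_mono (fun x hx => hx.1) hmem
        · rw [SetLike.mem_coe, hK.negUnipotent_eq]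
          exact hK.mem_genU (T := {r | r < K.npos}) hlt _
      rw [hK.borel_inf_neg, Subgroup.mem_bot] at hm
      exact a.ne_zero ((hK.xU_eq_one_iff s.isLt _).1 hm)
    · exact hK.mem_of_xU_mem_genU (hC.closedPos_outSet J) hge s.isLt a.ne_zero hmem
  have hL := (hC.stab_outSet (F := F) L.length L le_rfl hfix).1
  exact Subgroup.mul_mem _ (Subgroup.mul_mem _ hbP (hC.monSub_le_parabolic J hL)) huP

end Comb

end CfsgLib.Chev
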