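import Cfsg.Agent.Chev.Coxeter
import Cfsg.Agent.Chev.Parabolic
import Cfsg.Agent.Chev.LiftCheck

/-!
Groups with root elements satisfying Steinberg's first two relations: the root elements of such a
group multiply as in the Chevalley group on every set of roots made positive by a Weyl element, and
the fundamental monomial words move them as in the Chevalley group.
-/

set_option autoImplicit false

namespace CfsgLib.Chev

open Cfsg.Lie

variable {K : Data} {D : ChevalleyDatum} {F : Type*} [Field F]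

/-- a group with root elements satisfying the additivity and commutator relations, over the Chevalley group -/
structure Lift (hK : Fine K D) (F : Type*) [Field F] (G : Type*) [Group G] where
  /-- root elements -/
  e : ℕ → F → G
  e_out : ∀ r t, ¬ r < D.nroots → e r t = 1
  e_add : ∀ r t u, e r t * e r u = e r (t + u)
  e_comm : ∀ r s t u, r < D.nroots → s < D.nroots → s ≠ r → s ≠ D.neg r →
    (e s u)⁻¹ * (e r t)⁻¹ * e s u * e r t = ((D.commWord F r s t u).map fun p => e p.1 p.2).prod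
  /-- projection -/
  proj : G →* GL D.Idx F
  proj_e : ∀ r t, proj (e r t) = xU hK r t
  gen : Subgroup.closure {g : G | ∃ r t, g = e r t} = ⊤

namespace Lift

variable {hK : Fine K D} {G : Type*} [Group G]

/-- the product of the root elements of a word -/
def word (c : Lift hK F G) (w : List (ℕ × F)) : G := (w.map fun p => c.e p.1 p.2).prod

/-- subgroup generated by the root elements of a set of roots -/
def genC (c : Lift hK F G) (T : Set ℕ) : Subgroup G := Subgroup.closure {g | ∃ r ∈ T, ∃ t : F, g = c.e r t}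

theorem proj_word (c : Lift hK F G) (w : List (ℕ × F)) : c.proj (c.word w) = wordU hK w := by
  rw [word, map_list_prod, List.map_map, wordU]
  congr 1
  exact List.map_congr_left fun p _ => c.proj_e p.1 p.2

theorem word_append (c : Lift hK F G) (v w : List (ℕ × F)) : c.word (v ++ w) = c.word v * c.word w := by
  simp [word]

theorem e_zero (c : Lift hK F G) (r : ℕ) : c.e r 0 = 1 := by
  have h := c.e_add r 0 0
  rwa [add_zero, mul_eq_left] at h

theorem e_inv (c : Lift hK F G) (r : ℕ) (t : F) : (c.e r t)⁻¹ = c.e r (-t) :=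
  inv_eq_of_mul_eq_one_right (by rw [c.e_add, add_neg_cancel, c.e_zero])

theorem mem_genC (c : Lift hK F G) {T : Set ℕ} {r : ℕ} (hr : r ∈ T) (t : F) : c.e r t ∈ c.genC T :=
  Subgroup.subset_closure ⟨r, hr, t, rfl⟩

theorem genC_mono (c : Lift hK F G) {S T : Set ℕ} (h : S ⊆ T) : c.genC S ≤ c.genC T :=
  Subgroup.closure_mono fun _ ⟨r, hr, t, e⟩ => ⟨r, h hr, t, e⟩

theorem word_mem (c : Lift hK F G) {T : Set ℕ} {w : List (ℕ × F)} (h : ∀ p ∈ w, p.1 ∈ T) :
    c.word w ∈ c.genC T :=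
  Subgroup.list_prod_mem _ fun g hg => by
    obtain ⟨p, hp, rfl⟩ := List.mem_map.1 hg
    exact c.mem_genC (h p hp) p.2

theorem proj_genC (c : Lift hK F G) {T : Set ℕ} {g : G} (hg : g ∈ c.genC T) : c.proj g ∈ genU hK F T := by
  induction hg using Subgroup.closure_induction with
  | mem x hx =>
    obtain ⟨r, hr, t, rfl⟩ := hx
    rw [c.proj_e]
    exact hK.mem_genU hr t
  | one => rw [map_one]; exact one_mem _
  | mul a b _ _ ha hb => rw [map_mul]; exact mul_mem ha hb
  | inv a _ ha => rw [map_inv]; exact inv_mem ha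

theorem commWord_mem (c : Lift hK F G) {T : Set ℕ} {r s : ℕ} (hr : r < D.nroots) (hs : s < D.nroots)
    (h : ∀ q ∈ K.comm r s, q.1 ∈ T) (t u : F) : c.word (D.commWord F r s t u) ∈ c.genC T := by
  refine c.word_mem fun p hp => ?_
  simp only [ChevalleyDatum.commWord, List.mem_map] at hp
  obtain ⟨q, hq, rfl⟩ := hp
  rw [hK.toGood.commTerms_eq hr hs] at hq
  exact h q hq

theorem e_mem_normalizer (c : Lift hK F G) {T : Set ℕ} {r : ℕ} (hr : r < D.nroots)
    (h : ∀ s ∈ T, s < D.nroots → (s = r ∨ (s ≠ K.neg r ∧ ∀ q ∈ K.comm r s, q.1 ∈ T))) (t : F) :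
    c.e r t ∈ Subgroup.normalizer (c.genC T : Set G) := by
  have key : ∀ (t : F) (g : G), g ∈ c.genC T → (c.e r t)⁻¹ * g * c.e r t ∈ c.genC T := by
    intro t g hg
    induction hg using Subgroup.closure_induction with
    | mem x hx =>
      obtain ⟨s, hs, u, rfl⟩ := hx
      by_cases hsn : s < D.nroots
      · by_cases hsr : s = r
        · subst hsr
          rw [c.e_inv, c.e_add, c.e_add]
          exact c.mem_genC hs _
        · rcases h s hs hsn with h' | ⟨h1, h2⟩
          · exact absurd h' hsr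
          · have e := c.e_comm r s t u hr hsn hsr (by rw [hK.toGood.neg_eq hr, ← hK.toGood.Kneg_eq]; exact h1)
            rw [show (c.e r t)⁻¹ * c.e s u * c.e r t =
              c.e s u * ((c.e s u)⁻¹ * (c.e r t)⁻¹ * c.e s u * c.e r t) by group, e]
            exact mul_mem (c.mem_genC hs _) (c.commWord_mem hr hsn h2 t u)
      · rw [c.e_out s u hsn, mul_one, inv_mul_cancel]; exact one_mem _
    | one => simp
    | mul a b _ _ ha hb =>
      have := mul_mem ha hb
      simpa [mul_assoc] using this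
    | inv a _ ha =>
      have := inv_mem ha
      simpa [mul_assoc] using this
  rw [Subgroup.mem_normalizer_iff]
  intro g
  constructor
  · intro hg
    have := key (-t) g hg
    rwa [← c.e_inv, inv_inv] at this
  · intro hg
    have := key t _ hg
    have e : (c.e r t)⁻¹ * (c.e r t * g * (c.e r t)⁻¹) * c.e r t = g := by group
    rwa [e] at this

/-! ### Roots made positive by a Weyl element -/

/-- roots sent to index at least `a` by the word `L` -/
def upSet (_c : Lift hK F G) (L : List (Fin D.rank)) (a : ℕ) : Set ℕ :=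
  {v | v < D.nroots ∧ a ≤ permNat (wPerm hK L) v}

theorem upSet_closed (c : Lift hK F G) (L : List (Fin D.rank)) {a r s : ℕ} (ha : K.npos ≤ a)
    (hr : r ∈ c.upSet L a) (hs : s ∈ c.upSet L a) {q : ℕ × ℤ × ℕ × ℕ} (hq : q ∈ K.comm r s) :
    q.1 ∈ c.upSet L a ∧ permNat (wPerm hK L) r < permNat (wPerm hK L) q.1 := by
  obtain ⟨h1, h2, h3⟩ := hK.toGood.comm_mem hr.1 hs.1 hq
  have hw := hK.comm_weight (hK.isLin_comp_wPerm L hK.isLin_phi) hr.1 hs.1 hq
  simp only [nsmul_eq_mul] at hw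
  have p1 := hK.toGood.phi_pos (ha.trans hr.2) (permNat_lt hr.1)
  have p2 := hK.toGood.phi_pos (ha.trans hs.2) (permNat_lt hs.1)
  have a1 : (1 : ℤ) ≤ (q.2.2.1 : ℤ) := by exact_mod_cast h2
  have a2 : (1 : ℤ) ≤ (q.2.2.2 : ℤ) := by exact_mod_cast h3
  have hlt : K.phi (permNat (wPerm hK L) r) < K.phi (permNat (wPerm hK L) q.1) := by nlinarith
  have := hK.lt_of_phi_lt (permNat_lt hr.1) hlt
  exact ⟨⟨h1, hr.2.trans this.le⟩, this⟩

theorem exists_normal_form (c : Lift hK F G) (L : List (Fin D.rank)) {a : ℕ} (ha : K.npos ≤ a)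
    (han : a < D.nroots) {g : G} (hg : g ∈ c.genC (c.upSet L a)) :
    ∃ v t, v < D.nroots ∧ permNat (wPerm hK L) v = a ∧
      ∃ y ∈ c.genC (c.upSet L (a + 1)), g = c.e v t * y := by
  classical
  obtain ⟨v, hv⟩ : ∃ v : Fin D.nroots, v = (wPerm hK L)⁻¹ ⟨a, han⟩ := ⟨_, rfl⟩
  have hva : permNat (wPerm hK L) v.val = a := by
    rw [show permNat (wPerm hK L) v.val = ((wPerm hK L) v).val from permNat_fin _ v, hv,
      Equiv.Perm.inv_def, Equiv.apply_symm_apply]
  have hvmem : v.val ∈ c.upSet L a := ⟨v.isLt, hva.ge⟩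
  have hsub : c.upSet L (a + 1) ⊆ c.upSet L a := fun x hx => ⟨hx.1, (Nat.le_succ a).trans hx.2⟩
  have hsplit : ∀ x ∈ c.upSet L a, x = v.val ∨ x ∈ c.upSet L (a + 1) := by
    intro x hx
    by_cases h : permNat (wPerm hK L) x = a
    · left
      have e : (wPerm hK L) ⟨x, hx.1⟩ = (wPerm hK L) v := Fin.ext (by
        rw [← permNat_fin, ← permNat_fin]; exact h.trans hva.symm)
      exact congrArg Fin.val ((wPerm hK L).injective e)
    · exact Or.inr ⟨hx.1, Nat.lt_of_le_of_ne hx.2 (Ne.symm h)⟩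
  let X : Subgroup G :=
    { carrier := Set.range (c.e v.val)
      one_mem' := ⟨0, c.e_zero _⟩
      mul_mem' := by rintro _ _ ⟨t, rfl⟩ ⟨u, rfl⟩; exact ⟨t + u, (c.e_add _ _ _).symm⟩
      inv_mem' := by rintro _ ⟨t, rfl⟩; exact ⟨-t, (c.e_inv _ _).symm⟩ }
  have hnorm : X ≤ Subgroup.normalizer (c.genC (c.upSet L (a + 1)) : Set G) := by
    rintro _ ⟨t, rfl⟩
    refine c.e_mem_normalizer v.isLt (fun s hs _ => Or.inr ⟨?_, fun q hq => ?_⟩) t
    · intro e
      have hge := ha.trans hva.ge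
      have h1 : permNat (wPerm hK L) (K.neg v.val) = K.neg (permNat (wPerm hK L) v.val) := by
        have := congrArg Fin.val (hK.wPerm_negFin L v)
        calc permNat (wPerm hK L) (K.neg v.val) = (wPerm hK L (negFin hK v)).val := permNat_fin _ (negFin hK v)
          _ = K.neg ((wPerm hK L v).val) := this
          _ = K.neg (permNat (wPerm hK L) v.val) := by rw [permNat_fin]
      have h2 := hs.2
      rw [e, h1, hva, hK.toGood.Kneg_eq] at h2
      have := hK.toGood.nroots_eq_two_mul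
      omega
    · obtain ⟨h1, h2⟩ := c.upSet_closed L ha hvmem (hsub hs) hq
      rw [hva] at h2
      exact ⟨h1.1, h2⟩
  have hle : c.genC (c.upSet L a) ≤ X ⊔ c.genC (c.upSet L (a + 1)) := by
    rw [genC, Subgroup.closure_le]
    rintro x ⟨r, hr, t, rfl⟩
    rcases hsplit r hr with rfl | h
    · exact Subgroup.mem_sup_left (show c.e v.val t ∈ X from ⟨t, rfl⟩)
    · exact Subgroup.mem_sup_right (c.mem_genC h t)
  have hg' : g ∈ ((X ⊔ c.genC (c.upSet L (a + 1)) : Subgroup G) : Set G) := hle hg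
  rw [Subgroup.coe_mul_of_left_le_normalizer_right _ _ hnorm] at hg'
  obtain ⟨x, hx, y, hy, rfl⟩ := hg'
  obtain ⟨t, rfl⟩ := hx
  exact ⟨v.val, t, v.isLt, hva, y, hy, rfl⟩

theorem conj_genU_tail (c : Lift hK F G) (L : List (Fin D.rank)) {a : ℕ} {g : GL D.Idx F}
    (hg : g ∈ genU hK F (c.upSet L a)) :
    sWord hK F L * g * (sWord hK F L)⁻¹ ∈ genU hK F {w | (K.npos ≤ w ∧ w < D.nroots) ∧ a ≤ w} ∨
      a < K.npos := by
  by_cases ha : a < K.npos
  · exact Or.inr ha
  left
  induction hg using Subgroup.closure_induction with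
  | mem x hx =>
    obtain ⟨r, hr, t, rfl⟩ := hx
    obtain ⟨b, hb⟩ := hK.moves_sWord (F := F) L ⟨r, hr.1⟩
    rw [hb]
    refine hK.mem_genU ?_ _
    have h2 := hr.2
    rw [show permNat (wPerm hK L) r = (wPerm hK L ⟨r, hr.1⟩).val from permNat_fin _ ⟨r, hr.1⟩] at h2
    exact ⟨⟨(Nat.le_of_not_lt ha).trans h2, Fin.isLt _⟩, h2⟩
  | one => simp
  | mul x y _ _ hx hy =>
    have := mul_mem hx hy
    simpa [mul_assoc] using this
  | inv x _ hx =>
    have := inv_mem hx
    simpa [mul_assoc] using this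

/-- the projection is injective on roots made positive by one Weyl element -/
theorem upSet_inj (c : Lift hK F G) (L : List (Fin D.rank)) : ∀ (k a : ℕ), D.nroots - a = k → K.npos ≤ a →
    ∀ g ∈ c.genC (c.upSet L a), c.proj g = 1 → g = 1 := by
  intro k
  induction k with
  | zero =>
    intro a hk _ g hg _
    have hempty : c.upSet L a = ∅ := Set.eq_empty_iff_forall_notMem.2 fun v hv => by
      have := hv.2
      have := permNat_lt (σ := wPerm hK L) hv.1
      omega
    rw [genC, hempty] at hg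
    simpa using hg
  | succ k ih =>
    intro a hk ha g hg h1
    obtain ⟨v, t, hv, hva, y, hy, rfl⟩ := c.exists_normal_form L ha (by omega) hg
    rw [map_mul, c.proj_e] at h1
    have ht : t = 0 := by
      by_contra ht
      have hx : xU hK v t ∈ genU hK F (c.upSet L (a + 1)) := by
        rw [eq_inv_of_mul_eq_one_left h1]
        exact inv_mem (c.proj_genC hy)
      rcases c.conj_genU_tail L hx with h | h
      · obtain ⟨b, hb⟩ := hK.moves_sWord (F := F) L ⟨v, hv⟩
        rw [hb, show ((wPerm hK L) ⟨v, hv⟩).val = a from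
          ((permNat_fin _ ⟨v, hv⟩).symm).trans hva] at h
        have := hK.mem_of_xU_mem_genU (hK.closedPos_tail hK.closedPos_all (a + 1)) ha (by omega)
          (mul_ne_zero b.ne_zero ht) h
        exact absurd this.2 (by omega)
      · omega
    rw [ht, c.e_zero, one_mul]
    rw [ht, xU_zero hK, one_mul] at h1
    exact ih (a + 1) (by omega) (by omega) y hy h1

theorem genC_eq (c : Lift hK F G) (L : List (Fin D.rank)) {T : Set ℕ}
    (hT : T ⊆ c.upSet L K.npos) {g : G} (hg : g ∈ c.genC T) {v : ℕ} (hv : v ∈ T) {t : F}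
    (h : c.proj g = xU hK v t) : g = c.e v t := by
  refine mul_inv_eq_one.1 (c.upSet_inj L _ K.npos rfl le_rfl _ ?_ ?_)
  · exact mul_mem (c.genC_mono hT hg) (inv_mem (c.mem_genC (hT hv) t))
  · rw [map_mul, map_inv, h, c.proj_e, mul_inv_cancel]

/-! ### Moving root elements -/

/-- conjugation by `g` moves the root elements as `σ` does, reciprocally on opposite roots -/
def LMoves (c : Lift hK F G) (g : G) (σ : Equiv.Perm (Fin D.nroots)) : Prop :=
  ∃ a : ℕ → Fˣ, (∀ r < D.nroots, a (K.neg r) = (a r)⁻¹) ∧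
    ∀ (r : Fin D.nroots) (t : F), g * c.e r.val t * g⁻¹ = c.e (σ r).val ((a r.val : F) * t)

theorem LMoves.proj {c : Lift hK F G} {g : G} {σ : Equiv.Perm (Fin D.nroots)} (h : c.LMoves g σ) :
    Moves hK (c.proj g) σ := by
  obtain ⟨a, -, ha⟩ := h
  refine fun r => ⟨a r.val, fun t => ?_⟩
  rw [← c.proj_e, ← c.proj_e, ← map_inv, ← map_mul, ← map_mul, ha]

theorem lmoves_one (c : Lift hK F G) : c.LMoves 1 1 :=
  ⟨fun _ => 1, fun _ _ => by simp, fun r t => by simp⟩

theorem lmoves_mul (c : Lift hK F G) {g h : G} {σ τ : Equiv.Perm (Fin D.nroots)}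
    (hτc : ∀ r, τ (negFin hK r) = negFin hK (τ r))
    (hg : c.LMoves g σ) (hh : c.LMoves h τ) : c.LMoves (g * h) (σ * τ) := by
  obtain ⟨a, ha0, ha⟩ := hg
  obtain ⟨b, hb0, hb⟩ := hh
  refine ⟨fun r => a (permNat τ r) * b r, fun r hr => ?_, fun r t => ?_⟩
  · have e : permNat τ (K.neg r) = K.neg (permNat τ r) := by
      rw [show permNat τ (K.neg r) = (τ (negFin hK ⟨r, hr⟩)).val from permNat_fin _ (negFin hK ⟨r, hr⟩),
        hτc, show permNat τ r = (τ ⟨r, hr⟩).val from permNat_fin _ ⟨r, hr⟩]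
      rfl
    simp only [e, ha0 _ (permNat_lt hr), hb0 r hr, mul_inv]
  · rw [show g * h * c.e r.val t * (g * h)⁻¹ = g * (h * c.e r.val t * h⁻¹) * g⁻¹ by group, hb, ha]
    simp only [permNat_fin, Units.val_mul, mul_assoc, Equiv.Perm.mul_apply]

theorem lmoves_inv (c : Lift hK F G) {g : G} {σ : Equiv.Perm (Fin D.nroots)}
    (hσc : ∀ r, σ (negFin hK r) = negFin hK (σ r))
    (hg : c.LMoves g σ) : c.LMoves g⁻¹ σ⁻¹ := by
  obtain ⟨a, ha0, ha⟩ := hg
  refine ⟨fun r => (a (permNat σ⁻¹ r))⁻¹, fun r hr => ?_, fun r t => ?_⟩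
  · have e : permNat σ⁻¹ (K.neg r) = K.neg (permNat σ⁻¹ r) := by
      rw [show permNat σ⁻¹ (K.neg r) = (σ⁻¹ (negFin hK ⟨r, hr⟩)).val from permNat_fin _ (negFin hK ⟨r, hr⟩),
        show permNat σ⁻¹ r = (σ⁻¹ ⟨r, hr⟩).val from permNat_fin _ ⟨r, hr⟩]
      refine congrArg Fin.val (show σ⁻¹ (negFin hK ⟨r, hr⟩) = negFin hK (σ⁻¹ ⟨r, hr⟩) from ?_)
      apply σ.injective
      rw [hσc, Equiv.Perm.inv_def, Equiv.apply_symm_apply, Equiv.apply_symm_apply]
    simp only [e, ha0 _ (permNat_lt hr)]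
  · have h := ha (σ⁻¹ r) ((((a (σ⁻¹ r).val)⁻¹ : Fˣ) : F) * t)
    rw [show σ (σ⁻¹ r) = r from σ.apply_symm_apply r, ← mul_assoc, Units.mul_inv, one_mul] at h
    simp only [permNat_fin]
    rw [← h]
    group

/-- positive roots other than the fundamental one -/
def posOff (_c : Lift hK F G) (i : Fin D.rank) : Set ℕ := {v | (K.npos ≤ v ∧ v < D.nroots) ∧ v ≠ K.p i.val}

/-- negative roots other than the opposite of the fundamental one -/
def negOff (_c : Lift hK F G) (i : Fin D.rank) : Set ℕ := {v | v < K.npos ∧ v ≠ K.neg (K.p i.val)}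

theorem phi_w_pos (hK : Fine K D) (i : Fin D.rank) {s : ℕ} (hp : K.npos ≤ s) (hs : s < D.nroots)
    (hne : s ≠ K.p i.val) : 0 < K.phi (K.w i.val s) :=
  hK.toGood.phi_pos (hK.toGood.npos_le_w i.isLt hs hp hne) (hK.toGood.w_lt i.isLt hs)

theorem posOff_normalized (c : Lift hK F G) (i : Fin D.rank) {r : ℕ}
    (hr : r = K.p i.val ∨ r = K.neg (K.p i.val)) (t : F) :
    c.e r t ∈ Subgroup.normalizer (c.genC (c.posOff i) : Set G) := by
  have hG := hK.toGood
  have hpn := hG.npos_le_p i.isLt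
  have hpl := hG.p_lt i.isLt
  have h2 := hG.nroots_eq_two_mul
  have hrn : r < D.nroots := by
    rcases hr with rfl | rfl
    exacts [hpl, hG.Kneg_lt hpl]
  refine c.e_mem_normalizer hrn (fun s hs hsn => Or.inr ⟨?_, fun q hq => ?_⟩) t
  · rcases hr with rfl | rfl
    · exact hK.pos_ne_neg hpn hpl hs.1.1
    · rw [hG.Kneg_Kneg hpl]; exact hs.2
  obtain ⟨q1, q2, q3⟩ := hG.comm_mem hrn hsn hq
  have w1 := hK.comm_weight hK.isLin_phi hrn hsn hq
  have w2 := hK.comm_weight (hK.isLin_comp_w hK.isLin_phi i.isLt) hrn hsn hq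
  simp only [nsmul_eq_mul] at w1 w2
  have a1 : (1 : ℤ) ≤ (q.2.2.1 : ℤ) := by exact_mod_cast q2
  have a2 : (1 : ℤ) ≤ (q.2.2.2 : ℤ) := by exact_mod_cast q3
  have ps := hG.phi_pos hs.1.1 hsn
  have pws := phi_w_pos hK i hs.1.1 hsn hs.2
  have pp := hG.phi_pos hpn hpl
  rcases hr with rfl | rfl
  · have hlt : K.phi (K.p i.val) < K.phi q.1 := by nlinarith
    exact ⟨⟨(hK.phi_nonneg_iff q1).1.1 (by omega), q1⟩, fun e => by rw [e] at hlt; omega⟩
  · rw [hG.w_neg i.isLt hpl, hG.w_p i.isLt, hG.Kneg_Kneg hpl] at w2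
    have hwq : K.phi (K.p i.val) < K.phi (K.w i.val q.1) := by nlinarith
    have hwpos : K.npos ≤ K.w i.val q.1 := (hK.phi_nonneg_iff (hG.w_lt i.isLt q1)).1.1 (by omega)
    have hne : K.w i.val q.1 ≠ K.p i.val := fun e => by rw [e] at hwq; omega
    have hpos := hG.npos_le_w i.isLt (hG.w_lt i.isLt q1) hwpos hne
    rw [hG.w_w i.isLt q1] at hpos
    refine ⟨⟨hpos, q1⟩, fun e => ?_⟩
    rw [e, hG.w_p i.isLt, hG.Kneg_eq] at hwpos
    omega

theorem negOff_normalized (c : Lift hK F G) (i : Fin D.rank) {r : ℕ}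
    (hr : r = K.p i.val ∨ r = K.neg (K.p i.val)) (t : F) :
    c.e r t ∈ Subgroup.normalizer (c.genC (c.negOff i) : Set G) := by
  have hG := hK.toGood
  have hpn := hG.npos_le_p i.isLt
  have hpl := hG.p_lt i.isLt
  have h2 := hG.nroots_eq_two_mul
  have hrn : r < D.nroots := by
    rcases hr with rfl | rfl
    exacts [hpl, hG.Kneg_lt hpl]
  refine c.e_mem_normalizer hrn (fun s hs hsn => Or.inr ⟨?_, fun q hq => ?_⟩) t
  · rcases hr with rfl | rfl
    · exact hs.2
    · rw [hG.Kneg_Kneg hpl]; exact fun e => absurd hs.1 (by omega)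
  obtain ⟨q1, q2, q3⟩ := hG.comm_mem hrn hsn hq
  have w1 := hK.comm_weight hK.isLin_phi hrn hsn hq
  have w2 := hK.comm_weight (hK.isLin_comp_w hK.isLin_phi i.isLt) hrn hsn hq
  simp only [nsmul_eq_mul] at w1 w2
  have a1 : (1 : ℤ) ≤ (q.2.2.1 : ℤ) := by exact_mod_cast q2
  have a2 : (1 : ℤ) ≤ (q.2.2.2 : ℤ) := by exact_mod_cast q3
  have hns : K.npos ≤ K.neg s := by rw [hG.Kneg_eq]; have := hs.1; omega
  have hne' : K.neg s ≠ K.p i.val := fun e => hs.2 (by rw [← e, hG.Kneg_Kneg hsn])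
  have ps : K.phi s < 0 := (hK.phi_nonneg_iff hsn).2.2 hs.1
  have pws : K.phi (K.w i.val s) < 0 := by
    have := phi_w_pos hK i hns (hG.Kneg_lt hsn) hne'
    rw [hG.w_neg i.isLt hsn, hK.isLin_phi.neg _ (hG.w_lt i.isLt hsn)] at this
    omega
  have pp := hG.phi_pos hpn hpl
  rcases hr with rfl | rfl
  · rw [hG.w_p i.isLt, hK.isLin_phi.neg _ hpl] at w2
    have hwq : K.phi (K.w i.val q.1) < - K.phi (K.p i.val) := by nlinarith
    have hwneg : K.w i.val q.1 < K.npos := (hK.phi_nonneg_iff (hG.w_lt i.isLt q1)).2.1 (by omega)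
    have hne : K.neg (K.w i.val q.1) ≠ K.p i.val := fun e => by
      rw [← e, hK.isLin_phi.neg _ (hG.w_lt i.isLt q1)] at hwq; omega
    have hpos := hG.npos_le_w i.isLt (hG.Kneg_lt (hG.w_lt i.isLt q1))
      (by rw [hG.Kneg_eq]; omega) hne
    rw [hG.w_neg i.isLt (hG.w_lt i.isLt q1), hG.w_w i.isLt q1, hG.Kneg_eq] at hpos
    refine ⟨by omega, fun e => ?_⟩
    rw [e, hG.w_neg i.isLt hpl, hG.w_p i.isLt, hG.Kneg_Kneg hpl] at hwneg
    omega
  · rw [hK.isLin_phi.neg _ hpl] at w1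
    have hlt : K.phi q.1 < - K.phi (K.p i.val) := by nlinarith
    refine ⟨(hK.phi_nonneg_iff q1).2.1 (by omega), fun e => ?_⟩
    rw [e, hK.isLin_phi.neg _ hpl] at hlt
    omega

theorem conj_away (c : Lift hK F G) (hcomb : K.combOK = true) (i : Fin D.rank) {g : G}
    (hg : g ∈ c.genC {K.p i.val, K.neg (K.p i.val)}) {a : ℕ → Fˣ}
    (ha : ∀ (r : Fin D.nroots) (t : F), c.proj g * xU hK r.val t * (c.proj g)⁻¹ =
      xU hK (sPerm hK i r).val ((a r.val : F) * t))
    {r : Fin D.nroots} (hr1 : r.val ≠ K.p i.val) (hr2 : r.val ≠ K.neg (K.p i.val)) (t : F) :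
    g * c.e r.val t * g⁻¹ = c.e (sPerm hK i r).val ((a r.val : F) * t) := by
  have hG := hK.toGood
  have hp := hG.p_lt i.isLt
  have h2 := hG.nroots_eq_two_mul
  have hproj : c.proj (g * c.e r.val t * g⁻¹) = xU hK (sPerm hK i r).val ((a r.val : F) * t) := by
    rw [map_mul, map_mul, map_inv, c.proj_e, ha]
  rcases Nat.lt_or_ge r.val K.npos with hneg | hpos
  · obtain ⟨L, hL⟩ := hK.exists_longest hcomb
    have hT : c.negOff i ⊆ c.upSet L K.npos := fun v hv =>
      ⟨by have := hv.1; omega, (hK.longest_conj hL v (by have := hv.1; omega)).2 hv.1⟩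
    have hgN : g ∈ Subgroup.normalizer (c.genC (c.negOff i) : Set G) :=
      (show c.genC {K.p i.val, K.neg (K.p i.val)} ≤ _ from (Subgroup.closure_le _).2 (by
        rintro _ ⟨v, hv, u, rfl⟩; exact c.negOff_normalized i hv u)) hg
    refine c.genC_eq L hT ((Subgroup.mem_normalizer_iff.1 hgN _).1
      (c.mem_genC (show r.val ∈ c.negOff i from ⟨hneg, hr2⟩) t)) ?_ hproj
    have h1 : K.npos ≤ K.neg r.val := by rw [hG.Kneg_eq]; omega
    have h3 : K.neg r.val ≠ K.p i.val := fun e => hr2 (by rw [← e, hG.Kneg_Kneg r.isLt])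
    have h4 := hG.npos_le_w i.isLt (hG.Kneg_lt r.isLt) h1 h3
    rw [hG.w_neg i.isLt r.isLt, hG.Kneg_eq] at h4
    refine ⟨show K.w i.val r.val < K.npos by omega, fun e => hr1 ?_⟩
    rw [← hG.w_w i.isLt r.isLt, show K.w i.val r.val = _ from e, hG.w_neg i.isLt hp, hG.w_p i.isLt,
      hG.Kneg_Kneg hp]
  · have hT : c.posOff i ⊆ c.upSet [] K.npos := fun v hv =>
      ⟨hv.1.2, by simp [permNat, hv.1.2, wPerm]; exact hv.1.1⟩
    have hgN : g ∈ Subgroup.normalizer (c.genC (c.posOff i) : Set G) :=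
      (show c.genC {K.p i.val, K.neg (K.p i.val)} ≤ _ from (Subgroup.closure_le _).2 (by
        rintro _ ⟨v, hv, u, rfl⟩; exact c.posOff_normalized i hv u)) hg
    refine c.genC_eq [] hT ((Subgroup.mem_normalizer_iff.1 hgN _).1
      (c.mem_genC (show r.val ∈ c.posOff i from ⟨⟨hpos, r.isLt⟩, hr1⟩) t)) ?_ hproj
    refine ⟨⟨hG.npos_le_w i.isLt r.isLt hpos hr1, hG.w_lt i.isLt r.isLt⟩, fun e => hr2 ?_⟩
    rw [← hG.w_w i.isLt r.isLt, show K.w i.val r.val = _ from e, hG.w_p i.isLt]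

theorem conj_pair (c : Lift hK F G) {W : List (ℕ × ℕ × ℕ × List ℕ)} (hW : K.liftOK W = true)
    (hcomb : K.combOK = true) (i : Fin D.rank) {g : G}
    (hg : g ∈ c.genC {K.p i.val, K.neg (K.p i.val)}) {a : ℕ → Fˣ}
    (ha : ∀ (r : Fin D.nroots) (t : F), c.proj g * xU hK r.val t * (c.proj g)⁻¹ =
      xU hK (sPerm hK i r).val ((a r.val : F) * t))
    (r : Fin D.nroots) (t : F) :
    g * c.e r.val t * g⁻¹ = c.e (sPerm hK i r).val ((a r.val : F) * t) := by
  classical
  by_cases hr1 : r.val ≠ K.p i.val ∧ r.val ≠ K.neg (K.p i.val)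
  · exact c.conj_away hcomb i hg ha hr1.1 hr1.2 t
  have hG := hK.toGood
  obtain ⟨e, he⟩ : ∃ e, K.liftRowOK i.val r.val e = true := by
    simp only [Data.liftOK, List.all_eq_true, List.mem_range, Bool.and_eq_true, hG.l_eq] at hW
    obtain ⟨h1, h2⟩ := hW i.val i.isLt
    by_cases hp : r.val = K.p i.val
    · cases hw : W[2 * i.val]? with
      | none => rw [hw] at h1; simp at h1
      | some e => rw [hw] at h1; exact ⟨e, by rw [hp]; exact h1⟩
    · have hn : r.val = K.neg (K.p i.val) := not_not.1 fun h => hr1 ⟨hp, h⟩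
      cases hw : W[2 * i.val + 1]? with
      | none => rw [hw] at h2; simp at h2
      | some e => rw [hw] at h2; exact ⟨e, by rw [hn]; exact h2⟩
  obtain ⟨x, y, k, L₀⟩ := e
  have hbeq : ∀ a b : ℕ, (Nat.beq a b = true) = (a = b) := fun a b =>
    propext ⟨Nat.eq_of_beq_eq_true, fun h => h ▸ Nat.beq_refl a⟩
  simp only [Data.liftRowOK, Data.offP, Bool.and_eq_true, Nat.blt_eq, Nat.ble_eq, Bool.not_eq_true',
    List.all_eq_true, List.mem_range, Bool.or_eq_true, hG.n_eq, hG.l_eq, Bool.eq_false_iff, ne_eq,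
    hbeq] at he
  obtain ⟨⟨⟨⟨⟨⟨⟨⟨⟨⟨hx, hy⟩, hyx⟩, hynx⟩, hxo⟩, hyo⟩, hL⟩, hfx⟩, hfy⟩, hk⟩, hrest⟩ := he
  let L : List (Fin D.rank) := L₀.attach.map fun z => ⟨z.1, hL z.1 z.2⟩
  have hmapL : L.map Fin.val = L₀ := by simp [L, List.map_map, Function.comp_def]
  set C := K.comm x y with hC
  cases hq : C[k]? with
  | none => rw [hq] at hk; simp at hk
  | some q =>
    rw [hq] at hk
    simp only [Bool.and_eq_true, Bool.or_eq_true, intEq_iff, hbeq] at hk
    obtain ⟨⟨hqr, hcoef⟩, hdeg⟩ := hk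
    -- choose the parameters
    obtain ⟨u, v, huv⟩ : ∃ u v : F, (q.2.1 : F) * (-u) ^ q.2.2.1 * v ^ q.2.2.2 = t := by
      rcases hdeg with h | h
      · refine ⟨-((q.2.1 : F) * t), 1, ?_⟩
        rcases hcoef with h' | h' <;> simp [h, h']
      · refine ⟨-1, (q.2.1 : F) * t, ?_⟩
        rcases hcoef with h' | h' <;> simp [h, h']
    obtain ⟨hlt, hget⟩ := List.getElem?_eq_some_iff.1 hq
    have hdec : C = C.take k ++ q :: C.drop (k + 1) := by
      conv_lhs => rw [← List.take_append_drop k C, List.drop_eq_getElem_cons hlt, hget]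
    have hT : ∀ s, s ∈ C → s.1 < D.nroots := fun s hs => (hG.comm_mem hx hy hs).1
    have hoff : ∀ s, s ∈ C.take k ∨ s ∈ C.drop (k + 1) → s.1 ≠ K.p i.val ∧ s.1 ≠ K.neg (K.p i.val) := by
      intro s hs
      obtain ⟨j, hj, hjne, rfl⟩ : ∃ (j : ℕ) (hj : j < C.length), j ≠ k ∧ C[j] = s := by
        rcases hs with hs | hs
        · obtain ⟨j, hj, e⟩ := List.mem_iff_getElem.1 hs
          rw [List.getElem_take] at e
          rw [List.length_take] at hj
          exact ⟨j, by omega, by omega, e⟩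
        · obtain ⟨j, hj, e⟩ := List.mem_iff_getElem.1 hs
          rw [List.getElem_drop] at e
          rw [List.length_drop] at hj
          exact ⟨k + 1 + j, by omega, by omega, e⟩
      rcases hrest j hj with h | h
      · exact absurd h hjne
      · rw [List.getElem?_eq_getElem hj] at h
        simpa [Data.offP, Bool.eq_false_iff, hbeq] using h
    set φ : G →* G := (MulAut.conj g).toMonoidHom with hφ
    have hφa : ∀ z, φ z = g * z * g⁻¹ := fun z => rfl
    set T := c.upSet L K.npos with hTdef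
    have himg : ∀ s < D.nroots, s ≠ K.p i.val → s ≠ K.neg (K.p i.val) →
        K.w i.val s ∈ T → ∀ w, φ (c.e s w) ∈ c.genC T := by
      intro s hs h1 h2 h3 w
      rw [hφa, c.conj_away hcomb i hg ha (r := ⟨s, hs⟩) h1 h2]
      exact c.mem_genC h3 _
    have hpx : K.w i.val x ∈ T := ⟨hG.w_lt i.isLt hx, by
      rw [show permNat (wPerm hK L) (K.w i.val x) = ((wPerm hK L) ⟨_, hG.w_lt i.isLt hx⟩).val from
        permNat_fin _ ⟨_, hG.w_lt i.isLt hx⟩, hK.appW_eq, hmapL]
      exact hfx⟩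
    have hpy : K.w i.val y ∈ T := ⟨hG.w_lt i.isLt hy, by
      rw [show permNat (wPerm hK L) (K.w i.val y) = ((wPerm hK L) ⟨_, hG.w_lt i.isLt hy⟩).val from
        permNat_fin _ ⟨_, hG.w_lt i.isLt hy⟩, hK.appW_eq, hmapL]
      exact hfy⟩
    have htarget : ∀ s ∈ C, K.w i.val s.1 ∈ T := by
      intro s hs
      refine ⟨hG.w_lt i.isLt (hT s hs), (hK.phi_nonneg_iff (permNat_lt (hG.w_lt i.isLt (hT s hs)))).1.1 ?_⟩
      have hw := hK.comm_weight (hK.isLin_comp_w (hK.isLin_comp_wPerm L hK.isLin_phi) i.isLt) hx hy hs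
      simp only [nsmul_eq_mul] at hw
      obtain ⟨-, s2, s3⟩ := hG.comm_mem hx hy hs
      have p1 := hG.phi_pos hpx.2 (permNat_lt hpx.1)
      have p2 := hG.phi_pos hpy.2 (permNat_lt hpy.1)
      have a1 : (1 : ℤ) ≤ (s.2.2.1 : ℤ) := by exact_mod_cast s2
      have a2 : (1 : ℤ) ≤ (s.2.2.2 : ℤ) := by exact_mod_cast s3
      nlinarith
    have hwr : K.w i.val r.val ∈ T := hqr ▸ htarget q (List.mem_of_getElem? hq)
    let cw : List (ℕ × ℤ × ℕ × ℕ) → List (ℕ × F) := fun l =>
      l.map fun s => (s.1, (s.2.1 : F) * (-u) ^ s.2.2.1 * v ^ s.2.2.2)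
    have hword : ∀ l, (∀ s ∈ l, s ∈ C ∧ s.1 ≠ K.p i.val ∧ s.1 ≠ K.neg (K.p i.val)) →
        φ (c.word (cw l)) ∈ c.genC T := by
      intro l hl
      rw [word, map_list_prod, List.map_map, List.map_map]
      refine Subgroup.list_prod_mem _ fun z hz => ?_
      obtain ⟨s, hs, rfl⟩ := List.mem_map.1 hz
      obtain ⟨h1, h2, h3⟩ := hl s hs
      exact himg s.1 (hT s h1) h2 h3 (htarget s h1) _
    have hrel := c.e_comm x y u v hx hy hyx (by rw [hG.neg_eq hx, ← hG.Kneg_eq]; exact hynx)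
    have hcw : D.commWord F x y u v = cw (C.take k) ++ (r.val, t) :: cw (C.drop (k + 1)) := by
      rw [ChevalleyDatum.commWord, hG.commTerms_eq hx hy, ← hC]
      conv_lhs => rw [hdec]
      rw [List.map_append, List.map_cons, hqr, huv]
    have hsplit : c.word (D.commWord F x y u v) =
        c.word (cw (C.take k)) * c.e r.val t * c.word (cw (C.drop (k + 1))) := by
      rw [hcw, c.word_append, word, word, List.map_cons, List.prod_cons, mul_assoc]
      rfl
    have hmem : φ (c.e r.val t) ∈ c.genC T := by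
      have e : c.e r.val t = (c.word (cw (C.take k)))⁻¹ *
          ((c.e y v)⁻¹ * (c.e x u)⁻¹ * c.e y v * c.e x u) * (c.word (cw (C.drop (k + 1))))⁻¹ := by
        rw [hrel]
        change _ = _ * c.word (D.commWord F x y u v) * _
        rw [hsplit]
        group
      rw [e, map_mul, map_mul, map_inv, map_inv, map_mul, map_mul, map_mul, map_inv, map_inv]
      have mx := himg x hx hxo.1 hxo.2 hpx u
      have my := himg y hy hyo.1 hyo.2 hpy v
      have mtake := hword (C.take k) fun s hs => ⟨List.mem_of_mem_take hs, hoff s (Or.inl hs)⟩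
      have mdrop := hword (C.drop (k + 1)) fun s hs => ⟨List.mem_of_mem_drop hs, hoff s (Or.inr hs)⟩
      exact mul_mem (mul_mem (inv_mem mtake) (mul_mem (mul_mem (mul_mem (inv_mem my) (inv_mem mx)) my) mx))
        (inv_mem mdrop)
    rw [← hφa]
    refine c.genC_eq L (T := T) (fun _ h => h) hmem hwr ?_
    rw [hφa, map_mul, map_mul, map_inv, c.proj_e, ha]
    rfl

end Lift

end CfsgLib.Chev
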