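import Cfsg.Agent.Chev.Order

/-!
The positive unipotent subgroup is a Sylow subgroup in the defining characteristic.
-/

set_option autoImplicit false

namespace CfsgLib.Chev

open Cfsg.Lie

variable {K : Data} {D : ChevalleyDatum} {F : Type*} [Field F]

namespace Fine

/-- the exponent of the diagonal subgroup divides `q - 1` -/
theorem diagonal_pow_card (hK : Fine K D) [Fintype F] {g : GL D.Idx F}
    (hg : g ∈ D.diagonalSubgroup F) : g ^ (Fintype.card F - 1) = 1 := by
  refine Units.ext ?_
  have hd : (g : Matrix D.Idx D.Idx F) =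
      Matrix.diagonal fun a => (g : Matrix D.Idx D.Idx F) a a := by
    ext a b
    by_cases hab : a = b
    · subst hab; simp
    · rw [Matrix.diagonal_apply_ne _ hab]; exact hK.diagonal_offdiag hg hab
  have hne : ∀ a, (g : Matrix D.Idx D.Idx F) a a ≠ 0 := by
    intro a h0
    have hu : IsUnit (g : Matrix D.Idx D.Idx F) := g.isUnit
    rw [hd, Matrix.isUnit_diagonal] at hu
    exact (Pi.isUnit_iff.1 hu a).ne_zero h0
  rw [Units.val_pow_eq_pow_val, Units.val_one, hd, Matrix.diagonal_pow, ← Matrix.diagonal_one]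
  congr 1
  funext a
  exact FiniteField.pow_card_sub_one_eq_one _ (hne a)

theorem invSet_eq_empty_iff (hK : Fine K D) {σ : Equiv.Perm (Fin D.nroots)} (hσ : σ ∈ weylGrp hK) :
    invSet K D σ = ∅ ↔ σ = 1 := by
  constructor
  · intro h
    obtain ⟨L, hL⟩ := hK.mem_weylGrp_iff.1 hσ
    by_contra hne
    obtain ⟨j, hj⟩ := hK.exists_descent L.length L le_rfl (by rw [hL]; exact hne)
    have hmem : (pFin hK j).val ∈ invSet K D σ := by
      refine ⟨⟨hK.toGood.npos_le_p j.isLt, (pFin hK j).isLt⟩, ?_⟩
      rw [hL] at hj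
      simpa [permNat] using hj
    rw [h] at hmem
    exact hmem
  · rintro rfl
    ext r
    simp only [invSet, Set.mem_setOf_eq, Set.mem_empty_iff_false, iff_false, not_and, not_lt]
    intro hr
    simpa [permNat, hr.2] using hr.1

theorem card_posUnipotent_subgroupOf (hK : Fine K D) [Fintype F] :
    Nat.card ((D.posUnipotent F).subgroupOf (D.group F)) = Fintype.card F ^ (D.nroots / 2) := by
  rw [Nat.card_congr (Subgroup.subgroupOfEquivOfLe hK.posUnipotent_le_group).toEquiv, hK.card_pos]

/-- the index of the positive unipotent subgroup is prime to the characteristic -/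
theorem not_dvd_index_pos (hK : Fine K D) [Fintype F] (p : ℕ) [Fact p.Prime] [CharP F p] :
    ¬ p ∣ ((D.posUnipotent F).subgroupOf (D.group F)).index := by
  classical
  have hp : p.Prime := Fact.out
  obtain ⟨n, -, hn⟩ := FiniteField.card F p
  have hq : p ∣ Fintype.card F := hn ▸ dvd_pow_self p n.ne_zero
  have hcard := Subgroup.card_mul_index ((D.posUnipotent F).subgroupOf (D.group F))
  rw [hK.card_posUnipotent_subgroupOf, hK.card_group_sum, hK.card_borel, hK.card_pos, mul_assoc]
    at hcard
  have hidx := Nat.eq_of_mul_eq_mul_left (pow_pos Fintype.card_pos _) hcard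
  rw [hidx, hp.dvd_mul, not_or]
  refine ⟨fun h => ?_, fun h => ?_⟩
  · obtain ⟨g, hg⟩ := exists_prime_orderOf_dvd_card' (G := D.diagonalSubgroup F) p h
    have h1 : g ^ (Fintype.card F - 1) = 1 :=
      Subtype.ext (by rw [SubmonoidClass.coe_pow]; exact hK.diagonal_pow_card g.2)
    have h2 : p ∣ Fintype.card F - 1 := hg ▸ orderOf_dvd_of_pow_eq_one h1
    have h3 := Nat.dvd_sub hq h2
    rw [Nat.sub_sub_self (Fintype.card_pos : 0 < Fintype.card F)] at h3
    exact hp.ne_one (Nat.dvd_one.1 h3)
  · rw [← Finset.add_sum_erase _ _ (Finset.mem_univ (1 : weylGrp hK))] at h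
    have hone : invSet K D ((1 : weylGrp hK) : Equiv.Perm (Fin D.nroots)) = ∅ :=
      (hK.invSet_eq_empty_iff (Subgroup.one_mem _)).2 rfl
    rw [hone] at h
    simp only [Nat.card_of_isEmpty, pow_zero] at h
    have hrest : p ∣ ∑ σ ∈ (Finset.univ : Finset (weylGrp hK)).erase 1,
        Fintype.card F ^ Nat.card (invSet K D σ.val) := by
      refine Finset.dvd_sum fun σ hσ => dvd_pow hq ?_
      intro h0
      have hfin : (invSet K D σ.val).Finite :=
        (Set.finite_Iio D.nroots).subset fun r hr => hr.1.2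
      haveI := hfin.to_subtype
      have hemp : invSet K D σ.val = ∅ :=
        Set.eq_empty_iff_forall_notMem.2 fun r hr => (Finite.card_eq_zero_iff.1 h0).false ⟨r, hr⟩
      exact (Finset.mem_erase.1 hσ).1 (Subtype.ext ((hK.invSet_eq_empty_iff σ.2).1 hemp))
    exact hp.ne_one (Nat.dvd_one.1 ((Nat.dvd_add_left hrest).1 h))

/-- the positive unipotent subgroup as a Sylow subgroup -/
noncomputable def posSylow (hK : Fine K D) (F : Type*) [Field F] [Fintype F] (p : ℕ) [Fact p.Prime]
    [CharP F p] : Sylow p ↥(D.group F) :=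
  IsPGroup.toSylow (p := p) (P := (D.posUnipotent F).subgroupOf (D.group F))
    (by
      obtain ⟨n, -, hn⟩ := FiniteField.card F p
      refine IsPGroup.of_card (n := (n : ℕ) * (D.nroots / 2)) ?_
      rw [hK.card_posUnipotent_subgroupOf, hn, pow_mul])
    (hK.not_dvd_index_pos p)

theorem coe_posSylow (hK : Fine K D) [Fintype F] (p : ℕ) [Fact p.Prime] [CharP F p] :
    (hK.posSylow F p : Subgroup ↥(D.group F)) = (D.posUnipotent F).subgroupOf (D.group F) := rfl

/-- an element of prime power order is conjugate into the positive unipotent subgroup -/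
theorem exists_conj_mem_pos (hK : Fine K D) [Fintype F] (p : ℕ) [Fact p.Prime] [CharP F p]
    (g : ↥(D.group F)) (hg : ∃ j, orderOf g = p ^ j) :
    ∃ c : ↥(D.group F), ((c * g * c⁻¹ : ↥(D.group F)) : GL D.Idx F) ∈ D.posUnipotent F := by
  obtain ⟨j, hj⟩ := hg
  have hP : IsPGroup p (Subgroup.zpowers g) := IsPGroup.of_card (n := j) (by rw [Nat.card_zpowers, hj])
  obtain ⟨Q, hQ⟩ := hP.exists_le_sylow
  obtain ⟨c, hc⟩ := MulAction.exists_smul_eq ↥(D.group F) Q (hK.posSylow F p)
  refine ⟨c, ?_⟩
  have hmem : c * g * c⁻¹ ∈ (hK.posSylow F p : Subgroup ↥(D.group F)) := by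
    rw [← hc, Sylow.coe_subgroup_smul]
    exact ⟨g, hQ (Subgroup.mem_zpowers g), rfl⟩
  rw [hK.coe_posSylow p] at hmem
  exact hmem

end Fine

end CfsgLib.Chev
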