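import Cfsg.Agent.Chev.Parabolic
import Cfsg.Agent.Chev.SylowP

/-!
Minimal coset representatives of parabolic subsystems and the cell description of the cosets of a
parabolic subgroup.
-/

set_option autoImplicit false

namespace CfsgLib.Chev

open Cfsg.Lie

variable {K : Data} {D : ChevalleyDatum} {F : Type*} [Field F]

/-- positive roots of a root subsystem -/
def subPos (K : Data) (D : ChevalleyDatum) (J : Set ℕ) : Set ℕ :=
  {r | (K.npos ≤ r ∧ r < D.nroots) ∧ D.InRootSub J r}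

/-- minimal length in a coset of the Weyl group of `J` -/
def MinRep (hK : Fine K D) (J : Set ℕ) (σ : Equiv.Perm (Fin D.nroots)) : Prop :=
  ∀ i : Fin D.rank, i.val ∈ J → K.npos ≤ (σ (pFin hK i)).val

/-- maximal length in a coset of the Weyl group of `J` -/
def MaxRep (hK : Fine K D) (J : Set ℕ) (σ : Equiv.Perm (Fin D.nroots)) : Prop :=
  ∀ i : Fin D.rank, i.val ∈ J → (σ (pFin hK i)).val < K.npos

/-- the chosen monomial representative -/
noncomputable def nOf (hK : Fine K D) (F : Type*) [Field F] (σ : weylGrp hK) : GL D.Idx F :=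
  sWord hK F (hK.wordOf σ)

namespace Comb

theorem weylSub_le (hC : Comb K D) (J : Set ℕ) : weylSub hC.fine J ≤ weylGrp hC.fine :=
  Subgroup.closure_mono fun _ ⟨i, _, e⟩ => ⟨i, e.symm⟩

theorem sPerm_mem_weylSub (hC : Comb K D) {J : Set ℕ} {i : Fin D.rank} (hi : i.val ∈ J) :
    sPerm hC.fine i ∈ weylSub hC.fine J :=
  Subgroup.subset_closure ⟨i, hi, rfl⟩

theorem permNat_comp (σ τ : Equiv.Perm (Fin D.nroots)) {r : ℕ} (hr : r < D.nroots) :
    permNat (σ * τ) r = permNat σ (permNat τ r) := by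
  rw [show r = ((⟨r, hr⟩ : Fin D.nroots) : ℕ) from rfl, permNat_fin, permNat_fin, permNat_fin]
  rfl

theorem isLin_phi_perm (hC : Comb K D) {σ : Equiv.Perm (Fin D.nroots)} (hσ : σ ∈ weylGrp hC.fine) :
    IsLin K D (fun r => K.phi (permNat σ r)) := by
  obtain ⟨L, rfl⟩ := hC.fine.mem_weylGrp_iff.1 hσ
  exact hC.fine.isLin_comp_wPerm L hC.fine.isLin_phi

theorem permNat_neg (hC : Comb K D) {σ : Equiv.Perm (Fin D.nroots)} (hσ : σ ∈ weylGrp hC.fine)
    {r : ℕ} (hr : r < D.nroots) : permNat σ (K.neg r) = K.neg (permNat σ r) := by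
  obtain ⟨L, rfl⟩ := hC.fine.mem_weylGrp_iff.1 hσ
  rw [show permNat (wPerm hC.fine L) r = (wPerm hC.fine L ⟨r, hr⟩).val from permNat_fin _ ⟨r, hr⟩,
    show K.neg r = ((negFin hC.fine ⟨r, hr⟩ : Fin D.nroots) : ℕ) from rfl, permNat_fin,
    hC.fine.wPerm_negFin]
  rfl

theorem neg_lt_iff (hC : Comb K D) {r : ℕ} (hr : r < D.nroots) :
    (K.neg r < K.npos ↔ K.npos ≤ r) ∧ (K.npos ≤ K.neg r ↔ r < K.npos) := by
  rw [hC.fine.toGood.Kneg_eq]; have := hC.fine.toGood.nroots_eq_two_mul; omega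

theorem weylSub_inRootSub (hC : Comb K D) {J : Set ℕ} {v : Equiv.Perm (Fin D.nroots)}
    (hv : v ∈ weylSub hC.fine J) :
    ∀ r : Fin D.nroots, D.InRootSub J (v r).val ↔ D.InRootSub J r.val := by
  induction hv using Subgroup.closure_induction with
  | mem x hx =>
    obtain ⟨i, hi, rfl⟩ := hx
    intro r
    rw [sPerm_val hC.fine]
    exact hC.inRootSub_w i.isLt hi r.isLt
  | one => exact fun r => Iff.rfl
  | mul a b _ _ ha hb => exact fun r => (ha (b r)).trans (hb r)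
  | inv a _ ha =>
    intro r
    rw [← ha (a⁻¹ r)]
    simp

theorem weylSub_outSet (hC : Comb K D) {J : Set ℕ} {v : Equiv.Perm (Fin D.nroots)}
    (hv : v ∈ weylSub hC.fine J) : ∀ r ∈ outSet K D J, permNat v r ∈ outSet K D J := by
  induction hv using Subgroup.closure_induction_left with
  | one => intro r hr; simpa [permNat, hr.1.2] using hr
  | mul_left x hx y _ hy =>
    obtain ⟨i, hi, rfl⟩ := hx
    intro r hr
    rw [permNat_comp _ _ hr.1.2]
    exact hC.outSet_sPerm hi (hy r hr)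
  | inv_mul_cancel x hx y _ hy =>
    obtain ⟨i, hi, rfl⟩ := hx
    intro r hr
    rw [hC.fine.sPerm_inv, permNat_comp _ _ hr.1.2]
    exact hC.outSet_sPerm hi (hy r hr)

theorem mem_subPos_or_outSet (J : Set ℕ) {r : ℕ} (h1 : K.npos ≤ r) (h2 : r < D.nroots) :
    r ∈ subPos K D J ∨ r ∈ outSet K D J := by
  by_cases h : D.InRootSub J r
  · exact Or.inl ⟨⟨h1, h2⟩, h⟩
  · exact Or.inr ⟨⟨h1, h2⟩, h⟩

theorem MinRep.pos (hC : Comb K D) {J : Set ℕ} {σ : Equiv.Perm (Fin D.nroots)}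
    (hσ : σ ∈ weylGrp hC.fine) (h : MinRep hC.fine J σ) :
    ∀ r, r ∈ subPos K D J → K.npos ≤ permNat σ r := by
  intro r
  induction r using Nat.strong_induction_on with
  | _ r ih =>
    rintro ⟨⟨h1, h2⟩, hJ⟩
    obtain ⟨i, hi, e | ⟨w1, w2, hCi, k, hk, hlin⟩⟩ := hC.fine.comb_step hC.comb h1 h2
    · subst e
      rw [show K.p i = ((pFin hC.fine ⟨i, hi⟩ : Fin D.nroots) : ℕ) from rfl, permNat_fin]
      exact h ⟨i, hi⟩ ((hC.inRootSub_p hi).1 hJ)
    · have hiJ : i ∈ J := by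
        by_contra hiJ
        exact hCi.ne' ((hC.inRootSub_iff h2).1 hJ i hi hiJ)
      have hw := hC.fine.toGood.w_lt hi h2
      have a : 0 < K.phi (permNat σ (K.p i)) := by
        refine (hC.fine.phi_nonneg_iff (permNat_lt (hC.fine.toGood.p_lt hi))).1.2 ?_
        rw [show K.p i = ((pFin hC.fine ⟨i, hi⟩ : Fin D.nroots) : ℕ) from rfl, permNat_fin]
        exact h ⟨i, hi⟩ hiJ
      have b : 0 < K.phi (permNat σ (K.w i r)) :=
        (hC.fine.phi_nonneg_iff (permNat_lt hw)).1.2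
          (ih _ w2 ⟨⟨w1, hw⟩, (hC.inRootSub_w hi hiJ h2).2 hJ⟩)
      refine (hC.fine.phi_nonneg_iff (permNat_lt h2)).1.1 ?_
      have e := hlin (fun x => K.phi (permNat σ x)) (hC.isLin_phi_perm hσ)
      simp only [nsmul_eq_mul] at e
      rw [e]
      positivity

theorem MaxRep.neg (hC : Comb K D) {J : Set ℕ} {σ : Equiv.Perm (Fin D.nroots)}
    (hσ : σ ∈ weylGrp hC.fine) (h : MaxRep hC.fine J σ) :
    ∀ r, r ∈ subPos K D J → permNat σ r < K.npos := by
  intro r
  induction r using Nat.strong_induction_on with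
  | _ r ih =>
    rintro ⟨⟨h1, h2⟩, hJ⟩
    obtain ⟨i, hi, e | ⟨w1, w2, hCi, k, hk, hlin⟩⟩ := hC.fine.comb_step hC.comb h1 h2
    · subst e
      rw [show K.p i = ((pFin hC.fine ⟨i, hi⟩ : Fin D.nroots) : ℕ) from rfl, permNat_fin]
      exact h ⟨i, hi⟩ ((hC.inRootSub_p hi).1 hJ)
    · have hiJ : i ∈ J := by
        by_contra hiJ
        exact hCi.ne' ((hC.inRootSub_iff h2).1 hJ i hi hiJ)
      have hw := hC.fine.toGood.w_lt hi h2
      have a : K.phi (permNat σ (K.p i)) < 0 := by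
        refine (hC.fine.phi_nonneg_iff (permNat_lt (hC.fine.toGood.p_lt hi))).2.2 ?_
        rw [show K.p i = ((pFin hC.fine ⟨i, hi⟩ : Fin D.nroots) : ℕ) from rfl, permNat_fin]
        exact h ⟨i, hi⟩ hiJ
      have b : K.phi (permNat σ (K.w i r)) < 0 :=
        (hC.fine.phi_nonneg_iff (permNat_lt hw)).2.2
          (ih _ w2 ⟨⟨w1, hw⟩, (hC.inRootSub_w hi hiJ h2).2 hJ⟩)
      refine (hC.fine.phi_nonneg_iff (permNat_lt h2)).2.1 ?_
      have e := hlin (fun x => K.phi (permNat σ x)) (hC.isLin_phi_perm hσ)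
      simp only [nsmul_eq_mul] at e
      rw [e]
      nlinarith [show (0 : ℤ) < (k : ℤ) by exact_mod_cast hk]

theorem invSet_mul_sPerm_lt (hC : Comb K D) {σ : Equiv.Perm (Fin D.nroots)}
    (hσ : σ ∈ weylGrp hC.fine) {j : Fin D.rank} (hj : (σ (pFin hC.fine j)).val < K.npos) :
    (invSet K D (σ * sPerm hC.fine j)).ncard < (invSet K D σ).ncard := by
  have hK := hC.fine
  have hG := hK.toGood
  have hp : K.p j.val ∈ invSet K D σ :=
    ⟨⟨hG.npos_le_p j.isLt, hG.p_lt j.isLt⟩,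
      by rwa [show K.p j.val = ((pFin hC.fine j : Fin D.nroots) : ℕ) from rfl, permNat_fin]⟩
  have e : ∀ r < D.nroots, permNat (sPerm hC.fine j) r = K.w j.val r := fun r hr => by
    rw [show r = ((⟨r, hr⟩ : Fin D.nroots) : ℕ) from rfl, permNat_fin, sPerm_val hK]
  have key : ∀ r ∈ invSet K D (σ * sPerm hC.fine j), r ≠ K.p j.val := by
    rintro r ⟨-, hlt⟩ rfl
    rw [permNat_comp _ _ (hG.p_lt j.isLt),
      show K.p j.val = ((pFin hC.fine j : Fin D.nroots) : ℕ) from rfl, permNat_fin, hK.sPerm_pFin] at hlt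
    rw [permNat_fin, hK.perm_negFin hσ] at hlt
    exact absurd hj (Nat.not_lt.2 ((hC.neg_lt_iff (σ (pFin hC.fine j)).isLt).1.1 hlt))
  have hsub : (fun r => K.w j.val r) '' invSet K D (σ * sPerm hC.fine j) ⊆
      invSet K D σ \ {K.p j.val} := by
    rintro _ ⟨r, hr, rfl⟩
    obtain ⟨⟨h1, h2⟩, h3⟩ := hr
    have hne := key r ⟨⟨h1, h2⟩, h3⟩
    refine ⟨⟨⟨hG.npos_le_w j.isLt h2 h1 hne, hG.w_lt j.isLt h2⟩, ?_⟩, fun he => ?_⟩
    · rwa [permNat_comp _ _ h2, e r h2] at h3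
    · have he' : K.w j.val r = K.p j.val := he
      rw [permNat_comp _ _ h2, e r h2, he'] at h3
      have hr' : r = K.w j.val (K.p j.val) := by rw [← he', hG.w_w j.isLt h2]
      have hw : K.w j.val (K.p j.val) = K.neg (K.p j.val) := by
        have := congrArg Fin.val (hK.sPerm_pFin j)
        rwa [sPerm_val hK] at this
      rw [hr', hw] at h1
      exact absurd (hG.npos_le_p j.isLt) (Nat.not_le.2 ((hC.neg_lt_iff (hG.p_lt j.isLt)).2.1 h1))
  calc (invSet K D (σ * sPerm hC.fine j)).ncard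
      = ((fun r => K.w j.val r) '' invSet K D (σ * sPerm hC.fine j)).ncard := by
        refine (Set.InjOn.ncard_image ?_).symm
        intro x hx y hy hxy
        simpa [hG.w_w j.isLt hx.1.2, hG.w_w j.isLt hy.1.2] using congrArg (K.w j.val) hxy
    _ ≤ (invSet K D σ \ {K.p j.val}).ncard :=
        Set.ncard_le_ncard hsub ((Fine.invSet_finite σ).sdiff)
    _ < (invSet K D σ).ncard := Set.ncard_sdiff_singleton_lt_of_mem hp (Fine.invSet_finite σ)

theorem exists_minRep (hC : Comb K D) (J : Set ℕ) : ∀ (n : ℕ) {σ : Equiv.Perm (Fin D.nroots)},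
    σ ∈ weylGrp hC.fine → (invSet K D σ).ncard = n →
      ∃ τ v, τ ∈ weylGrp hC.fine ∧ MinRep hC.fine J τ ∧ v ∈ weylSub hC.fine J ∧ σ = τ * v := by
  intro n
  induction n using Nat.strong_induction_on with
  | _ n ih =>
    intro σ hσ hn
    by_cases h : MinRep hC.fine J σ
    · exact ⟨σ, 1, hσ, h, Subgroup.one_mem _, (mul_one _).symm⟩
    · simp only [MinRep, not_forall, not_le] at h
      obtain ⟨j, hjJ, hj⟩ := h
      have hs := hC.sPerm_mem_weylSub (J := J) hjJ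
      have hlt := hC.invSet_mul_sPerm_lt hσ hj
      obtain ⟨τ, v, h1, h2, h3, h4⟩ := ih _ (hn ▸ hlt)
        (Subgroup.mul_mem _ hσ (hC.weylSub_le J hs)) rfl
      refine ⟨τ, v * (sPerm hC.fine j)⁻¹, h1, h2, Subgroup.mul_mem _ h3 (Subgroup.inv_mem _ hs), ?_⟩
      rw [← mul_assoc, ← h4, mul_inv_cancel_right]

theorem minRep_unique (hC : Comb K D) {J : Set ℕ} {τ τ' v : Equiv.Perm (Fin D.nroots)}
    (hτ : τ ∈ weylGrp hC.fine) (h : MinRep hC.fine J τ) (h' : MinRep hC.fine J τ')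
    (hv : v ∈ weylSub hC.fine J) (e : τ' = τ * v) : τ' = τ := by
  by_cases h1 : v = 1
  · rw [e, h1, mul_one]
  exfalso
  obtain ⟨L, rfl⟩ := hC.fine.mem_weylGrp_iff.1 (hC.weylSub_le J hv)
  obtain ⟨j, hj⟩ := hC.fine.exists_descent L.length L le_rfl h1
  have hjJ : j.val ∈ J := hC.descent_mem (hC.weylSub_outSet hv) hj
  set w := wPerm hC.fine L (pFin hC.fine j)
  have hin : D.InRootSub J w.val :=
    (hC.weylSub_inRootSub hv (pFin hC.fine j)).2 ((hC.inRootSub_p j.isLt).2 hjJ)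
  have hpos := MinRep.pos hC hτ h (K.neg w.val)
    ⟨⟨(hC.neg_lt_iff w.isLt).2.2 hj, hC.fine.toGood.Kneg_lt w.isLt⟩,
      (hC.inRootSub_neg w.isLt).2 hin⟩
  rw [hC.permNat_neg hτ w.isLt, permNat_fin, (hC.neg_lt_iff (τ w).isLt).2] at hpos
  have := h' j hjJ
  rw [e, Equiv.Perm.mul_apply] at this
  exact absurd hpos (Nat.not_lt.2 this)

theorem exists_maxRep (hC : Comb K D) (J : Set ℕ) :
    ∃ v ∈ weylSub hC.fine J, MaxRep hC.fine J v := by
  classical
  obtain ⟨⟨v, hv⟩, -, hmax⟩ := Finset.exists_max_image (Finset.univ : Finset (weylSub hC.fine J))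
    (fun x => (invSet K D x.val).ncard) ⟨⟨1, Subgroup.one_mem _⟩, Finset.mem_univ _⟩
  refine ⟨v, hv, fun j hj => ?_⟩
  by_contra hcon
  have hs := hC.sPerm_mem_weylSub (J := J) hj
  have hm := hC.weylSub_le J (Subgroup.mul_mem _ hv hs)
  have hneg : ((v * sPerm hC.fine j) (pFin hC.fine j)).val < K.npos := by
    rw [Equiv.Perm.mul_apply, hC.fine.sPerm_pFin, hC.fine.perm_negFin (hC.weylSub_le J hv)]
    exact (hC.neg_lt_iff (v (pFin hC.fine j)).isLt).1.2 (Nat.le_of_not_lt hcon)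
  have h1 := hC.invSet_mul_sPerm_lt hm hneg
  have h2 := hmax ⟨_, Subgroup.mul_mem _ hv hs⟩ (Finset.mem_univ _)
  rw [mul_assoc, hC.fine.sPerm_mul_self, mul_one] at h1
  exact absurd h2 (Nat.not_le.2 h1)

theorem invSet_maxRep (hC : Comb K D) {J : Set ℕ} {v : Equiv.Perm (Fin D.nroots)}
    (hv : v ∈ weylSub hC.fine J) (h : MaxRep hC.fine J v) : invSet K D v = subPos K D J := by
  ext r
  constructor
  · rintro ⟨⟨h1, h2⟩, h3⟩
    refine (mem_subPos_or_outSet J h1 h2).resolve_right fun ho => ?_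
    have := (hC.weylSub_outSet hv r ho).1.1
    omega
  · intro hr
    exact ⟨hr.1, MaxRep.neg hC (hC.weylSub_le J hv) h r hr⟩

theorem invSet_maxRep_inv (hC : Comb K D) {J : Set ℕ} {v : Equiv.Perm (Fin D.nroots)}
    (hv : v ∈ weylSub hC.fine J) (h : MaxRep hC.fine J v) :
    invSet K D v⁻¹ = subPos K D J ∧ keepSet K D v⁻¹ = outSet K D J := by
  have hv' := Subgroup.inv_mem _ hv
  have key : ∀ r, r ∈ subPos K D J → permNat v⁻¹ r < K.npos := by
    rintro r ⟨⟨h1, h2⟩, hJ⟩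
    by_contra hcon
    have hs : permNat v⁻¹ r ∈ subPos K D J := by
      refine ⟨⟨Nat.le_of_not_lt hcon, permNat_lt h2⟩, ?_⟩
      rw [show permNat v⁻¹ r = (v⁻¹ ⟨r, h2⟩).val from permNat_fin _ ⟨r, h2⟩]
      exact (hC.weylSub_inRootSub hv' ⟨r, h2⟩).2 hJ
    have := MaxRep.neg hC (hC.weylSub_le J hv) h _ hs
    rw [← permNat_comp _ _ h2, mul_inv_cancel] at this
    simp [permNat, h2] at this
    omega
  constructor <;> ext r <;> constructor
  · rintro ⟨⟨h1, h2⟩, h3⟩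
    refine (mem_subPos_or_outSet J h1 h2).resolve_right fun ho => ?_
    have := (hC.weylSub_outSet hv' r ho).1.1
    omega
  · exact fun hr => ⟨hr.1, key r hr⟩
  · rintro ⟨⟨h1, h2⟩, h3⟩
    refine (mem_subPos_or_outSet J h1 h2).resolve_left fun ho => ?_
    have := key r ho
    omega
  · exact fun hr => ⟨hr.1, (hC.weylSub_outSet hv' r hr).1.1⟩

theorem maxRep_unique (hC : Comb K D) {J : Set ℕ} {σ τ : Equiv.Perm (Fin D.nroots)}
    (hσ : σ ∈ weylSub hC.fine J) (hτ : τ ∈ weylSub hC.fine J) (h1 : MaxRep hC.fine J σ)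
    (h2 : MaxRep hC.fine J τ) : σ = τ := by
  have hmem := Subgroup.mul_mem _ (Subgroup.inv_mem _ hσ) hτ
  have hempty : invSet K D (σ⁻¹ * τ) = ∅ := by
    refine Set.eq_empty_iff_forall_notMem.2 fun r hr => ?_
    obtain ⟨⟨a, b⟩, c⟩ := hr
    rcases mem_subPos_or_outSet J a b with h | h
    · rw [permNat_comp _ _ b] at c
      have n1 : permNat τ r < K.npos := MaxRep.neg hC (hC.weylSub_le J hτ) h2 r h
      have hin : D.InRootSub J (permNat τ r) := by
        rw [show permNat τ r = (τ ⟨r, b⟩).val from permNat_fin _ ⟨r, b⟩]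
        exact (hC.weylSub_inRootSub hτ ⟨r, b⟩).2 h.2
      have hx : K.neg (permNat τ r) ∈ subPos K D J :=
        ⟨⟨(hC.neg_lt_iff (permNat_lt b)).2.2 n1, hC.fine.toGood.Kneg_lt (permNat_lt b)⟩,
          (hC.inRootSub_neg (permNat_lt b)).2 hin⟩
      have := ((hC.invSet_maxRep_inv hσ h1).1.ge hx).2
      rw [hC.permNat_neg (hC.weylSub_le J (Subgroup.inv_mem _ hσ)) (permNat_lt b),
        (hC.neg_lt_iff (permNat_lt (permNat_lt b))).1] at this
      omega
    · have := (hC.weylSub_outSet hmem r h).1.1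
      omega
  exact inv_mul_eq_one.1 ((hC.fine.invSet_eq_empty_iff (hC.weylSub_le J hmem)).1 hempty)

theorem invSet_mul (hC : Comb K D) {J : Set ℕ} {τ v : Equiv.Perm (Fin D.nroots)}
    (hτ : τ ∈ weylGrp hC.fine) (h : MinRep hC.fine J τ) (hv : v ∈ weylSub hC.fine J) :
    (invSet K D (τ * v)).ncard = (invSet K D v).ncard + (invSet K D τ).ncard := by
  have hout : invSet K D τ ⊆ outSet K D J := fun r hr =>
    (mem_subPos_or_outSet J hr.1.1 hr.1.2).resolve_left fun hs => by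
      have := MinRep.pos hC hτ h r hs
      have := hr.2
      omega
  have hv' := Subgroup.inv_mem _ hv
  have hset : invSet K D (τ * v) = invSet K D v ∪ (fun r => permNat v⁻¹ r) '' invSet K D τ := by
    ext r
    constructor
    · rintro ⟨⟨h1, h2⟩, h3⟩
      rw [permNat_comp _ _ h2] at h3
      by_cases hp : permNat v r < K.npos
      · exact Or.inl ⟨⟨h1, h2⟩, hp⟩
      · refine Or.inr ⟨permNat v r, ⟨⟨Nat.le_of_not_lt hp, permNat_lt h2⟩, h3⟩, ?_⟩
        show permNat v⁻¹ (permNat v r) = r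
        rw [← permNat_comp _ _ h2, inv_mul_cancel]
        simp [permNat, h2]
    · rintro (⟨⟨h1, h2⟩, h3⟩ | ⟨s, hs, rfl⟩)
      · refine ⟨⟨h1, h2⟩, ?_⟩
        rw [permNat_comp _ _ h2]
        have hin : r ∈ subPos K D J := (mem_subPos_or_outSet J h1 h2).resolve_right fun ho => by
          have := (hC.weylSub_outSet hv r ho).1.1
          omega
        have hx : K.neg (permNat v r) ∈ subPos K D J := by
          refine ⟨⟨(hC.neg_lt_iff (permNat_lt h2)).2.2 h3, hC.fine.toGood.Kneg_lt (permNat_lt h2)⟩,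
            (hC.inRootSub_neg (permNat_lt h2)).2 ?_⟩
          rw [show permNat v r = (v ⟨r, h2⟩).val from permNat_fin _ ⟨r, h2⟩]
          exact (hC.weylSub_inRootSub hv ⟨r, h2⟩).2 hin.2
        have := MinRep.pos hC hτ h _ hx
        rwa [hC.permNat_neg hτ (permNat_lt h2), (hC.neg_lt_iff (permNat_lt (permNat_lt h2))).2] at this
      · have ho := hC.weylSub_outSet hv' s (hout hs)
        refine ⟨ho.1, ?_⟩
        rw [← permNat_comp _ _ hs.1.2, mul_assoc, mul_inv_cancel, mul_one]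
        exact hs.2
  rw [hset, Set.ncard_union_eq ?_ (Fine.invSet_finite v) ((Fine.invSet_finite τ).image _),
    Set.InjOn.ncard_image]
  · intro x hx y hy hxy
    have := congrArg (permNat v) hxy
    rwa [← permNat_comp _ _ hx.1.2, ← permNat_comp _ _ hy.1.2, mul_inv_cancel, show permNat
      (1 : Equiv.Perm (Fin D.nroots)) x = x by simp [permNat, hx.1.2], show permNat
      (1 : Equiv.Perm (Fin D.nroots)) y = y by simp [permNat, hy.1.2]] at this
  · refine Set.disjoint_left.2 ?_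
    rintro r hr ⟨s, hs, rfl⟩
    have h3 : permNat v (permNat v⁻¹ s) < K.npos := hr.2
    rw [← permNat_comp _ _ hs.1.2, mul_inv_cancel] at h3
    simp [permNat, hs.1.2] at h3
    have := hs.1.1
    omega

/-! ### Monomial representatives -/

theorem nOf_mem (hC : Comb K D) (σ : weylGrp hC.fine) : nOf hC.fine F σ ∈ D.monomialSubgroup F :=
  hC.fine.sWord_mem_monomial _

theorem nOf_moves (hC : Comb K D) (σ : weylGrp hC.fine) : Moves hC.fine (nOf hC.fine F σ) σ.val :=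
  hC.fine.wPerm_wordOf σ ▸ hC.fine.moves_sWord (hC.fine.wordOf σ)

theorem nOf_mem_group (hC : Comb K D) (σ : weylGrp hC.fine) : nOf hC.fine F σ ∈ D.group F :=
  hC.fine.monomial_le_group (hC.nOf_mem σ)

theorem sWord_mem_parabolic_iff (hC : Comb K D) (J : Set ℕ) (L : List (Fin D.rank)) :
    sWord hC.fine F L ∈ D.parabolicSubgroup F J ↔ wPerm hC.fine L ∈ weylSub hC.fine J := by
  constructor
  · intro h
    have hn := hC.parabolic_le_normalizer J h
    refine (hC.stab_outSet (F := F) L.length L le_rfl fun r hr => ?_).2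
    obtain ⟨a, ha⟩ := hC.fine.moves_sWord (F := F) L ⟨r, hr.1.2⟩
    have hmem := (Subgroup.mem_normalizer_iff.1 hn (xU hC.fine r 1)).1 (by
      rw [hC.unipotentRadical_eq]; exact hC.fine.mem_genU hr _)
    rw [hC.unipotentRadical_eq, ha 1, mul_one] at hmem
    rw [show permNat (wPerm hC.fine L) r = (wPerm hC.fine L ⟨r, hr.1.2⟩).val from
      permNat_fin _ ⟨r, hr.1.2⟩]
    have hpos : K.npos ≤ (wPerm hC.fine L ⟨r, hr.1.2⟩).val := by
      by_contra hlt
      have hm : xU hC.fine (wPerm hC.fine L ⟨r, hr.1.2⟩).val (a : F) ∈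
          D.borelSubgroup F ⊓ D.negUnipotent F := by
        refine ⟨Subgroup.mem_sup_left ?_, hC.fine.xU_mem_neg (Nat.lt_of_not_le hlt) _⟩
        rw [hC.fine.posUnipotent_eq]
        exact hC.fine.genU_mono (fun x hx => hx.1) hmem
      rw [hC.fine.borel_inf_neg, Subgroup.mem_bot] at hm
      exact a.ne_zero ((hC.fine.xU_eq_one_iff (wPerm hC.fine L ⟨r, hr.1.2⟩).isLt _).1 hm)
    exact hC.fine.mem_of_xU_mem_genU (hC.closedPos_outSet J) hpos
      (wPerm hC.fine L ⟨r, hr.1.2⟩).isLt a.ne_zero hmem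
  · intro h
    exact hC.monSub_le_parabolic J
      (hC.stab_outSet (F := F) L.length L le_rfl (hC.weylSub_outSet h)).1

theorem nOf_mem_parabolic_iff (hC : Comb K D) (J : Set ℕ) (σ : weylGrp hC.fine) :
    nOf hC.fine F σ ∈ D.parabolicSubgroup F J ↔ σ.val ∈ weylSub hC.fine J := by
  rw [show nOf hC.fine F σ = sWord hC.fine F (hC.fine.wordOf σ) from rfl,
    hC.sWord_mem_parabolic_iff, hC.fine.wPerm_wordOf]

/-! ### Intersections -/

theorem lower_inf_parabolic (hC : Comb K D) (J : Set ℕ) :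
    genU hC.fine F {r | r < D.nroots ∧ K.neg r ∈ outSet K D J} ⊓ D.parabolicSubgroup F J = ⊥ := by
  obtain ⟨c, hc⟩ := hC.exists_coweight J
  have hf := hC.isLin_cFun c
  have hf' : IsLin K D (fun r => - cFun K c r) :=
    { neg := fun r hr => by simp [hf.neg r hr]
      chain := fun r hr s hs q hq => by simp [hf.chain r hr s hs q hq, smul_neg, add_comm] }
  have hwt : ∀ a, wt D (fun r => - cFun K c r) a = - wt D (cFun K c) a := by
    rintro (i | r) <;> simp [wt]
  rw [Subgroup.eq_bot_iff_forall]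
  rintro g ⟨hl, hP⟩
  obtain ⟨h1, h2⟩ := hC.fine.genU_raise hf' one_pos (fun r hr hrn => by
    have := (hC.cow_zero_iff hc (hC.fine.toGood.Kneg_lt hrn)).2.2 hr.2
    rw [hf.neg r hrn] at this
    show 1 ≤ - cFun K c r
    omega) hl
  have hup : ∀ a b : D.Idx, (g : Matrix D.Idx D.Idx F) a b ≠ 0 →
      wt D (cFun K c) b ≤ wt D (cFun K c) a := by
    have hle : D.leviSubgroup F J ≤ Subgroup.normalizer (D.unipotentRadical F J : Set (GL D.Idx F)) :=
      le_trans (le_trans le_sup_right (hC.radical_sup_levi (F := F) J).le) (hC.parabolic_le_normalizer J)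
    have hco := Subgroup.coe_mul_of_right_le_normalizer_left _ _ hle
    rw [hC.radical_sup_levi J] at hco
    replace hP : g ∈ (D.parabolicSubgroup F J : Set (GL D.Idx F)) := hP
    rw [hco, Set.mem_mul] at hP
    obtain ⟨u, hu, l, hl', rfl⟩ := hP
    rw [SetLike.mem_coe, hC.unipotentRadical_eq] at hu
    obtain ⟨-, u2⟩ := hC.fine.genU_raise hf one_pos
      (fun r hr hrn => (hC.cow_zero_iff hc hrn).2.2 hr) hu
    intro a b hne
    rw [Units.val_mul, Matrix.mul_apply] at hne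
    obtain ⟨x, -, hx⟩ := Finset.exists_ne_zero_of_sum_ne_zero hne
    have e := hC.levi_preserve hc hl' x b (right_ne_zero_of_mul hx)
    by_cases hax : a = x
    · rw [hax, e]
    · have := u2 a x hax (left_ne_zero_of_mul hx)
      omega
  refine Units.ext ?_
  ext a b
  by_cases hab : a = b
  · subst hab
    rw [h1, Units.val_one, Matrix.one_apply_eq]
  · rw [Units.val_one, Matrix.one_apply_ne hab]
    by_contra hne
    have e1 := h2 a b hab hne
    have e2 := hup a b hne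
    rw [hwt, hwt] at e1
    omega

theorem factor_inv_keep (hC : Comb K D) {σ : Equiv.Perm (Fin D.nroots)} (hσ : σ ∈ weylGrp hC.fine)
    {x : GL D.Idx F} (hx : x ∈ D.posUnipotent F) :
    ∃ m ∈ genU hC.fine F (invSet K D σ), ∃ p ∈ genU hC.fine F (keepSet K D σ), x = m * p := by
  obtain ⟨L, rfl⟩ := hC.fine.mem_weylGrp_iff.1 hσ
  obtain ⟨p, hp, m, hm, e⟩ := hC.fine.pos_factor L (Subgroup.inv_mem _ hx)
  exact ⟨m⁻¹, Subgroup.inv_mem _ hm, p⁻¹, Subgroup.inv_mem _ hp, by rw [← mul_inv_rev, ← e, inv_inv]⟩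

theorem conj_inv_mem_lower (hC : Comb K D) {J : Set ℕ} (τ : weylGrp hC.fine)
    (h : MinRep hC.fine J τ.val) {m : GL D.Idx F} (hm : m ∈ genU hC.fine F (invSet K D τ.val⁻¹)) :
    (nOf hC.fine F τ)⁻¹ * m * nOf hC.fine F τ ∈
      genU hC.fine F {r | r < D.nroots ∧ K.neg r ∈ outSet K D J} := by
  have := hC.fine.conj_genU_le (hC.fine.moves_inv (hC.nOf_moves τ))
    (T := {r | r < D.nroots ∧ K.neg r ∈ outSet K D J}) (fun r hr => ?_) hm
  · rwa [inv_inv] at this
  obtain ⟨⟨h1, h2⟩, h3⟩ := hr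
  set s := permNat τ.val⁻¹ r with hs
  have hsn : s < D.nroots := permNat_lt h2
  refine ⟨h2, hsn, ?_⟩
  refine (mem_subPos_or_outSet J ((hC.neg_lt_iff hsn).2.2 h3) (hC.fine.toGood.Kneg_lt hsn)).resolve_left
    fun hsub => ?_
  have := MinRep.pos hC τ.2 h _ hsub
  rw [hC.permNat_neg τ.2 hsn, (hC.neg_lt_iff (permNat_lt hsn)).2, hs, ← permNat_comp _ _ h2,
    mul_inv_cancel] at this
  simp [permNat, h2] at this
  omega

theorem conj_keep_mem (hC : Comb K D) (τ : weylGrp hC.fine) {p : GL D.Idx F}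
    (hp : p ∈ genU hC.fine F (keepSet K D τ.val⁻¹)) :
    (nOf hC.fine F τ)⁻¹ * p * nOf hC.fine F τ ∈ D.posUnipotent F := by
  have := hC.fine.conj_keepSet_mem_pos (hC.fine.moves_inv (hC.nOf_moves τ)) hp
  rwa [inv_inv] at this

theorem pos_le_parabolic (hC : Comb K D) (J : Set ℕ) :
    D.posUnipotent F ≤ D.parabolicSubgroup F J := le_trans le_sup_left le_sup_left

theorem diagonal_le_parabolic (hC : Comb K D) (J : Set ℕ) :
    D.diagonalSubgroup F ≤ D.parabolicSubgroup F J := le_trans le_sup_right le_sup_left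

/-- conjugation of a unipotent element into a parabolic by a minimal representative -/
theorem conj_mem_parabolic_iff (hC : Comb K D) {J : Set ℕ} (τ : weylGrp hC.fine)
    (h : MinRep hC.fine J τ.val) {x : GL D.Idx F} (hx : x ∈ D.posUnipotent F) :
    (nOf hC.fine F τ)⁻¹ * x * nOf hC.fine F τ ∈ D.parabolicSubgroup F J ↔
      x ∈ genU hC.fine F (keepSet K D τ.val⁻¹) := by
  refine ⟨fun hmem => ?_, fun hk => hC.pos_le_parabolic J (hC.conj_keep_mem τ hk)⟩
  obtain ⟨m, hm, p, hp, rfl⟩ := hC.factor_inv_keep (Subgroup.inv_mem _ τ.2) hx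
  have h2 : (nOf hC.fine F τ)⁻¹ * m * nOf hC.fine F τ ∈ D.parabolicSubgroup F J := by
    have := Subgroup.mul_mem _ hmem
      (Subgroup.inv_mem _ (hC.pos_le_parabolic J (hC.conj_keep_mem τ hp)))
    convert this using 1
    group
  have h1 : (nOf hC.fine F τ)⁻¹ * m * nOf hC.fine F τ = 1 := by
    rw [← Subgroup.mem_bot, ← hC.lower_inf_parabolic J]
    exact ⟨hC.conj_inv_mem_lower τ h hm, h2⟩
  have hm1 : m = 1 := by
    calc m = nOf hC.fine F τ * ((nOf hC.fine F τ)⁻¹ * m * nOf hC.fine F τ) *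
          (nOf hC.fine F τ)⁻¹ := by group
      _ = 1 := by rw [h1]; group
  rw [hm1, one_mul]
  exact hp

theorem cell_unique (hC : Comb K D) {J : Set ℕ} (τ τ' : weylGrp hC.fine)
    (h : MinRep hC.fine J τ.val) (h' : MinRep hC.fine J τ'.val) {u u' : GL D.Idx F}
    (hu : u ∈ genU hC.fine F (invSet K D τ.val⁻¹)) (hu' : u' ∈ genU hC.fine F (invSet K D τ'.val⁻¹))
    (hP : (u * nOf hC.fine F τ)⁻¹ * (u' * nOf hC.fine F τ') ∈ D.parabolicSubgroup F J) :
    τ = τ' ∧ u = u' := by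
  have hK := hC.fine
  set n := nOf hC.fine F τ
  set n' := nOf hC.fine F τ'
  set π := (u * n)⁻¹ * (u' * n') with hπ
  obtain ⟨b, hb, L, c, hc, e⟩ := hK.normal_form_exists (hC.parabolic_le_group J hP)
  have hcU : c ∈ D.posUnipotent F := hK.invSet_le_pos _ hc
  have hbP : b ∈ D.parabolicSubgroup F J := Subgroup.mem_sup_left hb
  have hsP : sWord hC.fine F L ∈ D.parabolicSubgroup F J := by
    have := Subgroup.mul_mem _ (Subgroup.mul_mem _ (Subgroup.inv_mem _ hbP) hP)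
      (Subgroup.inv_mem _ (hC.pos_le_parabolic J hcU))
    rwa [e, show b⁻¹ * (b * sWord hC.fine F L * c) * c⁻¹ = sWord hC.fine F L by group] at this
  have hLJ := (hC.sWord_mem_parabolic_iff J L).1 hsP
  obtain ⟨v, hv, d, hd, rfl⟩ := hK.mem_borel_iff.1 hb
  obtain ⟨q, hq, m, hm, ev⟩ := hK.pos_factor (hK.wordOf τ) hv
  rw [hK.wPerm_wordOf] at hq hm
  -- the inverted part lies in the radical
  have hmU : m ∈ D.unipotentRadical F J := by
    rw [hC.unipotentRadical_eq]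
    refine hK.genU_mono (fun r hr => ?_) hm
    refine (mem_subPos_or_outSet J hr.1.1 hr.1.2).resolve_left fun hs => ?_
    have := MinRep.pos hC τ.2 h r hs
    have := hr.2
    omega
  have hsd : d * sWord hC.fine F L ∈ D.monomialSubgroup F :=
    Subgroup.mul_mem _ ((le_sup_left : D.diagonalSubgroup F ≤ D.monomialSubgroup F) hd) (hK.sWord_mem_monomial L)
  set s := d * sWord hC.fine F L with hsdef
  have hm' : s⁻¹ * m * s ∈ D.unipotentRadical F J := by
    have := (Subgroup.mem_normalizer_iff.1 (hC.parabolic_le_normalizer J (Subgroup.inv_mem _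
      (Subgroup.mul_mem _ (hC.diagonal_le_parabolic J hd) hsP))) m).1 hmU
    rwa [inv_inv] at this
  have hm'U : s⁻¹ * m * s ∈ D.posUnipotent F := by
    rw [hC.unipotentRadical_eq] at hm'
    rw [hK.posUnipotent_eq]
    exact hK.genU_mono (fun r hr => hr.1) hm'
  have huU : u ∈ D.posUnipotent F := hK.invSet_le_pos _ hu
  have hu'U : u' ∈ D.posUnipotent F := hK.invSet_le_pos _ hu'
  have hnq : n * q * n⁻¹ ∈ D.posUnipotent F := hK.conj_keepSet_mem_pos (hC.nOf_moves τ) hq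
  have heq : u⁻¹ * u' * n' * 1 = n * q * n⁻¹ * (n * s) * (s⁻¹ * m * s * c) := by
    calc u⁻¹ * u' * n' * 1 = n * π := by rw [hπ]; group
      _ = n * (v * d * sWord hC.fine F L * c) := by rw [e]
      _ = n * (q * m * (d * sWord hC.fine F L) * c) := by rw [ev]; group
      _ = _ := by rw [hsdef]; group
  have hH := hK.normal_form_index
    (Subgroup.mem_sup_left (Subgroup.mul_mem _ (Subgroup.inv_mem _ huU) hu'U))
    (Subgroup.mem_sup_left hnq) (hC.nOf_mem τ') (Subgroup.mul_mem _ (hC.nOf_mem τ) hsd)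
    (Subgroup.one_mem _) (Subgroup.mul_mem _ hm'U hcU) heq
  have eperm := hK.moves_unique (hK.moves_diagonal hH) (hK.moves_mul (hK.moves_inv (hC.nOf_moves τ'))
    (hK.moves_mul (hC.nOf_moves τ) (hK.moves_mul (hK.moves_diagonal hd) (hK.moves_sWord L))))
  have hval : τ'.val = τ.val * wPerm hC.fine L := by
    have := eperm.symm
    rw [one_mul] at this
    exact inv_mul_eq_one.1 this
  obtain rfl : τ = τ' := Subtype.ext (hC.minRep_unique τ.2 h h' hLJ hval).symm
  refine ⟨rfl, ?_⟩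
  clear heq hH eperm hval
  have hx : n⁻¹ * (u⁻¹ * u') * n = π := by show _ = (u * n)⁻¹ * (u' * n); group
  have h1 : n⁻¹ * (u⁻¹ * u') * n = 1 := by
    rw [← Subgroup.mem_bot, ← hC.lower_inf_parabolic J]
    exact ⟨hC.conj_inv_mem_lower τ h (Subgroup.mul_mem _ (Subgroup.inv_mem _ hu) hu'), hx ▸ hP⟩
  have : u⁻¹ * u' = 1 := by
    calc u⁻¹ * u' = n * (n⁻¹ * (u⁻¹ * u') * n) * n⁻¹ := by group
      _ = 1 := by rw [h1]; group
  exact inv_mul_eq_one.1 this

theorem cell_exists (hC : Comb K D) (J : Set ℕ) {g : GL D.Idx F} (hg : g ∈ D.group F) :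
    ∃ (τ : weylGrp hC.fine) (u : GL D.Idx F), MinRep hC.fine J τ.val ∧
      u ∈ genU hC.fine F (invSet K D τ.val⁻¹) ∧
      (u * nOf hC.fine F τ)⁻¹ * g ∈ D.parabolicSubgroup F J := by
  have hK := hC.fine
  obtain ⟨b, hb, L, c, hc, e⟩ := hK.normal_form_exists (Subgroup.inv_mem _ hg)
  have hσ : (wPerm hC.fine L)⁻¹ ∈ weylGrp hC.fine :=
    Subgroup.inv_mem _ (hK.mem_weylGrp_iff.2 ⟨L, rfl⟩)
  obtain ⟨τ, v, hτ, hmin, hv, ev⟩ := hC.exists_minRep J _ hσ rfl
  let τ₀ : weylGrp hC.fine := ⟨τ, hτ⟩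
  set n := nOf hC.fine F τ₀
  have hcU : c⁻¹ ∈ D.posUnipotent F := Subgroup.inv_mem _ (hK.invSet_le_pos _ hc)
  obtain ⟨m, hm, p, hp, ec⟩ := hC.factor_inv_keep (Subgroup.inv_mem _ hτ) hcU
  refine ⟨τ₀, m, hmin, hm, ?_⟩
  have hns : n⁻¹ * (sWord hC.fine F L)⁻¹ ∈ D.parabolicSubgroup F J := by
    obtain ⟨L', hL'⟩ := hK.mem_weylGrp_iff.1 (hC.weylSub_le J hv)
    have h1 : sWord hC.fine F L' ∈ D.parabolicSubgroup F J :=
      (hC.sWord_mem_parabolic_iff J L').2 (hL' ▸ hv)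
    have h2 : n⁻¹ * (sWord hC.fine F L)⁻¹ * (sWord hC.fine F L')⁻¹ ∈ D.diagonalSubgroup F := by
      refine hK.mem_diagonal_of_moves_one (Subgroup.mul_mem _ (Subgroup.mul_mem _
        (Subgroup.inv_mem _ (hC.nOf_mem τ₀)) (Subgroup.inv_mem _ (hK.sWord_mem_monomial L)))
        (Subgroup.inv_mem _ (hK.sWord_mem_monomial L'))) ?_
      have := hK.moves_mul (hK.moves_mul (hK.moves_inv (hC.nOf_moves (F := F) τ₀))
        (hK.moves_inv (hK.moves_sWord (F := F) L))) (hK.moves_inv (hK.moves_sWord (F := F) L'))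
      rwa [hL', show τ₀.val = τ from rfl, ev, inv_mul_cancel_left, mul_inv_cancel] at this
    have := Subgroup.mul_mem _ (hC.diagonal_le_parabolic J h2) h1
    rwa [inv_mul_cancel_right] at this
  have hge : g = m * p * (sWord hC.fine F L)⁻¹ * b⁻¹ := by
    rw [← ec, ← inv_inv g, e]; group
  have : (m * n)⁻¹ * g = n⁻¹ * p * n * (n⁻¹ * (sWord hC.fine F L)⁻¹) * b⁻¹ := by
    rw [hge]; group
  rw [this]
  exact Subgroup.mul_mem _ (Subgroup.mul_mem _ (hC.pos_le_parabolic J (hC.conj_keep_mem τ₀ hp)) hns)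
    (Subgroup.inv_mem _ (Subgroup.mem_sup_left hb))

/-- the cell indexing of the cosets of a parabolic subgroup -/
noncomputable def cellMap (hC : Comb K D) (F : Type*) [Field F] (J : Set ℕ)
    (x : Σ τ : {σ : weylGrp hC.fine // MinRep hC.fine J σ.val},
      ↥(genU hC.fine F (invSet K D τ.1.val⁻¹))) :
    ↥(D.group F) ⧸ (D.parabolicSubgroup F J).subgroupOf (D.group F) :=
  QuotientGroup.mk ⟨x.2.val * nOf hC.fine F x.1.1,
    Subgroup.mul_mem _ (hC.fine.genU_le_group _ x.2.2) (hC.nOf_mem_group x.1.1)⟩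

theorem cellMap_bijective (hC : Comb K D) (J : Set ℕ) : Function.Bijective (hC.cellMap F J) := by
  constructor
  · rintro ⟨⟨τ, h⟩, u, hu⟩ ⟨⟨τ', h'⟩, u', hu'⟩ e
    obtain ⟨rfl, rfl⟩ := hC.cell_unique τ τ' h h' hu hu'
      (Subgroup.mem_subgroupOf.1 (QuotientGroup.eq.1 e))
    rfl
  · intro x
    obtain ⟨⟨g, hg⟩, rfl⟩ := QuotientGroup.mk_surjective x
    obtain ⟨τ, u, h, hu, hP⟩ := hC.cell_exists J hg
    exact ⟨⟨⟨τ, h⟩, ⟨u, hu⟩⟩, QuotientGroup.eq.2 (Subgroup.mem_subgroupOf.2 hP)⟩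

theorem card_cell (hC : Comb K D) [Fintype F] {σ : Equiv.Perm (Fin D.nroots)}
    (hσ : σ ∈ weylGrp hC.fine) :
    Nat.card (genU hC.fine F (invSet K D σ)) = Fintype.card F ^ (invSet K D σ).ncard := by
  obtain ⟨L, rfl⟩ := hC.fine.mem_weylGrp_iff.1 hσ
  rw [hC.fine.card_genU (hC.fine.closedPos_invSet L), Nat.card_coe_set_eq]

theorem ncard_invSet_inv (hC : Comb K D) {σ : Equiv.Perm (Fin D.nroots)}
    (hσ : σ ∈ weylGrp hC.fine) : (invSet K D σ⁻¹).ncard = (invSet K D σ).ncard := by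
  have h : ∀ {σ : Equiv.Perm (Fin D.nroots)}, σ ∈ weylGrp hC.fine →
      (invSet K D σ).ncard ≤ (invSet K D σ⁻¹).ncard := by
    intro σ hσ
    refine Set.ncard_le_ncard_of_injOn (fun r => K.neg (permNat σ r)) (fun r hr => ?_) ?_
      (Fine.invSet_finite _)
    · have hn : permNat σ r < D.nroots := permNat_lt hr.1.2
      refine ⟨⟨(hC.neg_lt_iff hn).2.2 hr.2, hC.fine.toGood.Kneg_lt hn⟩, ?_⟩
      rw [hC.permNat_neg (Subgroup.inv_mem _ hσ) hn, ← permNat_comp _ _ hr.1.2, inv_mul_cancel]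
      refine (hC.neg_lt_iff (permNat_lt hr.1.2)).1.2 ?_
      simpa [permNat, hr.1.2] using hr.1.1
    · intro x hx y hy hxy
      have h1 := congrArg K.neg hxy
      rw [hC.fine.toGood.Kneg_Kneg (permNat_lt hx.1.2),
        hC.fine.toGood.Kneg_Kneg (permNat_lt hy.1.2)] at h1
      have h2 := congrArg (permNat σ⁻¹) h1
      rw [← permNat_comp _ _ hx.1.2, ← permNat_comp _ _ hy.1.2, inv_mul_cancel] at h2
      simpa [permNat, hx.1.2, hy.1.2] using h2
  refine le_antisymm ?_ (h hσ)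
  simpa using h (Subgroup.inv_mem _ hσ)

end Comb

end CfsgLib.Chev
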