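import Cfsg.Agent.Chev.Bruhat
import Cfsg.Prelude.Def_ChevAutomorphisms

/-!
Functoriality in the field: applying a ring homomorphism to the entries.
-/

set_option autoImplicit false

namespace CfsgLib.Chev

open Cfsg.Lie

variable {K : Data} {D : ChevalleyDatum} {F : Type*} [Field F] {E : Type*} [Field E]

/-- entrywise application of a field homomorphism -/
noncomputable def fieldMap (D : ChevalleyDatum) (σ : F →+* E) : GL D.Idx F →* GL D.Idx E :=
  Units.map σ.mapMatrix.toMonoidHom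

theorem coe_fieldMap (σ : F →+* E) (g : GL D.Idx F) :
    (fieldMap D σ g : Matrix D.Idx D.Idx E) = (g : Matrix D.Idx D.Idx F).map σ := rfl

theorem fieldMap_injective (σ : F →+* E) : Function.Injective (fieldMap D σ) := by
  intro g h e
  refine Units.ext (Matrix.map_injective σ.injective ?_)
  show (g : Matrix D.Idx D.Idx F).map σ = (h : Matrix D.Idx D.Idx F).map σ
  rw [← coe_fieldMap, ← coe_fieldMap, e]

theorem fieldMap_fieldMap {L : Type*} [Field L] (τ : E →+* L) (σ : F →+* E) (g : GL D.Idx F) :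
    fieldMap D τ (fieldMap D σ g) = fieldMap D (τ.comp σ) g :=
  Units.ext (by simp [coe_fieldMap, Matrix.map_map, RingHom.coe_comp])

theorem fieldMap_id (g : GL D.Idx F) : fieldMap D (RingHom.id F) g = g :=
  Units.ext (by simp [coe_fieldMap])

theorem x_map (D : ChevalleyDatum) (σ : F →+* E) (r : ℕ) (t : F) :
    (D.x F r t).map σ = D.x E r (σ t) := by
  by_cases hr : r < D.nroots
  · rw [x_of_lt D hr, x_of_lt D hr]
    ext a b
    rcases a with a | a <;> rcases b with b | b <;>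
      simp [ChevalleyDatum.xMat, Matrix.map_apply, apply_ite σ, map_list_sum, List.map_map,
        Function.comp_def]
  · rw [x_of_not_lt D hr, x_of_not_lt D hr]
    exact Matrix.map_one σ σ.map_zero σ.map_one

namespace Fine

theorem fieldMap_xU (hK : Fine K D) (σ : F →+* E) (r : ℕ) (t : F) :
    fieldMap D σ (xU hK r t) = xU hK r (σ t) :=
  Units.ext (x_map D σ r t)

theorem fieldMap_wordU (hK : Fine K D) (σ : F →+* E) (w : List (ℕ × F)) :
    fieldMap D σ (wordU hK w) = wordU hK (w.map fun p => (p.1, σ p.2)) := by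
  simp only [wordU, map_list_prod, List.map_map, Function.comp_def, hK.fieldMap_xU]

theorem fieldMap_ordProd (hK : Fine K D) (σ : F →+* E) (a : ℕ) (t : ℕ → F) :
    fieldMap D σ (ordProd hK a t) = ordProd hK a (fun r => σ (t r)) := by
  simp only [ordProd, hK.fieldMap_wordU, List.map_map, Function.comp_def]

theorem fieldMap_nU (hK : Fine K D) (σ : F →+* E) (r : ℕ) (t : F) :
    fieldMap D σ (nU hK r t) = nU hK r (σ t) := by
  rw [nU, hK.fieldMap_wordU, nU]
  simp [ChevalleyDatum.nWord]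

theorem fieldMap_sU (hK : Fine K D) (σ : F →+* E) (i : ℕ) :
    fieldMap D σ (sU hK i) = sU hK i := by
  rw [sU, hK.fieldMap_nU, map_one, sU]

theorem fieldMap_sWord (hK : Fine K D) (σ : F →+* E) (L : List (Fin D.rank)) :
    fieldMap D σ (sWord hK F L) = sWord hK E L := by
  simp only [sWord, map_list_prod, List.map_map, Function.comp_def, hK.fieldMap_sU]

theorem fieldMap_tU (hK : Fine K D) (σ : F →+* E) (c : ℕ → Fˣ) :
    fieldMap D σ (tU K D c) = tU K D (fun i => Units.map σ.toMonoidHom (c i)) := by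
  refine Units.ext ?_
  have e : ∀ s, σ (torusChar K D c s : F) =
      (torusChar K D (fun i => Units.map σ.toMonoidHom (c i)) s : E) := by
    intro s
    show ((Units.map σ.toMonoidHom) (torusChar K D c s) : E) = _
    simp [torusChar, map_prod, map_zpow]
  ext a b
  rw [coe_fieldMap, coe_tU, coe_tU, Matrix.map_apply]
  simp only [dmat]
  rcases a with a | a <;> rcases b with b | b <;> simp [Matrix.diagonal_apply, apply_ite σ, e]

theorem fieldMap_mem_group (hK : Fine K D) (σ : F →+* E) {g : GL D.Idx F} (hg : g ∈ D.group F) :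
    fieldMap D σ g ∈ D.group E := by
  induction hg using Subgroup.closure_induction with
  | mem x hx =>
    obtain ⟨r, t, hx⟩ := hx
    rw [show x = xU hK r.val t from Units.ext (by rw [hx, coe_xU, x_of_lt D r.isLt]), hK.fieldMap_xU]
    exact hK.xU_mem_group _ _
  | one => rw [map_one]; exact one_mem _
  | mul a b _ _ ha hb => rw [map_mul]; exact Subgroup.mul_mem _ ha hb
  | inv a _ ha => rw [map_inv]; exact Subgroup.inv_mem _ ha

theorem fieldMap_mem_genU (hK : Fine K D) (σ : F →+* E) {T : Set ℕ} {g : GL D.Idx F}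
    (hg : g ∈ genU hK F T) : fieldMap D σ g ∈ genU hK E T := by
  induction hg using Subgroup.closure_induction with
  | mem x hx =>
    obtain ⟨r, hr, t, rfl⟩ := hx
    rw [hK.fieldMap_xU]; exact hK.mem_genU hr _
  | one => rw [map_one]; exact one_mem _
  | mul a b _ _ ha hb => rw [map_mul]; exact Subgroup.mul_mem _ ha hb
  | inv a _ ha => rw [map_inv]; exact Subgroup.inv_mem _ ha

theorem fieldMap_mem_pos (hK : Fine K D) (σ : F →+* E) {g : GL D.Idx F}
    (hg : g ∈ D.posUnipotent F) : fieldMap D σ g ∈ D.posUnipotent E := by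
  rw [hK.posUnipotent_eq] at hg ⊢
  exact hK.fieldMap_mem_genU σ hg

theorem fieldMap_mem_diagonal (hK : Fine K D) (σ : F →+* E) {g : GL D.Idx F}
    (hg : g ∈ D.diagonalSubgroup F) : fieldMap D σ g ∈ D.diagonalSubgroup E := by
  obtain ⟨c, rfl⟩ := hK.mem_diagonal_iff.1 hg
  rw [hK.fieldMap_tU]
  exact hK.mem_diagonal_iff.2 ⟨_, rfl⟩

/-- an automorphism of the field as an automorphism of the group -/
noncomputable def fieldAut (hK : Fine K D) (σ : F ≃+* F) : ↥(D.group F) ≃* ↥(D.group F) where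
  toFun g := ⟨fieldMap D σ.toRingHom g.1, hK.fieldMap_mem_group _ g.2⟩
  invFun g := ⟨fieldMap D σ.symm.toRingHom g.1, hK.fieldMap_mem_group _ g.2⟩
  left_inv g := Subtype.ext (by
    show fieldMap D σ.symm.toRingHom (fieldMap D σ.toRingHom g.1) = g.1
    rw [fieldMap_fieldMap]
    convert fieldMap_id g.1 using 3
    ext; simp)
  right_inv g := Subtype.ext (by
    show fieldMap D σ.toRingHom (fieldMap D σ.symm.toRingHom g.1) = g.1
    rw [fieldMap_fieldMap]
    convert fieldMap_id g.1 using 3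
    ext; simp)
  map_mul' g h := Subtype.ext (map_mul (fieldMap D σ.toRingHom) g.1 h.1)

theorem coe_fieldAut (hK : Fine K D) (σ : F ≃+* F) (g : ↥(D.group F)) :
    ((hK.fieldAut σ g : ↥(D.group F)) : GL D.Idx F) = fieldMap D σ.toRingHom g.1 := rfl

/-- the group is generated by the root elements of the fundamental roots and their negatives -/
theorem group_eq_simple (hK : Fine K D) :
    D.group F = Subgroup.closure
      {g : GL D.Idx F | ∃ i < D.rank, ∃ t : F, g = xU hK (K.p i) t ∨ g = xU hK (K.neg (K.p i)) t} := by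
  refine le_antisymm ?_ ((Subgroup.closure_le _).2 ?_)
  swap
  · rintro g ⟨i, hi, t, rfl | rfl⟩ <;> exact hK.xU_mem_group _ _
  set T := Subgroup.closure
    {g : GL D.Idx F | ∃ i < D.rank, ∃ t : F, g = xU hK (K.p i) t ∨ g = xU hK (K.neg (K.p i)) t}
    with hT
  have hp : ∀ i < D.rank, ∀ t : F, xU hK (K.p i) t ∈ T := fun i hi t =>
    Subgroup.subset_closure ⟨i, hi, t, Or.inl rfl⟩
  have hn : ∀ i < D.rank, ∀ t : F, xU hK (K.neg (K.p i)) t ∈ T := fun i hi t =>
    Subgroup.subset_closure ⟨i, hi, t, Or.inr rfl⟩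
  have hG := hK.toGood
  have hs : ∀ i < D.rank, sU hK i ∈ T := by
    intro i hi
    rw [sU, nU, hG.simple_eq hi]
    refine Subgroup.list_prod_mem _ ?_
    intro x hx
    obtain ⟨q, hq, rfl⟩ := List.mem_map.1 hx
    simp only [ChevalleyDatum.nWord, List.mem_cons, List.not_mem_nil, or_false,
      hG.neg_eq (hG.p_lt hi), ← hG.Kneg_eq] at hq
    rcases hq with rfl | rfl | rfl
    · exact hp i hi _
    · exact hn i hi _
    · exact hp i hi _
  have hneg : ∀ r, r < D.nroots → K.npos ≤ r → ∀ t : F, xU hK r t ∈ T ∧ xU hK (K.neg r) t ∈ T := by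
    intro r
    induction r using Nat.strong_induction_on with
    | _ r ih =>
      intro hr hpos t
      obtain ⟨i, hi, e | ⟨h1, h2⟩⟩ := hK.desc hr hpos
      · subst e; exact ⟨hp i hi t, hn i hi t⟩
      · have hw := hG.w_lt hi hr
        constructor
        · have e := hK.sU_conj_xU (F := F) hi hw ((K.eta i (K.w i r) : F) * t)
          rw [hG.w_w hi hr, ← mul_assoc, ← Int.cast_mul, Good.eta_sq, Int.cast_one, one_mul] at e
          rw [← e]
          exact Subgroup.mul_mem _ (Subgroup.mul_mem _ (hs i hi) (ih _ h2 hw h1 _).1)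
            (Subgroup.inv_mem _ (hs i hi))
        · have e := hK.sU_conj_xU (F := F) hi (hG.Kneg_lt hw) ((K.eta i (K.neg (K.w i r)) : F) * t)
          rw [hG.w_neg hi hw, hG.w_w hi hr, ← mul_assoc, ← Int.cast_mul, Good.eta_sq, Int.cast_one,
            one_mul] at e
          rw [← e]
          exact Subgroup.mul_mem _ (Subgroup.mul_mem _ (hs i hi) (ih _ h2 hw h1 _).2)
            (Subgroup.inv_mem _ (hs i hi))
  refine (Subgroup.closure_le _).2 ?_
  rintro g ⟨r, t, hg⟩
  rw [show g = xU hK r.val t from Units.ext (by rw [hg, coe_xU, x_of_lt D r.isLt])]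
  have h2 := hG.nroots_eq_two_mul
  have hr := r.isLt
  rcases Nat.lt_or_ge r.val K.npos with h | h
  · have := (hneg (K.neg r.val) (hG.Kneg_lt r.isLt) (by rw [hG.Kneg_eq]; omega) t).2
    rwa [hG.Kneg_Kneg r.isLt] at this
  · exact (hneg r.val r.isLt h t).1

theorem eq_fieldAut (hK : Fine K D) (φ : ↥(D.group F) ≃* ↥(D.group F)) (σ : F ≃+* F)
    (hσ : ∀ (g : ↥(D.group F)) (r : ℕ) (t : F), r < D.nroots →
      ((g : GL D.Idx F) : Matrix D.Idx D.Idx F) = D.x F r t →
      ((φ g : GL D.Idx F) : Matrix D.Idx D.Idx F) = D.x F r (σ t)) :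
    ∀ g, φ g = hK.fieldAut σ g := by
  have h : ∀ g (hg : g ∈ D.group F), φ ⟨g, hg⟩ = hK.fieldAut σ ⟨g, hg⟩ := by
    intro g hg
    induction hg using Subgroup.closure_induction with
    | mem x hx =>
      obtain ⟨r, t, hx⟩ := hx
      refine Subtype.ext (Units.ext ?_)
      rw [hσ _ r.val t r.isLt (by rw [x_of_lt D r.isLt]; exact hx), coe_fieldAut, coe_fieldMap, hx,
        ← x_of_lt D r.isLt, x_map]
      rfl
    | one => exact (map_one φ).trans (map_one (hK.fieldAut σ)).symm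
    | mul a b ha hb iha ihb =>
      rw [show (⟨a * b, _⟩ : ↥(D.group F)) = ⟨a, ha⟩ * ⟨b, hb⟩ from rfl, map_mul, map_mul, iha, ihb]
    | inv a ha iha =>
      rw [show (⟨a⁻¹, _⟩ : ↥(D.group F)) = (⟨a, ha⟩)⁻¹ from rfl, map_inv, map_inv, iha]
  exact fun g => h g.1 g.2

/-- field automorphisms commute with graph automorphisms -/
theorem fieldAut_comm_graphAut (hK : Fine K D) (f g : ↥(D.group F) ≃* ↥(D.group F))
    (hf : D.IsFieldAut f) (hg : D.IsGraphAut g) (y : ↥(D.group F)) : f (g y) = g (f y) := by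
  obtain ⟨σ, hσ⟩ := hf
  obtain ⟨π, -, hπ⟩ := hg
  have h : ∀ z (hz : z ∈ D.group F), f (g ⟨z, hz⟩) = g (f ⟨z, hz⟩) := by
    intro z hz
    have hz' := hz
    rw [hK.group_eq_simple] at hz'
    induction hz' using Subgroup.closure_induction with
    | mem x hx =>
      obtain ⟨i, hi, t, rfl | rfl⟩ := hx
      · have h1 := hK.toGood.simple_eq hi
        have h2 := hK.toGood.simple_eq (π ⟨i, hi⟩).isLt
        have e1 := (hπ ⟨_, hz⟩ ⟨i, hi⟩ t).1 (by rw [h1]; exact coe_xU hK _ _)
        have e2 := hσ _ _ _ (by rw [h2]; exact hK.toGood.p_lt (π ⟨i, hi⟩).isLt) e1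
        have e3 := hσ ⟨_, hz⟩ _ t (by exact hK.toGood.p_lt hi) (coe_xU hK _ _)
        have e4 := (hπ (f ⟨_, hz⟩) ⟨i, hi⟩ (σ t)).1 (by rw [h1]; exact e3)
        rw [map_pow] at e2
        exact Subtype.ext (Units.ext (e2.trans e4.symm))
      · have h1 := hK.toGood.simple_eq hi
        have h1' : D.neg (D.simple i) = K.neg (K.p i) := by
          rw [h1, hK.toGood.neg_eq (hK.toGood.p_lt hi), hK.toGood.Kneg_eq]
        have h2' : D.neg (D.simple (π ⟨i, hi⟩)) < D.nroots := by
          rw [hK.toGood.simple_eq (π ⟨i, hi⟩).isLt,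
            hK.toGood.neg_eq (hK.toGood.p_lt (π ⟨i, hi⟩).isLt)]
          have := hK.toGood.p_lt (π ⟨i, hi⟩).isLt
          omega
        have e1 := (hπ ⟨_, hz⟩ ⟨i, hi⟩ t).2 (by rw [h1']; exact coe_xU hK _ _)
        have e2 := hσ _ _ _ h2' e1
        have e3 := hσ ⟨_, hz⟩ _ t (hK.toGood.Kneg_lt (hK.toGood.p_lt hi)) (coe_xU hK _ _)
        have e4 := (hπ (f ⟨_, hz⟩) ⟨i, hi⟩ (σ t)).2 (by rw [h1']; exact e3)
        rw [map_pow] at e2
        exact Subtype.ext (Units.ext (e2.trans e4.symm))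
    | one => rw [show (⟨1, hz⟩ : ↥(D.group F)) = 1 from rfl]; simp
    | mul a b ha hb iha ihb =>
      rw [show (⟨a * b, hz⟩ : ↥(D.group F)) = ⟨a, by rw [hK.group_eq_simple]; exact ha⟩ * ⟨b, by rw [hK.group_eq_simple]; exact hb⟩
        from rfl]
      simp only [map_mul]
      rw [iha, ihb]
    | inv a ha iha =>
      rw [show (⟨a⁻¹, hz⟩ : ↥(D.group F)) = (⟨a, by rw [hK.group_eq_simple]; exact ha⟩)⁻¹ from rfl]
      simp only [map_inv]
      rw [iha]
  exact h y.1 y.2

/-- fixed points of a field endomorphism -/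
theorem fixed_decomp (hK : Fine K D) (σ : F →+* F) {g : GL D.Idx F} (hg : g ∈ D.group F)
    (hfix : fieldMap D σ g = g) :
    ∃ v : ℕ → F, (∀ r, σ (v r) = v r) ∧ ∃ h ∈ D.diagonalSubgroup F, fieldMap D σ h = h ∧
      ∃ L : List (Fin D.rank), ∃ u : ℕ → F, (∀ r, σ (u r) = u r) ∧
        g = ordProd hK K.npos v * h * sWord hK F L * ordProd hK K.npos u := by
  classical
  obtain ⟨b, hb, L, m, hm, rfl⟩ := hK.normal_form_exists hg
  obtain ⟨v, hv, h, hh, rfl⟩ := hK.mem_borel_iff.1 hb
  rw [map_mul, map_mul, map_mul, hK.fieldMap_sWord] at hfix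
  have hv' := hK.fieldMap_mem_pos σ hv
  have hh' := hK.fieldMap_mem_diagonal σ hh
  obtain ⟨e1, e2⟩ := hK.normal_form_factors (hK.moves_sWord L)
    (hK.mem_borel_iff.2 ⟨_, hv', _, hh', rfl⟩) hb (hK.fieldMap_mem_genU σ hm) hm hfix
  have e3 : v⁻¹ * fieldMap D σ v = h * (fieldMap D σ h)⁻¹ := by
    rw [eq_mul_inv_iff_mul_eq, mul_assoc, e1]; group
  have e4 : v⁻¹ * fieldMap D σ v ∈ D.posUnipotent F ⊓ D.diagonalSubgroup F :=
    ⟨Subgroup.mul_mem _ (Subgroup.inv_mem _ hv) hv',
      e3 ▸ Subgroup.mul_mem _ hh (Subgroup.inv_mem _ hh')⟩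
  rw [hK.pos_inf_diagonal, Subgroup.mem_bot] at e4
  have hvfix : fieldMap D σ v = v := (inv_mul_eq_one.1 e4).symm
  have hhfix : fieldMap D σ h = h := by
    rw [e4] at e3; exact (mul_inv_eq_one.1 e3.symm).symm
  have hfixU : ∀ x ∈ D.posUnipotent F, fieldMap D σ x = x →
      ∃ t : ℕ → F, (∀ r, σ (t r) = t r) ∧ x = ordProd hK K.npos t := by
    intro x hx hxf
    obtain ⟨t, ht, rfl⟩ := hK.pos_normal_form hx
    rw [hK.fieldMap_ordProd] at hxf
    refine ⟨t, fun r => ?_, rfl⟩
    by_cases hr : K.npos ≤ r ∧ r < D.nroots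
    · exact hK.ordProd_inj _ K.npos rfl le_rfl _ _ hxf r hr.1 hr.2
    · rw [ht r (fun hp => hr ((hK.toGood.isPosRoot_iff r).1 hp)), map_zero]
  obtain ⟨tv, htv, rfl⟩ := hfixU v hv hvfix
  obtain ⟨tu, htu, rfl⟩ := hfixU m (hK.invSet_le_pos _ hm) e2
  exact ⟨tv, htv, h, hh, hhfix, L, tu, htu, rfl⟩

end Fine

end CfsgLib.Chev
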