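import Cfsg.Agent.Chev.PosComb
import Cfsg.Agent.Chev.FieldMap

/-!
Subgroups between the root elements over the fixed field and the fixed points of a field endomorphism:
centraliser and normaliser.
-/

set_option autoImplicit false

namespace CfsgLib.Chev

open Cfsg.Lie

variable {K : Data} {D : ChevalleyDatum} {F : Type*} [Field F]

namespace Fine

theorem xU_inj (hK : Fine K D) {r : ℕ} (hr : r < D.nroots) {t u : F}
    (h : xU hK r t = xU hK r u) : t = u := by
  refine sub_eq_zero.1 ((hK.xU_eq_one_iff hr _).1 ?_)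
  rw [sub_eq_add_neg, ← xU_mul, ← xU_inv, h, mul_inv_cancel]

theorem sWord_conj_fixed (hK : Fine K D) (σ : F →+* F) (L : List (Fin D.rank)) (r : Fin D.nroots)
    {a : Fˣ} (ha : ∀ t : F, sWord hK F L * xU hK r.val t * (sWord hK F L)⁻¹ =
      xU hK (wPerm hK L r).val ((a : F) * t)) : σ (a : F) = a := by
  have h := congrArg (fieldMap D σ) (ha 1)
  rw [map_mul, map_mul, map_inv, hK.fieldMap_sWord, hK.fieldMap_xU, hK.fieldMap_xU, map_one,
    ha 1, mul_one] at h
  exact (hK.xU_inj (wPerm hK L r).isLt h).symm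

theorem mem_borel_of_commute (hK : Fine K D) {g : GL D.Idx F} (hg : g ∈ D.group F)
    (h : ∀ j < D.rank, g * xU hK (K.p j) 1 = xU hK (K.p j) 1 * g) : g ∈ D.borelSubgroup F := by
  obtain ⟨b, hb, L, u, hu, rfl⟩ := hK.normal_form_exists hg
  have hG := hK.toGood
  have hσ : wPerm hK L = 1 := by
    by_contra hne
    obtain ⟨j, hj⟩ := hK.exists_descent L.length L le_rfl hne
    set x := xU hK (K.p j.val) (1 : F) with hx
    have hxinv : x ∈ genU hK F (invSet K D (wPerm hK L)) := by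
      refine hK.mem_genU ?_ _
      refine ⟨⟨hG.npos_le_p j.isLt, hG.p_lt j.isLt⟩, ?_⟩
      show permNat (wPerm hK L) (pFin hK j).val < K.npos
      rw [permNat_fin]; exact hj
    have hxB : x * b ∈ D.borelSubgroup F :=
      Subgroup.mul_mem _ (hK.xU_mem_borel (hG.npos_le_p j.isLt) _) hb
    have e : b * sWord hK F L * (u * x) = x * b * sWord hK F L * u := by
      have h0 := h j.val j.isLt
      calc b * sWord hK F L * (u * x) = b * sWord hK F L * u * x := by group
        _ = x * (b * sWord hK F L * u) := h0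
        _ = _ := by group
    have hu2 := (hK.normal_form_factors (hK.moves_sWord L) hb hxB
      (Subgroup.mul_mem _ hu hxinv) hu e).1
    have hx1 : x = 1 := by
      have : x * b = 1 * b := by rw [one_mul]; exact hu2.symm
      exact mul_right_cancel this
    exact one_ne_zero ((hK.xU_eq_one_iff (hG.p_lt j.isLt) 1).1 hx1)
  have hd : sWord hK F L ∈ D.diagonalSubgroup F := hK.sWord_mem_diagonal L.length L le_rfl hσ
  refine Subgroup.mul_mem _ (Subgroup.mul_mem _ hb (Subgroup.mem_sup_right hd)) ?_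
  exact Subgroup.mem_sup_left (hK.invSet_le_pos _ hu)

theorem eq_one_of_commute (hK : Fine K D) (hc : K.combOK = true) (σ : F →+* F) {g : GL D.Idx F}
    (hg : g ∈ D.group F)
    (h : ∀ r < D.nroots, ∀ t : F, σ t = t → g * xU hK r t = xU hK r t * g) : g = 1 := by
  have hG := hK.toGood
  obtain ⟨L, hL⟩ := hK.exists_longest hc
  set n := sWord hK F L with hn
  have hnG : n ∈ D.group F := hK.monomial_le_group (hK.sWord_mem_monomial L)
  have hgB : g ∈ D.borelSubgroup F :=
    hK.mem_borel_of_commute hg fun j hj => h _ (hG.p_lt hj) 1 (map_one σ)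
  have hg'B : n * g * n⁻¹ ∈ D.borelSubgroup F := by
    refine hK.mem_borel_of_commute
      (Subgroup.mul_mem _ (Subgroup.mul_mem _ hnG hg) (Subgroup.inv_mem _ hnG)) fun j hj => ?_
    set s := (wPerm hK L).symm ⟨K.p j, hG.p_lt hj⟩
    have hσ : wPerm hK L s = ⟨K.p j, hG.p_lt hj⟩ := (wPerm hK L).apply_symm_apply _
    obtain ⟨a, ha⟩ := hK.moves_sWord (F := F) L s
    have hafix := hK.sWord_conj_fixed σ L s ha
    have hh := h s.val s.isLt ((a : F)⁻¹ * 1) (by rw [mul_one, map_inv₀, hafix])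
    have e := ha ((a : F)⁻¹ * 1)
    rw [hσ, mul_inv_cancel_left₀ a.ne_zero] at e
    rw [← hn] at e
    rw [← e]
    calc n * g * n⁻¹ * (n * xU hK s.val ((a : F)⁻¹ * 1) * n⁻¹)
        = n * (g * xU hK s.val ((a : F)⁻¹ * 1)) * n⁻¹ := by group
      _ = n * (xU hK s.val ((a : F)⁻¹ * 1) * g) * n⁻¹ := by rw [hh]
      _ = _ := by group
  obtain ⟨v, hv, d, hd, rfl⟩ := hK.mem_borel_iff.1 hgB
  have hdB : n * d * n⁻¹ ∈ D.borelSubgroup F := Subgroup.mem_sup_right
    ((Subgroup.mem_normalizer_iff.1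
      (hK.monomial_le_normalizer_diagonal (hK.sWord_mem_monomial L)) d).1 hd)
  have hvB : n * v * n⁻¹ ∈ D.borelSubgroup F ⊓ D.negUnipotent F := by
    refine ⟨?_, ?_⟩
    · rw [show n * v * n⁻¹ = n * (v * d) * n⁻¹ * (n * d * n⁻¹)⁻¹ by group]
      exact Subgroup.mul_mem _ hg'B (Subgroup.inv_mem _ hdB)
    · rw [hK.posUnipotent_eq] at hv
      rw [SetLike.mem_coe, hK.negUnipotent_eq]
      exact hK.conj_genU_le (hK.moves_sWord L) (fun r hr => ⟨hr.2, hL r hr.1 hr.2⟩) hv
  rw [hK.borel_inf_neg, Subgroup.mem_bot] at hvB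
  have hv1 : v = 1 := conj_eq_one_iff.1 hvB
  subst hv1
  rw [one_mul] at h ⊢
  obtain ⟨c, rfl⟩ := hK.mem_diagonal_iff.1 hd
  refine Units.ext ?_
  rw [coe_tU, Units.val_one, ← dmat_one (D := D)]
  refine dmat_congr fun r hr => ?_
  have e := hK.tU_conj_xU c hr (1 : F)
  rw [h r hr 1 (map_one σ), mul_inv_cancel_right] at e
  rw [mul_one] at e
  exact (hK.xU_inj hr e).symm

/-- root elements over the fixed points -/
noncomputable def fixedRoots (hK : Fine K D) (σ : F →+* F) : Subgroup (GL D.Idx F) :=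
  Subgroup.closure {g | ∃ r, ∃ t : F, σ t = t ∧ g = xU hK r t}

theorem wordU_mem_fixedRoots (hK : Fine K D) (σ : F →+* F) {w : List (ℕ × F)}
    (h : ∀ p ∈ w, σ p.2 = p.2) : wordU hK w ∈ hK.fixedRoots σ := by
  refine Subgroup.list_prod_mem _ fun x hx => ?_
  obtain ⟨p, hp, rfl⟩ := List.mem_map.1 hx
  exact Subgroup.subset_closure ⟨p.1, p.2, h p hp, rfl⟩

theorem ordProd_mem_fixedRoots (hK : Fine K D) (σ : F →+* F) (a : ℕ) {t : ℕ → F}
    (h : ∀ r, σ (t r) = t r) : ordProd hK a t ∈ hK.fixedRoots σ := by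
  refine hK.wordU_mem_fixedRoots σ fun p hp => ?_
  obtain ⟨r, -, rfl⟩ := List.mem_map.1 hp
  exact h r

theorem sWord_mem_fixedRoots (hK : Fine K D) (σ : F →+* F) (L : List (Fin D.rank)) :
    sWord hK F L ∈ hK.fixedRoots σ := by
  refine Subgroup.list_prod_mem _ fun x hx => ?_
  obtain ⟨i, -, rfl⟩ := List.mem_map.1 hx
  refine hK.wordU_mem_fixedRoots σ fun p hp => ?_
  simp only [ChevalleyDatum.nWord, List.mem_cons, List.not_mem_nil, or_false] at hp
  rcases hp with rfl | rfl | rfl <;> simp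

theorem diagonal_conj_fixedRoots (hK : Fine K D) (σ : F →+* F) {h : GL D.Idx F}
    (hh : h ∈ D.diagonalSubgroup F) (hfix : fieldMap D σ h = h) {l : GL D.Idx F}
    (hl : l ∈ hK.fixedRoots σ) : h * l * h⁻¹ ∈ hK.fixedRoots σ := by
  induction hl using Subgroup.closure_induction with
  | mem x hx =>
    obtain ⟨r, t, ht, rfl⟩ := hx
    by_cases hr : r < D.nroots
    · obtain ⟨c, rfl⟩ := hK.mem_diagonal_iff.1 hh
      rw [hK.tU_conj_xU c hr t]
      refine Subgroup.subset_closure ⟨r, _, ?_, rfl⟩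
      rw [map_mul, ht]
      congr 1
      have e := congrArg (fun z : GL D.Idx F =>
        (z : Matrix D.Idx D.Idx F) (Sum.inr ⟨r, hr⟩) (Sum.inr ⟨r, hr⟩)) hfix
      simpa [coe_fieldMap, coe_tU, dmat] using e
    · rw [xU_of_not_lt hK hr]
      simp
  | one => simp
  | mul a b _ _ ha hb => simpa [mul_assoc] using Subgroup.mul_mem _ ha hb
  | inv a _ ha => simpa [mul_assoc] using Subgroup.inv_mem _ ha

/-- a fixed element normalises every intermediate subgroup -/
theorem fixed_conj_mem (hK : Fine K D) (σ : F →+* F) {M : Subgroup (GL D.Idx F)}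
    (hMG : M ≤ D.group F) (hLM : hK.fixedRoots σ ≤ M) (hMfix : ∀ m ∈ M, fieldMap D σ m = m)
    {g : GL D.Idx F} (hg : g ∈ D.group F) (hgfix : fieldMap D σ g = g) {m : GL D.Idx F}
    (hm : m ∈ M) : g * m * g⁻¹ ∈ M := by
  obtain ⟨v, hv, h, hh, hhfix, L, u, hu, rfl⟩ := hK.fixed_decomp σ hg hgfix
  have hvM := hLM (hK.ordProd_mem_fixedRoots σ K.npos hv)
  have hwM : sWord hK F L * ordProd hK K.npos u ∈ M := hLM
    (Subgroup.mul_mem _ (hK.sWord_mem_fixedRoots σ L) (hK.ordProd_mem_fixedRoots σ K.npos hu))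
  have key : ∀ k ∈ M, h * k * h⁻¹ ∈ M := by
    intro k hk
    obtain ⟨v', hv', h', hh', -, L', u', hu', rfl⟩ := hK.fixed_decomp σ (hMG hk) (hMfix k hk)
    have a1 := hK.ordProd_mem_fixedRoots σ K.npos hv'
    have a2 := Subgroup.mul_mem _ (hK.sWord_mem_fixedRoots σ L') (hK.ordProd_mem_fixedRoots σ K.npos hu')
    have hh'M : h' ∈ M := by
      have := Subgroup.mul_mem _ (Subgroup.mul_mem _ (Subgroup.inv_mem _ (hLM a1)) hk)
        (Subgroup.inv_mem _ (hLM a2))
      simpa [mul_assoc] using this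
    obtain ⟨c, rfl⟩ := hK.mem_diagonal_iff.1 hh
    obtain ⟨c', rfl⟩ := hK.mem_diagonal_iff.1 hh'
    have hcomm : tU K D c * tU K D c' * (tU K D c)⁻¹ = (tU K D c' : GL D.Idx F) := by
      rw [← tU_mul, mul_comm c c', tU_mul, mul_inv_cancel_right]
    rw [show tU K D c * (ordProd hK K.npos v' * tU K D c' * sWord hK F L' * ordProd hK K.npos u') *
        (tU K D c)⁻¹ = (tU K D c * ordProd hK K.npos v' * (tU K D c)⁻¹) *
          (tU K D c * tU K D c' * (tU K D c)⁻¹) *
          (tU K D c * (sWord hK F L' * ordProd hK K.npos u') * (tU K D c)⁻¹) by group, hcomm]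
    exact Subgroup.mul_mem _ (Subgroup.mul_mem _
      (hLM (hK.diagonal_conj_fixedRoots σ hh hhfix a1)) hh'M)
      (hLM (hK.diagonal_conj_fixedRoots σ hh hhfix a2))
  have := Subgroup.mul_mem _ (Subgroup.mul_mem _ hvM (key _ (Subgroup.mul_mem _
    (Subgroup.mul_mem _ hwM hm) (Subgroup.inv_mem _ hwM)))) (Subgroup.inv_mem _ hvM)
  simpa [mul_assoc] using this

theorem centralizer_and_normalizer (hK : Fine K D) (hc : K.combOK = true) (σ : F →+* F)
    {M : Subgroup (GL D.Idx F)}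
    (hMG : M ≤ D.group F) (hLM : hK.fixedRoots σ ≤ M) (hMfix : ∀ m ∈ M, fieldMap D σ m = m) :
    D.group F ⊓ Subgroup.centralizer (M : Set (GL D.Idx F)) = ⊥ ∧
      ∀ g ∈ D.group F, g ∈ Subgroup.normalizer (M : Set (GL D.Idx F)) ↔ fieldMap D σ g = g := by
  have hcen : ∀ g ∈ D.group F, g ∈ Subgroup.centralizer (M : Set (GL D.Idx F)) → g = 1 := by
    intro g hg hgc
    refine hK.eq_one_of_commute hc σ hg fun r _ t ht => ?_
    exact (hgc _ (hLM (Subgroup.subset_closure ⟨r, t, ht, rfl⟩))).symm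
  refine ⟨(Subgroup.eq_bot_iff_forall _).2 fun g hg => hcen g hg.1 hg.2, fun g hg => ⟨fun hn => ?_, fun hf => ?_⟩⟩
  · have h1 : g⁻¹ * fieldMap D σ g = 1 := by
      refine hcen _ (Subgroup.mul_mem _ (Subgroup.inv_mem _ hg) (hK.fieldMap_mem_group σ hg)) ?_
      intro m hm
      have e1 := hMfix _ ((Subgroup.mem_normalizer_iff.1 hn m).1 hm)
      rw [map_mul, map_mul, map_inv, hMfix m hm] at e1
      calc m * (g⁻¹ * fieldMap D σ g)
          = g⁻¹ * (g * m * g⁻¹) * fieldMap D σ g := by group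
        _ = g⁻¹ * (fieldMap D σ g * m * (fieldMap D σ g)⁻¹) * fieldMap D σ g := by rw [e1]
        _ = _ := by group
    exact (inv_mul_eq_one.1 h1).symm
  · refine Subgroup.mem_normalizer_iff.2 fun m => ⟨fun hm => hK.fixed_conj_mem σ hMG hLM hMfix hg hf hm,
      fun hm => ?_⟩
    have := hK.fixed_conj_mem σ hMG hLM hMfix (Subgroup.inv_mem _ hg) (by rw [map_inv, hf]) hm
    simpa [mul_assoc] using this

end Fine

end CfsgLib.Chev
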