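import Cfsg.Agent.Chev.Cover
import Cfsg.Agent.Chev.SubfieldGroup
import Cfsg.Agent.Chev.ParCosets
import Cfsg.Agent.Chev.Run.Lift
import Cfsg.Agent.Chev.All

/-!
A group satisfying Steinberg's first two relations is a central extension of the Chevalley group,
with kernel in the subgroup generated by the fundamental torus words.
-/

set_option autoImplicit false

namespace CfsgLib.Chev

open Cfsg.Lie

variable {K : Data} {D : ChevalleyDatum} {F : Type*} [Field F]

/-- the table checks used for the lifted relations -/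
structure LiftData (K : Data) (D : ChevalleyDatum) : Prop where
  comb : Comb K D
  lift : ∃ W, K.liftOK W = true

theorem LiftData.of_mem {D : ChevalleyDatum}
    (hD : D ∈ [chevG2, chevB2, chevD4, chevF4, chevE6, chevE7, chevE8]) :
    ∃ K : Data, LiftData K D := by
  simp only [List.mem_cons, List.not_mem_nil, or_false] at hD
  rcases hD with rfl | rfl | rfl | rfl | rfl | rfl | rfl
  exacts [⟨_, ⟨G2.fine, G2.combOK, G2.coweights⟩, _, G2.liftOK⟩, ⟨_, ⟨B2.fine, B2.combOK, B2.coweights⟩, _, B2.liftOK⟩,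
    ⟨_, ⟨D4.fine, D4.combOK, D4.coweights⟩, _, D4.liftOK⟩, ⟨_, ⟨F4.fine, F4.combOK, F4.coweights⟩, _, F4.liftOK⟩,
    ⟨_, ⟨E6.fine, E6.combOK, E6.coweights⟩, _, E6.liftOK⟩, ⟨_, ⟨E7.fine, E7.combOK, E7.coweights⟩, _, E7.liftOK⟩,
    ⟨_, ⟨E8.fine, E8.combOK, E8.coweights⟩, _, E8.liftOK⟩]

namespace Lift

open Fine

variable {hK : Fine K D} {G : Type*} [Group G]

theorem mem_posC (c : Lift hK F G) {r : ℕ} (h1 : K.npos ≤ r) (h2 : r < D.nroots) (t : F) :
    c.e r t ∈ c.genC {v | K.npos ≤ v ∧ v < D.nroots} := c.mem_genC (show r ∈ {v | K.npos ≤ v ∧ v < D.nroots} from ⟨h1, h2⟩) t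

/-- the word `n_i(x)` -/
def nC (c : Lift hK F G) (i : Fin D.rank) (x : F) : G := c.word (D.nWord (D.simple i.val) x)

/-- the word `h_i(x)` -/
def hC (c : Lift hK F G) (i : Fin D.rank) (x : F) : G := c.word (D.hWord (D.simple i.val) x)

/-- the subgroup generated by the fundamental torus words -/
def torC (c : Lift hK F G) : Subgroup G :=
  Subgroup.closure {g | ∃ (i : Fin D.rank) (x : F), x ≠ 0 ∧ g = c.hC i x}

/-- product of the elements `n_i(1)` along a list -/
def nList (c : Lift hK F G) (L : List (Fin D.rank)) : G := (L.map fun i => c.nC i 1).prod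

/-- the positive part -/
def posC (c : Lift hK F G) : Subgroup G := c.genC {v | K.npos ≤ v ∧ v < D.nroots}

theorem nC_eq (c : Lift hK F G) (i : Fin D.rank) (x : F) :
    c.nC i x = c.e (K.p i.val) x * c.e (K.neg (K.p i.val)) (-x⁻¹) * c.e (K.p i.val) x := by
  have hG := hK.toGood
  simp [nC, word, ChevalleyDatum.nWord, hG.simple_eq i.isLt, hG.neg_eq (hG.p_lt i.isLt), hG.Kneg_eq,
    mul_assoc]

theorem nC_neg (c : Lift hK F G) (i : Fin D.rank) (x : F) : c.nC i (-x) = (c.nC i x)⁻¹ := by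
  simp [c.nC_eq, c.e_inv, mul_assoc]

theorem hC_eq (c : Lift hK F G) (i : Fin D.rank) (x : F) : c.hC i x = c.nC i x * c.nC i (-1) :=
  c.word_append _ _

theorem nC_eq_hC (c : Lift hK F G) (i : Fin D.rank) (x : F) : c.nC i x = c.hC i x * c.nC i 1 := by
  rw [c.hC_eq, c.nC_neg, inv_mul_cancel_right]

theorem proj_nC (c : Lift hK F G) (i : Fin D.rank) (x : F) : c.proj (c.nC i x) = nU hK (D.simple i.val) x :=
  c.proj_word _

theorem proj_nC_one (c : Lift hK F G) (i : Fin D.rank) : c.proj (c.nC i 1) = sU hK i.val := c.proj_nC i 1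

theorem nC_mem_pair (c : Lift hK F G) (i : Fin D.rank) (x : F) :
    c.nC i x ∈ c.genC {K.p i.val, K.neg (K.p i.val)} := by
  rw [c.nC_eq]
  exact mul_mem (mul_mem (c.mem_genC (Or.inl rfl) _) (c.mem_genC (Or.inr rfl) _)) (c.mem_genC (Or.inl rfl) _)

theorem proj_nC_split (c : Lift hK F G) (i : Fin D.rank) (x : Fˣ) :
    c.proj (c.nC i (x : F)) = tU K D (hParam K (K.p i.val) x) * sU hK i.val := by
  have hp := hK.toGood.p_lt i.isLt
  have e : (tU K D (hParam K (K.p i.val) x) : GL D.Idx F) =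
      nU hK (K.p i.val) (x : F) * nU hK (K.p i.val) (-1) := by
    refine Units.ext ?_
    rw [hK.coe_tU_hParam hp, Units.val_mul, coe_nU, coe_nU]
    simp [ChevalleyDatum.hMat, ChevalleyDatum.hWord, ChevalleyDatum.nMat, wordMat_append]
  rw [c.proj_nC, e, sU, nU_neg_one hK, hK.toGood.simple_eq i.isLt, inv_mul_cancel_right]

theorem lmoves_nC (c : Lift hK F G) (hd : LiftData K D) (i : Fin D.rank) {x : F} (hx : x ≠ 0) :
    c.LMoves (c.nC i x) (sPerm hK i) := by
  classical
  have hG := hK.toGood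
  obtain ⟨W, hW⟩ := hd.lift
  obtain ⟨u, rfl⟩ : ∃ u : Fˣ, (u : F) = x := ⟨Units.mk0 x hx, rfl⟩
  set χ := torusChar K D (hParam K (K.p i.val) u) with hχ
  let a : ℕ → Fˣ := fun r => χ (K.w i.val r) * Units.mk0 (K.eta i.val r : F) (Good.eta_ne_zero K _ _)
  refine ⟨a, fun r hr => ?_, c.conj_pair hW hd.comb.comb i (c.nC_mem_pair i _) fun r t => ?_⟩
  · have h1 : χ (K.neg (K.w i.val r)) = (χ (K.w i.val r))⁻¹ := by
      have := (hK.isCharOn_torusChar (hParam K (K.p i.val) u)).neg _ (hG.w_lt i.isLt hr)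
      rw [← ofMul_inv] at this
      exact this
    have h2 : K.eta i.val (K.neg r) = K.eta i.val r := ((hK.coroot_facts.1 r hr).2 i.val i.isLt).2.2
    have h3 : (Units.mk0 (K.eta i.val r : F) (Good.eta_ne_zero K _ _))⁻¹ =
        Units.mk0 (K.eta i.val r : F) (Good.eta_ne_zero K _ _) := by
      refine inv_eq_of_mul_eq_one_right (Units.ext ?_)
      rw [Units.val_mul, Units.val_mk0, Units.val_one, ← Int.cast_mul, Good.eta_sq, Int.cast_one]
    show χ (K.w i.val (K.neg r)) * _ = (χ (K.w i.val r) * _)⁻¹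
    rw [hG.w_neg i.isLt hr, h1, mul_inv, h3]
    simp only [h2]
  · rw [c.proj_nC_split, show tU K D (hParam K (K.p i.val) u) * sU hK i.val * xU hK r.val t *
        (tU K D (hParam K (K.p i.val) u) * sU hK i.val)⁻¹ = tU K D (hParam K (K.p i.val) u) *
          (sU hK i.val * xU hK r.val t * (sU hK i.val)⁻¹) * (tU K D (hParam K (K.p i.val) u))⁻¹ by group,
      hK.sU_conj_xU i.isLt r.isLt, hK.tU_conj_xU _ (hG.w_lt i.isLt r.isLt), Units.val_mul, Units.val_mk0,
      mul_assoc, sPerm_val]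

theorem lmoves_hC (c : Lift hK F G) (hd : LiftData K D) (i : Fin D.rank) {x : F} (hx : x ≠ 0) :
    c.LMoves (c.hC i x) 1 := by
  rw [c.hC_eq, ← hK.sPerm_mul_self i]
  exact c.lmoves_mul (hK.sPerm_negFin i) (c.lmoves_nC hd i hx) (c.lmoves_nC hd i (neg_ne_zero.2 one_ne_zero))

theorem lmoves_torC (c : Lift hK F G) (hd : LiftData K D) {h : G} (hh : h ∈ c.torC) : c.LMoves h 1 := by
  induction hh using Subgroup.closure_induction with
  | mem x hx => obtain ⟨i, y, hy, rfl⟩ := hx; exact c.lmoves_hC hd i hy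
  | one => exact c.lmoves_one
  | mul a b _ _ ha hb => simpa using c.lmoves_mul (fun r => by simp) ha hb
  | inv a _ ha => simpa using c.lmoves_inv (fun r => by simp) ha

theorem lmoves_nList (c : Lift hK F G) (hd : LiftData K D) (L : List (Fin D.rank)) :
    c.LMoves (c.nList L) (wPerm hK L) := by
  induction L with
  | nil => exact c.lmoves_one
  | cons i L ih =>
    rw [nList, List.map_cons, List.prod_cons, hK.wPerm_cons]
    exact c.lmoves_mul (hK.wPerm_negFin L) (c.lmoves_nC hd i one_ne_zero) ih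

theorem hC_mem (c : Lift hK F G) (i : Fin D.rank) {x : F} (hx : x ≠ 0) : c.hC i x ∈ c.torC :=
  Subgroup.subset_closure ⟨i, x, hx, rfl⟩

theorem nC_sq (c : Lift hK F G) (i : Fin D.rank) : c.nC i 1 * c.nC i 1 = (c.hC i (-1 : F))⁻¹ := by
  rw [c.hC_eq, c.nC_neg, _root_.mul_inv_rev, inv_inv]

theorem nC_sq_mem (c : Lift hK F G) (i : Fin D.rank) : c.nC i 1 * c.nC i 1 ∈ c.torC := by
  rw [c.nC_sq]; exact inv_mem (c.hC_mem i (neg_ne_zero.2 one_ne_zero))

theorem nC_conj_tor (c : Lift hK F G) (hd : LiftData K D) (i : Fin D.rank) {h : G} (hh : h ∈ c.torC) :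
    c.nC i 1 * h * (c.nC i 1)⁻¹ ∈ c.torC := by
  have hG := hK.toGood
  have hp := hG.p_lt i.isLt
  obtain ⟨a, ha0, ha⟩ := c.lmoves_torC hd hh
  have h1 := ha ⟨K.p i.val, hp⟩ 1
  have h2 := ha ⟨K.neg (K.p i.val), hG.Kneg_lt hp⟩ (-1)
  simp only [Equiv.Perm.one_apply, mul_one] at h1
  simp only [Equiv.Perm.one_apply, ha0 _ hp] at h2
  have e : h * c.nC i 1 * h⁻¹ = c.nC i (a (K.p i.val) : F) := by
    rw [c.nC_eq, c.nC_eq, inv_one, show h * (c.e (K.p i.val) 1 * c.e (K.neg (K.p i.val)) (-1) *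
      c.e (K.p i.val) 1) * h⁻¹ = (h * c.e (K.p i.val) 1 * h⁻¹) * (h * c.e (K.neg (K.p i.val)) (-1) * h⁻¹) *
        (h * c.e (K.p i.val) 1 * h⁻¹) by group, h1, h2]
    simp
  rw [show c.nC i 1 * h * (c.nC i 1)⁻¹ = c.nC i 1 * (h * c.nC i 1 * h⁻¹)⁻¹ * h by group, e,
    show c.nC i 1 * (c.nC i (a (K.p i.val) : F))⁻¹ = (c.hC i (a (K.p i.val) : F))⁻¹ by
      rw [c.hC_eq, c.nC_neg, _root_.mul_inv_rev, inv_inv]]
  exact mul_mem (inv_mem (c.hC_mem i (Units.ne_zero _))) hh

theorem nList_cons (c : Lift hK F G) (i : Fin D.rank) (L : List (Fin D.rank)) :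
    c.nList (i :: L) = c.nC i 1 * c.nList L := by simp [nList]

theorem exchange (c : Lift hK F G) (hd : LiftData K D) : ∀ (L : List (Fin D.rank)) (j : Fin D.rank),
    (wPerm hK L (pFin hK j)).val < K.npos →
    ∃ L' : List (Fin D.rank), L'.length + 1 = L.length ∧ wPerm hK L' = wPerm hK L * sPerm hK j ∧
      ∃ h ∈ c.torC, c.nList L * c.nC j 1 = h * c.nList L' := by
  intro L
  have hG := hK.toGood
  induction L with
  | nil =>
    intro j h
    exfalso
    have := hG.npos_le_p j.isLt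
    simp [wPerm, pFin] at h
    omega
  | cons i L ih =>
    intro j h
    rw [hK.wPerm_cons, Equiv.Perm.mul_apply] at h
    by_cases hneg : (wPerm hK L (pFin hK j)).val < K.npos
    · obtain ⟨L', hlen, hperm, t, ht, hword⟩ := ih j hneg
      refine ⟨i :: L', by simp [hlen], by rw [hK.wPerm_cons, hperm, hK.wPerm_cons, mul_assoc],
        _, c.nC_conj_tor hd i ht, ?_⟩
      rw [c.nList_cons, c.nList_cons, mul_assoc, hword]
      group
    · have heq : wPerm hK L (pFin hK j) = pFin hK i := by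
        refine Fin.ext ?_
        by_contra hne
        have := hG.npos_le_w i.isLt (wPerm hK L (pFin hK j)).isLt (Nat.le_of_not_lt hneg) hne
        rw [sPerm_val] at h
        omega
      have hpj := hG.p_lt j.isLt
      obtain ⟨a, ha0, ha⟩ := c.lmoves_nList hd L
      have hnegimg : wPerm hK L (negFin hK (pFin hK j)) = negFin hK (pFin hK i) := by
        rw [hK.wPerm_negFin, heq]
      have h1 := ha (pFin hK j) 1
      have h2 := ha (negFin hK (pFin hK j)) (-1)
      rw [heq, mul_one] at h1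
      rw [hnegimg] at h2
      simp only [negFin, pFin, ha0 _ hpj] at h1 h2
      have e : c.nList L * c.nC j 1 * (c.nList L)⁻¹ = c.nC i (a (K.p j.val) : F) := by
        rw [c.nC_eq, c.nC_eq, inv_one, show c.nList L * (c.e (K.p j.val) 1 * c.e (K.neg (K.p j.val)) (-1) *
          c.e (K.p j.val) 1) * (c.nList L)⁻¹ = (c.nList L * c.e (K.p j.val) 1 * (c.nList L)⁻¹) *
            (c.nList L * c.e (K.neg (K.p j.val)) (-1) * (c.nList L)⁻¹) *
              (c.nList L * c.e (K.p j.val) 1 * (c.nList L)⁻¹) by group, h1, h2]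
        simp
      refine ⟨L, by simp, ?_, ?_⟩
      · have hmv := c.lmoves_mul ?_ (c.lmoves_mul (hK.sPerm_negFin j) (c.lmoves_nList hd L) (c.lmoves_nC hd j one_ne_zero))
          (c.lmoves_inv (hK.wPerm_negFin L) (c.lmoves_nList hd L))
        rotate_left
        · intro r
          apply (wPerm hK L).injective
          rw [hK.wPerm_negFin, Equiv.Perm.inv_def, Equiv.apply_symm_apply, Equiv.apply_symm_apply]
        rw [e] at hmv
        have hu := hK.moves_unique hmv.proj (c.lmoves_nC hd i (Units.ne_zero _)).proj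
        rw [hK.wPerm_cons, ← hu, mul_assoc (wPerm hK L * sPerm hK j), inv_mul_cancel, mul_one, mul_assoc,
          hK.sPerm_mul_self, mul_one]
      · refine ⟨c.nC i 1 * c.hC i (a (K.p j.val) : F) * (c.nC i 1)⁻¹ * (c.nC i 1 * c.nC i 1),
          mul_mem (c.nC_conj_tor hd i (c.hC_mem i (Units.ne_zero _))) (c.nC_sq_mem i), ?_⟩
        rw [c.nList_cons, mul_assoc (c.nC i 1) (c.nList L), mul_inv_eq_iff_eq_mul.1 e,
          c.nC_eq_hC i (a (K.p j.val) : F)]
        group

theorem nList_mem_tor (c : Lift hK F G) (hd : LiftData K D) : ∀ (m : ℕ) (L : List (Fin D.rank)),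
    L.length ≤ m → wPerm hK L = 1 → c.nList L ∈ c.torC := by
  intro m
  induction m with
  | zero => intro L hL _; rw [List.length_eq_zero_iff.1 (Nat.le_zero.1 hL)]; exact one_mem _
  | succ m ih =>
    intro L hL hperm
    rcases List.eq_nil_or_concat L with rfl | ⟨L0, j, rfl⟩
    · exact one_mem _
    rw [List.concat_eq_append] at hperm hL ⊢
    rw [hK.wPerm_append, show wPerm hK [j] = sPerm hK j by simp [wPerm]] at hperm
    have h0 : wPerm hK L0 = sPerm hK j := by
      rw [eq_inv_of_mul_eq_one_left hperm, hK.sPerm_inv]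
    have hneg : (wPerm hK L0 (pFin hK j)).val < K.npos := by
      rw [h0, hK.sPerm_pFin]
      have := hK.toGood.npos_le_p j.isLt
      show K.neg (K.p j.val) < K.npos
      rw [hK.toGood.Kneg_eq]
      have := hK.toGood.nroots_eq_two_mul
      have := hK.toGood.p_lt j.isLt
      omega
    obtain ⟨L', hlen, hperm', t, ht, hword⟩ := c.exchange hd L0 j hneg
    rw [show c.nList (L0 ++ [j]) = c.nList L0 * c.nC j 1 by simp [nList], hword]
    simp at hL
    exact mul_mem ht (ih L' (by omega) (by rw [hperm', hperm]))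

/-! ### The decomposition -/

/-- the union of the cells -/
def cells (c : Lift hK F G) : Set G :=
  {g | ∃ u ∈ c.posC, ∃ h ∈ c.torC, ∃ L, ∃ v ∈ c.posC, g = u * h * c.nList L * v}

theorem conj_e_tor (c : Lift hK F G) (hd : LiftData K D) {h : G} (hh : h ∈ c.torC) (r : Fin D.nroots)
    (t : F) : ∃ s : F, (t = 0 → s = 0) ∧ c.e r.val t * h = h * c.e r.val s := by
  obtain ⟨a, -, ha⟩ := c.lmoves_inv (fun r => by simp) (c.lmoves_torC hd hh)
  refine ⟨(a r.val : F) * t, fun h0 => by rw [h0, mul_zero], ?_⟩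
  have := ha r t
  simp only [inv_inv, inv_one, Equiv.Perm.one_apply] at this
  rw [← this]
  group

theorem tor_mem_normalizer (c : Lift hK F G) (hd : LiftData K D) {h : G} (hh : h ∈ c.torC) :
    h ∈ Subgroup.normalizer (c.posC : Set G) := by
  have key : ∀ h ∈ c.torC, ∀ g ∈ c.posC, h * g * h⁻¹ ∈ c.posC := by
    intro h hh g hg
    induction hg using Subgroup.closure_induction with
    | mem x hx =>
      obtain ⟨r, hr, t, rfl⟩ := hx
      obtain ⟨a, -, ha⟩ := c.lmoves_torC hd hh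
      rw [ha ⟨r, hr.2⟩ t]
      exact c.mem_genC hr _
    | one => simp
    | mul a b _ _ ha hb =>
      have := mul_mem ha hb
      simpa [mul_assoc] using this
    | inv a _ ha =>
      have := inv_mem ha
      simpa [mul_assoc] using this
  rw [Subgroup.mem_normalizer_iff]
  intro g
  refine ⟨key h hh g, fun hg => ?_⟩
  have := key h⁻¹ (inv_mem hh) _ hg
  simpa [mul_assoc] using this

theorem cells_posC (c : Lift hK F G) {u g : G} (hu : u ∈ c.posC) (hg : g ∈ c.cells) : u * g ∈ c.cells := by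
  obtain ⟨u', hu', h, hh, L, v, hv, rfl⟩ := hg
  exact ⟨u * u', mul_mem hu hu', h, hh, L, v, hv, by group⟩

theorem cells_torC (c : Lift hK F G) (hd : LiftData K D) {t g : G} (ht : t ∈ c.torC) (hg : g ∈ c.cells) :
    t * g ∈ c.cells := by
  obtain ⟨u, hu, h, hh, L, v, hv, rfl⟩ := hg
  exact ⟨t * u * t⁻¹, (Subgroup.mem_normalizer_iff.1 (c.tor_mem_normalizer hd ht) u).1 hu, t * h,
    mul_mem ht hh, L, v, hv, by group⟩

theorem cells_nC (c : Lift hK F G) (hd : LiftData K D) (i : Fin D.rank) {g : G} (hg : g ∈ c.cells) :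
    c.nC i 1 * g ∈ c.cells := by
  classical
  have hG := hK.toGood
  have hp := hG.p_lt i.isLt
  have hpn := hG.npos_le_p i.isLt
  obtain ⟨u, hu, h, hh, L, v, hv, rfl⟩ := hg
  let X : Subgroup G :=
    { carrier := Set.range (c.e (K.p i.val))
      one_mem' := ⟨0, c.e_zero _⟩
      mul_mem' := by rintro _ _ ⟨t, rfl⟩ ⟨u, rfl⟩; exact ⟨t + u, (c.e_add _ _ _).symm⟩
      inv_mem' := by rintro _ ⟨t, rfl⟩; exact ⟨-t, (c.e_inv _ _).symm⟩ }
  have hnorm : X ≤ Subgroup.normalizer (c.genC (c.posOff i) : Set G) := by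
    rintro _ ⟨t, rfl⟩
    exact c.posOff_normalized i (Or.inl rfl) t
  have hle : c.posC ≤ c.genC (c.posOff i) ⊔ X := by
    rw [posC, genC, Subgroup.closure_le]
    rintro _ ⟨r, hr, t, rfl⟩
    by_cases hrp : r = K.p i.val
    · subst hrp; exact Subgroup.mem_sup_right (show c.e _ t ∈ X from ⟨t, rfl⟩)
    · exact Subgroup.mem_sup_left (c.mem_genC (show r ∈ c.posOff i from ⟨hr, hrp⟩) t)
  have hu' : u ∈ ((c.genC (c.posOff i) ⊔ X : Subgroup G) : Set G) := hle hu
  rw [Subgroup.coe_mul_of_right_le_normalizer_left _ _ hnorm] at hu'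
  obtain ⟨y, hy, x, hx, rfl⟩ := hu'
  obtain ⟨t, rfl⟩ := hx
  have hposle : c.genC (c.posOff i) ≤ c.posC := c.genC_mono fun r hr => hr.1
  have hnorm' : c.nC i 1 ∈ Subgroup.normalizer (c.genC (c.posOff i) : Set G) :=
    (show c.genC {K.p i.val, K.neg (K.p i.val)} ≤ _ from (Subgroup.closure_le _).2 (by
      rintro _ ⟨r, hr, w, rfl⟩; exact c.posOff_normalized i hr w)) (c.nC_mem_pair i 1)
  have hy' : c.nC i 1 * y * (c.nC i 1)⁻¹ ∈ c.posC :=
    hposle ((Subgroup.mem_normalizer_iff.1 hnorm' y).1 hy)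
  obtain ⟨s, hs0, hs⟩ := c.conj_e_tor hd hh ⟨K.p i.val, hp⟩ t
  rw [show c.nC i 1 * (y * c.e (K.p i.val) t * h * c.nList L * v) =
    (c.nC i 1 * y * (c.nC i 1)⁻¹) * (c.nC i 1 * (c.e (K.p i.val) t * h)) * c.nList L * v by group, hs]
  rw [show (c.nC i 1 * y * (c.nC i 1)⁻¹) * (c.nC i 1 * (h * c.e (K.p i.val) s)) * c.nList L * v =
    (c.nC i 1 * y * (c.nC i 1)⁻¹) * ((c.nC i 1 * h * (c.nC i 1)⁻¹) *
      (c.nC i 1 * c.e (K.p i.val) s * c.nList L * v)) by group]
  refine c.cells_posC hy' (c.cells_torC hd (c.nC_conj_tor hd i hh) ?_)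
  obtain ⟨b, hb0, hb⟩ := c.lmoves_inv (hK.wPerm_negFin L) (c.lmoves_nList hd L)
  have hpush : ∀ (r : Fin D.nroots) (w : F), c.e r.val w * c.nList L =
      c.nList L * c.e (((wPerm hK L)⁻¹) r).val ((b r.val : F) * w) := by
    intro r w
    have := hb r w
    rw [inv_inv] at this
    rw [← this]
    group
  by_cases hpos : K.npos ≤ ((wPerm hK L)⁻¹ (pFin hK i)).val
  · refine ⟨1, one_mem _, 1, one_mem _, i :: L,
      c.e ((wPerm hK L)⁻¹ (pFin hK i)).val ((b (pFin hK i).val : F) * s) * v,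
      mul_mem (c.mem_posC hpos (Fin.isLt _) _) hv, ?_⟩
    rw [mul_assoc (c.nC i 1), show c.e (K.p i.val) s * c.nList L = _ from hpush (pFin hK i) s, c.nList_cons]
    group
  by_cases hs' : s = 0
  · refine ⟨1, one_mem _, 1, one_mem _, i :: L, v, hv, ?_⟩
    rw [hs', c.e_zero, c.nList_cons]; group
  obtain ⟨a, ha0, ha⟩ := c.lmoves_nC hd i one_ne_zero
  have hflip : ∀ w : F, c.nC i 1 * c.e (K.p i.val) w * (c.nC i 1)⁻¹ =
      c.e (K.neg (K.p i.val)) ((a (K.p i.val) : F) * w) := fun w => by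
    have e := ha (pFin hK i) w
    rw [hK.sPerm_pFin] at e
    exact e
  set z : F := (a (K.p i.val) : F) * s with hz
  have hz0 : z ≠ 0 := mul_ne_zero (Units.ne_zero _) hs'
  have hneg : c.e (K.neg (K.p i.val)) z = c.e (K.p i.val) z⁻¹ * c.nC i (-z⁻¹) * c.e (K.p i.val) z⁻¹ := by
    rw [c.nC_eq, inv_neg, inv_inv, neg_neg, show c.e (K.p i.val) (-z⁻¹) = (c.e (K.p i.val) z⁻¹)⁻¹ from
      (c.e_inv _ _).symm]
    group
  -- push the positive letter through `n_i` and the word
  obtain ⟨a', ha0', ha'⟩ := c.lmoves_inv (hK.sPerm_negFin i) (c.lmoves_nC hd i one_ne_zero)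
  have hflip' : c.e (K.p i.val) z⁻¹ * c.nC i 1 =
      c.nC i 1 * c.e (K.neg (K.p i.val)) ((a' (K.p i.val) : F) * z⁻¹) := by
    have e := ha' (pFin hK i) z⁻¹
    rw [hK.sPerm_inv, hK.sPerm_pFin, inv_inv] at e
    change _ = c.e (K.neg (K.p i.val)) _ at e
    simp only [pFin] at e
    rw [← e]
    group
  have hpos' : K.npos ≤ ((wPerm hK L)⁻¹ (negFin hK (pFin hK i))).val := by
    have e : (wPerm hK L)⁻¹ (negFin hK (pFin hK i)) = negFin hK ((wPerm hK L)⁻¹ (pFin hK i)) := by
      apply (wPerm hK L).injective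
      rw [hK.wPerm_negFin, Equiv.Perm.inv_def, Equiv.apply_symm_apply, Equiv.apply_symm_apply]
    rw [e]
    exact (hd.comb.neg_lt_iff (Fin.isLt _)).2.2 (Nat.lt_of_not_le hpos)
  refine ⟨c.e (K.p i.val) z⁻¹, c.mem_posC hpn hp _, c.hC i (-z⁻¹) * (c.nC i 1 * c.nC i 1),
    mul_mem (c.hC_mem i (neg_ne_zero.2 (inv_ne_zero hz0))) (c.nC_sq_mem i), L,
    c.e ((wPerm hK L)⁻¹ (negFin hK (pFin hK i))).val
      ((b (negFin hK (pFin hK i)).val : F) * ((a' (K.p i.val) : F) * z⁻¹)) * v,
    mul_mem (c.mem_posC hpos' (Fin.isLt _) _) hv, ?_⟩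
  calc c.nC i 1 * c.e (K.p i.val) s * c.nList L * v
      = (c.nC i 1 * c.e (K.p i.val) s * (c.nC i 1)⁻¹) * c.nC i 1 * c.nList L * v := by group
    _ = c.e (K.p i.val) z⁻¹ * (c.hC i (-z⁻¹) * c.nC i 1) * (c.e (K.p i.val) z⁻¹ * c.nC i 1) * c.nList L * v := by
        rw [hflip, hneg, c.nC_eq_hC i (-z⁻¹)]; group
    _ = c.e (K.p i.val) z⁻¹ * (c.hC i (-z⁻¹) * c.nC i 1 * c.nC i 1) *
          (c.e (negFin hK (pFin hK i)).val ((a' (K.p i.val) : F) * z⁻¹) * c.nList L) * v := by
        rw [hflip']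
        change _ = _ * (c.e (K.neg (K.p i.val)) _ * _) * _
        group
    _ = _ := by rw [hpush]; group

theorem cells_univ (c : Lift hK F G) (hd : LiftData K D) (g : G) : g ∈ c.cells := by
  classical
  have hG := hK.toGood
  have hC := hd.comb
  set S : Set G := (c.posC : Set G) ∪ (c.torC : Set G) ∪ {x | ∃ i, x = c.nC i 1} with hS
  have hpushS : ∀ (i : Fin D.rank) (u : Fin D.nroots), (∀ t, c.e u.val t ∈ Subgroup.closure S) →
      ∀ t, c.e (sPerm hK i u).val t ∈ Subgroup.closure S := by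
    intro i u hu t
    obtain ⟨a, -, ha⟩ := c.lmoves_nC hd i one_ne_zero
    have e := ha u ((((a u.val)⁻¹ : Fˣ) : F) * t)
    rw [← mul_assoc, Units.mul_inv, one_mul] at e
    rw [← e]
    have hn : c.nC i 1 ∈ Subgroup.closure S := Subgroup.subset_closure (Or.inr ⟨i, rfl⟩)
    exact mul_mem (mul_mem hn (hu _)) (inv_mem hn)
  have hneg : ∀ v, K.npos ≤ v → v < D.nroots → ∀ t, c.e (K.neg v) t ∈ Subgroup.closure S := by
    intro v
    induction v using Nat.strong_induction_on with
    | _ v ih =>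
      intro hv1 hv2 t
      obtain ⟨i, hi, e | ⟨h1, h2, -⟩⟩ := hK.comb_step hC.comb hv1 hv2
      · have := hpushS ⟨i, hi⟩ ⟨v, hv2⟩ (fun t => Subgroup.subset_closure
          (Or.inl (Or.inl (c.mem_posC hv1 hv2 t)))) t
        rw [sPerm_val] at this
        simp only [← e, hG.w_p hi] at this
        rwa [← e]
      · have := hpushS ⟨i, hi⟩ ⟨K.neg (K.w i v), hG.Kneg_lt (hG.w_lt hi hv2)⟩
          (fun t => ih _ h2 h1 (hG.w_lt hi hv2) t) t
        rw [sPerm_val] at this
        simp only [hG.w_neg hi (hG.w_lt hi hv2), hG.w_w hi hv2] at this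
        exact this
  have htop : Subgroup.closure S = ⊤ := by
    rw [eq_top_iff, ← c.gen, Subgroup.closure_le]
    rintro _ ⟨r, t, rfl⟩
    by_cases hr : r < D.nroots
    · rcases Nat.lt_or_ge r K.npos with h | h
      · have := hneg (K.neg r) ((hC.neg_lt_iff hr).2.2 h) (hG.Kneg_lt hr) t
        rwa [hG.Kneg_Kneg hr] at this
      · exact Subgroup.subset_closure (Or.inl (Or.inl (c.mem_posC h hr t)))
    · rw [c.e_out r t hr]; exact one_mem _
  have hg : g ∈ Subgroup.closure S := htop ▸ Subgroup.mem_top g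
  induction hg using Subgroup.closure_induction_left with
  | one => exact ⟨1, one_mem _, 1, one_mem _, [], 1, one_mem _, by simp [nList]⟩
  | mul_left x hx y _ hy =>
    rcases hx with (hx | hx) | ⟨i, rfl⟩
    · exact c.cells_posC hx hy
    · exact c.cells_torC hd hx hy
    · exact c.cells_nC hd i hy
  | inv_mul_cancel x hx y _ hy =>
    rcases hx with (hx | hx) | ⟨i, rfl⟩
    · exact c.cells_posC (inv_mem hx) hy
    · exact c.cells_torC hd (inv_mem hx) hy
    · rw [show (c.nC i 1)⁻¹ * y = (c.nC i 1 * c.nC i 1)⁻¹ * (c.nC i 1 * y) by group]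
      exact c.cells_torC hd (inv_mem (c.nC_sq_mem i)) (c.cells_nC hd i hy)

theorem proj_torC (c : Lift hK F G) {h : G} (hh : h ∈ c.torC) : c.proj h ∈ D.diagonalSubgroup F := by
  induction hh using Subgroup.closure_induction with
  | mem x hx =>
    obtain ⟨i, y, hy, rfl⟩ := hx
    refine Subgroup.subset_closure ⟨D.simple i.val, y, ?_, hy, ?_⟩
    · rw [hK.toGood.simple_eq i.isLt]; exact hK.toGood.p_lt i.isLt
    · rw [hC, c.proj_word, coe_wordU]; rfl
  | one => rw [map_one]; exact one_mem _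
  | mul a b _ _ ha hb => rw [map_mul]; exact mul_mem ha hb
  | inv a _ ha => rw [map_inv]; exact inv_mem ha

theorem proj_posC (c : Lift hK F G) {u : G} (hu : u ∈ c.posC) : c.proj u ∈ D.posUnipotent F := by
  rw [hK.posUnipotent_eq]; exact c.proj_genC hu

/-- the kernel of the projection is central and made of torus words -/
theorem ker_le (c : Lift hK F G) (hd : LiftData K D) : c.proj.ker ≤ c.torC ⊓ Subgroup.center G := by
  intro g hg
  rw [MonoidHom.mem_ker] at hg
  have hG := hK.toGood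
  obtain ⟨u, hu, h, hh, L, v, hv, rfl⟩ := c.cells_univ hd g
  rw [map_mul, map_mul, map_mul] at hg
  have hn : c.proj (c.nList L) = sWord hK F L := by
    rw [nList, map_list_prod, List.map_map, sWord]
    congr 1
    exact List.map_congr_left fun i _ => c.proj_nC_one i
  have hsw : sWord hK F L ∈ D.monomialSubgroup F := hK.sWord_mem_monomial L
  have hmN : c.proj h * sWord hK F L ∈ D.monomialSubgroup F :=
    mul_mem (Subgroup.mem_sup_left (c.proj_torC hh)) hsw
  have hmB : c.proj h * sWord hK F L ∈ D.borelSubgroup F := by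
    rw [show c.proj h * sWord hK F L = (c.proj u)⁻¹ *
      (c.proj u * c.proj h * c.proj (c.nList L) * c.proj v) * (c.proj v)⁻¹ by rw [hn]; group, hg, mul_one]
    exact Subgroup.mem_sup_left (S := D.posUnipotent F) (mul_mem (inv_mem (c.proj_posC hu)) (inv_mem (c.proj_posC hv)))
  have hdiag : c.proj h * sWord hK F L ∈ D.diagonalSubgroup F := by
    rw [← hK.borel_inf_monomial]; exact ⟨hmB, hmN⟩
  have hL1 : wPerm hK L = 1 := hK.moves_unique
    (hK.moves_sWord (F := F) L) (hK.moves_diagonal ((Subgroup.mul_mem_cancel_left _ (c.proj_torC hh)).1 hdiag))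
  have hk : h * c.nList L ∈ c.torC := mul_mem hh (c.nList_mem_tor hd L.length L le_rfl hL1)
  set k := h * c.nList L with hkdef
  have hproj : c.proj k = 1 := by
    have hpu : c.proj k = (c.proj u)⁻¹ * (c.proj v)⁻¹ := by
      rw [hkdef, map_mul]
      calc c.proj h * c.proj (c.nList L)
          = (c.proj u)⁻¹ * (c.proj u * c.proj h * c.proj (c.nList L) * c.proj v) * (c.proj v)⁻¹ := by group
        _ = _ := by rw [hg, mul_one]
    have hmem : c.proj k ∈ D.posUnipotent F := by
      rw [hpu]; exact mul_mem (inv_mem (c.proj_posC hu)) (inv_mem (c.proj_posC hv))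
    have : c.proj k ∈ D.posUnipotent F ⊓ D.diagonalSubgroup F := ⟨hmem, c.proj_torC hk⟩
    rwa [hK.pos_inf_diagonal, Subgroup.mem_bot] at this
  have hcent : k ∈ Subgroup.center G := by
    rw [Subgroup.mem_center_iff]
    obtain ⟨a, -, ha⟩ := c.lmoves_torC hd hk
    have hfix : ∀ (r : Fin D.nroots) (t : F), k * c.e r.val t * k⁻¹ = c.e r.val t := by
      intro r t
      have e := congrArg c.proj (ha r t)
      rw [map_mul, map_mul, map_inv, hproj, c.proj_e, c.proj_e] at e
      simp only [one_mul, inv_one, mul_one, Equiv.Perm.one_apply] at e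
      have e2 : xU hK r.val ((a r.val : F) * t - t) = 1 := by
        rw [sub_eq_add_neg, ← xU_mul hK, ← e, xU_mul hK, add_neg_cancel, xU_zero hK]
      rw [ha r t, Equiv.Perm.one_apply, sub_eq_zero.1 ((hK.xU_eq_one_iff r.isLt _).1 e2)]
    intro x
    have hx : x ∈ Subgroup.closure {g : G | ∃ r t, g = c.e r t} := c.gen ▸ Subgroup.mem_top x
    induction hx using Subgroup.closure_induction with
    | mem y hy =>
      obtain ⟨r, t, rfl⟩ := hy
      by_cases hr : r < D.nroots
      · exact (mul_inv_eq_iff_eq_mul.1 (hfix ⟨r, hr⟩ t)).symm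
      · rw [c.e_out r t hr, one_mul, mul_one]
    | one => simp
    | mul a b _ _ ha hb => rw [mul_assoc, hb, ← mul_assoc, ha, mul_assoc]
    | inv a _ ha => exact ((Commute.inv_left (show Commute a k from ha)).eq)
  have huv : u * v = 1 := by
    refine c.upSet_inj [] _ K.npos rfl le_rfl _ ?_ ?_
    · refine c.genC_mono (S := {v | K.npos ≤ v ∧ v < D.nroots}) (T := c.upSet [] K.npos) (fun r hr => show r ∈ c.upSet [] K.npos from ⟨hr.2, ?_⟩) (mul_mem hu hv)
      simp [permNat, hr.2, wPerm]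
      exact hr.1
    · rw [map_mul]
      have : c.proj u * c.proj k * c.proj v = 1 := by rw [hkdef, map_mul, ← mul_assoc]; exact hg
      rwa [hproj, mul_one] at this
  have e : u * h * c.nList L * v = k := by
    rw [mul_assoc u h, ← hkdef, Subgroup.mem_center_iff.1 hcent u, mul_assoc, huv, mul_one]
  rw [e]
  exact ⟨hk, hcent⟩

theorem proj_mem_group (c : Lift hK F G) (g : G) : c.proj g ∈ D.group F := by
  have hg : g ∈ Subgroup.closure {g : G | ∃ r t, g = c.e r t} := c.gen ▸ Subgroup.mem_top g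
  induction hg using Subgroup.closure_induction with
  | mem y hy => obtain ⟨r, t, rfl⟩ := hy; rw [c.proj_e]; exact hK.xU_mem_group r t
  | one => rw [map_one]; exact one_mem _
  | mul a b _ _ ha hb => rw [map_mul]; exact mul_mem ha hb
  | inv a _ ha => rw [map_inv]; exact inv_mem ha

theorem center_le_ker (c : Lift hK F G) (hd : LiftData K D) : Subgroup.center G ≤ c.proj.ker := by
  intro z hz
  rw [MonoidHom.mem_ker]
  refine hK.eq_one_of_commute hd.comb.comb (RingHom.id F) (c.proj_mem_group z) fun r _ t _ => ?_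
  rw [← c.proj_e, ← map_mul, ← map_mul, Subgroup.mem_center_iff.1 hz]

theorem ker_eq_center (c : Lift hK F G) (hd : LiftData K D) : c.proj.ker = Subgroup.center G :=
  le_antisymm ((c.ker_le hd).trans inf_le_right) (c.center_le_ker hd)

end Lift

end CfsgLib.Chev
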