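import Cfsg.Agent.Chev.NSimple
import Cfsg.Agent.Misc.SL2Lift

/-! The SL(2) subgroup attached to a root of a Chevalley datum. -/

set_option autoImplicit false

namespace CfsgLib.Chev

open Cfsg.Lie
open CfsgLib.Misc

variable {K : Data} {D : ChevalleyDatum} {F : Type*} [Field F]

/-- a homomorphism onto the group of a root pair -/
def IsRootHom (hK : Fine K D) (r : ℕ) (φ : Matrix.SpecialLinearGroup (Fin 2) F →* GL D.Idx F) : Prop :=
  (∀ t, φ (SL2Lift.xM t) = xU hK r t) ∧ ∀ t, φ (SL2Lift.yM t) = xU hK (K.neg r) t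

/-- exchange of the two root groups -/
def swapSL : Matrix.SpecialLinearGroup (Fin 2) F →* Matrix.SpecialLinearGroup (Fin 2) F where
  toFun g := ⟨!![g.1 1 1, g.1 1 0; g.1 0 1, g.1 0 0], by
    have := g.2
    rw [Matrix.det_fin_two] at this
    rw [Matrix.det_fin_two_of]
    linear_combination this⟩
  map_one' := by
    apply Subtype.ext
    ext i j; fin_cases i <;> fin_cases j <;> simp
  map_mul' g h := by
    apply Subtype.ext
    show (!![(g * h).1 1 1, (g * h).1 1 0; (g * h).1 0 1, (g * h).1 0 0] : Matrix (Fin 2) (Fin 2) F) =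
      !![g.1 1 1, g.1 1 0; g.1 0 1, g.1 0 0] * !![h.1 1 1, h.1 1 0; h.1 0 1, h.1 0 0]
    ext i j; fin_cases i <;> fin_cases j <;>
      simp [Matrix.SpecialLinearGroup.coe_mul, Matrix.mul_apply, Fin.sum_univ_two] <;> ring

theorem swapSL_val (g : Matrix.SpecialLinearGroup (Fin 2) F) :
    (swapSL g).1 = !![g.1 1 1, g.1 1 0; g.1 0 1, g.1 0 0] := rfl

/-- change of sign of the parameters -/
def scaleSL (e : F) (he : e * e = 1) : Matrix.SpecialLinearGroup (Fin 2) F →* Matrix.SpecialLinearGroup (Fin 2) F where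
  toFun g := ⟨!![g.1 0 0, e * g.1 0 1; e * g.1 1 0, g.1 1 1], by
    have := g.2
    rw [Matrix.det_fin_two] at this
    rw [Matrix.det_fin_two_of]
    linear_combination this - g.1 0 1 * g.1 1 0 * he⟩
  map_one' := by
    apply Subtype.ext
    ext i j; fin_cases i <;> fin_cases j <;> simp
  map_mul' g h := by
    apply Subtype.ext
    show (!![(g * h).1 0 0, e * (g * h).1 0 1; e * (g * h).1 1 0, (g * h).1 1 1] : Matrix (Fin 2) (Fin 2) F) =
      !![g.1 0 0, e * g.1 0 1; e * g.1 1 0, g.1 1 1] * !![h.1 0 0, e * h.1 0 1; e * h.1 1 0, h.1 1 1]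
    ext i j; fin_cases i <;> fin_cases j <;>
      simp [Matrix.SpecialLinearGroup.coe_mul, Matrix.mul_apply, Fin.sum_univ_two]
    · linear_combination (-(g.1 0 1 * h.1 1 0)) * he
    · ring
    · ring
    · linear_combination (-(g.1 1 0 * h.1 0 1)) * he

theorem scaleSL_val (e : F) (he : e * e = 1) (g : Matrix.SpecialLinearGroup (Fin 2) F) :
    (scaleSL e he g).1 = !![g.1 0 0, e * g.1 0 1; e * g.1 1 0, g.1 1 1] := rfl

theorem exists_rootHom_simple (hK : Fine K D) (he : K.etaOK = true) {i : ℕ} (hi : i < D.rank) :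
    ∃ φ : Matrix.SpecialLinearGroup (Fin 2) F →* GL D.Idx F, IsRootHom hK (K.p i) φ := by
  have hG := hK.toGood
  have hr := hG.p_lt hi
  obtain ⟨heta, -, -⟩ := hK.eta_facts he hi
  have hn : ∀ c : F, nU hK (K.p i) c = xU hK (K.p i) c * xU hK (K.neg (K.p i)) (-c⁻¹) * xU hK (K.p i) c := by
    intro c
    simp only [nU, wordU, ChevalleyDatum.nWord, List.map_cons, List.map_nil, List.prod_cons, List.prod_nil, mul_one,
      ← mul_assoc, hG.neg_eq hr, ← hG.Kneg_eq]
  have hpair : K.pair (K.p i) (K.p i) = 2 := by rw [hK.pair_simple hi, (hK.coroot_facts.2 i hi).1]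
  let h : Fˣ →* GL D.Idx F :=
    { toFun := fun c => Fine.tU K D (Fine.hParam K (K.p i) c)
      map_one' := by
        rw [show Fine.hParam K (K.p i) (1 : Fˣ) = 1 from funext fun j => by simp [Fine.hParam]]
        exact Fine.tU_one
      map_mul' := fun a b => by
        rw [show Fine.hParam K (K.p i) (a * b) = Fine.hParam K (K.p i) a * Fine.hParam K (K.p i) b from
          funext fun j => by simp [Fine.hParam, mul_zpow]]
        exact Fine.tU_mul _ _ }
  have R : SL2Lift.Rel (fun t => xU hK (K.p i) t) (fun t => xU hK (K.neg (K.p i)) t) (sU hK i) h := by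
    refine ⟨fun a b => xU_mul hK _ a b, fun a b => xU_mul hK _ a b, ?_, fun t => ?_, fun c => ?_, fun c t => ?_⟩
    · rw [sU, hG.simple_eq hi, hn, inv_one]
    · rw [hK.sU_conj_xU hi hr, hG.w_p hi, heta]
      congr 1; push_cast; ring
    · show Fine.tU K D (Fine.hParam K (K.p i) c) = _
      rw [← hn, sU, hG.simple_eq hi, ← nU_neg_one]
      refine Units.ext ?_
      rw [hK.coe_tU_hParam hr, Units.val_mul, coe_nU, coe_nU, ChevalleyDatum.hMat, ChevalleyDatum.hWord,
        ← coe_wordU hK, wordU, List.map_append, List.prod_append, Units.val_mul, ← coe_nU hK, ← coe_nU hK]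
      rfl
    · show Fine.tU K D _ * _ * (Fine.tU K D _)⁻¹ = _
      rw [hK.tU_conj_xU _ hr, hK.torusChar_hParam, hpair, Units.val_zpow_eq_zpow_val]
      simp [zpow_ofNat]
  obtain ⟨φ, h1, h2⟩ := SL2Lift.exists_hom R
  exact ⟨φ, h1, h2⟩

theorem exists_rootHom_pos (hK : Fine K D) (he : K.etaOK = true) : ∀ r, K.npos ≤ r → r < D.nroots →
    ∃ φ : Matrix.SpecialLinearGroup (Fin 2) F →* GL D.Idx F, IsRootHom hK r φ := by
  intro r
  induction r using Nat.strong_induction_on with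
  | _ r ih =>
    intro hpos hr
    have hG := hK.toGood
    obtain ⟨i, hi, h | ⟨h1, h2⟩⟩ := hK.desc hr hpos
    · exact h ▸ exists_rootHom_simple hK he hi
    · have hs := hG.w_lt hi hr
      obtain ⟨φ, hx, hy⟩ := ih _ h2 h1 hs
      have hneg : K.eta i (K.neg (K.w i r)) = K.eta i (K.w i r) := ((hK.coroot_facts.1 _ hs).2 i hi).2.2
      have hee : ((K.eta i (K.w i r) : F)) * (K.eta i (K.w i r) : F) = 1 := by
        rw [← Int.cast_mul, Good.eta_sq, Int.cast_one]
      refine ⟨(MulAut.conj (sU hK i : GL D.Idx F)).toMonoidHom.comp (φ.comp (scaleSL _ hee)), fun t => ?_, fun t => ?_⟩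
      · have e : scaleSL _ hee (SL2Lift.xM t) = SL2Lift.xM ((K.eta i (K.w i r) : F) * t) := by
          apply Subtype.ext; simp [scaleSL_val, SL2Lift.xM_val]
        show sU hK i * φ (scaleSL _ hee (SL2Lift.xM t)) * (sU hK i)⁻¹ = _
        rw [e, hx, hK.sU_conj_xU hi hs, hG.w_w hi hr, ← mul_assoc, hee, one_mul]
      · have e : scaleSL _ hee (SL2Lift.yM t) = SL2Lift.yM ((K.eta i (K.w i r) : F) * t) := by
          apply Subtype.ext; simp [scaleSL_val, SL2Lift.yM_val]
        show sU hK i * φ (scaleSL _ hee (SL2Lift.yM t)) * (sU hK i)⁻¹ = _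
        rw [e, hy, hK.sU_conj_xU hi (hG.Kneg_lt hs), hG.w_neg hi hs, hG.w_w hi hr, hneg, ← mul_assoc, hee, one_mul]

theorem exists_rootHom (hK : Fine K D) (he : K.etaOK = true) {r : ℕ} (hr : r < D.nroots) :
    ∃ φ : Matrix.SpecialLinearGroup (Fin 2) F →* GL D.Idx F, IsRootHom hK r φ := by
  have hG := hK.toGood
  by_cases hpos : K.npos ≤ r
  · exact exists_rootHom_pos hK he r hpos hr
  · have h2 := hG.nroots_eq_two_mul
    obtain ⟨φ, hx, hy⟩ := exists_rootHom_pos (F := F) hK he (K.neg r) (by rw [hG.Kneg_eq]; omega) (hG.Kneg_lt hr)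
    rw [hG.Kneg_Kneg hr] at hy
    refine ⟨φ.comp swapSL, fun t => ?_, fun t => ?_⟩
    · rw [MonoidHom.comp_apply, show swapSL (SL2Lift.xM t) = SL2Lift.yM t by
        apply Subtype.ext; simp [swapSL_val, SL2Lift.xM_val, SL2Lift.yM_val]]
      exact hy t
    · rw [MonoidHom.comp_apply, show swapSL (SL2Lift.yM t) = SL2Lift.xM t by
        apply Subtype.ext; simp [swapSL_val, SL2Lift.xM_val, SL2Lift.yM_val]]
      exact hx t

theorem rootSL2 {D : ChevalleyDatum} (hD : D ∈ [chevG2, chevB2, chevD4, chevF4, chevE6, chevE7, chevE8]) (r : ℕ)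
    (hr : r < D.nroots) :
    ∃ φ : Matrix.SpecialLinearGroup (Fin 2) F →* GL D.Idx F,
      φ.range = D.rootSubgroup F r ⊔ D.rootSubgroup F (D.neg r) ∧
      ∀ (g : Matrix.SpecialLinearGroup (Fin 2) F) (t : F),
        ((g : Matrix (Fin 2) (Fin 2) F) = !![1, t; 0, 1] → ((φ g : GL D.Idx F) : Matrix D.Idx D.Idx F) = D.x F r t) ∧
        ((g : Matrix (Fin 2) (Fin 2) F) = !![1, 0; t, 1] → ((φ g : GL D.Idx F) : Matrix D.Idx D.Idx F) = D.x F (D.neg r) t) := by
  obtain ⟨K, hK, he⟩ := fine_eta_of_mem hD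
  obtain ⟨φ, hx, hy⟩ := exists_rootHom (F := F) hK he hr
  have hneg : D.neg r = K.neg r := by rw [hK.toGood.neg_eq hr, hK.toGood.Kneg_eq]
  rw [hneg]
  refine ⟨φ, SL2Lift.range_eq φ _ _ (fun g => ?_) (fun g => ?_), fun g t => ⟨fun h => ?_, fun h => ?_⟩⟩
  · simp only [hx]; exact hK.mem_rootSubgroup_iff
  · simp only [hy]; exact hK.mem_rootSubgroup_iff
  · rw [show g = SL2Lift.xM t from Subtype.ext h, hx, coe_xU]
  · rw [show g = SL2Lift.yM t from Subtype.ext h, hy, coe_xU]

end CfsgLib.Chev
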