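import Cfsg.Agent.Chev.CoverPerfect
import Cfsg.Agent.Chev.RootSL2
import Cfsg.Agent.Misc.SL2Presentation

/-! Over a finite field the cover presented by (A) and (B) is Steinberg's group. -/

set_option autoImplicit false

namespace CfsgLib.Chev

open Cfsg.Lie
open CfsgLib.Misc

variable {K : Data} {D : ChevalleyDatum} {F : Type*} [Field F] {hK : Fine K D} {G : Type*} [Group G]

namespace Lift

/-- the element n of a root -/
noncomputable def Wc (c : Lift hK F G) (r : ℕ) (t : F) : G := c.e r t * c.e (K.neg r) (-t⁻¹) * c.e r t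

/-- the element h of a root -/
noncomputable def Hc (c : Lift hK F G) (r : ℕ) (t : F) : G := c.Wc r t * c.Wc r (-1)

theorem Wc_neg (c : Lift hK F G) (r : ℕ) (t : F) : c.Wc r (-t) = (c.Wc r t)⁻¹ := by
  simp [Wc, c.e_inv, mul_assoc, inv_neg]

theorem word_hWord (c : Lift hK F G) {r : ℕ} (hr : r < D.nroots) (t : F) : c.word (D.hWord r t) = c.Hc r t := by
  simp [word, ChevalleyDatum.hWord, ChevalleyDatum.nWord, Hc, Wc, hK.toGood.neg_eq hr, hK.toGood.Kneg_eq, mul_assoc]

/-- multiplicativity at a root -/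
def HMul (c : Lift hK F G) (r : ℕ) : Prop :=
  ∀ a b : F, a ≠ 0 → b ≠ 0 → c.Hc r a * c.Hc r b = c.Hc r (a * b)

theorem rel_proj (c : Lift hK F G) (hD : D ∈ [chevG2, chevB2, chevD4, chevF4, chevE6, chevE7, chevE8])
    {r : ℕ} (hr : r < D.nroots) {t : F} (ht : t ≠ 0) (u : F) :
    c.proj (c.Wc r t * c.e r u * (c.Wc r t)⁻¹) = xU hK (K.neg r) (-(t⁻¹ ^ 2 * u)) := by
  obtain ⟨φ, -, hφ⟩ := rootSL2 (F := F) hD r hr
  have hn : D.neg r = K.neg r := by rw [hK.toGood.neg_eq hr, hK.toGood.Kneg_eq]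
  have hx : ∀ s, φ (SL2Lift.xM s) = xU hK r s := fun s => eq_xU hK ((hφ _ s).1 rfl)
  have hy : ∀ s, φ (SL2Lift.yM s) = xU hK (K.neg r) s := fun s => eq_xU hK (hn ▸ (hφ _ s).2 rfl)
  have e : SL2Lift.xM t * SL2Lift.yM (-t⁻¹) * SL2Lift.xM t * SL2Lift.xM u *
      (SL2Lift.xM t * SL2Lift.yM (-t⁻¹) * SL2Lift.xM t)⁻¹ = SL2Lift.yM (-(t⁻¹ ^ 2 * u)) := by
    rw [mul_inv_eq_iff_eq_mul]
    apply Subtype.ext
    simp only [Matrix.SpecialLinearGroup.coe_mul]
    simp [SL2Lift.xM_val, SL2Lift.yM_val, Matrix.mul_fin_two, ht] <;>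
      (try constructor) <;> (try constructor) <;> field_simp <;> ring
  have e2 := congrArg φ e
  simp only [map_mul, map_inv, hx, hy] at e2
  simp only [Wc, map_mul, map_inv, c.proj_e]
  exact e2

theorem hmul_simple [Finite F] (c : Lift hK F G) (hd : LiftData K D)
    (hD : D ∈ [chevG2, chevB2, chevD4, chevF4, chevE6, chevE7, chevE8]) (i : Fin D.rank) :
    c.HMul (K.p i.val) := by
  have hG := hK.toGood
  set S := c.genC {K.p i.val, K.neg (K.p i.val)} with hS
  let x : F → S := fun t => ⟨c.e (K.p i.val) t, c.mem_genC (Or.inl rfl) t⟩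
  let y : F → S := fun t => ⟨c.e (K.neg (K.p i.val)) t, c.mem_genC (Or.inr rfl) t⟩
  have hW : ∀ t, ((SL2Presentation.W x y t : S) : G) = c.Wc (K.p i.val) t := fun t => rfl
  have R : SL2Presentation.St x y := by
    refine ⟨fun a b => Subtype.ext (c.e_add _ a b), fun a b => Subtype.ext (c.e_add _ a b), fun t u ht => Subtype.ext ?_, fun z hzx hzy g => ?_⟩
    · show c.Wc (K.p i.val) t * c.e (K.p i.val) u * (c.Wc (K.p i.val) t)⁻¹ = c.e (K.neg (K.p i.val)) (-(t⁻¹ ^ 2 * u))
      have hp := hG.p_lt i.isLt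
      obtain ⟨a, -, ha⟩ := c.lmoves_nC hd i ht
      have e := ha ⟨K.p i.val, hp⟩ u
      rw [sPerm_val, c.nC_eq, hG.w_p i.isLt] at e
      have h := c.rel_proj hD hp ht u
      change c.Wc (K.p i.val) t * c.e (K.p i.val) u * (c.Wc (K.p i.val) t)⁻¹ = _ at e
      rw [e, c.proj_e] at h
      rw [e, hK.xU_inj (hG.Kneg_lt hp) h]
    · have hg : (g : G) ∈ Subgroup.centralizer ({(z : G)} : Set G) := by
        refine (Subgroup.closure_le _).2 ?_ g.2
        rintro _ ⟨r, hr, t, rfl⟩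
        rw [SetLike.mem_coe, Subgroup.mem_centralizer_singleton_iff]
        rcases hr with rfl | rfl
        · exact (congrArg Subtype.val (hzx t)).symm
        · exact (congrArg Subtype.val (hzy t)).symm
      exact Subtype.ext (Subgroup.mem_centralizer_singleton_iff.1 hg)
  have hH : ∀ a : Fˣ, ((SL2Presentation.H x y a : S) : G) = c.Hc (K.p i.val) a := fun a => by
    simp only [SL2Presentation.H, Subgroup.coe_mul, Subgroup.coe_inv, hW, Hc, c.Wc_neg]
  intro a b ha hb
  have h := congrArg (fun z : S => (z : G)) (SL2Presentation.H_mul R (Units.mk0 a ha) (Units.mk0 b hb))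
  simp only [Subgroup.coe_mul, hH, Units.val_mul, Units.val_mk0] at h
  exact h.symm

theorem hmul_move (c : Lift hK F G) (hd : LiftData K D) (i : Fin D.rank) {r : ℕ} (hr : r < D.nroots)
    (h : c.HMul (K.w i.val r)) : c.HMul r := by
  have hG := hK.toGood
  obtain ⟨a, ha0, ha⟩ := c.lmoves_nC hd i (x := (1 : F)) one_ne_zero
  have hW : ∀ t, c.nC i 1 * c.Wc r t * (c.nC i 1)⁻¹ = c.Wc (K.w i.val r) ((a r : F) * t) := by
    intro t
    have e1 := ha ⟨r, hr⟩ t
    have e2 := ha ⟨K.neg r, hG.Kneg_lt hr⟩ (-t⁻¹)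
    rw [sPerm_val] at e1 e2
    rw [hG.w_neg i.isLt hr, ha0 r hr, Units.val_inv_eq_inv_val] at e2
    calc c.nC i 1 * c.Wc r t * (c.nC i 1)⁻¹
        = (c.nC i 1 * c.e r t * (c.nC i 1)⁻¹) * (c.nC i 1 * c.e (K.neg r) (-t⁻¹) * (c.nC i 1)⁻¹) *
            (c.nC i 1 * c.e r t * (c.nC i 1)⁻¹) := by simp only [Wc]; group
      _ = _ := by rw [e1, e2, Wc, mul_inv, mul_neg]
  have hH : ∀ t, t ≠ 0 → MulAut.conj (c.nC i 1) (c.Hc r t) = c.Hc (K.w i.val r) t := by
    intro t ht
    have h1 := h _ t (a r).ne_zero ht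
    show c.nC i 1 * (c.Wc r t * c.Wc r (-1)) * (c.nC i 1)⁻¹ = _
    rw [show c.nC i 1 * (c.Wc r t * c.Wc r (-1)) * (c.nC i 1)⁻¹ =
      (c.nC i 1 * c.Wc r t * (c.nC i 1)⁻¹) * (c.nC i 1 * c.Wc r (-1) * (c.nC i 1)⁻¹) by group, hW, hW, mul_neg, mul_one,
      c.Wc_neg]
    have h2 : c.Wc (K.w i.val r) ((a r : F) * t) * (c.Wc (K.w i.val r) (a r : F))⁻¹ =
        c.Hc (K.w i.val r) ((a r : F) * t) * (c.Hc (K.w i.val r) (a r : F))⁻¹ := by
      simp only [Hc]; group
    have h3 := h t (a r : F) ht (a r).ne_zero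
    rw [h2, mul_comm (a r : F), ← h3, mul_inv_cancel_right]
  intro x y hx hy
  apply (MulAut.conj (c.nC i 1)).injective
  rw [map_mul, hH x hx, hH y hy, hH _ (mul_ne_zero hx hy)]
  exact h x y hx hy

theorem hmul_all [Finite F] (c : Lift hK F G) (hd : LiftData K D)
    (hD : D ∈ [chevG2, chevB2, chevD4, chevF4, chevE6, chevE7, chevE8]) {r : ℕ} (hr : r < D.nroots) :
    c.HMul r := by
  have hG := hK.toGood
  have main : ∀ r, K.npos ≤ r → r < D.nroots → c.HMul r ∧ c.HMul (K.neg r) := by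
    intro r
    induction r using Nat.strong_induction_on with
    | _ r ih =>
      intro hpos hr
      obtain ⟨i, hi, h | ⟨h1, h2⟩⟩ := hK.desc hr hpos
      · subst h
        have hs := c.hmul_simple hd hD ⟨i, hi⟩
        refine ⟨hs, c.hmul_move hd ⟨i, hi⟩ (hG.Kneg_lt hr) ?_⟩
        rw [show K.w i (K.neg (K.p i)) = K.p i by rw [← hG.w_p hi, hG.w_w hi (hG.p_lt hi)]]
        exact hs
      · obtain ⟨g1, g2⟩ := ih _ h2 h1 (hG.w_lt hi hr)
        refine ⟨c.hmul_move hd ⟨i, hi⟩ hr g1, c.hmul_move hd ⟨i, hi⟩ (hG.Kneg_lt hr) ?_⟩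
        rw [show K.w (⟨i, hi⟩ : Fin D.rank).val (K.neg r) = K.neg (K.w i r) from hG.w_neg hi hr]
        exact g2
  by_cases hpos : K.npos ≤ r
  · exact (main r hpos hr).1
  · have h2 := hG.nroots_eq_two_mul
    have := (main (K.neg r) (by rw [hG.Kneg_eq]; omega) (hG.Kneg_lt hr)).2
    rwa [hG.Kneg_Kneg hr] at this

end Lift

theorem cover_eq_steinberg [Finite F] {D : ChevalleyDatum}
    (hD : D ∈ [chevG2, chevB2, chevD4, chevF4, chevE6, chevE7, chevE8]) :
    ∃ e : D.SteinbergCover F ≃* D.SteinbergGroup F, ∀ (r : ℕ) (t : F), e (D.scGen F r t) = D.stGen F r t := by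
  obtain ⟨K, hd⟩ := LiftData.of_mem hD
  let c := Lift.ofCover hd.comb.fine F
  have hsub : D.steinbergRelsAB F ⊆ D.steinbergRels F := fun g hg => Or.inl hg
  let f : D.SteinbergCover F →* D.SteinbergGroup F :=
    PresentedGroup.toGroup (f := fun p => PresentedGroup.of p) (fun g hg => by
      rw [show FreeGroup.lift (fun p => (PresentedGroup.of p : D.SteinbergGroup F)) = PresentedGroup.mk _ from
        FreeGroup.ext_hom _ _ fun a => by simp [PresentedGroup.of]]
      exact PresentedGroup.one_of_mem (hsub hg))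
  let g : D.SteinbergGroup F →* D.SteinbergCover F :=
    PresentedGroup.toGroup (f := fun p => PresentedGroup.of p) (fun w hw => by
      rw [show FreeGroup.lift (fun p => (PresentedGroup.of p : D.SteinbergCover F)) = PresentedGroup.mk _ from
        FreeGroup.ext_hom _ _ fun a => by simp [PresentedGroup.of]]
      rcases hw with hw | ⟨r, a, b, hr, ha, hb, rfl⟩
      · exact PresentedGroup.one_of_mem hw
      · rw [map_mul, map_mul, map_inv, mul_inv_eq_one]
        have hmk : ∀ t : F, PresentedGroup.mk (D.steinbergRelsAB F) (D.stH r t) = c.Hc r t := fun t =>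
          (Lift.mk_stWord (D.hWord r t)).symm.trans (c.word_hWord hr t)
        rw [hmk, hmk, hmk]
        exact c.hmul_all hd hD hr a b ha hb)
  have h1 : g.comp f = MonoidHom.id _ := PresentedGroup.ext fun p => by simp [f, g]
  have h2 : f.comp g = MonoidHom.id _ := PresentedGroup.ext fun p => by simp [f, g]
  refine ⟨MonoidHom.toMulEquiv f g h1 h2, fun r t => ?_⟩
  show f (D.scGen F r t) = D.stGen F r t
  by_cases hr : r < D.nroots
  · simp only [ChevalleyDatum.scGen, ChevalleyDatum.stGen, ChevalleyDatum.stX, dif_pos hr]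
    exact PresentedGroup.toGroup.of _
  · simp [ChevalleyDatum.scGen, ChevalleyDatum.stGen, ChevalleyDatum.stX, dif_neg hr]

end CfsgLib.Chev
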