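import Cfsg.Agent.Chev.FieldMap
import Cfsg.Agent.Chev.HCard
import Cfsg.Prelude.Def_ChevAutomorphisms

/-!
Fixed points of field automorphisms when the Cartan matrix is unimodular.
-/

set_option autoImplicit false

namespace CfsgLib.Chev

open Cfsg.Lie

variable {K : Data} {D : ChevalleyDatum} {F : Type*} [Field F]

namespace Fine

theorem tFin_injective (hK : Fine K D) (B : Matrix (Fin D.rank) (Fin D.rank) ℤ)
    (hB : cartanMat K D.rank * B = 1) : Function.Injective (tFin K D F) := by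
  refine (injective_iff_map_eq_one _).2 fun c hc => ?_
  have h : powMat (G := Fˣ) (cartanMat K D.rank) c = 1 := by
    rw [← MonoidHom.mem_ker, ← hK.tFin_ker, MonoidHom.mem_ker]; exact hc
  calc c = powMat (cartanMat K D.rank * B) c := by rw [hB, powMat_one]
    _ = 1 := by rw [powMat_mul, h, map_one]

theorem fieldMap_tFin (hK : Fine K D) {E : Type*} [Field E] (τ : F →+* E) (d : Fin D.rank → Fˣ) :
    fieldMap D τ (tFin K D F d) = tFin K D E (fun i => Units.map τ.toMonoidHom (d i)) := by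
  simp only [tFin, MonoidHom.coe_comp, Function.comp_apply, MonoidHom.coe_mk, OneHom.coe_mk,
    tHom_apply]
  rw [hK.fieldMap_tU]
  congr 1
  funext i
  by_cases hi : i < D.rank <;> simp [extC, hi]

theorem fixed_descent (hK : Fine K D) (B : Matrix (Fin D.rank) (Fin D.rank) ℤ)
    (hB : cartanMat K D.rank * B = 1) {F₀ : Type*} [Field F₀] (ι : F₀ →+* F) (σ : F →+* F)
    (hσ : ∀ x, σ x = x → ∃ y, ι y = x) {g : GL D.Idx F} (hg : g ∈ D.group F)
    (hfix : fieldMap D σ g = g) : ∃ g₀ ∈ D.group F₀, fieldMap D ι g₀ = g := by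
  obtain ⟨v, hv, h, hh, hhfix, L, u, hu, rfl⟩ := hK.fixed_decomp σ hg hfix
  choose v₀ hv₀ using fun r => hσ _ (hv r)
  choose u₀ hu₀ using fun r => hσ _ (hu r)
  rw [← hK.tFin_range] at hh
  obtain ⟨c, rfl⟩ := hh
  rw [hK.fieldMap_tFin] at hhfix
  have hc : ∀ i, σ (c i : F) = (c i : F) := fun i =>
    congrArg Units.val (congrFun (hK.tFin_injective B hB hhfix) i)
  choose c₀ hc₀ using fun i => hσ _ (hc i)
  have hc0 : ∀ i, c₀ i ≠ 0 := fun i h0 => (c i).ne_zero (by rw [← hc₀ i, h0, map_zero])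
  refine ⟨ordProd hK K.npos v₀ * tFin K D F₀ (fun i => Units.mk0 (c₀ i) (hc0 i)) *
    sWord hK F₀ L * ordProd hK K.npos u₀, ?_, ?_⟩
  · refine Subgroup.mul_mem _ (Subgroup.mul_mem _ (Subgroup.mul_mem _ (hK.wordU_mem_group _) ?_) ?_)
      (hK.wordU_mem_group _)
    · exact hK.borel_le_group (Subgroup.mem_sup_right
        (hK.tFin_range (F := F₀) ▸ ⟨_, rfl⟩))
    · exact hK.monomial_le_group (hK.sWord_mem_monomial L)
  · rw [map_mul, map_mul, map_mul, hK.fieldMap_ordProd, hK.fieldMap_ordProd, hK.fieldMap_sWord, hK.fieldMap_tFin]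
    simp only [hv₀, hu₀]
    congr 3
    refine congrArg (tFin K D F) (funext fun i => Units.ext ?_)
    exact hc₀ i

/-- field automorphisms act on the group -/
noncomputable def fieldAutHom (hK : Fine K D) : RingAut F →* MulAut ↥(D.group F) where
  toFun σ := hK.fieldAut σ
  map_one' := MulEquiv.ext fun g => Subtype.ext (by
    rw [coe_fieldAut]; exact fieldMap_id g.1)
  map_mul' σ τ := MulEquiv.ext fun g => Subtype.ext (by
    rw [MulAut.mul_apply, coe_fieldAut, coe_fieldAut, coe_fieldAut, fieldMap_fieldMap]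
    rfl)

theorem fieldAutHom_injective (hK : Fine K D) (hn : 0 < D.nroots) :
    Function.Injective (hK.fieldAutHom (F := F)) := by
  refine (injective_iff_map_eq_one _).2 fun σ hσ => RingEquiv.ext fun t => ?_
  have h := congrArg (fun φ : MulAut ↥(D.group F) =>
    ((φ ⟨xU hK 0 t, hK.xU_mem_group 0 t⟩ : ↥(D.group F)) : GL D.Idx F)) hσ
  change fieldMap D σ.toRingHom (xU hK 0 t) = xU hK 0 t at h
  rw [hK.fieldMap_xU] at h
  have h0 : xU hK 0 (σ t - t) = (1 : GL D.Idx F) := by
    rw [sub_eq_add_neg, ← xU_mul, ← xU_inv]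
    simpa [mul_inv_eq_one] using h
  exact sub_eq_zero.1 ((hK.xU_eq_one_iff hn _).1 h0)

theorem fieldAut_fixed (hK : Fine K D) (hn : 0 < D.nroots) (B : Matrix (Fin D.rank) (Fin D.rank) ℤ)
    (hB : cartanMat K D.rank * B = 1) [Fintype F] (φ : MulAut ↥(D.group F))
    (hφ : D.IsFieldAut φ) (r : ℕ) (ho : orderOf φ = r) :
    ∃ (F₀ : Type) (_ : Field F₀) (_ : Fintype F₀), Fintype.card F = Fintype.card F₀ ^ r ∧
      Nonempty (↥((MulEquiv.toMonoidHom φ).eqLocus (MonoidHom.id ↥(D.group F))) ≃*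
        ↥(D.group F₀)) := by
  classical
  obtain ⟨σ, hσ⟩ := hφ
  have hφσ : φ = hK.fieldAutHom σ := MulEquiv.ext (hK.eq_fieldAut φ σ hσ)
  have hord : orderOf (σ : RingAut F) = r := by
    rw [← ho, hφσ, orderOf_injective _ (hK.fieldAutHom_injective hn)]
  haveI : Finite (RingAut F) := Finite.of_injective _ DFunLike.coe_injective
  let H : Subgroup (RingAut F) := Subgroup.zpowers σ
  haveI : Fintype H := Fintype.ofFinite H
  let S : Subfield F := FixedPoints.subfield H F
  have hfr : Module.finrank S F = r := by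
    rw [FixedPoints.finrank_eq_card H F, ← Nat.card_eq_fintype_card, Nat.card_zpowers]
    exact hord
  have hcard : Fintype.card F = Fintype.card S ^ r := by
    rw [← hfr]; exact Module.card_eq_pow_finrank
  let e : Fin (Fintype.card S) ≃ S := (Fintype.equivFin S).symm
  letI : Field (Fin (Fintype.card S)) := e.field
  let ι : Fin (Fintype.card S) →+* F := S.subtype.comp e.ringEquiv.toRingHom
  refine ⟨Fin (Fintype.card S), e.field, inferInstance, by rw [Fintype.card_fin]; exact hcard, ⟨?_⟩⟩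
  have hfix : ∀ y, σ (ι y) = ι y := fun y =>
    (e y).2 ⟨σ, Subgroup.mem_zpowers σ⟩
  have hmem : ∀ g : ↥(D.group (Fin (Fintype.card S))),
      (⟨fieldMap D ι g.1, hK.fieldMap_mem_group ι g.2⟩ : ↥(D.group F)) ∈
        (MulEquiv.toMonoidHom φ).eqLocus (MonoidHom.id ↥(D.group F)) := by
    intro g
    show φ ⟨_, _⟩ = ⟨_, _⟩
    rw [hφσ]
    refine Subtype.ext ?_
    show fieldMap D σ.toRingHom (fieldMap D ι g.1) = fieldMap D ι g.1
    rw [fieldMap_fieldMap]
    congr 1
    exact congrArg (fun f => fieldMap D f) (RingHom.ext hfix)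
  refine (MulEquiv.ofBijective (MonoidHom.mk'
    (fun g : ↥(D.group (Fin (Fintype.card S))) => (⟨⟨fieldMap D ι g.1, hK.fieldMap_mem_group ι g.2⟩,
      hmem g⟩ : ↥((MulEquiv.toMonoidHom φ).eqLocus (MonoidHom.id ↥(D.group F)))))
    (fun g h => Subtype.ext (Subtype.ext (map_mul (fieldMap D ι) g.1 h.1)))) ⟨?_, ?_⟩).symm
  · intro g h hgh
    exact Subtype.ext (fieldMap_injective ι (congrArg (fun x => x.1.1) hgh))
  · rintro ⟨g, hg⟩
    have hgfix : fieldMap D σ.toRingHom g.1 = g.1 := by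
      have := congrArg Subtype.val (show φ g = g from hg)
      rwa [hφσ] at this
    obtain ⟨g₀, hg₀, e₀⟩ := hK.fixed_descent B hB ι σ.toRingHom (fun x hx => by
      have hxS : x ∈ S := by
        rintro ⟨τ, hτ⟩
        obtain ⟨k, rfl⟩ := Subgroup.mem_zpowers_iff.1 hτ
        exact MulAction.mem_stabilizer_iff.1 (Subgroup.zpow_mem _ (MulAction.mem_stabilizer_iff.2 hx : σ ∈ MulAction.stabilizer (RingAut F) x) k)
      exact ⟨e.symm ⟨x, hxS⟩, congrArg Subtype.val (e.apply_symm_apply ⟨x, hxS⟩)⟩) g.2 hgfix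
    exact ⟨⟨g₀, hg₀⟩, Subtype.ext (Subtype.ext e₀)⟩

end Fine

end CfsgLib.Chev
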