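import Cfsg.Prelude.Def_SteinbergCover
import Cfsg.Agent.Chev.CoverBruhat
import Cfsg.Agent.Chev.FieldFixed
import Cfsg.Agent.Chev.Run.Coweight

/-!
Steinberg's presented groups over the Chevalley groups.
-/

set_option autoImplicit false

namespace CfsgLib.Chev

open Cfsg.Lie Fine

variable {K : Data} {D : ChevalleyDatum} {F : Type*} [Field F]

/-- the value of a symbol in the general linear group -/
def genVal (hK : Fine K D) (F : Type*) [Field F] (p : Fin D.nroots × F) : GL D.Idx F := xU hK p.1.val p.2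

theorem lift_stX (hK : Fine K D) (r : ℕ) (t : F) :
    FreeGroup.lift (genVal hK F) (D.stX r t) = xU hK r t := by
  unfold ChevalleyDatum.stX
  split_ifs with h
  · rw [FreeGroup.lift_apply_of]; rfl
  · rw [map_one, xU_of_not_lt hK h]

theorem lift_stWord (hK : Fine K D) (w : List (ℕ × F)) :
    FreeGroup.lift (genVal hK F) (D.stWord w) = wordU hK w := by
  rw [ChevalleyDatum.stWord, map_list_prod, List.map_map, wordU]
  congr 1
  exact List.map_congr_left fun p _ => lift_stX hK p.1 p.2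

theorem nU_mul_neg_eq_tU (hK : Fine K D) {r : ℕ} (hr : r < D.nroots) (c : Fˣ) :
    nU hK r (c : F) * nU hK r (-1) = tU K D (hParam K r c) := by
  refine Units.ext ?_
  rw [hK.coe_tU_hParam hr, Units.val_mul, coe_nU, coe_nU]
  simp [ChevalleyDatum.hMat, ChevalleyDatum.hWord, ChevalleyDatum.nMat, wordMat_append]

theorem relsAB_sat (hK : Fine K D) : ∀ g ∈ D.steinbergRelsAB F, FreeGroup.lift (genVal hK F) g = 1 := by
  rintro g (⟨r, t, u, hr, rfl⟩ | ⟨r, s, t, u, hr, hs, hsr, hneg, rfl⟩)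
  · rw [map_mul, map_mul, map_inv, lift_stX, lift_stX, lift_stX, xU_mul, mul_inv_cancel]
  · rw [map_mul, map_mul, map_mul, map_mul, map_inv, map_inv, map_inv, lift_stX, lift_stX, lift_stWord]
    have h := hK.conj_formula hr hs hsr (by rwa [hK.toGood.Kneg_eq, ← hK.toGood.neg_eq hr]) t u
    rw [show (xU hK s u)⁻¹ * (xU hK r t)⁻¹ * xU hK s u * xU hK r t =
      (xU hK s u)⁻¹ * ((xU hK r t)⁻¹ * xU hK s u * xU hK r t) by group, h]
    group

theorem rels_sat (hK : Fine K D) : ∀ g ∈ D.steinbergRels F, FreeGroup.lift (genVal hK F) g = 1 := by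
  rintro g ((h | h) | ⟨r, t, u, hr, ht, hu, rfl⟩)
  · exact relsAB_sat hK g (Or.inl h)
  · exact relsAB_sat hK g (Or.inr h)
  · have e : ∀ {x : F}, x ≠ 0 → ∃ c : Fˣ, (c : F) = x := fun {x} hx => ⟨Units.mk0 x hx, rfl⟩
    obtain ⟨a, rfl⟩ := e ht
    obtain ⟨b, rfl⟩ := e hu
    have hh : ∀ x : F, wordU hK (D.hWord r x) = nU hK r x * nU hK r (-1) := fun x => by
      simp [ChevalleyDatum.hWord, wordU, nU]
    simp only [ChevalleyDatum.stH, map_mul, map_inv, lift_stWord, hh]
    rw [← Units.val_mul, nU_mul_neg_eq_tU hK hr, nU_mul_neg_eq_tU hK hr, nU_mul_neg_eq_tU hK hr,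
      show hParam K r (a * b) = hParam K r a * hParam K r b from funext fun i => _root_.mul_zpow a b _,
      tU_mul, mul_inv_cancel]

/-- the lift attached to a set of relators -/
noncomputable def presLift (hK : Fine K D) (rels : Set (FreeGroup (Fin D.nroots × F)))
    (hsub : D.steinbergRelsAB F ⊆ rels) (hsat : ∀ g ∈ rels, FreeGroup.lift (genVal hK F) g = 1) :
    Lift hK F (PresentedGroup rels) where
  e r t := PresentedGroup.mk rels (D.stX r t)
  e_out r t h := by rw [ChevalleyDatum.stX, dif_neg h, map_one]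
  e_add r t u := by
    by_cases hr : r < D.nroots
    · have h := PresentedGroup.one_of_mem (hsub (Or.inl ⟨r, t, u, hr, rfl⟩))
      rw [map_mul, map_mul, map_inv, mul_inv_eq_one] at h
      exact h
    · simp only [ChevalleyDatum.stX, dif_neg hr, map_one, mul_one]
  e_comm r s t u hr hs hsr hneg := by
    have h := PresentedGroup.one_of_mem (hsub (Or.inr ⟨r, s, t, u, hr, hs, hsr, hneg, rfl⟩))
    rw [map_mul, map_mul, map_mul, map_mul, map_inv, map_inv, map_inv, mul_inv_eq_one] at h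
    rw [h, ChevalleyDatum.stWord, map_list_prod, List.map_map]
    rfl
  proj := PresentedGroup.toGroup hsat
  proj_e r t := by
    by_cases hr : r < D.nroots
    · simp only [ChevalleyDatum.stX, dif_pos hr]
      exact PresentedGroup.toGroup.of hsat
    · simp only [ChevalleyDatum.stX, dif_neg hr, map_one, xU_of_not_lt hK hr]
  gen := by
    rw [eq_top_iff, ← PresentedGroup.closure_range_of rels]
    refine Subgroup.closure_mono ?_
    rintro _ ⟨⟨r, t⟩, rfl⟩
    exact ⟨r.val, t, by simp only [ChevalleyDatum.stX, dif_pos r.isLt]; rfl⟩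

namespace Lift

variable {hK : Fine K D} {G : Type*} [Group G]

/-- the projection onto the Chevalley group -/
noncomputable def projGroup (c : Lift hK F G) : G →* ↥(D.group F) := c.proj.codRestrict _ c.proj_mem_group

theorem coe_projGroup (c : Lift hK F G) (g : G) : (c.projGroup g : GL D.Idx F) = c.proj g := rfl

theorem projGroup_surjective (c : Lift hK F G) : Function.Surjective c.projGroup := by
  rintro ⟨g, hg⟩
  have h : D.group F ≤ c.proj.range := by
    refine (Subgroup.closure_le _).2 ?_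
    rintro x ⟨r, t, hx⟩
    exact ⟨c.e r.val t, by
      rw [c.proj_e]
      exact Units.ext (by rw [hx, coe_xU, x_of_lt D r.isLt])⟩
  obtain ⟨y, hy⟩ := h hg
  exact ⟨y, Subtype.ext hy⟩

theorem projGroup_ker (c : Lift hK F G) : c.projGroup.ker = c.proj.ker := MonoidHom.ker_codRestrict ..

theorem projGroup_e (c : Lift hK F G) (r : ℕ) (t : F) :
    ((c.projGroup (c.e r t) : GL D.Idx F) : Matrix D.Idx D.Idx F) = D.x F r t := by
  rw [c.coe_projGroup, c.proj_e, coe_xU]

/-- with the multiplicativity relators the torus words are a quotient of the split torus -/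
theorem torC_normal_form (c : Lift hK F G) (hd : LiftData K D)
    (hmul : ∀ (i : Fin D.rank) (a b : F), a ≠ 0 → b ≠ 0 → c.hC i a * c.hC i b = c.hC i (a * b))
    {h : G} (hh : h ∈ c.torC) :
    ∃ Φ : (Fin D.rank → Fˣ) →* G, (c.proj.comp Φ = tFin K D F) ∧ h ∈ Φ.range := by
  classical
  have hcomm : ∀ (i j : Fin D.rank) (a b : Fˣ), Commute (c.hC i (a : F)) (c.hC j (b : F)) := by
    intro i j a b
    have hG := hK.toGood
    have hp := hG.p_lt j.isLt
    obtain ⟨χ, hχ0, hχ⟩ := c.lmoves_hC hd i a.ne_zero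
    have hn : ∀ x : F, c.hC i (a : F) * c.nC j x * (c.hC i (a : F))⁻¹ = c.nC j ((χ (K.p j.val) : F) * x) := by
      intro x
      have h1 := hχ ⟨K.p j.val, hp⟩ x
      have h2 := hχ ⟨K.neg (K.p j.val), hG.Kneg_lt hp⟩ (-x⁻¹)
      simp only [Equiv.Perm.one_apply, hχ0 _ hp] at h1 h2
      rw [c.nC_eq, c.nC_eq, show c.hC i (a : F) * (c.e (K.p j.val) x * c.e (K.neg (K.p j.val)) (-x⁻¹) *
        c.e (K.p j.val) x) * (c.hC i (a : F))⁻¹ = (c.hC i (a : F) * c.e (K.p j.val) x * (c.hC i (a : F))⁻¹) *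
          (c.hC i (a : F) * c.e (K.neg (K.p j.val)) (-x⁻¹) * (c.hC i (a : F))⁻¹) *
            (c.hC i (a : F) * c.e (K.p j.val) x * (c.hC i (a : F))⁻¹) by group, h1, h2]
      simp [mul_comm]
    rw [commute_iff_eq, ← mul_inv_eq_iff_eq_mul]
    set χp : Fˣ := χ (K.p j.val)
    calc c.hC i (a : F) * c.hC j (b : F) * (c.hC i (a : F))⁻¹
        = (c.hC i (a : F) * c.nC j (b : F) * (c.hC i (a : F))⁻¹) *
            (c.hC i (a : F) * c.nC j (-1) * (c.hC i (a : F))⁻¹) := by rw [c.hC_eq j]; group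
      _ = c.nC j ((χp : F) * b) * (c.nC j (χp : F))⁻¹ := by rw [hn, hn, mul_neg, mul_one, c.nC_neg]
      _ = c.hC j ((χp : F) * b) * (c.hC j (χp : F))⁻¹ := by
          rw [c.nC_eq_hC j ((χp : F) * b), c.nC_eq_hC j (χp : F)]; group
      _ = c.hC j (b : F) := by
          rw [mul_comm (χp : F), ← hmul j _ _ b.ne_zero χp.ne_zero, mul_inv_cancel_right]
  let f : ∀ _ : Fin D.rank, Fˣ →* G := fun i =>
    MonoidHom.mk' (fun a => c.hC i (a : F)) fun a b => by rw [Units.val_mul, hmul i _ _ a.ne_zero b.ne_zero]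
  have hf : Pairwise fun i j => ∀ x y, Commute (f i x) (f j y) := fun i j _ x y => hcomm i j x y
  let Φ := MonoidHom.noncommPiCoprod f hf
  have hle : c.torC ≤ Φ.range := (Subgroup.closure_le _).2 (by
    rintro _ ⟨i, x, hx, rfl⟩
    exact ⟨Pi.mulSingle i (Units.mk0 x hx), by rw [MonoidHom.noncommPiCoprod_mulSingle]; rfl⟩)
  refine ⟨Φ, ?_, hle hh⟩
  refine MonoidHom.pi_ext fun i x => ?_
  rw [MonoidHom.comp_apply, MonoidHom.noncommPiCoprod_mulSingle]
  show c.proj (c.hC i (x : F)) = tU K D (extC (Pi.mulSingle i x))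
  have hi := hK.toGood.p_lt i.isLt
  rw [Lift.hC, c.proj_word, ChevalleyDatum.hWord, hK.toGood.simple_eq i.isLt]
  rw [show wordU hK (D.nWord (K.p i.val) (x : F) ++ D.nWord (K.p i.val) (-1)) =
    nU hK (K.p i.val) (x : F) * nU hK (K.p i.val) (-1) by simp [wordU, nU], nU_mul_neg_eq_tU hK hi]
  refine Units.ext ?_
  rw [coe_tU, coe_tU]
  refine dmat_congr fun s _ => congrArg Units.val (Finset.prod_congr rfl fun j hj => ?_)
  have hj' := Finset.mem_range.1 hj
  rw [hParam, ((hK.coroot_facts.2 i.val i.isLt).2 j hj').1]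
  by_cases hij : i.val = j
  · subst hij
    simp [extC]
  · have hne : (⟨j, hj'⟩ : Fin D.rank) ≠ i := fun e => hij (congrArg Fin.val e).symm
    simp [extC, hj', hij, hne]

/-- trivial centre when the Cartan matrix is unimodular -/
theorem center_eq_bot (c : Lift hK F G) (hd : LiftData K D)
    (hmul : ∀ (i : Fin D.rank) (a b : F), a ≠ 0 → b ≠ 0 → c.hC i a * c.hC i b = c.hC i (a * b))
    (B : Matrix (Fin D.rank) (Fin D.rank) ℤ) (hB : cartanMat K D.rank * B = 1) :
    Subgroup.center G = ⊥ := by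
  rw [← c.ker_eq_center hd, Subgroup.eq_bot_iff_forall]
  intro z hz
  obtain ⟨Φ, hΦ, a, rfl⟩ := c.torC_normal_form hd hmul (c.ker_le hd hz).1
  have ha : tFin K D F a = 1 := (DFunLike.congr_fun hΦ a).symm.trans hz
  rw [hK.tFin_injective B hB (ha.trans (map_one _).symm), map_one]

/-- Steinberg's presented group -/
noncomputable def ofSteinberg (hK : Fine K D) (F : Type*) [Field F] : Lift hK F (D.SteinbergGroup F) :=
  presLift hK _ (fun g hg => hg.elim (fun h => Or.inl (Or.inl h)) (fun h => Or.inl (Or.inr h))) (rels_sat hK)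

/-- the presented group without the multiplicativity relators -/
noncomputable def ofCover (hK : Fine K D) (F : Type*) [Field F] : Lift hK F (D.SteinbergCover F) :=
  presLift hK _ subset_rfl (relsAB_sat hK)

theorem mk_stWord {rels : Set (FreeGroup (Fin D.nroots × F))} {hsub : D.steinbergRelsAB F ⊆ rels}
    {hsat : ∀ g ∈ rels, FreeGroup.lift (genVal hK F) g = 1} (w : List (ℕ × F)) :
    (presLift hK rels hsub hsat).word w = PresentedGroup.mk rels (D.stWord w) := by
  rw [word, ChevalleyDatum.stWord, map_list_prod, List.map_map]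
  rfl

theorem ofSteinberg_mul (hK : Fine K D) (i : Fin D.rank) (a b : F) (ha : a ≠ 0) (hb : b ≠ 0) :
    (ofSteinberg hK F).hC i a * (ofSteinberg hK F).hC i b = (ofSteinberg hK F).hC i (a * b) := by
  have h := PresentedGroup.one_of_mem (rels := D.steinbergRels F) (Or.inr ⟨D.simple i.val, a, b,
    by rw [hK.toGood.simple_eq i.isLt]; exact hK.toGood.p_lt i.isLt, ha, hb, rfl⟩)
  rw [map_mul, map_mul, map_inv, mul_inv_eq_one] at h
  simp only [Lift.hC, ofSteinberg, mk_stWord]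
  exact h

theorem inverse_cartan {D : ChevalleyDatum} (hD : D ∈ [chevG2, chevF4, chevE8]) :
    ∃ (K : Data) (B : Matrix (Fin D.rank) (Fin D.rank) ℤ), LiftData K D ∧ cartanMat K D.rank * B = 1 := by
  simp only [List.mem_cons, List.not_mem_nil, or_false] at hD
  rcases hD with rfl | rfl | rfl
  · exact ⟨G2.data, (!![2, 3; 1, 2] : Matrix (Fin 2) (Fin 2) ℤ), ⟨⟨G2.fine, G2.combOK, G2.coweights⟩, _, G2.liftOK⟩,
      (show cartanMat G2.data 2 * (!![2, 3; 1, 2] : Matrix (Fin 2) (Fin 2) ℤ) = 1 by decide +kernel)⟩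
  · exact ⟨F4.data, (!![2, 3, 4, 2; 3, 6, 8, 4; 2, 4, 6, 3; 1, 2, 3, 2] : Matrix (Fin 4) (Fin 4) ℤ), ⟨⟨F4.fine, F4.combOK, F4.coweights⟩, _, F4.liftOK⟩,
      (show cartanMat F4.data 4 * (!![2, 3, 4, 2; 3, 6, 8, 4; 2, 4, 6, 3; 1, 2, 3, 2] : Matrix (Fin 4) (Fin 4) ℤ) = 1 by decide +kernel)⟩
  · exact ⟨E8.data, (!![4, 5, 7, 10, 8, 6, 4, 2; 5, 8, 10, 15, 12, 9, 6, 3; 7, 10, 14, 20, 16, 12, 8, 4; 10, 15, 20, 30, 24, 18, 12, 6; 8, 12, 16, 24, 20, 15, 10, 5; 6, 9, 12, 18, 15, 12, 8, 4; 4, 6, 8, 12, 10, 8, 6, 3; 2, 3, 4, 6, 5, 4, 3, 2] : Matrix (Fin 8) (Fin 8) ℤ), ⟨⟨E8.fine, E8.combOK, E8.coweights⟩, _, E8.liftOK⟩,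
      (show cartanMat E8.data 8 * (!![4, 5, 7, 10, 8, 6, 4, 2; 5, 8, 10, 15, 12, 9, 6, 3; 7, 10, 14, 20, 16, 12, 8, 4; 10, 15, 20, 30, 24, 18, 12, 6; 8, 12, 16, 24, 20, 15, 10, 5; 6, 9, 12, 18, 15, 12, 8, 4; 4, 6, 8, 12, 10, 8, 6, 3; 2, 3, 4, 6, 5, 4, 3, 2] : Matrix (Fin 8) (Fin 8) ℤ) = 1 by decide +kernel)⟩

end Lift

end CfsgLib.Chev
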