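import Cfsg.Agent.Chev.Checks

/-!
Table check: fundamental roots reached from seeds by reflections and one commutator.
-/

set_option autoImplicit false

namespace CfsgLib.Chev.Data

variable (K : Data)

/-- fundamental roots one bond away -/
noncomputable def simpNext (S : List ℕ) : List ℕ :=
  (List.range K.l).filter fun m => (S.any fun k => Nat.beq k m) ||
    S.any fun k => Nat.beq (K.w k (K.w m (K.p k))) (K.p m)

/-- fundamental roots conjugate to the seeds along the diagram -/
noncomputable def simpOrbit (S : List ℕ) : List ℕ :=
  Nat.rec (motive := fun _ => List ℕ) S (fun _ ih => K.simpNext ih) K.l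

/-- roots conjugate to the seeds -/
noncomputable def orbit2 (S : List ℕ) : List ℕ :=
  let O := (K.simpOrbit S).map K.p
  let O1 := O ++ O.flatMap fun r => (List.range K.l).map fun i => K.w i r
  O1 ++ O1.flatMap fun r => (List.range K.l).map fun i => K.w i r

/-- fundamental roots obtained as a single commutator term of conjugates of the seeds -/
noncomputable def commRoots (m : ℕ) (S : List ℕ) : List ℕ :=
  let O := K.orbit2 S
  (List.range K.l).filter fun j => O.any fun r => O.any fun s =>
    !(Nat.beq r s) && !(Nat.beq s (K.neg r)) &&
      match K.comm r s with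
      | [c] => Nat.beq c.1 (K.p j) && Nat.beq c.2.2.1 1 && Nat.beq c.2.2.2 1 &&
          (Nat.beq c.2.1.natAbs 1 || Nat.beq c.2.1.natAbs m)
      | _ => false

/-- every fundamental root is reached -/
noncomputable def genOK (m : ℕ) (S : List ℕ) : Bool :=
  let S1 := K.simpOrbit (K.simpOrbit S ++ K.commRoots m S)
  (List.range K.l).all fun j => S1.any fun k => Nat.beq k j

end CfsgLib.Chev.Data
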