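import Cfsg.Agent.Chev.Checks

/-!
Table checks for simplicity: connectedness of the diagram and roots that are commutators.
-/

set_option autoImplicit false

namespace CfsgLib.Chev.Data

variable (K : Data)

/-- labels one bond away -/
noncomputable def adjNext (S : List ℕ) : List ℕ :=
  (List.range K.l).filter fun m => (S.any fun k => Nat.beq k m) ||
    S.any fun k => !(Nat.beq (K.w k (K.w m (K.p k))) (K.w m (K.w k (K.p k))))

/-- the diagram is connected -/
noncomputable def connOK : Bool :=
  let S := Nat.rec (motive := fun _ => List ℕ) [0] (fun _ ih => K.adjNext ih) K.l
  (List.range K.l).all fun m => S.any fun k => Nat.beq k m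

/-- `v` is the only term of a commutator, with coefficient a unit -/
noncomputable def singleOK (v : ℕ) : Bool :=
  (List.range K.n).any fun r =>
    match K.croot (K.neg r) v 1 with
    | none => false
    | some s => !(Nat.beq r s) && !(Nat.beq s (K.neg r)) && Nat.blt s K.n &&
        match K.comm r s with
        | [c] => Nat.beq c.1 v && Nat.beq c.2.1.natAbs 1 && Nat.beq c.2.2.1 1 && Nat.beq c.2.2.2 1
        | _ => false

/-- `v` is the leading term of a commutator -/
noncomputable def doubleOK (v : ℕ) : Bool :=
  K.singleOK v || (List.range K.n).any fun r =>
    match K.croot (K.neg r) v 1 with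
    | none => false
    | some s => !(Nat.beq r s) && !(Nat.beq s (K.neg r)) && Nat.blt s K.n &&
        match K.comm r s with
        | [c, d] => Nat.beq c.1 v && Nat.beq c.2.1.natAbs 1 && Nat.beq c.2.2.1 1 && Nat.beq c.2.2.2 1 &&
            K.singleOK d.1
        | _ => false

/-- every fundamental root is the leading term of a commutator -/
noncomputable def derivedOK : Bool := (List.range K.l).all fun j => K.doubleOK (K.p j)

/-- some torus element of order two moves the fundamental root -/
noncomputable def oddOK (j : ℕ) : Bool :=
  (List.range K.l).any fun i => Nat.beq ((K.tab.A i (K.p j)).natAbs % 2) 1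

end CfsgLib.Chev.Data
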