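import Cfsg.Agent.Chev.Simple
import Cfsg.Agent.Chev.Run.Simple

/-!
Perfectness and simplicity for each of the seven types.
-/

set_option autoImplicit false
set_option maxRecDepth 100000

namespace CfsgLib.Chev

open Cfsg.Lie

theorem G2.diag_two : ∀ j < 2, G2.data.tab.A j (G2.data.p j) = 2 := by decide +kernel

theorem B2.diag_two : ∀ j < 2, B2.data.tab.A j (B2.data.p j) = 2 := by decide +kernel

theorem B2.short_odd : ∀ j < 2, B2.data.oddOK j = true ∨
    (B2.data.oddOK (1 - j) = true ∧ List.elem j (B2.data.commRoots 2 [1 - j]) = true) := by decide +kernel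

variable {F : Type*} [Field F]

theorem G2.perfect (h : ∃ a : F, a ≠ 0 ∧ a ≠ 1) : commutator ↥(chevG2.group F) = ⊤ :=
  G2.fine.perfect_rank_two h G2.diag_two fun j hj => Or.inl (G2.oddOK j hj)

theorem B2.perfect (h : ∃ a : F, a ≠ 0 ∧ a ≠ 1) : commutator ↥(chevB2.group F) = ⊤ := by
  refine B2.fine.perfect_rank_two h B2.diag_two fun j hj => ?_
  have hj2 : j < 2 := hj
  rcases B2.short_odd j hj2 with h1 | ⟨h1, h2⟩
  · exact Or.inl h1
  · refine Or.inr ⟨1 - j, show 1 - j < 2 by omega, by omega, h1, List.elem_iff.1 h2⟩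

theorem perfect_of_mem {D : ChevalleyDatum}
    (hD : D ∈ [chevG2, chevB2, chevD4, chevF4, chevE6, chevE7, chevE8])
    (h2 : D = chevG2 ∨ D = chevB2 → ∃ a : F, a ≠ 0 ∧ a ≠ 1) : commutator ↥(D.group F) = ⊤ := by
  simp only [List.mem_cons, List.not_mem_nil, or_false] at hD
  rcases hD with rfl | rfl | rfl | rfl | rfl | rfl | rfl
  exacts [G2.perfect (h2 (Or.inl rfl)), B2.perfect (h2 (Or.inr rfl)), D4.fine.perfect_derived D4.derivedOK,
    F4.fine.perfect_derived F4.derivedOK, E6.fine.perfect_derived E6.derivedOK,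
    E7.fine.perfect_derived E7.derivedOK, E8.fine.perfect_derived E8.derivedOK]

theorem simple_of_mem {D : ChevalleyDatum}
    (hD : D ∈ [chevG2, chevB2, chevD4, chevF4, chevE6, chevE7, chevE8])
    (h2 : D = chevG2 ∨ D = chevB2 → ∃ a : F, a ≠ 0 ∧ a ≠ 1) :
    IsSimpleGroup ↥(D.group F) ∧ ¬ IsMulCommutative ↥(D.group F) := by
  have hp := perfect_of_mem hD h2
  simp only [List.mem_cons, List.not_mem_nil, or_false] at hD
  rcases hD with rfl | rfl | rfl | rfl | rfl | rfl | rfl
  exacts [G2.fine.isSimple_of_perfect (by decide) G2.combOK G2.connOK hp,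
    B2.fine.isSimple_of_perfect (by decide) B2.combOK B2.connOK hp,
    D4.fine.isSimple_of_perfect (by decide) D4.combOK D4.connOK hp,
    F4.fine.isSimple_of_perfect (by decide) F4.combOK F4.connOK hp,
    E6.fine.isSimple_of_perfect (by decide) E6.combOK E6.connOK hp,
    E7.fine.isSimple_of_perfect (by decide) E7.combOK E7.connOK hp,
    E8.fine.isSimple_of_perfect (by decide) E8.combOK E8.connOK hp]

end CfsgLib.Chev
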