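import Cfsg.Agent.Chev.CoverBruhat
import Cfsg.Agent.Chev.Presented
import Cfsg.Agent.Chev.SubfieldGroup
import Cfsg.Agent.Chev.SimpleAll

/-!
A group satisfying Steinberg's first two relations is perfect.
-/

set_option autoImplicit false
set_option linter.unusedSectionVars false
set_option maxRecDepth 100000

namespace CfsgLib.Chev

open Cfsg.Lie

variable {K : Data} {D : ChevalleyDatum} {F : Type*} [Field F]

namespace Lift

open Fine

variable {hK : Fine K D} {G : Type*} [Group G]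

/-- the root elements of `r` lie in the derived group -/
def Killed (c : Lift hK F G) (r : ℕ) : Prop := ∀ t : F, c.e r t ∈ commutator G

theorem killed_move (c : Lift hK F G) (hd : LiftData K D) {i r : ℕ} (hi : i < D.rank) (hr : r < D.nroots)
    (h : c.Killed r) : c.Killed (K.w i r) := by
  intro t
  obtain ⟨a, -, ha⟩ := c.lmoves_nC hd ⟨i, hi⟩ (x := (1 : F)) one_ne_zero
  have e := ha ⟨r, hr⟩ (((a r)⁻¹ : Fˣ) * t)
  rw [← mul_assoc, Units.mul_inv, one_mul, sPerm_val] at e
  rw [← e]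
  exact Subgroup.Normal.conj_mem inferInstance _ (h _) _

theorem comm_word_killed (c : Lift hK F G) {r s : ℕ} (hr : r < D.nroots) (hs : s < D.nroots)
    (hsr : s ≠ r) (hneg : s ≠ K.neg r) (t u : F) : c.word (D.commWord F r s t u) ∈ commutator G := by
  have h := c.e_comm r s t u hr hs hsr (by rw [hK.toGood.neg_eq hr, ← hK.toGood.Kneg_eq]; exact hneg)
  rw [word, ← h]
  have := Subgroup.commutator_mem_commutator (Subgroup.mem_top (c.e s u)⁻¹) (Subgroup.mem_top (c.e r t)⁻¹)
  rw [← commutator_def, commutatorElement_def, inv_inv, inv_inv] at this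
  exact this

theorem single_killed (c : Lift hK F G) {v : ℕ} (h : K.singleOK v = true) : c.Killed v := by
  intro t
  simp only [Data.singleOK, List.any_eq_true, List.mem_range, hK.toGood.n_eq] at h
  obtain ⟨r, hr, h⟩ := h
  split at h
  next => simp at h
  next s e =>
    simp only [Bool.and_eq_true, Bool.not_eq_true', Nat.blt_eq] at h
    obtain ⟨⟨⟨h1, h2⟩, hs⟩, hc⟩ := h
    split at hc
    next q e' =>
      simp only [Bool.and_eq_true] at hc
      obtain ⟨⟨⟨e1, e2⟩, e3⟩, e4⟩ := hc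
      have hsr : s ≠ r := by rintro rfl; simp at h1
      have hsneg : s ≠ K.neg r := by rintro rfl; simp at h2
      have hcne : (q.2.1 : F) * (q.2.1 : F) = 1 := by
        rcases Int.natAbs_eq q.2.1 with h5 | h5 <;> rw [h5, Nat.eq_of_beq_eq_true e2] <;> simp
      have hm := c.comm_word_killed hr hs hsr hsneg (-((q.2.1 : F) * t)) 1
      simp only [ChevalleyDatum.commWord, hK.toGood.commTerms_eq hr hs, e', List.map_cons, List.map_nil,
        Nat.eq_of_beq_eq_true e1, Nat.eq_of_beq_eq_true e3, Nat.eq_of_beq_eq_true e4, pow_one, neg_neg,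
        mul_one, ← mul_assoc, hcne, one_mul] at hm
      simpa [word] using hm
    next => simp at hc

theorem double_killed (c : Lift hK F G) {v : ℕ} (h : K.doubleOK v = true) : c.Killed v := by
  intro t
  simp only [Data.doubleOK, Bool.or_eq_true, List.any_eq_true, List.mem_range, hK.toGood.n_eq] at h
  rcases h with h | ⟨r, hr, h⟩
  · exact c.single_killed h t
  split at h
  next => simp at h
  next s e =>
    simp only [Bool.and_eq_true, Bool.not_eq_true', Nat.blt_eq] at h
    obtain ⟨⟨⟨h1, h2⟩, hs⟩, hc⟩ := h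
    split at hc
    next q d e' =>
      simp only [Bool.and_eq_true] at hc
      obtain ⟨⟨⟨⟨e1, e2⟩, e3⟩, e4⟩, e5⟩ := hc
      have hsr : s ≠ r := by rintro rfl; simp at h1
      have hsneg : s ≠ K.neg r := by rintro rfl; simp at h2
      have hcne : (q.2.1 : F) * (q.2.1 : F) = 1 := by
        rcases Int.natAbs_eq q.2.1 with h5 | h5 <;> rw [h5, Nat.eq_of_beq_eq_true e2] <;> simp
      have hm := c.comm_word_killed hr hs hsr hsneg (-((q.2.1 : F) * t)) 1
      simp only [ChevalleyDatum.commWord, hK.toGood.commTerms_eq hr hs, e', List.map_cons, List.map_nil,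
        Nat.eq_of_beq_eq_true e1, Nat.eq_of_beq_eq_true e3, Nat.eq_of_beq_eq_true e4, pow_one, neg_neg,
        one_pow, mul_one, ← mul_assoc, hcne, one_mul, word, List.prod_cons, List.prod_nil] at hm
      exact (Subgroup.mul_mem_cancel_right _ (c.single_killed e5 _)).1 hm
    next => simp at hc

theorem proj_hC (c : Lift hK F G) (i : Fin D.rank) (x : Fˣ) :
    c.proj (c.hC i (x : F)) = tU K D (hParam K (K.p i.val) x) := by
  have h := c.proj_nC_split i x
  rw [c.nC_eq_hC, map_mul, c.proj_nC_one] at h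
  exact mul_right_cancel h

theorem torus_killed (c : Lift hK F G) (hd : LiftData K D) {i j : ℕ} (hi : i < D.rank) (hj : j < D.rank)
    {a : Fˣ} (ha : a ^ K.tab.A i (K.p j) ≠ 1) : c.Killed (K.p j) := by
  intro t
  have hr := hK.toGood.p_lt hj
  obtain ⟨b, -, hb⟩ := c.lmoves_hC hd ⟨i, hi⟩ (x := (a : F)) a.ne_zero
  set z : F := (torusChar K D (hParam K (K.p i) a) (K.p j) : F) with hzdef
  have hz : z ≠ 1 := by
    rw [hzdef, hK.torusChar_hParam, hK.pair_simple hi, ne_eq, Units.val_eq_one]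
    exact ha
  have hbz : ((b (K.p j) : F)) = z := by
    have e := congrArg c.proj (hb ⟨K.p j, hr⟩ 1)
    simp only [map_mul, map_inv, c.proj_e, c.proj_hC, hK.tU_conj_xU _ hr, mul_one,
      Equiv.Perm.one_apply] at e
    exact (hK.xU_inj hr e).symm
  have hne : z - 1 ≠ 0 := sub_ne_zero.2 hz
  have e := hb ⟨K.p j, hr⟩ (t / (z - 1))
  simp only [Equiv.Perm.one_apply, hbz] at e
  have h := Subgroup.commutator_mem_commutator (Subgroup.mem_top (c.hC ⟨i, hi⟩ (a : F)))
    (Subgroup.mem_top (c.e (K.p j) (t / (z - 1))))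
  rw [← commutator_def, commutatorElement_def, e, c.e_inv, c.e_add] at h
  rwa [show z * (t / (z - 1)) + -(t / (z - 1)) = t by field_simp; ring] at h

theorem eq_top_of_killed (c : Lift hK F G) (hd : LiftData K D) (h : ∀ j < D.rank, c.Killed (K.p j)) :
    commutator G = ⊤ := by
  have hG := hK.toGood
  have hneg : ∀ j < D.rank, c.Killed (K.neg (K.p j)) := fun j hj => by
    have := c.killed_move hd hj (hG.p_lt hj) (h j hj)
    rwa [hG.w_p hj] at this
  have hall : ∀ r, r < D.nroots → K.npos ≤ r → c.Killed r ∧ c.Killed (K.neg r) := by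
    intro r
    induction r using Nat.strong_induction_on with
    | _ r ih =>
      intro hr hpos
      obtain ⟨i, hi, e | ⟨h1, h2⟩⟩ := hK.desc hr hpos
      · subst e; exact ⟨h i hi, hneg i hi⟩
      · have hw := hG.w_lt hi hr
        obtain ⟨ih1, ih2⟩ := ih _ h2 hw h1
        refine ⟨?_, ?_⟩
        · have := c.killed_move hd hi hw ih1
          rwa [hG.w_w hi hr] at this
        · have := c.killed_move hd hi (hG.Kneg_lt hw) ih2
          rwa [hG.w_neg hi hw, hG.w_w hi hr] at this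
  rw [eq_top_iff, ← c.gen, Subgroup.closure_le]
  rintro _ ⟨r, t, rfl⟩
  by_cases hr : r < D.nroots
  · have h2 := hG.nroots_eq_two_mul
    rcases Nat.lt_or_ge r K.npos with hlt | hge
    · have := (hall (K.neg r) (hG.Kneg_lt hr) (by rw [hG.Kneg_eq]; omega)).2 t
      rwa [hG.Kneg_Kneg hr] at this
    · exact (hall r hr hge).1 t
  · rw [c.e_out r t hr]; exact one_mem _

theorem perfect_derived (c : Lift hK F G) (hd : LiftData K D) (h : K.derivedOK = true) :
    commutator G = ⊤ := by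
  refine c.eq_top_of_killed hd fun j hj => ?_
  simp only [Data.derivedOK, List.all_eq_true, List.mem_range, hK.toGood.l_eq] at h
  exact c.double_killed (h j hj)

theorem perfect_rank_two (c : Lift hK F G) (hd : LiftData K D) (ha : ∃ a : F, a ≠ 0 ∧ a ≠ 1)
    (hA : ∀ j < D.rank, K.tab.A j (K.p j) = 2)
    (h : ∀ j < D.rank, K.oddOK j = true ∨
      ∃ i < D.rank, i ≠ j ∧ K.oddOK i = true ∧ j ∈ K.commRoots 2 [i]) :
    commutator G = ⊤ := by
  refine c.eq_top_of_killed hd fun j hj => ?_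
  rcases Fine.exists_unit_of ha with ⟨b, hb⟩ | ⟨h1, h2⟩
  · exact c.torus_killed hd hj hj (a := b) (by rw [hA j hj]; exact hb)
  have hodd : ∀ i < D.rank, K.oddOK i = true → c.Killed (K.p i) := by
    intro i hi ho
    simp only [Data.oddOK, List.any_eq_true, List.mem_range, hK.toGood.l_eq] at ho
    obtain ⟨k, hk, e⟩ := ho
    refine c.torus_killed hd hk hi (a := -1) ?_
    have : Odd (K.tab.A k (K.p i)) := Int.natAbs_odd.1 (Nat.odd_iff.2 (Nat.eq_of_beq_eq_true e))
    rw [this.neg_one_zpow]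
    exact h1
  rcases h j hj with hj' | ⟨i, hi, -, hio, hmem⟩
  · exact hodd j hj hj'
  have hO : ∀ k ∈ K.simpOrbit [i], k < D.rank ∧ c.Killed (K.p k) := by
    have step : ∀ T : List ℕ, (∀ k ∈ T, k < D.rank ∧ c.Killed (K.p k)) →
        ∀ k ∈ K.simpNext T, k < D.rank ∧ c.Killed (K.p k) := by
      intro T hT n hn
      simp only [Data.simpNext, List.mem_filter, List.mem_range, Bool.or_eq_true, List.any_eq_true,
        hK.toGood.l_eq] at hn
      obtain ⟨hnl, ⟨k, hk, e⟩ | ⟨k, hk, e⟩⟩ := hn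
      · exact Nat.eq_of_beq_eq_true e ▸ hT k hk
      · obtain ⟨hkl, hkM⟩ := hT k hk
        refine ⟨hnl, ?_⟩
        rw [← Nat.eq_of_beq_eq_true e]
        exact c.killed_move hd hkl (hK.toGood.w_lt hnl (hK.toGood.p_lt hkl))
          (c.killed_move hd hnl (hK.toGood.p_lt hkl) hkM)
    unfold Data.simpOrbit
    induction K.l with
    | zero =>
      intro k hk
      change k ∈ [i] at hk
      rw [List.mem_singleton] at hk
      subst hk
      exact ⟨hi, hodd k hi hio⟩
    | succ n ih => exact step _ ih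
  have hroot : ∀ r ∈ K.orbit2 [i], r < D.nroots ∧ c.Killed r := by
    have hmove : ∀ r, r < D.nroots ∧ c.Killed r → ∀ n < D.rank, K.w n r < D.nroots ∧ c.Killed (K.w n r) :=
      fun r hr n hn => ⟨hK.toGood.w_lt hn hr.1, c.killed_move hd hn hr.1 hr.2⟩
    intro r hr
    simp only [Data.orbit2, List.mem_append, List.mem_flatMap, List.mem_map, List.mem_range,
      hK.toGood.l_eq] at hr
    rcases hr with (⟨k, hk, rfl⟩ | ⟨s, ⟨k, hk, rfl⟩, n, hn, rfl⟩) |
      ⟨s, (⟨k, hk, rfl⟩ | ⟨s', ⟨k, hk, rfl⟩, n', hn', rfl⟩), n, hn, rfl⟩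
    · exact ⟨hK.toGood.p_lt (hO k hk).1, (hO k hk).2⟩
    · exact hmove _ ⟨hK.toGood.p_lt (hO k hk).1, (hO k hk).2⟩ n hn
    · exact hmove _ ⟨hK.toGood.p_lt (hO k hk).1, (hO k hk).2⟩ n hn
    · exact hmove _ (hmove _ ⟨hK.toGood.p_lt (hO k hk).1, (hO k hk).2⟩ n' hn') n hn
  intro t
  simp only [Data.commRoots, List.mem_filter, List.mem_range, List.any_eq_true, Bool.and_eq_true,
    Bool.not_eq_true', hK.toGood.l_eq] at hmem
  obtain ⟨-, r, hr, s, hs, ⟨hne, hneg⟩, hc⟩ := hmem
  split at hc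
  next q e =>
    simp only [Bool.and_eq_true, Bool.or_eq_true] at hc
    obtain ⟨⟨⟨e1, e2⟩, e3⟩, e4⟩ := hc
    have hcne : (q.2.1 : F) ≠ 0 := by
      rcases e4 with h4 | h4 <;> have h4' := Nat.eq_of_beq_eq_true h4 <;>
        rcases Int.natAbs_eq q.2.1 with h5 | h5 <;> rw [h5, h4'] <;> simp [h2]
    have hsr : s ≠ r := by rintro rfl; simp at hne
    have hsneg : s ≠ K.neg r := by rintro rfl; simp at hneg
    have hm := c.comm_word_killed (hroot r hr).1 (hroot s hs).1 hsr hsneg (-(t / (q.2.1 : F))) 1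
    simp only [ChevalleyDatum.commWord, hK.toGood.commTerms_eq (hroot r hr).1 (hroot s hs).1, e,
      List.map_cons, List.map_nil, Nat.eq_of_beq_eq_true e1, Nat.eq_of_beq_eq_true e2,
      Nat.eq_of_beq_eq_true e3, pow_one, neg_neg, mul_one, mul_div_cancel₀ t hcne] at hm
    simpa [word] using hm
  next => simp at hc

end Lift

theorem cover_perfect {F : Type*} [Field F] {D : ChevalleyDatum}
    (hD : D ∈ [chevG2, chevB2, chevD4, chevF4, chevE6, chevE7, chevE8])
    (h2 : D ∈ [chevB2, chevG2] → ∃ a : F, a ≠ 0 ∧ a ≠ 1) : commutator (D.SteinbergCover F) = ⊤ := by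
  simp only [List.mem_cons, List.not_mem_nil, or_false] at hD
  rcases hD with rfl | rfl | rfl | rfl | rfl | rfl | rfl
  · exact (Lift.ofCover G2.fine F).perfect_rank_two ⟨⟨G2.fine, G2.combOK, G2.coweights⟩, _, G2.liftOK⟩
      (h2 (by simp)) G2.diag_two fun j hj => Or.inl (G2.oddOK j hj)
  · refine (Lift.ofCover B2.fine F).perfect_rank_two ⟨⟨B2.fine, B2.combOK, B2.coweights⟩, _, B2.liftOK⟩
      (h2 (by simp)) B2.diag_two fun j hj => ?_
    have hj2 : j < 2 := hj
    rcases B2.short_odd j hj2 with h1 | ⟨h1, h2'⟩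
    · exact Or.inl h1
    · exact Or.inr ⟨1 - j, show 1 - j < 2 by omega, by omega, h1, List.elem_iff.1 h2'⟩
  · exact (Lift.ofCover D4.fine F).perfect_derived ⟨⟨D4.fine, D4.combOK, D4.coweights⟩, _, D4.liftOK⟩ D4.derivedOK
  · exact (Lift.ofCover F4.fine F).perfect_derived ⟨⟨F4.fine, F4.combOK, F4.coweights⟩, _, F4.liftOK⟩ F4.derivedOK
  · exact (Lift.ofCover E6.fine F).perfect_derived ⟨⟨E6.fine, E6.combOK, E6.coweights⟩, _, E6.liftOK⟩ E6.derivedOK
  · exact (Lift.ofCover E7.fine F).perfect_derived ⟨⟨E7.fine, E7.combOK, E7.coweights⟩, _, E7.liftOK⟩ E7.derivedOK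
  · exact (Lift.ofCover E8.fine F).perfect_derived ⟨⟨E8.fine, E8.combOK, E8.coweights⟩, _, E8.liftOK⟩ E8.derivedOK

end CfsgLib.Chev
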