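import Cfsg.Agent.Chev.Checks

/-!
Table checks on the reflections: orders of products, the centre, generation.
-/

set_option autoImplicit false

namespace CfsgLib.Chev.Data

variable (K : Data)

/-- the image of a root under a word -/
noncomputable def appW (L : List ℕ) (r : ℕ) : ℕ :=
  List.rec (motive := fun _ => ℕ → ℕ) (fun x => x) (fun i _ ih x => K.w i (ih x)) L r

/-- iterate a word -/
noncomputable def iterW (L : List ℕ) (m r : ℕ) : ℕ :=
  Nat.rec (motive := fun _ => ℕ) r (fun _ x => K.appW L x) m

/-- `m` is the order of the product of two fundamental reflections -/
noncomputable def pairOrdOK (i j m : ℕ) : Bool :=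
  ((List.range K.n).all fun r => Nat.beq (K.iterW [i, j] m r) r) &&
    (List.range m).all fun d => Nat.beq d 0 || (List.range K.n).any fun r => !(Nat.beq (K.iterW [i, j] d r) r)

/-- `m` is the order of the word `L` -/
noncomputable def wordOrdOK (L : List ℕ) (m : ℕ) : Bool :=
  ((List.range K.n).all fun r => Nat.beq (K.iterW L m r) r) &&
    (List.range m).all fun d => Nat.beq d 0 || (List.range K.n).any fun r => !(Nat.beq (K.iterW L d r) r)

/-- one greedy step towards the longest element: the images of all roots and a word -/
noncomputable def longStep (st : List ℕ × List ℕ) : List ℕ × List ℕ :=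
  match (List.range K.l).find? fun i => Nat.ble K.npos (st.1.getD (K.p i) 0) with
  | none => st
  | some i => ((List.range K.n).map fun r => st.1.getD (K.w i r) 0, st.2 ++ [i])

/-- a word for the longest element -/
noncomputable def longWord : List ℕ :=
  (Nat.rec (motive := fun _ => List ℕ × List ℕ) (List.range K.n, []) (fun _ st => K.longStep st) K.npos).2

/-- the longest word sends the fundamental roots to negative roots -/
noncomputable def longOK : Bool :=
  (K.longWord.all fun i => Nat.blt i K.l) &&
    (List.range K.l).all fun j => Nat.blt (K.appW K.longWord (K.p j)) K.npos

/-- only the root and its negative are reversed by a fundamental reflection -/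
noncomputable def revOK : Bool :=
  (List.range K.l).all fun i => (List.range K.n).all fun r =>
    !(Nat.beq (K.w i r) (K.neg r)) || Nat.beq r (K.p i) || Nat.beq r (K.neg (K.p i))

/-- some power of the Coxeter word is minus the identity -/
noncomputable def negPowOK (L : List ℕ) (m : ℕ) : Bool :=
  (List.range K.n).all fun r => Nat.beq (K.iterW L m r) (K.neg r)

/-- the longest element is not minus the identity -/
noncomputable def notNegOK : Bool :=
  (List.range K.l).any fun j => !(Nat.beq (K.appW K.longWord (K.p j)) (K.neg (K.p j)))

/-- the word spelled by tokens: `0` the Coxeter word, `k + 1` the `k`th seed -/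
noncomputable def tokWord (c T : List ℕ) (L : List ℕ) : List ℕ :=
  List.rec (motive := fun _ => List ℕ) []
    (fun t _ ih => (match t with | 0 => c | k + 1 => [T.getD k 0]) ++ ih) L

/-- every fundamental root, except at most `skip`, is reached from the seeds -/
noncomputable def reachOK (c T : List ℕ) (skip : Option ℕ) (W : List (ℕ × List ℕ)) : Bool :=
  (List.range K.l).all fun j =>
    (match skip with | none => false | some k => Nat.beq k j) ||
      match W[j]? with
      | none => false
      | some (a, L) => Nat.blt a T.length && (L.all fun t => Nat.ble t T.length) &&
          Nat.beq (K.appW (tokWord c T L) (K.p (T.getD a 0))) (K.p j)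

/-- the top root involves every fundamental root -/
noncomputable def fullOK : Bool :=
  (List.range K.l).all fun k => !(intEq (K.tab.C (K.n - 1) k) 0)

end CfsgLib.Chev.Data
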