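import Cfsg.Agent.Chev.Bruhat
import Cfsg.Agent.Chev.CoxeterCheck
import Cfsg.Agent.Base.BNPairCoxeter

/-!
The Weyl group generated by the reflections is the abstract Coxeter group.
-/

set_option autoImplicit false

namespace CfsgLib.Chev

open Cfsg.Lie CfsgLib.Base

variable {K : Data} {D : ChevalleyDatum}

/-- the orders of products of fundamental reflections are given by `M` -/
def CoxOK (K : Data) {l : ℕ} (M : CoxeterMatrix (Fin l)) : Prop :=
  ∀ i j : Fin l, 0 < M i j ∧ K.pairOrdOK i.val j.val (M i j) = true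

namespace Fine

theorem appW_eq (hK : Fine K D) : ∀ (L : List (Fin D.rank)) (r : Fin D.nroots),
    (wPerm hK L r).val = K.appW (L.map Fin.val) r.val := by
  intro L
  induction L with
  | nil => intro r; rfl
  | cons i L ih =>
    intro r
    rw [hK.wPerm_cons, Equiv.Perm.mul_apply, sPerm_val, ih]
    rfl

theorem iterW_eq (hK : Fine K D) (L : List (Fin D.rank)) : ∀ (m : ℕ) (r : Fin D.nroots),
    ((wPerm hK L ^ m) r).val = K.iterW (L.map Fin.val) m r.val := by
  intro m
  induction m with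
  | zero => intro r; rfl
  | succ m ih =>
    intro r
    rw [pow_succ', Equiv.Perm.mul_apply, hK.appW_eq, ih]
    rfl

theorem orderOf_wPerm (hK : Fine K D) (L : List (Fin D.rank)) {m : ℕ}
    (h : K.wordOrdOK (L.map Fin.val) m = true) (hm : 0 < m) : orderOf (wPerm hK L) = m := by
  simp only [Data.wordOrdOK, Bool.and_eq_true, List.all_eq_true, List.any_eq_true, List.mem_range,
    Bool.or_eq_true, Bool.not_eq_true', hK.toGood.n_eq] at h
  rw [orderOf_eq_iff hm]
  refine ⟨Equiv.ext fun r => Fin.ext ?_, fun d hd hd0 hd1 => ?_⟩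
  · rw [hK.iterW_eq]; exact Nat.eq_of_beq_eq_true (h.1 r r.isLt)
  · rcases h.2 d hd with h' | ⟨r, hr, h'⟩
    · exact hd0.ne' (Nat.eq_of_beq_eq_true h')
    · have e := congrArg Fin.val (Equiv.ext_iff.1 hd1 ⟨r, hr⟩)
      rw [hK.iterW_eq] at e
      simp only [Equiv.Perm.one_apply] at e
      rw [e] at h'
      simp at h'

theorem orderOf_pair (hK : Fine K D) {i j : Fin D.rank} {m : ℕ} (h : K.pairOrdOK i.val j.val m = true)
    (hm : 0 < m) : orderOf (sPerm hK i * sPerm hK j) = m := by
  have e : sPerm hK i * sPerm hK j = wPerm hK [i, j] := by simp [wPerm]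
  rw [e]
  exact hK.orderOf_wPerm [i, j] h hm

theorem sPerm_orderOf_pos (hK : Fine K D) {i j : Fin D.rank} {m : ℕ} (h : K.pairOrdOK i.val j.val m = true) :
    (sPerm hK i * sPerm hK j) ^ m = 1 := by
  have e : sPerm hK i * sPerm hK j = wPerm hK [i, j] := by simp [wPerm]
  simp only [Data.pairOrdOK, Bool.and_eq_true, List.all_eq_true, List.mem_range, hK.toGood.n_eq] at h
  rw [e]
  exact Equiv.ext fun r => Fin.ext (by rw [hK.iterW_eq]; exact Nat.eq_of_beq_eq_true (h.1 r r.isLt))

section BN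

variable (F : Type*) [Field F]

theorem sU_mem_simpleReps (hK : Fine K D) (i : Fin D.rank) :
    (⟨sU hK i.val, hK.monomial_le_group (hK.sU_mem_monomial i.isLt)⟩ : ↥(D.group F)) ∈ (hK.bnPair F).S :=
  ⟨i.val, i.isLt, coe_sU hK i.val⟩

/-- the permutation of the roots attached to a monomial element -/
noncomputable def monPerm (hK : Fine K D) :
    ↥(D.monomialSubgroup F) →* Equiv.Perm (Fin D.nroots) where
  toFun n := wPerm hK (hK.exists_moves n.2).choose
  map_one' := hK.moves_unique (hK.exists_moves (1 : ↥(D.monomialSubgroup F)).2).choose_spec hK.moves_one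
  map_mul' a b := hK.moves_unique (hK.exists_moves (a * b).2).choose_spec
    (hK.moves_mul (hK.exists_moves a.2).choose_spec (hK.exists_moves b.2).choose_spec)

theorem monPerm_moves (hK : Fine K D) (n : ↥(D.monomialSubgroup F)) :
    Moves hK (n : GL D.Idx F) (hK.monPerm F n) := (hK.exists_moves n.2).choose_spec

theorem monPerm_ker (hK : Fine K D) :
    (hK.monPerm F).ker = (D.diagonalSubgroup F).subgroupOf (D.monomialSubgroup F) := by
  ext n
  rw [MonoidHom.mem_ker, Subgroup.mem_subgroupOf]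
  exact ⟨fun h => hK.mem_diagonal_of_moves_one n.2 (h ▸ hK.monPerm_moves F n),
    fun h => hK.moves_unique (hK.monPerm_moves F n) (hK.moves_diagonal h)⟩

/-- the permutation of the roots attached to an element of the Weyl group of the pair -/
noncomputable def bnPerm (hK : Fine K D) : (hK.bnPair F).N →* Equiv.Perm (Fin D.nroots) :=
  (hK.monPerm F).comp
    ({ toFun := fun n => ⟨(n : ↥(D.group F)).val, Subgroup.mem_subgroupOf.1 n.2⟩
       map_one' := rfl
       map_mul' := fun _ _ => rfl } : (hK.bnPair F).N →* ↥(D.monomialSubgroup F))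

theorem bnPerm_ker (hK : Fine K D) (n : (hK.bnPair F).N) :
    hK.bnPerm F n = 1 ↔ BN.π (hK.bnPair F) n = 1 := by
  rw [BN.π_eq_one]
  show hK.monPerm F ⟨(n : ↥(D.group F)).val, _⟩ = 1 ↔ _
  rw [← MonoidHom.mem_ker, hK.monPerm_ker F, Subgroup.mem_subgroupOf, hK.bnPair_B]
  rw [Subgroup.mem_subgroupOf]
  refine ⟨fun h => Subgroup.mem_sup_right h, fun h => ?_⟩
  have hn : ((n : ↥(D.group F)) : GL D.Idx F) ∈ D.borelSubgroup F ⊓ D.monomialSubgroup F :=
    ⟨h, Subgroup.mem_subgroupOf.1 n.2⟩
  rwa [hK.borel_inf_monomial] at hn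

include F in
/-- the Coxeter group maps isomorphically onto the Weyl group -/
theorem exists_coxeterEquiv (hK : Fine K D) (M : CoxeterMatrix (Fin D.rank))
    (hM : CoxOK K M) :
    ∃ φ : M.Group →* Equiv.Perm (Fin D.nroots), Function.Injective φ ∧ φ.range = weylGrp hK ∧
      ∀ i, φ (M.simple i) = sPerm hK i := by
  classical
  set P := hK.bnPair F
  let lab : Fin D.rank → P.S := fun i => ⟨_, hK.sU_mem_simpleReps F i⟩
  let cs := M.toCoxeterSystem
  have hlift : CoxeterMatrix.IsLiftable M (sPerm hK) := fun i j => hK.sPerm_orderOf_pos (hM i j).2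
  let φ := cs.lift ⟨sPerm hK, hlift⟩
  have hφ : ∀ i, φ (M.simple i) = sPerm hK i := fun i => cs.lift_apply_simple hlift i
  obtain ⟨M', cs', hcs'⟩ := BN.exists_coxeterSystem P
  have hperm : ∀ i, hK.bnPerm F ⟨(lab i : ↥(D.group F)), P.subset (lab i).2⟩ = sPerm hK i := fun i =>
    hK.moves_unique (hK.monPerm_moves F _) (hK.moves_sU i)
  have hgen : ∀ i j : Fin D.rank, ∀ m : ℕ, (sPerm hK i * sPerm hK j) ^ m = 1 →
      (BN.gen P (lab i) * BN.gen P (lab j)) ^ m = 1 := by
    intro i j m h
    have e : BN.π P ((⟨(lab i : ↥(D.group F)), P.subset (lab i).2⟩ *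
        ⟨(lab j : ↥(D.group F)), P.subset (lab j).2⟩ : P.N) ^ m) = 1 := by
      rw [← hK.bnPerm_ker F, map_pow, map_mul, hperm, hperm, h]
    exact e
  have hsurj : ∀ s : P.S, ∃ i, lab i = s := by
    rintro ⟨n, i, hi, e⟩
    exact ⟨⟨i, hi⟩, Subtype.ext (Subtype.ext (Units.ext ((coe_sU hK i).trans e.symm)))⟩
  have hlift2 : CoxeterMatrix.IsLiftable M fun i => BN.gen P (lab i) := fun i j =>
    hgen i j _ (hlift i j)
  let ψ := cs.lift ⟨fun i => BN.gen P (lab i), hlift2⟩
  have hψ : ∀ i, ψ (M.simple i) = BN.gen P (lab i) := fun i => cs.lift_apply_simple hlift2 i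
  have hlift3 : CoxeterMatrix.IsLiftable M' fun s => M.simple (hsurj s).choose := by
    intro s t
    set i := (hsurj s).choose
    set j := (hsurj t).choose
    have hs : lab i = s := (hsurj s).choose_spec
    have ht : lab j = t := (hsurj t).choose_spec
    have h1 : (BN.gen P (lab i) * BN.gen P (lab j)) ^ M' s t = 1 := by
      rw [hs, ht, ← hcs' s, ← hcs' t]; exact cs'.simple_mul_simple_pow s t
    have h2 : (sPerm hK i * sPerm hK j) ^ M' s t = 1 := by
      rw [← hperm i, ← hperm j, ← map_mul, ← map_pow, hK.bnPerm_ker F]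
      exact h1
    obtain ⟨k, hk⟩ : M i j ∣ M' s t := by
      rw [← hK.orderOf_pair (hM i j).2 (hM i j).1]
      exact orderOf_dvd_of_pow_eq_one h2
    show (M.simple i * M.simple j) ^ M' s t = 1
    rw [hk, pow_mul, show (M.simple i * M.simple j) ^ M i j = 1 from cs.simple_mul_simple_pow i j, one_pow]
  let θ := cs'.lift ⟨_, hlift3⟩
  have hinj_lab : ∀ i j, lab i = lab j → i = j := fun i j h => by
    have h' : (sU hK i.val : GL D.Idx F) = sU hK j.val := congrArg (fun s : P.S => ((s : ↥(D.group F)) : GL D.Idx F)) h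
    exact Fin.ext (hK.sU_inj_mod i.isLt j.isLt (by rw [h', inv_mul_cancel]; exact Subgroup.one_mem _))
  have hθψ : θ.comp ψ = MonoidHom.id M.Group := by
    refine cs.ext_simple fun i => ?_
    show θ (ψ (M.simple i)) = M.simple i
    rw [hψ, ← hcs' (lab i)]
    show cs'.lift ⟨_, hlift3⟩ (cs'.simple (lab i)) = _
    rw [cs'.lift_apply_simple hlift3, hinj_lab _ i (hsurj (lab i)).choose_spec]
  have hrel : ∀ x : M.Group, ∃ n : P.N, BN.π P n = ψ x ∧ hK.bnPerm F n = φ x := by
    intro x
    induction x using cs.simple_induction_left with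
    | one => exact ⟨1, by rw [map_one]; rfl, by rw [map_one, map_one]⟩
    | mul_simple_left w i ih =>
      obtain ⟨n, h1, h2⟩ := ih
      refine ⟨⟨(lab i : ↥(D.group F)), P.subset (lab i).2⟩ * n, ?_, ?_⟩
      · rw [map_mul, show cs.simple i = M.simple i from rfl, hψ, ← h1]; rfl
      · rw [map_mul, map_mul, show cs.simple i = M.simple i from rfl, hφ, hperm, h2]
  refine ⟨φ, ?_, ?_, hφ⟩
  · rw [injective_iff_map_eq_one]
    intro x hx
    obtain ⟨n, h1, h2⟩ := hrel x
    have hx1 : ψ x = 1 := by rw [← h1, ← hK.bnPerm_ker F, h2, hx]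
    have := DFunLike.congr_fun hθψ x
    simp only [MonoidHom.comp_apply, MonoidHom.id_apply, hx1, map_one] at this
    exact this.symm
  · rw [MonoidHom.range_eq_map, ← cs.subgroup_closure_range_simple, MonoidHom.map_closure]
    unfold weylGrp
    congr 1
    ext σ
    constructor
    · rintro ⟨_, ⟨i, rfl⟩, rfl⟩; exact ⟨i, (hφ i).symm⟩
    · rintro ⟨i, rfl⟩; exact ⟨_, ⟨i, rfl⟩, hφ i⟩

end BN

end Fine

end CfsgLib.Chev
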