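import Cfsg.Agent.Chev.Poincare
import Cfsg.Agent.Chev.HCard

/-!
The order of the group over a finite field through the length generating function.
-/

set_option autoImplicit false

namespace CfsgLib.Chev

open Cfsg.Lie

variable {K : Data} {D : ChevalleyDatum} {F : Type*} [Field F]

namespace Fine

theorem card_group_int (hK : Fine K D) [Fintype F] :
    (Nat.card (D.group F) : ℤ) = (Fintype.card F : ℤ) ^ (D.nroots / 2) *
      (Nat.card (D.diagonalSubgroup F) : ℤ) *
      lenSum K D (weylGrp hK) (Fintype.card F : ℤ) := by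
  classical
  rw [hK.card_group_sum, hK.card_borel, hK.card_pos, lenSum, finsum_eq_sum_of_fintype]
  push_cast
  rfl

/-- `d · |G| = q ^ N · P` from `d · |H| = (q - 1) ^ l` and the factorisation of the length sum -/
theorem card_group_mul (hK : Fine K D) [Fintype F] {l : ℕ} (d P : ℕ)
    (hH : d * Nat.card (D.diagonalSubgroup F) = (Fintype.card F - 1) ^ l)
    (hl : lenSum K D (weylGrp hK) (Fintype.card F : ℤ) * ((Fintype.card F : ℤ) - 1) ^ l = (P : ℤ)) :
    d * Nat.card (D.group F) = Fintype.card F ^ (D.nroots / 2) * P := by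
  have h1 : 1 < Fintype.card F := Fintype.one_lt_card
  have hH' : (d : ℤ) * (Nat.card (D.diagonalSubgroup F) : ℤ) = ((Fintype.card F : ℤ) - 1) ^ l := by
    have := congrArg (fun n : ℕ => (n : ℤ)) hH
    push_cast [Nat.cast_sub h1.le] at this
    exact this
  have hg := hK.card_group_int (F := F)
  have : ((d * Nat.card (D.group F) : ℕ) : ℤ) = ((Fintype.card F ^ (D.nroots / 2) * P : ℕ) : ℤ) := by
    push_cast
    rw [hg, ← hl, ← hH']
    ring
  exact_mod_cast this

end Fine

theorem cast_pow_sub_one {q : ℕ} (hq : 1 < q) (k : ℕ) :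
    ((q ^ k - 1 : ℕ) : ℤ) = (q : ℤ) ^ k - 1 := by
  rw [Nat.cast_sub (Nat.one_le_pow _ _ (by omega))]
  push_cast
  rfl

end CfsgLib.Chev
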