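import Cfsg.Agent.Chev.Bruhat
import Cfsg.Agent.Chev.PoinCheck

/-!
The length generating function of the Weyl group from a chain of coset representatives.
-/

set_option autoImplicit false

namespace CfsgLib.Chev

open Cfsg.Lie

variable {K : Data} {D : ChevalleyDatum}

/-- generated by the first `k` reflections -/
noncomputable def weylFirst (hK : Fine K D) (k : ℕ) : Subgroup (Equiv.Perm (Fin D.nroots)) :=
  Subgroup.closure {σ | ∃ i : Fin D.rank, i.val < k ∧ σ = sPerm hK i}

/-- certificate data for one level -/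
structure Level (hK : Fine K D) (k : ℕ) (R : List Rep) : Prop where
  chk : K.levelOK k R = true
  coef : K.coefOK = true

/-- the generating function of lengths over a subgroup -/
noncomputable def lenSum {R : Type*} [CommSemiring R] (K : Data) (D : ChevalleyDatum)
    (W : Subgroup (Equiv.Perm (Fin D.nroots))) (x : R) : R :=
  ∑ᶠ σ : W, x ^ Nat.card (invSet K D σ.val)

namespace Fine

theorem weylFirst_all (hK : Fine K D) : weylFirst hK D.rank = weylGrp hK := by
  unfold weylFirst weylGrp
  congr 1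
  ext σ
  constructor
  · rintro ⟨i, -, rfl⟩; exact ⟨i, rfl⟩
  · rintro ⟨i, rfl⟩; exact ⟨i, i.isLt, rfl⟩

theorem weylFirst_zero (hK : Fine K D) : weylFirst hK 0 = ⊥ := by
  refine eq_bot_iff.2 ((Subgroup.closure_le _).2 ?_)
  rintro σ ⟨i, hi, -⟩
  omega

theorem weylFirst_mono (hK : Fine K D) {j k : ℕ} (h : j ≤ k) :
    weylFirst hK j ≤ weylFirst hK k :=
  Subgroup.closure_mono fun _ ⟨i, hi, e⟩ => ⟨i, lt_of_lt_of_le hi h, e⟩

theorem weylFirst_le (hK : Fine K D) (k : ℕ) : weylFirst hK k ≤ weylGrp hK :=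
  Subgroup.closure_mono fun _ ⟨i, _, e⟩ => ⟨i, e.symm⟩

/-- two elements of the Weyl group agreeing on the fundamental roots are equal -/
theorem weyl_ext (hK : Fine K D) {σ τ : Equiv.Perm (Fin D.nroots)} (hσ : σ ∈ weylGrp hK)
    (hτ : τ ∈ weylGrp hK) (h : ∀ i : Fin D.rank, σ (pFin hK i) = τ (pFin hK i)) : σ = τ := by
  obtain ⟨L, hL⟩ := hK.mem_weylGrp_iff.1
    (Subgroup.mul_mem _ (Subgroup.inv_mem _ hσ) hτ : σ⁻¹ * τ ∈ weylGrp hK)
  by_contra hne
  have hL1 : wPerm hK L ≠ 1 := by
    rw [hL]
    intro h1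
    exact hne (inv_mul_eq_one.1 h1)
  obtain ⟨j, hj⟩ := hK.exists_descent L.length L le_rfl hL1
  rw [hL, Equiv.Perm.mul_apply, ← h j, show σ⁻¹ (σ (pFin hK j)) = pFin hK j from σ.symm_apply_apply _] at hj
  have := hK.toGood.npos_le_p j.isLt
  simp only [pFin] at hj
  omega

theorem coef_w (hK : Fine K D) (hc : K.coefOK = true) {i j : ℕ} (hi : i < D.rank) (hj : j < D.rank)
    (hne : i ≠ j) {r : ℕ} (hr : r < D.nroots) : K.tab.C (K.w i r) j = K.tab.C r j := by
  simp only [Data.coefOK, List.all_eq_true, List.mem_range, Bool.or_eq_true, intEq_iff,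
    hK.toGood.l_eq, hK.toGood.n_eq] at hc
  rcases hc i hi j hj with h | h
  · exact absurd (Nat.eq_of_beq_eq_true h) hne
  · exact h r hr

/-- the coefficients beyond the first `m` are invariant -/
theorem coef_invariant (hK : Fine K D) (hc : K.coefOK = true) {m : ℕ}
    {v : Equiv.Perm (Fin D.nroots)} (hv : v ∈ weylFirst hK m) :
    ∀ (r : Fin D.nroots) (j : ℕ), j < D.rank → m ≤ j →
      K.tab.C (v r).val j = K.tab.C r.val j := by
  induction hv using Subgroup.closure_induction_left with
  | one => intro r j _ _; rfl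
  | mul_left x hx y _ hy =>
    obtain ⟨i, hi, rfl⟩ := hx
    intro r j hj hm
    rw [Equiv.Perm.mul_apply, sPerm_val,
      hK.coef_w hc i.isLt hj (by omega) (y r).isLt, hy r j hj hm]
  | inv_mul_cancel x hx y _ hy =>
    obtain ⟨i, hi, rfl⟩ := hx
    intro r j hj hm
    rw [hK.sPerm_inv, Equiv.Perm.mul_apply, sPerm_val,
      hK.coef_w hc i.isLt hj (by omega) (y r).isLt, hy r j hj hm]

theorem inFirst_iff (hK : Fine K D) (m r : ℕ) :
    K.inFirst m r = true ↔ ∀ i < D.rank, m ≤ i → K.tab.C r i = 0 := by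
  simp only [Data.inFirst, List.all_eq_true, List.mem_range, Bool.or_eq_true, intEq_iff,
    hK.toGood.l_eq, Nat.blt_eq]
  refine ⟨fun h i hi hm => (h i hi).resolve_left (by omega), fun h i hi => ?_⟩
  rcases Nat.lt_or_ge i m with h' | h'
  · exact Or.inl h'
  · exact Or.inr (h i hi h')

/-- outside the subsystem, elements of the small group keep positivity -/
theorem keep_pos_outside (hK : Fine K D) (hc : K.coefOK = true) {m : ℕ}
    {v : Equiv.Perm (Fin D.nroots)} (hv : v ∈ weylFirst hK m) {r : Fin D.nroots}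
    (hpos : K.npos ≤ r.val) (hout : K.inFirst m r.val = false) : K.npos ≤ (v r).val := by
  have hout' : ¬ ∀ i < D.rank, m ≤ i → K.tab.C r.val i = 0 := by
    rw [← hK.inFirst_iff, hout]; simp
  simp only [not_forall] at hout'
  obtain ⟨i, hi, hm, hne⟩ := hout'
  by_contra hneg
  have h1 := (hK.toGood.isNegRoot_iff (v r).val).2 (by omega)
  have h2 := (hK.toGood.isPosRoot_iff r.val).2 ⟨hpos, r.isLt⟩
  have e1 := hK.toGood.fits.coroot_eq (v r).val (v r).isLt i hi
  have e2 := hK.toGood.fits.coroot_eq r.val r.isLt i hi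
  have hval : ∀ (A : Array ℤ) (z : ℤ), A.getD i 0 = z → z ≠ 0 → z ∈ A.toList := by
    intro A z hz hne
    by_cases hlt : i < A.size
    · rw [← hz, Array.getD_eq_getD_getElem?, Array.getElem?_eq_getElem hlt]
      simp
    · rw [Array.getD_eq_getD_getElem?, Array.getElem?_eq_none (by omega)] at hz
      exact absurd hz.symm hne
  rw [hK.coef_invariant hc hv r i hi hm] at e1
  have g1 := h1.2 _ (hval _ _ e1 hne)
  have g2 := h2.2 _ (hval _ _ e2 hne)
  omega

theorem inFirst_invariant (hK : Fine K D) (hc : K.coefOK = true) {m : ℕ}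
    {v : Equiv.Perm (Fin D.nroots)} (hv : v ∈ weylFirst hK m) (r : Fin D.nroots) :
    K.inFirst m (v r).val = K.inFirst m r.val := by
  rw [Bool.eq_iff_iff, hK.inFirst_iff, hK.inFirst_iff]
  exact forall₃_congr fun i hi hm => by rw [hK.coef_invariant hc hv r i hi hm]

theorem inFirst_neg (hK : Fine K D) (m : ℕ) (r : Fin D.nroots) :
    K.inFirst m (K.neg r.val) = K.inFirst m r.val := by
  rw [Bool.eq_iff_iff, hK.inFirst_iff, hK.inFirst_iff]
  refine forall₃_congr fun i hi _ => ?_
  rw [((hK.coroot_facts.1 r.val r.isLt).2 i hi).2.1, neg_eq_zero]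

theorem perm_negFin (hK : Fine K D) {σ : Equiv.Perm (Fin D.nroots)} (hσ : σ ∈ weylGrp hK)
    (r : Fin D.nroots) : σ (negFin hK r) = negFin hK (σ r) := by
  obtain ⟨L, rfl⟩ := hK.mem_weylGrp_iff.1 hσ
  exact hK.wPerm_negFin L r

/-- additivity of inversions -/
theorem inv_mul_card (hK : Fine K D) (hc : K.coefOK = true) {m : ℕ}
    {d v : Equiv.Perm (Fin D.nroots)} (hd : d ∈ weylGrp hK)
    (hdpos : ∀ r : Fin D.nroots, K.npos ≤ r.val → K.inFirst m r.val = true → K.npos ≤ (d r).val)
    (hv : v ∈ weylFirst hK m) :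
    Nat.card (invSet K D (d * v)) = Nat.card (invSet K D d) + Nat.card (invSet K D v) := by
  classical
  let I : Equiv.Perm (Fin D.nroots) → Finset (Fin D.nroots) := fun σ =>
    Finset.univ.filter fun r => K.npos ≤ r.val ∧ (σ r).val < K.npos
  have memI : ∀ σ r, r ∈ I σ ↔ (K.npos ≤ r.val ∧ (σ r).val < K.npos) := fun σ r =>
    Finset.mem_filter.trans (and_iff_right (Finset.mem_univ r))
  have hI : ∀ σ, Nat.card (invSet K D σ) = (I σ).card := by
    intro σ
    rw [← Nat.card_eq_finsetCard]
    refine Nat.card_congr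
      { toFun := fun r => ⟨⟨r.1, r.2.1.2⟩, by
          have h := r.2.2
          simp only [permNat, dif_pos r.2.1.2] at h
          exact (memI _ _).2 ⟨r.2.1.1, h⟩⟩
        invFun := fun r => ⟨r.1.val, by
          have h := (memI _ _).1 r.2
          exact ⟨⟨h.1, r.1.isLt⟩, by simpa [permNat, r.1.isLt] using h.2⟩⟩
        left_inv := fun r => rfl
        right_inv := fun r => rfl }
  rw [hI, hI, hI]
  have hdin : ∀ r : Fin D.nroots, K.npos ≤ r.val → (d r).val < K.npos → K.inFirst m r.val = false := by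
    intro r hr hneg
    by_contra h
    have := hdpos r hr (by simpa using h)
    omega
  have hsplit : I (d * v) = I v ∪ (I d).map v.symm.toEmbedding := by
    ext r
    rw [Finset.mem_union, Finset.mem_map_equiv, Equiv.symm_symm, memI, memI, memI,
      Equiv.Perm.mul_apply]
    constructor
    · rintro ⟨h1, h2⟩
      rcases Nat.lt_or_ge (v r).val K.npos with h | h
      · exact Or.inl ⟨h1, h⟩
      · exact Or.inr ⟨h, h2⟩
    · rintro (⟨h1, h2⟩ | ⟨h1, h2⟩)
      · refine ⟨h1, ?_⟩
        have hin : K.inFirst m r.val = true := by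
          by_contra h
          have := hK.keep_pos_outside hc hv h1 (by simpa using h)
          omega
        have := hdpos (negFin hK (v r)) ((hK.negFin_pos_iff _).2 h2)
          (by show K.inFirst m (K.neg (v r).val) = true
              rw [hK.inFirst_neg, hK.inFirst_invariant hc hv, hin])
        rw [hK.perm_negFin hd, hK.negFin_pos_iff] at this
        exact this
      · refine ⟨?_, h2⟩
        have hout := hdin (v r) h1 h2
        by_contra hr
        have hneg := hK.keep_pos_outside hc hv (r := negFin hK r) ((hK.negFin_pos_iff _).2 (by omega))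
          (by show K.inFirst m (K.neg r.val) = false
              rw [hK.inFirst_neg, ← hK.inFirst_invariant hc hv, hout])
        rw [hK.perm_negFin (hK.weylFirst_le m hv), hK.negFin_pos_iff] at hneg
        omega
  have hdisj : Disjoint (I v) ((I d).map v.symm.toEmbedding) := by
    rw [Finset.disjoint_left]
    intro r h1 h2
    rw [Finset.mem_map_equiv, Equiv.symm_symm, memI] at h2
    rw [memI] at h1
    omega
  rw [hsplit, Finset.card_union_of_disjoint hdisj, Finset.card_map, Nat.add_comm]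

/-- facts about one representative -/
theorem rep_facts (hK : Fine K D) {k : ℕ} {R : List Rep} (h : K.levelOK k R = true) {idx : ℕ}
    {d : Rep} (hd : R[idx]? = some d) : K.repOK k R idx d = true := by
  simp only [Data.levelOK, Bool.and_eq_true, List.all_eq_true] at h
  refine h.2 (d, idx) ?_
  rw [List.mem_iff_getElem?]
  exact ⟨idx, by simp [List.getElem?_zipIdx, hd]⟩

theorem rep_perm (hK : Fine K D) {k : ℕ} (hk : k ≤ D.rank) {R : List Rep}
    (h : K.levelOK k R = true) : ∀ idx, idx < R.length →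
    ∃ σ ∈ weylFirst hK k, ∀ d, R[idx]? = some d → ∀ r : Fin D.nroots, d.app r.val = (σ r).val := by
  intro idx
  induction idx using Nat.strong_induction_on with
  | _ idx ih =>
    intro hidx
    obtain ⟨d, hd⟩ : ∃ d, R[idx]? = some d := ⟨R[idx], List.getElem?_eq_getElem hidx⟩
    have hr := hK.rep_facts h hd
    simp only [Data.repOK, Bool.and_eq_true] at hr
    obtain ⟨⟨⟨⟨h1, -⟩, -⟩, -⟩, -⟩ := hr
    by_cases h0 : idx = 0
    · subst h0
      refine ⟨1, Subgroup.one_mem _, fun d' hd' r => ?_⟩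
      rw [hd] at hd'
      cases hd'
      simp only [Nat.beq_refl, cond_true, List.all_eq_true, List.mem_range, hK.toGood.n_eq] at h1
      exact Nat.eq_of_beq_eq_true (h1 r.val r.isLt)
    · rw [show Nat.beq idx 0 = false from by rw [Bool.eq_false_iff]; simpa using h0, cond_false] at h1
      simp only [Bool.and_eq_true, Nat.blt_eq] at h1
      obtain ⟨⟨hpar, hgen⟩, h1⟩ := h1
      obtain ⟨e, he⟩ : ∃ e, R[d.par]? = some e :=
        ⟨R[d.par]'(by omega), List.getElem?_eq_getElem (by omega)⟩
      rw [he] at h1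
      simp only [List.all_eq_true, List.mem_range, hK.toGood.n_eq] at h1
      obtain ⟨τ, hτ, hτe⟩ := ih d.par hpar (by omega)
      refine ⟨sPerm hK ⟨d.gen, by omega⟩ * τ, Subgroup.mul_mem _
        (Subgroup.subset_closure ⟨⟨d.gen, by omega⟩, hgen, rfl⟩) hτ, fun d' hd' r => ?_⟩
      rw [hd] at hd'
      cases hd'
      rw [Equiv.Perm.mul_apply, sPerm_val, ← hτe e he r]
      exact Nat.eq_of_beq_eq_true (h1 r.val r.isLt)

/-- the permutation of a representative -/
noncomputable def repPerm (hK : Fine K D) {k : ℕ} (hk : k ≤ D.rank) {R : List Rep}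
    (h : K.levelOK k R = true) (i : Fin R.length) : Equiv.Perm (Fin D.nroots) :=
  (hK.rep_perm hk h i.val i.isLt).choose

theorem repPerm_mem (hK : Fine K D) {k : ℕ} (hk : k ≤ D.rank) {R : List Rep}
    (h : K.levelOK k R = true) (i : Fin R.length) : hK.repPerm hk h i ∈ weylFirst hK k :=
  (hK.rep_perm hk h i.val i.isLt).choose_spec.1

theorem repPerm_app (hK : Fine K D) {k : ℕ} (hk : k ≤ D.rank) {R : List Rep}
    (h : K.levelOK k R = true) (i : Fin R.length) (r : Fin D.nroots) :
    (hK.repPerm hk h i r).val = R[i.val].app r.val :=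
  ((hK.rep_perm hk h i.val i.isLt).choose_spec.2 _ (List.getElem?_eq_getElem i.isLt) r).symm

theorem rep_inj (hK : Fine K D) (hc : K.coefOK = true) {k : ℕ} (hk : k ≤ D.rank) (hk0 : 0 < k)
    {R : List Rep} (h : K.levelOK k R = true) {i j : Fin R.length}
    (hij : (hK.repPerm hk h i)⁻¹ * hK.repPerm hk h j ∈ weylFirst hK (k - 1)) : i = j := by
  by_contra hne
  have hkey : K.repKey k R[i.val] = K.repKey k R[j.val] := by
    refine List.map_congr_left fun a ha => ?_
    rw [List.mem_range, hK.toGood.l_eq] at ha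
    have hpre : ∀ (i : Fin R.length), ∃ x : Fin D.nroots, x.val = R[i.val].inv a ∧
        hK.repPerm hk h i x = pFin hK ⟨a, ha⟩ := by
      intro i
      have hr := hK.rep_facts h (List.getElem?_eq_getElem i.isLt)
      simp only [Data.repOK, Bool.and_eq_true, List.all_eq_true, List.mem_range, hK.toGood.l_eq,
        hK.toGood.n_eq, Nat.blt_eq] at hr
      obtain ⟨g1, g2⟩ := hr.1.1.2 a ha
      exact ⟨⟨_, g1⟩, rfl, Fin.ext (by rw [repPerm_app]; exact Nat.eq_of_beq_eq_true g2)⟩
    obtain ⟨x, hx, hx'⟩ := hpre i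
    obtain ⟨y, hy, hy'⟩ := hpre j
    have e : ((hK.repPerm hk h i)⁻¹ * hK.repPerm hk h j) y = x := by
      rw [Equiv.Perm.mul_apply, hy', ← hx']
      exact (hK.repPerm hk h i).symm_apply_apply x
    rw [← hx, ← hy, ← e]
    exact hK.coef_invariant hc hij y (k - 1) (by omega) le_rfl
  have hkeys := h
  simp only [Data.levelOK, Data.keysOK, Bool.and_eq_true] at hkeys
  have hnd : (R.map (K.repKey k)).Nodup := by
    have hk' := hkeys.1.2
    revert hk'
    generalize R.map (K.repKey k) = L
    intro hk'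
    induction L with
    | nil => exact List.nodup_nil
    | cons a L ih =>
      have h' : ((L.all fun b => !(zListEq a b)) && List.rec (motive := fun _ => Bool) true
        (fun a L ih => (L.all fun b => !(zListEq a b)) && ih) L) = true := hk'
      rw [Bool.and_eq_true] at h'
      refine List.nodup_cons.2 ⟨fun hmem => ?_, ih h'.2⟩
      have := List.all_eq_true.1 h'.1 a hmem
      have hself : ∀ M : List ℤ, zListEq M M = true := by
        intro M
        induction M with
        | nil => rfl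
        | cons b M ih => show (intEq b b && zListEq M M) = true; simp [ih, (intEq_iff b b).2 rfl]
      simp [hself] at this
  refine hne (Fin.ext ?_)
  exact (List.Nodup.getElem_inj_iff hnd (hi := by simp) (hj := by simp)).1
    (by simpa using hkey)

theorem rep_closure (hK : Fine K D) {k : ℕ} (hk : k ≤ D.rank)
    {R : List Rep} (h : K.levelOK k R = true) (i : Fin R.length) {j : ℕ} (hj : j < k) :
    ∃ i' : Fin R.length, ∃ v ∈ weylFirst hK (k - 1),
      sPerm hK ⟨j, by omega⟩ * hK.repPerm hk h i = hK.repPerm hk h i' * v := by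
  have hr := hK.rep_facts h (List.getElem?_eq_getElem i.isLt)
  simp only [Data.repOK, Bool.and_eq_true, List.all_eq_true, List.mem_range] at hr
  have h2 := hr.1.1.1.2 j hj
  set d := R[i.val]
  by_cases hn : d.next j < R.length
  swap
  · rw [List.getElem?_eq_none (by omega)] at h2; simp at h2
  rw [List.getElem?_eq_getElem hn] at h2
  refine ⟨⟨d.next j, hn⟩, ?_⟩
  have hmem : sPerm hK ⟨j, by omega⟩ * hK.repPerm hk h i ∈ weylGrp hK :=
    Subgroup.mul_mem _ (Subgroup.subset_closure ⟨_, rfl⟩) (hK.weylFirst_le k (hK.repPerm_mem hk h i))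
  cases hb : Nat.beq (d.fix j) 0
  · simp only [hb, cond_false, Bool.and_eq_true, Nat.blt_eq, List.all_eq_true, List.mem_range,
      hK.toGood.l_eq] at h2
    have hne : d.fix j ≠ 0 := fun e => by rw [e] at hb; simp at hb
    have hv : sPerm hK ⟨d.fix j - 1, by omega⟩ ∈ weylFirst hK (k - 1) :=
      Subgroup.subset_closure ⟨⟨d.fix j - 1, by omega⟩, by simp only; omega, rfl⟩
    refine ⟨_, hv, hK.weyl_ext hmem (Subgroup.mul_mem _ (hK.weylFirst_le k (hK.repPerm_mem hk h _))
      (hK.weylFirst_le _ hv)) fun a => Fin.ext ?_⟩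
    rw [Equiv.Perm.mul_apply, Equiv.Perm.mul_apply, sPerm_val, repPerm_app, repPerm_app, sPerm_val]
    exact (Nat.eq_of_beq_eq_true (h2.2 a.val a.isLt)).symm
  · simp only [hb, cond_true, List.all_eq_true, List.mem_range, hK.toGood.l_eq] at h2
    refine ⟨1, Subgroup.one_mem _, ?_⟩
    rw [mul_one]
    refine hK.weyl_ext hmem (hK.weylFirst_le k (hK.repPerm_mem hk h _)) fun a => Fin.ext ?_
    rw [Equiv.Perm.mul_apply, sPerm_val, repPerm_app, repPerm_app]
    exact (Nat.eq_of_beq_eq_true (h2 a.val a.isLt)).symm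

theorem rep_surj (hK : Fine K D) {k : ℕ} (hk : k ≤ D.rank)
    {R : List Rep} (h : K.levelOK k R = true) {σ : Equiv.Perm (Fin D.nroots)}
    (hσ : σ ∈ weylFirst hK k) :
    ∃ i : Fin R.length, ∃ v ∈ weylFirst hK (k - 1), σ = hK.repPerm hk h i * v := by
  have hne : 0 < R.length := by
    have h' := h
    simp only [Data.levelOK, Bool.and_eq_true, Bool.not_eq_true', List.isEmpty_eq_false_iff] at h'
    exact List.length_pos_iff.2 h'.1.1
  have step : ∀ j (hj : j < k), ∀ y, (∃ i : Fin R.length, ∃ v ∈ weylFirst hK (k - 1),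
      y = hK.repPerm hk h i * v) → ∃ i : Fin R.length, ∃ v ∈ weylFirst hK (k - 1),
      sPerm hK ⟨j, by omega⟩ * y = hK.repPerm hk h i * v := by
    rintro j hj y ⟨i, v, hv, rfl⟩
    obtain ⟨i', v', hv', e⟩ := hK.rep_closure hk h i hj
    exact ⟨i', v' * v, Subgroup.mul_mem _ hv' hv, by rw [← mul_assoc, e, mul_assoc]⟩
  induction hσ using Subgroup.closure_induction_left with
  | one =>
    refine ⟨⟨0, hne⟩, 1, Subgroup.one_mem _, ?_⟩
    rw [mul_one]
    refine (Equiv.ext fun r => Fin.ext ?_).symm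
    have hr := hK.rep_facts h (List.getElem?_eq_getElem hne)
    simp only [Data.repOK, Bool.and_eq_true, Nat.beq_refl, cond_true, List.all_eq_true,
      List.mem_range, hK.toGood.n_eq] at hr
    rw [repPerm_app]
    exact Nat.eq_of_beq_eq_true (hr.1.1.1.1 r.val r.isLt)
  | mul_left x hx y _ hy =>
    obtain ⟨j, hj, rfl⟩ := hx
    exact step j.val hj y hy
  | inv_mul_cancel x hx y _ hy =>
    obtain ⟨j, hj, rfl⟩ := hx
    rw [hK.sPerm_inv]
    exact step j.val hj y hy

theorem rep_len (hK : Fine K D) {k : ℕ} (hk : k ≤ D.rank)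
    {R : List Rep} (h : K.levelOK k R = true) (i : Fin R.length) :
    Nat.card (invSet K D (hK.repPerm hk h i)) = R[i.val].len := by
  have hr := hK.rep_facts h (List.getElem?_eq_getElem i.isLt)
  simp only [Data.repOK, Bool.and_eq_true, hK.toGood.n_eq] at hr
  rw [Nat.eq_of_beq_eq_true hr.2]
  classical
  rw [← List.toFinset_card_of_nodup (List.nodup_range.filter _), ← Nat.card_eq_finsetCard]
  refine Nat.card_congr (Equiv.subtypeEquivRight fun r => ?_)
  simp only [invSet, Set.mem_setOf_eq, List.mem_toFinset, List.mem_filter, List.mem_range,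
    Bool.and_eq_true, Nat.ble_eq, Nat.blt_eq]
  constructor
  · rintro ⟨⟨h1, h2⟩, h3⟩
    rw [permNat, dif_pos h2, repPerm_app] at h3
    exact ⟨h2, h1, h3⟩
  · rintro ⟨h2, h1, h3⟩
    refine ⟨⟨h1, h2⟩, ?_⟩
    rw [permNat, dif_pos h2, repPerm_app]
    exact h3

theorem rep_pos (hK : Fine K D) {k : ℕ} (hk : k ≤ D.rank)
    {R : List Rep} (h : K.levelOK k R = true) (i : Fin R.length) (r : Fin D.nroots)
    (hr : K.npos ≤ r.val) (hin : K.inFirst (k - 1) r.val = true) :
    K.npos ≤ (hK.repPerm hk h i r).val := by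
  have hf := hK.rep_facts h (List.getElem?_eq_getElem i.isLt)
  simp only [Data.repOK, Bool.and_eq_true, List.all_eq_true, List.mem_range, hK.toGood.n_eq] at hf
  have := hf.1.2 r.val r.isLt
  simp only [Nat.ble_eq_true_of_le hr, hin, Bool.and_self, Bool.not_true, Bool.false_or,
    Nat.ble_eq] at this
  rwa [repPerm_app]

/-- one step along the chain -/
theorem lenSum_step (hK : Fine K D) (hc : K.coefOK = true) {R : Type*} [CommSemiring R] {k : ℕ}
    (hk0 : 0 < k) (hk : k ≤ D.rank) {Rs : List Rep} (h : K.levelOK k Rs = true) (x : R) :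
    lenSum K D (weylFirst hK k) x =
      (Rs.map fun d => x ^ d.len).sum * lenSum K D (weylFirst hK (k - 1)) x := by
  classical
  let e : Fin Rs.length × weylFirst hK (k - 1) → weylFirst hK k := fun p =>
    ⟨hK.repPerm hk h p.1 * p.2.val,
      Subgroup.mul_mem _ (hK.repPerm_mem hk h p.1) (hK.weylFirst_mono (by omega) p.2.2)⟩
  have he : Function.Bijective e := by
    constructor
    · rintro ⟨i, v⟩ ⟨j, w⟩ hvw
      have h' : hK.repPerm hk h i * v.val = hK.repPerm hk h j * w.val := congrArg Subtype.val hvw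
      have hmem : (hK.repPerm hk h i)⁻¹ * hK.repPerm hk h j ∈ weylFirst hK (k - 1) := by
        have : (hK.repPerm hk h i)⁻¹ * hK.repPerm hk h j = v.val * w.val⁻¹ := by
          rw [eq_mul_inv_iff_mul_eq, mul_assoc, ← h', inv_mul_cancel_left]
        rw [this]
        exact Subgroup.mul_mem _ v.2 (Subgroup.inv_mem _ w.2)
      obtain rfl := hK.rep_inj hc hk hk0 h hmem
      exact Prod.ext rfl (Subtype.ext (mul_left_cancel h'))
    · rintro ⟨σ, hσ⟩
      obtain ⟨i, v, hv, rfl⟩ := hK.rep_surj hk h hσ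
      exact ⟨(i, ⟨v, hv⟩), rfl⟩
  have hsum : ∀ (W : Subgroup (Equiv.Perm (Fin D.nroots))), lenSum K D W x =
      ∑ σ : W, x ^ Nat.card (invSet K D σ.val) := fun W => finsum_eq_sum_of_fintype _
  rw [hsum, hsum, ← (Equiv.ofBijective e he).sum_comp, Fintype.sum_prod_type,
    ← Fin.sum_univ_fun_getElem, Finset.sum_mul]
  refine Finset.sum_congr rfl fun i _ => ?_
  rw [Finset.mul_sum]
  refine Finset.sum_congr rfl fun v _ => ?_
  show x ^ Nat.card (invSet K D (hK.repPerm hk h i * v.val)) = _
  rw [hK.inv_mul_card hc (hK.weylFirst_le k (hK.repPerm_mem hk h i)) (hK.rep_pos hk h i) v.2,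
    hK.rep_len hk h i, pow_add]

theorem lenSum_zero (hK : Fine K D) {R : Type*} [CommSemiring R] (x : R) :
    lenSum K D (weylFirst hK 0) x = 1 := by
  classical
  have he : ∀ σ : weylFirst hK 0, σ = 1 := fun σ => by
    refine Subtype.ext ?_
    exact Subgroup.mem_bot.1 ((SetLike.ext_iff.1 hK.weylFirst_zero σ.val).1 σ.2)
  rw [lenSum, finsum_eq_single _ (1 : weylFirst hK 0) (fun σ hσ => absurd (he σ) hσ)]
  have : invSet K D (1 : Equiv.Perm (Fin D.nroots)) = ∅ := by
    ext r
    simp only [invSet, Set.mem_setOf_eq, Set.mem_empty_iff_false, iff_false, not_and, not_lt]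
    intro hr
    simpa [permNat, hr.2] using hr.1
  rw [show ((1 : weylFirst hK 0) : Equiv.Perm (Fin D.nroots)) = 1 from rfl, this]
  simp

end Fine

end CfsgLib.Chev
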