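import Cfsg.Agent.Chev.FineE7
import Cfsg.Agent.Chev.Run.E7Poin
import Cfsg.Agent.Chev.Poincare
import Cfsg.Agent.Chev.HCard
import Cfsg.Agent.Chev.Order

/-! Orders of the diagonal subgroup and of the group for type E7 (generated). -/

set_option autoImplicit false
set_option maxRecDepth 100000

namespace CfsgLib.Chev.E7

open Cfsg.Lie

theorem card_diagonal {F : Type*} [Field F] [Fintype F] :
    (∏ i : Fin 7, Nat.gcd ((![1, 1, 1, 1, 1, 1, 2] : Fin 7 → ℕ) i) (Fintype.card F - 1)) *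
      Nat.card (chevE7.diagonalSubgroup F) = (Fintype.card F - 1) ^ 7 :=
  fine.card_diagonal (D := chevE7) (!![-1, 0, 0, 0, 0, 0, 0; 0, -1, 0, 0, 0, 0, 0; 1, -2, 0, -1, 0, 0, 0; 2, -3, 0, -2, -1, 0, 0; 3, -4, 0, -3, -2, -1, 0; -2, 1, -1, 0, 0, 0, 0; -4, -1, -4, -4, -3, -2, -1] : Matrix (Fin 7) (Fin 7) ℤ)
    (!![-1, 0, 0, 0, 0, 0, 0; 0, -1, 0, 0, 0, 0, 0; 2, -1, 0, 0, 0, -1, 0; -1, 2, -1, 0, 0, 0, 0; 0, -1, 2, -1, 0, 0, 0; 0, 0, -1, 2, -1, 0, 0; 0, 0, 0, -1, 2, 4, -1] : Matrix (Fin 7) (Fin 7) ℤ) (!![0, 0, 0, 0, 0, 1, -2; 0, 0, 0, 0, 0, 2, -3; 1, 0, 0, 0, 0, 2, -4; 0, 1, 0, 0, 0, 4, -6; 0, 0, 1, 0, 0, 4, -5; 0, 0, 0, 1, 0, 4, -4; 0, 0, 0, 0, 1, 4, -3] : Matrix (Fin 7) (Fin 7) ℤ)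
    (!![-2, 0, 1, 0, 0, 0, 0; 0, -2, 0, 1, 0, 0, 0; 2, -3, 0, 0, 1, 0, 0; 4, -4, 0, 0, 0, 1, 0; 6, -5, 0, 0, 0, 0, 1; -3, 2, 0, 0, 0, 0, 0; -2, 1, 0, 0, 0, 0, 0] : Matrix (Fin 7) (Fin 7) ℤ) ![1, 1, 1, 1, 1, 1, 2]
    (by decide +kernel) (by decide +kernel) (by decide +kernel) (by decide +kernel) (by decide +kernel)

theorem lens1 : reps1.map Rep.len = [0, 1] := by decide +kernel

theorem sum1 (x : ℤ) : (reps1.map fun d => x ^ d.len).sum = x ^ 0 + x ^ 1 := by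
  rw [show (reps1.map fun d => x ^ d.len) = (reps1.map Rep.len).map (fun e => x ^ e) from
    (List.map_map (f := Rep.len) (g := fun e => x ^ e) (l := reps1)).symm, lens1]
  simp only [List.map_cons, List.map_nil, List.sum_cons, List.sum_nil]
  ring

theorem diff1 (x : ℤ) : (x ^ 0 + x ^ 1) * ((x ^ 1 - 1)) = (x ^ 2 - 1) := by ring

theorem step1 (x : ℤ) :
    (lenSum data chevE7 (weylFirst fine 1) x) * (x - 1) ^ 1 = (x ^ 2 - 1) := by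
  rw [fine.lenSum_step coefOK (by norm_num) (show 1 ≤ chevE7.rank by show 1 ≤ 7; norm_num) level1 x,
    show 1 - 1 = 0 from rfl, sum1 x, pow_succ]
  rw [fine.lenSum_zero x]
  linear_combination diff1 x

theorem lens2 : reps2.map Rep.len = [0, 1] := by decide +kernel

theorem sum2 (x : ℤ) : (reps2.map fun d => x ^ d.len).sum = x ^ 0 + x ^ 1 := by
  rw [show (reps2.map fun d => x ^ d.len) = (reps2.map Rep.len).map (fun e => x ^ e) from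
    (List.map_map (f := Rep.len) (g := fun e => x ^ e) (l := reps2)).symm, lens2]
  simp only [List.map_cons, List.map_nil, List.sum_cons, List.sum_nil]
  ring

theorem diff2 (x : ℤ) : (x ^ 0 + x ^ 1) * ((x ^ 1 - 1)) = (x ^ 2 - 1) := by ring

theorem step2 (x : ℤ) :
    (lenSum data chevE7 (weylFirst fine 2) x) * (x - 1) ^ 2 = (x ^ 2 - 1) * (x ^ 2 - 1) := by
  rw [fine.lenSum_step coefOK (by norm_num) (show 2 ≤ chevE7.rank by show 2 ≤ 7; norm_num) level2 x,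
    show 2 - 1 = 1 from rfl, sum2 x, pow_succ]
  linear_combination (x ^ 0 + x ^ 1) * (x - 1) * step1 x + ((x ^ 2 - 1)) * diff2 x

theorem lens3 : reps3.map Rep.len = [0, 1, 2] := by decide +kernel

theorem sum3 (x : ℤ) : (reps3.map fun d => x ^ d.len).sum = x ^ 0 + x ^ 1 + x ^ 2 := by
  rw [show (reps3.map fun d => x ^ d.len) = (reps3.map Rep.len).map (fun e => x ^ e) from
    (List.map_map (f := Rep.len) (g := fun e => x ^ e) (l := reps3)).symm, lens3]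
  simp only [List.map_cons, List.map_nil, List.sum_cons, List.sum_nil]
  ring

theorem diff3 (x : ℤ) : (x ^ 0 + x ^ 1 + x ^ 2) * ((x ^ 1 - 1)) = (x ^ 3 - 1) := by ring

theorem step3 (x : ℤ) :
    (lenSum data chevE7 (weylFirst fine 3) x) * (x - 1) ^ 3 = (x ^ 2 - 1) * (x ^ 2 - 1) * (x ^ 3 - 1) := by
  rw [fine.lenSum_step coefOK (by norm_num) (show 3 ≤ chevE7.rank by show 3 ≤ 7; norm_num) level3 x,
    show 3 - 1 = 2 from rfl, sum3 x, pow_succ]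
  linear_combination (x ^ 0 + x ^ 1 + x ^ 2) * (x - 1) * step2 x + ((x ^ 2 - 1) * (x ^ 2 - 1)) * diff3 x

theorem lens4 : reps4.map Rep.len = [0, 1, 2, 2, 3, 3, 4, 4, 5, 6] := by decide +kernel

theorem sum4 (x : ℤ) : (reps4.map fun d => x ^ d.len).sum = x ^ 0 + x ^ 1 + 2 * x ^ 2 + 2 * x ^ 3 + 2 * x ^ 4 + x ^ 5 + x ^ 6 := by
  rw [show (reps4.map fun d => x ^ d.len) = (reps4.map Rep.len).map (fun e => x ^ e) from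
    (List.map_map (f := Rep.len) (g := fun e => x ^ e) (l := reps4)).symm, lens4]
  simp only [List.map_cons, List.map_nil, List.sum_cons, List.sum_nil]
  ring

theorem diff4 (x : ℤ) : (x ^ 0 + x ^ 1 + 2 * x ^ 2 + 2 * x ^ 3 + 2 * x ^ 4 + x ^ 5 + x ^ 6) * ((x ^ 2 - 1) * (x ^ 1 - 1)) = (x ^ 4 - 1) * (x ^ 5 - 1) := by ring

theorem step4 (x : ℤ) :
    (lenSum data chevE7 (weylFirst fine 4) x) * (x - 1) ^ 4 = (x ^ 2 - 1) * (x ^ 3 - 1) * (x ^ 4 - 1) * (x ^ 5 - 1) := by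
  rw [fine.lenSum_step coefOK (by norm_num) (show 4 ≤ chevE7.rank by show 4 ≤ 7; norm_num) level4 x,
    show 4 - 1 = 3 from rfl, sum4 x, pow_succ]
  linear_combination (x ^ 0 + x ^ 1 + 2 * x ^ 2 + 2 * x ^ 3 + 2 * x ^ 4 + x ^ 5 + x ^ 6) * (x - 1) * step3 x + ((x ^ 2 - 1) * (x ^ 3 - 1)) * diff4 x

theorem lens5 : reps5.map Rep.len = [0, 1, 2, 3, 3, 4, 4, 5, 5, 6, 6, 7, 7, 8, 9, 10] := by decide +kernel

theorem sum5 (x : ℤ) : (reps5.map fun d => x ^ d.len).sum = x ^ 0 + x ^ 1 + x ^ 2 + 2 * x ^ 3 + 2 * x ^ 4 + 2 * x ^ 5 + 2 * x ^ 6 + 2 * x ^ 7 + x ^ 8 + x ^ 9 + x ^ 10 := by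
  rw [show (reps5.map fun d => x ^ d.len) = (reps5.map Rep.len).map (fun e => x ^ e) from
    (List.map_map (f := Rep.len) (g := fun e => x ^ e) (l := reps5)).symm, lens5]
  simp only [List.map_cons, List.map_nil, List.sum_cons, List.sum_nil]
  ring

theorem diff5 (x : ℤ) : (x ^ 0 + x ^ 1 + x ^ 2 + 2 * x ^ 3 + 2 * x ^ 4 + 2 * x ^ 5 + 2 * x ^ 6 + 2 * x ^ 7 + x ^ 8 + x ^ 9 + x ^ 10) * ((x ^ 3 - 1) * (x ^ 1 - 1)) = (x ^ 6 - 1) * (x ^ 8 - 1) := by ring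

theorem step5 (x : ℤ) :
    (lenSum data chevE7 (weylFirst fine 5) x) * (x - 1) ^ 5 = (x ^ 2 - 1) * (x ^ 4 - 1) * (x ^ 5 - 1) * (x ^ 6 - 1) * (x ^ 8 - 1) := by
  rw [fine.lenSum_step coefOK (by norm_num) (show 5 ≤ chevE7.rank by show 5 ≤ 7; norm_num) level5 x,
    show 5 - 1 = 4 from rfl, sum5 x, pow_succ]
  linear_combination (x ^ 0 + x ^ 1 + x ^ 2 + 2 * x ^ 3 + 2 * x ^ 4 + 2 * x ^ 5 + 2 * x ^ 6 + 2 * x ^ 7 + x ^ 8 + x ^ 9 + x ^ 10) * (x - 1) * step4 x + ((x ^ 2 - 1) * (x ^ 4 - 1) * (x ^ 5 - 1)) * diff5 x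

theorem lens6 : reps6.map Rep.len = [0, 1, 2, 3, 4, 4, 5, 5, 6, 6, 7, 7, 8, 8, 8, 9, 9, 10, 10, 11, 11, 12, 12, 13, 14, 15, 16] := by decide +kernel

theorem sum6 (x : ℤ) : (reps6.map fun d => x ^ d.len).sum = x ^ 0 + x ^ 1 + x ^ 2 + x ^ 3 + 2 * x ^ 4 + 2 * x ^ 5 + 2 * x ^ 6 + 2 * x ^ 7 + 3 * x ^ 8 + 2 * x ^ 9 + 2 * x ^ 10 + 2 * x ^ 11 + 2 * x ^ 12 + x ^ 13 + x ^ 14 + x ^ 15 + x ^ 16 := by
  rw [show (reps6.map fun d => x ^ d.len) = (reps6.map Rep.len).map (fun e => x ^ e) from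
    (List.map_map (f := Rep.len) (g := fun e => x ^ e) (l := reps6)).symm, lens6]
  simp only [List.map_cons, List.map_nil, List.sum_cons, List.sum_nil]
  ring

theorem diff6 (x : ℤ) : (x ^ 0 + x ^ 1 + x ^ 2 + x ^ 3 + 2 * x ^ 4 + 2 * x ^ 5 + 2 * x ^ 6 + 2 * x ^ 7 + 3 * x ^ 8 + 2 * x ^ 9 + 2 * x ^ 10 + 2 * x ^ 11 + 2 * x ^ 12 + x ^ 13 + x ^ 14 + x ^ 15 + x ^ 16) * ((x ^ 4 - 1) * (x ^ 1 - 1)) = (x ^ 9 - 1) * (x ^ 12 - 1) := by ring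

theorem step6 (x : ℤ) :
    (lenSum data chevE7 (weylFirst fine 6) x) * (x - 1) ^ 6 = (x ^ 2 - 1) * (x ^ 5 - 1) * (x ^ 6 - 1) * (x ^ 8 - 1) * (x ^ 9 - 1) * (x ^ 12 - 1) := by
  rw [fine.lenSum_step coefOK (by norm_num) (show 6 ≤ chevE7.rank by show 6 ≤ 7; norm_num) level6 x,
    show 6 - 1 = 5 from rfl, sum6 x, pow_succ]
  linear_combination (x ^ 0 + x ^ 1 + x ^ 2 + x ^ 3 + 2 * x ^ 4 + 2 * x ^ 5 + 2 * x ^ 6 + 2 * x ^ 7 + 3 * x ^ 8 + 2 * x ^ 9 + 2 * x ^ 10 + 2 * x ^ 11 + 2 * x ^ 12 + x ^ 13 + x ^ 14 + x ^ 15 + x ^ 16) * (x - 1) * step5 x + ((x ^ 2 - 1) * (x ^ 5 - 1) * (x ^ 6 - 1) * (x ^ 8 - 1)) * diff6 x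

theorem lens7 : reps7.map Rep.len = [0, 1, 2, 3, 4, 5, 5, 6, 6, 7, 7, 8, 8, 9, 9, 9, 10, 10, 10, 11, 11, 11, 12, 12, 12, 13, 13, 13, 14, 14, 14, 15, 15, 15, 16, 16, 16, 17, 17, 17, 18, 18, 18, 19, 19, 20, 20, 21, 21, 22, 22, 23, 24, 25, 26, 27] := by decide +kernel

theorem sum7 (x : ℤ) : (reps7.map fun d => x ^ d.len).sum = x ^ 0 + x ^ 1 + x ^ 2 + x ^ 3 + x ^ 4 + 2 * x ^ 5 + 2 * x ^ 6 + 2 * x ^ 7 + 2 * x ^ 8 + 3 * x ^ 9 + 3 * x ^ 10 + 3 * x ^ 11 + 3 * x ^ 12 + 3 * x ^ 13 + 3 * x ^ 14 + 3 * x ^ 15 + 3 * x ^ 16 + 3 * x ^ 17 + 3 * x ^ 18 + 2 * x ^ 19 + 2 * x ^ 20 + 2 * x ^ 21 + 2 * x ^ 22 + x ^ 23 + x ^ 24 + x ^ 25 + x ^ 26 + x ^ 27 := by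
  rw [show (reps7.map fun d => x ^ d.len) = (reps7.map Rep.len).map (fun e => x ^ e) from
    (List.map_map (f := Rep.len) (g := fun e => x ^ e) (l := reps7)).symm, lens7]
  simp only [List.map_cons, List.map_nil, List.sum_cons, List.sum_nil]
  ring

theorem diff7 (x : ℤ) : (x ^ 0 + x ^ 1 + x ^ 2 + x ^ 3 + x ^ 4 + 2 * x ^ 5 + 2 * x ^ 6 + 2 * x ^ 7 + 2 * x ^ 8 + 3 * x ^ 9 + 3 * x ^ 10 + 3 * x ^ 11 + 3 * x ^ 12 + 3 * x ^ 13 + 3 * x ^ 14 + 3 * x ^ 15 + 3 * x ^ 16 + 3 * x ^ 17 + 3 * x ^ 18 + 2 * x ^ 19 + 2 * x ^ 20 + 2 * x ^ 21 + 2 * x ^ 22 + x ^ 23 + x ^ 24 + x ^ 25 + x ^ 26 + x ^ 27) * ((x ^ 5 - 1) * (x ^ 9 - 1) * (x ^ 1 - 1)) = (x ^ 10 - 1) * (x ^ 14 - 1) * (x ^ 18 - 1) := by ring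

theorem step7 (x : ℤ) :
    (lenSum data chevE7 (weylFirst fine 7) x) * (x - 1) ^ 7 = (x ^ 2 - 1) * (x ^ 6 - 1) * (x ^ 8 - 1) * (x ^ 10 - 1) * (x ^ 12 - 1) * (x ^ 14 - 1) * (x ^ 18 - 1) := by
  rw [fine.lenSum_step coefOK (by norm_num) (show 7 ≤ chevE7.rank by show 7 ≤ 7; norm_num) level7 x,
    show 7 - 1 = 6 from rfl, sum7 x, pow_succ]
  linear_combination (x ^ 0 + x ^ 1 + x ^ 2 + x ^ 3 + x ^ 4 + 2 * x ^ 5 + 2 * x ^ 6 + 2 * x ^ 7 + 2 * x ^ 8 + 3 * x ^ 9 + 3 * x ^ 10 + 3 * x ^ 11 + 3 * x ^ 12 + 3 * x ^ 13 + 3 * x ^ 14 + 3 * x ^ 15 + 3 * x ^ 16 + 3 * x ^ 17 + 3 * x ^ 18 + 2 * x ^ 19 + 2 * x ^ 20 + 2 * x ^ 21 + 2 * x ^ 22 + x ^ 23 + x ^ 24 + x ^ 25 + x ^ 26 + x ^ 27) * (x - 1) * step6 x + ((x ^ 2 - 1) * (x ^ 6 - 1) * (x ^ 8 - 1) * (x ^ 12 - 1)) * diff7 x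

theorem lenSum_eq (x : ℤ) :
    (lenSum data chevE7 (weylGrp fine) x) * (x - 1) ^ 7 = (x ^ 2 - 1) * (x ^ 6 - 1) * (x ^ 8 - 1) * (x ^ 10 - 1) * (x ^ 12 - 1) * (x ^ 14 - 1) * (x ^ 18 - 1) := by
  rw [← fine.weylFirst_all]
  exact step7 x

theorem card_diagonal' {F : Type*} [Field F] [Fintype F] {q : ℕ} (hq : Fintype.card F = q) :
    (Nat.gcd 2 (q - 1)) * Nat.card (chevE7.diagonalSubgroup F) = (q - 1) ^ 7 := by
  subst hq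
  have h := card_diagonal (F := F)
  simp [Fin.prod_univ_succ] at h ⊢
  linear_combination h

theorem card_group {F : Type*} [Field F] [Fintype F] {q : ℕ} (hq : Fintype.card F = q) :
    (Nat.gcd 2 (q - 1)) * Nat.card (chevE7.group F) = q ^ (chevE7.nroots / 2) * ((q ^ 2 - 1) * (q ^ 6 - 1) * (q ^ 8 - 1) * (q ^ 10 - 1) * (q ^ 12 - 1) * (q ^ 14 - 1) * (q ^ 18 - 1)) := by
  subst hq
  refine fine.card_group_mul (l := 7) _ _ (card_diagonal' rfl) ?_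
  have hq1 : 1 < Fintype.card F := Fintype.one_lt_card
  push_cast [cast_pow_sub_one hq1]
  exact lenSum_eq _

end CfsgLib.Chev.E7
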