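import Cfsg.Agent.Chev.FineE8
import Cfsg.Agent.Chev.Run.E8Poin
import Cfsg.Agent.Chev.Poincare
import Cfsg.Agent.Chev.HCard
import Cfsg.Agent.Chev.Order

/-! Orders of the diagonal subgroup and of the group for type E8 (generated). -/

set_option autoImplicit false
set_option maxRecDepth 100000

namespace CfsgLib.Chev.E8

open Cfsg.Lie

theorem card_diagonal {F : Type*} [Field F] [Fintype F] :
    (∏ i : Fin 8, Nat.gcd ((![1, 1, 1, 1, 1, 1, 1, 1] : Fin 8 → ℕ) i) (Fintype.card F - 1)) *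
      Nat.card (chevE8.diagonalSubgroup F) = (Fintype.card F - 1) ^ 8 :=
  fine.card_diagonal (D := chevE8) (!![-1, 0, 0, 0, 0, 0, 0, 0; 0, -1, 0, 0, 0, 0, 0, 0; 1, -2, 0, -1, 0, 0, 0, 0; 2, -3, 0, -2, -1, 0, 0, 0; 3, -4, 0, -3, -2, -1, 0, 0; 4, -5, 0, -4, -3, -2, -1, 0; -2, 1, -1, 0, 0, 0, 0, 0; -3, -2, -4, -5, -4, -3, -2, -1] : Matrix (Fin 8) (Fin 8) ℤ)
    (!![-1, 0, 0, 0, 0, 0, 0, 0; 0, -1, 0, 0, 0, 0, 0, 0; 2, -1, 0, 0, 0, 0, -1, 0; -1, 2, -1, 0, 0, 0, 0, 0; 0, -1, 2, -1, 0, 0, 0, 0; 0, 0, -1, 2, -1, 0, 0, 0; 0, 0, 0, -1, 2, -1, 0, 0; 0, 0, 0, 0, -1, 2, 4, -1] : Matrix (Fin 8) (Fin 8) ℤ) (!![0, 0, 0, 0, 0, 0, 1, -2; 0, 0, 0, 0, 0, 0, 2, -3; 1, 0, 0, 0, 0, 0, 2, -4; 0, 1, 0, 0, 0, 0, 4, -6; 0, 0, 1, 0, 0, 0, 4, -5; 0, 0, 0, 1, 0, 0, 4, -4; 0, 0, 0, 0, 1, 0, 4, -3; 0, 0, 0, 0, 0, 1,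 4, -2] : Matrix (Fin 8) (Fin 8) ℤ)
    (!![-2, 0, 1, 0, 0, 0, 0, 0; 0, -2, 0, 1, 0, 0, 0, 0; 2, -3, 0, 0, 1, 0, 0, 0; 4, -4, 0, 0, 0, 1, 0, 0; 6, -5, 0, 0, 0, 0, 1, 0; 8, -6, 0, 0, 0, 0, 0, 1; -3, 2, 0, 0, 0, 0, 0, 0; -2, 1, 0, 0, 0, 0, 0, 0] : Matrix (Fin 8) (Fin 8) ℤ) ![1, 1, 1, 1, 1, 1, 1, 1]
    (by decide +kernel) (by decide +kernel) (by decide +kernel) (by decide +kernel) (by decide +kernel)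

theorem lens1 : reps1.map Rep.len = [0, 1] := by decide +kernel

theorem sum1 (x : ℤ) : (reps1.map fun d => x ^ d.len).sum = x ^ 0 + x ^ 1 := by
  rw [show (reps1.map fun d => x ^ d.len) = (reps1.map Rep.len).map (fun e => x ^ e) from
    (List.map_map (f := Rep.len) (g := fun e => x ^ e) (l := reps1)).symm, lens1]
  simp only [List.map_cons, List.map_nil, List.sum_cons, List.sum_nil]
  ring

theorem diff1 (x : ℤ) : (x ^ 0 + x ^ 1) * ((x ^ 1 - 1)) = (x ^ 2 - 1) := by ring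

theorem step1 (x : ℤ) :
    (lenSum data chevE8 (weylFirst fine 1) x) * (x - 1) ^ 1 = (x ^ 2 - 1) := by
  rw [fine.lenSum_step coefOK (by norm_num) (show 1 ≤ chevE8.rank by show 1 ≤ 8; norm_num) level1 x,
    show 1 - 1 = 0 from rfl, sum1 x, pow_succ]
  rw [fine.lenSum_zero x]
  linear_combination diff1 x

theorem lens2 : reps2.map Rep.len = [0, 1] := by decide +kernel

theorem sum2 (x : ℤ) : (reps2.map fun d => x ^ d.len).sum = x ^ 0 + x ^ 1 := by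
  rw [show (reps2.map fun d => x ^ d.len) = (reps2.map Rep.len).map (fun e => x ^ e) from
    (List.map_map (f := Rep.len) (g := fun e => x ^ e) (l := reps2)).symm, lens2]
  simp only [List.map_cons, List.map_nil, List.sum_cons, List.sum_nil]
  ring

theorem diff2 (x : ℤ) : (x ^ 0 + x ^ 1) * ((x ^ 1 - 1)) = (x ^ 2 - 1) := by ring

theorem step2 (x : ℤ) :
    (lenSum data chevE8 (weylFirst fine 2) x) * (x - 1) ^ 2 = (x ^ 2 - 1) * (x ^ 2 - 1) := by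
  rw [fine.lenSum_step coefOK (by norm_num) (show 2 ≤ chevE8.rank by show 2 ≤ 8; norm_num) level2 x,
    show 2 - 1 = 1 from rfl, sum2 x, pow_succ]
  linear_combination (x ^ 0 + x ^ 1) * (x - 1) * step1 x + ((x ^ 2 - 1)) * diff2 x

theorem lens3 : reps3.map Rep.len = [0, 1, 2] := by decide +kernel

theorem sum3 (x : ℤ) : (reps3.map fun d => x ^ d.len).sum = x ^ 0 + x ^ 1 + x ^ 2 := by
  rw [show (reps3.map fun d => x ^ d.len) = (reps3.map Rep.len).map (fun e => x ^ e) from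
    (List.map_map (f := Rep.len) (g := fun e => x ^ e) (l := reps3)).symm, lens3]
  simp only [List.map_cons, List.map_nil, List.sum_cons, List.sum_nil]
  ring

theorem diff3 (x : ℤ) : (x ^ 0 + x ^ 1 + x ^ 2) * ((x ^ 1 - 1)) = (x ^ 3 - 1) := by ring

theorem step3 (x : ℤ) :
    (lenSum data chevE8 (weylFirst fine 3) x) * (x - 1) ^ 3 = (x ^ 2 - 1) * (x ^ 2 - 1) * (x ^ 3 - 1) := by
  rw [fine.lenSum_step coefOK (by norm_num) (show 3 ≤ chevE8.rank by show 3 ≤ 8; norm_num) level3 x,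
    show 3 - 1 = 2 from rfl, sum3 x, pow_succ]
  linear_combination (x ^ 0 + x ^ 1 + x ^ 2) * (x - 1) * step2 x + ((x ^ 2 - 1) * (x ^ 2 - 1)) * diff3 x

theorem lens4 : reps4.map Rep.len = [0, 1, 2, 2, 3, 3, 4, 4, 5, 6] := by decide +kernel

theorem sum4 (x : ℤ) : (reps4.map fun d => x ^ d.len).sum = x ^ 0 + x ^ 1 + 2 * x ^ 2 + 2 * x ^ 3 + 2 * x ^ 4 + x ^ 5 + x ^ 6 := by
  rw [show (reps4.map fun d => x ^ d.len) = (reps4.map Rep.len).map (fun e => x ^ e) from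
    (List.map_map (f := Rep.len) (g := fun e => x ^ e) (l := reps4)).symm, lens4]
  simp only [List.map_cons, List.map_nil, List.sum_cons, List.sum_nil]
  ring

theorem diff4 (x : ℤ) : (x ^ 0 + x ^ 1 + 2 * x ^ 2 + 2 * x ^ 3 + 2 * x ^ 4 + x ^ 5 + x ^ 6) * ((x ^ 2 - 1) * (x ^ 1 - 1)) = (x ^ 4 - 1) * (x ^ 5 - 1) := by ring

theorem step4 (x : ℤ) :
    (lenSum data chevE8 (weylFirst fine 4) x) * (x - 1) ^ 4 = (x ^ 2 - 1) * (x ^ 3 - 1) * (x ^ 4 - 1) * (x ^ 5 - 1) := by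
  rw [fine.lenSum_step coefOK (by norm_num) (show 4 ≤ chevE8.rank by show 4 ≤ 8; norm_num) level4 x,
    show 4 - 1 = 3 from rfl, sum4 x, pow_succ]
  linear_combination (x ^ 0 + x ^ 1 + 2 * x ^ 2 + 2 * x ^ 3 + 2 * x ^ 4 + x ^ 5 + x ^ 6) * (x - 1) * step3 x + ((x ^ 2 - 1) * (x ^ 3 - 1)) * diff4 x

theorem lens5 : reps5.map Rep.len = [0, 1, 2, 3, 3, 4, 4, 5, 5, 6, 6, 7, 7, 8, 9, 10] := by decide +kernel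

theorem sum5 (x : ℤ) : (reps5.map fun d => x ^ d.len).sum = x ^ 0 + x ^ 1 + x ^ 2 + 2 * x ^ 3 + 2 * x ^ 4 + 2 * x ^ 5 + 2 * x ^ 6 + 2 * x ^ 7 + x ^ 8 + x ^ 9 + x ^ 10 := by
  rw [show (reps5.map fun d => x ^ d.len) = (reps5.map Rep.len).map (fun e => x ^ e) from
    (List.map_map (f := Rep.len) (g := fun e => x ^ e) (l := reps5)).symm, lens5]
  simp only [List.map_cons, List.map_nil, List.sum_cons, List.sum_nil]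
  ring

theorem diff5 (x : ℤ) : (x ^ 0 + x ^ 1 + x ^ 2 + 2 * x ^ 3 + 2 * x ^ 4 + 2 * x ^ 5 + 2 * x ^ 6 + 2 * x ^ 7 + x ^ 8 + x ^ 9 + x ^ 10) * ((x ^ 3 - 1) * (x ^ 1 - 1)) = (x ^ 6 - 1) * (x ^ 8 - 1) := by ring

theorem step5 (x : ℤ) :
    (lenSum data chevE8 (weylFirst fine 5) x) * (x - 1) ^ 5 = (x ^ 2 - 1) * (x ^ 4 - 1) * (x ^ 5 - 1) * (x ^ 6 - 1) * (x ^ 8 - 1) := by
  rw [fine.lenSum_step coefOK (by norm_num) (show 5 ≤ chevE8.rank by show 5 ≤ 8; norm_num) level5 x,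
    show 5 - 1 = 4 from rfl, sum5 x, pow_succ]
  linear_combination (x ^ 0 + x ^ 1 + x ^ 2 + 2 * x ^ 3 + 2 * x ^ 4 + 2 * x ^ 5 + 2 * x ^ 6 + 2 * x ^ 7 + x ^ 8 + x ^ 9 + x ^ 10) * (x - 1) * step4 x + ((x ^ 2 - 1) * (x ^ 4 - 1) * (x ^ 5 - 1)) * diff5 x

theorem lens6 : reps6.map Rep.len = [0, 1, 2, 3, 4, 4, 5, 5, 6, 6, 7, 7, 8, 8, 8, 9, 9, 10, 10, 11, 11, 12, 12, 13, 14, 15, 16] := by decide +kernel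

theorem sum6 (x : ℤ) : (reps6.map fun d => x ^ d.len).sum = x ^ 0 + x ^ 1 + x ^ 2 + x ^ 3 + 2 * x ^ 4 + 2 * x ^ 5 + 2 * x ^ 6 + 2 * x ^ 7 + 3 * x ^ 8 + 2 * x ^ 9 + 2 * x ^ 10 + 2 * x ^ 11 + 2 * x ^ 12 + x ^ 13 + x ^ 14 + x ^ 15 + x ^ 16 := by
  rw [show (reps6.map fun d => x ^ d.len) = (reps6.map Rep.len).map (fun e => x ^ e) from
    (List.map_map (f := Rep.len) (g := fun e => x ^ e) (l := reps6)).symm, lens6]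
  simp only [List.map_cons, List.map_nil, List.sum_cons, List.sum_nil]
  ring

theorem diff6 (x : ℤ) : (x ^ 0 + x ^ 1 + x ^ 2 + x ^ 3 + 2 * x ^ 4 + 2 * x ^ 5 + 2 * x ^ 6 + 2 * x ^ 7 + 3 * x ^ 8 + 2 * x ^ 9 + 2 * x ^ 10 + 2 * x ^ 11 + 2 * x ^ 12 + x ^ 13 + x ^ 14 + x ^ 15 + x ^ 16) * ((x ^ 4 - 1) * (x ^ 1 - 1)) = (x ^ 9 - 1) * (x ^ 12 - 1) := by ring

theorem step6 (x : ℤ) :
    (lenSum data chevE8 (weylFirst fine 6) x) * (x - 1) ^ 6 = (x ^ 2 - 1) * (x ^ 5 - 1) * (x ^ 6 - 1) * (x ^ 8 - 1) * (x ^ 9 - 1) * (x ^ 12 - 1) := by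
  rw [fine.lenSum_step coefOK (by norm_num) (show 6 ≤ chevE8.rank by show 6 ≤ 8; norm_num) level6 x,
    show 6 - 1 = 5 from rfl, sum6 x, pow_succ]
  linear_combination (x ^ 0 + x ^ 1 + x ^ 2 + x ^ 3 + 2 * x ^ 4 + 2 * x ^ 5 + 2 * x ^ 6 + 2 * x ^ 7 + 3 * x ^ 8 + 2 * x ^ 9 + 2 * x ^ 10 + 2 * x ^ 11 + 2 * x ^ 12 + x ^ 13 + x ^ 14 + x ^ 15 + x ^ 16) * (x - 1) * step5 x + ((x ^ 2 - 1) * (x ^ 5 - 1) * (x ^ 6 - 1) * (x ^ 8 - 1)) * diff6 x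

theorem lens7 : reps7.map Rep.len = [0, 1, 2, 3, 4, 5, 5, 6, 6, 7, 7, 8, 8, 9, 9, 9, 10, 10, 10, 11, 11, 11, 12, 12, 12, 13, 13, 13, 14, 14, 14, 15, 15, 15, 16, 16, 16, 17, 17, 17, 18, 18, 18, 19, 19, 20, 20, 21, 21, 22, 22, 23, 24, 25, 26, 27] := by decide +kernel

theorem sum7 (x : ℤ) : (reps7.map fun d => x ^ d.len).sum = x ^ 0 + x ^ 1 + x ^ 2 + x ^ 3 + x ^ 4 + 2 * x ^ 5 + 2 * x ^ 6 + 2 * x ^ 7 + 2 * x ^ 8 + 3 * x ^ 9 + 3 * x ^ 10 + 3 * x ^ 11 + 3 * x ^ 12 + 3 * x ^ 13 + 3 * x ^ 14 + 3 * x ^ 15 + 3 * x ^ 16 + 3 * x ^ 17 + 3 * x ^ 18 + 2 * x ^ 19 + 2 * x ^ 20 + 2 * x ^ 21 + 2 * x ^ 22 + x ^ 23 + x ^ 24 + x ^ 25 + x ^ 26 + x ^ 27 := by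
  rw [show (reps7.map fun d => x ^ d.len) = (reps7.map Rep.len).map (fun e => x ^ e) from
    (List.map_map (f := Rep.len) (g := fun e => x ^ e) (l := reps7)).symm, lens7]
  simp only [List.map_cons, List.map_nil, List.sum_cons, List.sum_nil]
  ring

theorem diff7 (x : ℤ) : (x ^ 0 + x ^ 1 + x ^ 2 + x ^ 3 + x ^ 4 + 2 * x ^ 5 + 2 * x ^ 6 + 2 * x ^ 7 + 2 * x ^ 8 + 3 * x ^ 9 + 3 * x ^ 10 + 3 * x ^ 11 + 3 * x ^ 12 + 3 * x ^ 13 + 3 * x ^ 14 + 3 * x ^ 15 + 3 * x ^ 16 + 3 * x ^ 17 + 3 * x ^ 18 + 2 * x ^ 19 + 2 * x ^ 20 + 2 * x ^ 21 + 2 * x ^ 22 + x ^ 23 + x ^ 24 + x ^ 25 + x ^ 26 + x ^ 27) * ((x ^ 5 - 1) * (x ^ 9 - 1) * (x ^ 1 - 1)) = (x ^ 10 - 1) * (x ^ 14 - 1) * (x ^ 18 - 1) := by ring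

theorem step7 (x : ℤ) :
    (lenSum data chevE8 (weylFirst fine 7) x) * (x - 1) ^ 7 = (x ^ 2 - 1) * (x ^ 6 - 1) * (x ^ 8 - 1) * (x ^ 10 - 1) * (x ^ 12 - 1) * (x ^ 14 - 1) * (x ^ 18 - 1) := by
  rw [fine.lenSum_step coefOK (by norm_num) (show 7 ≤ chevE8.rank by show 7 ≤ 8; norm_num) level7 x,
    show 7 - 1 = 6 from rfl, sum7 x, pow_succ]
  linear_combination (x ^ 0 + x ^ 1 + x ^ 2 + x ^ 3 + x ^ 4 + 2 * x ^ 5 + 2 * x ^ 6 + 2 * x ^ 7 + 2 * x ^ 8 + 3 * x ^ 9 + 3 * x ^ 10 + 3 * x ^ 11 + 3 * x ^ 12 + 3 * x ^ 13 + 3 * x ^ 14 + 3 * x ^ 15 + 3 * x ^ 16 + 3 * x ^ 17 + 3 * x ^ 18 + 2 * x ^ 19 + 2 * x ^ 20 + 2 * x ^ 21 + 2 * x ^ 22 + x ^ 23 + x ^ 24 + x ^ 25 + x ^ 26 + x ^ 27) * (x - 1) * step6 x + ((x ^ 2 - 1) * (x ^ 6 - 1) * (x ^ 8 - 1) * (x ^ 12 - 1)) * diff7 x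

theorem lens8 : reps8.map Rep.len = [0, 1, 2, 3, 4, 5, 6, 6, 7, 7, 8, 8, 9, 9, 10, 10, 10, 11, 11, 11, 12, 12, 12, 12, 13, 13, 13, 13, 14, 14, 14, 14, 15, 15, 15, 15, 16, 16, 16, 16, 16, 17, 17, 17, 17, 17, 18, 18, 18, 18, 18, 18, 19, 19, 19, 19, 19, 19, 20, 20, 20, 20, 20, 20, 21, 21, 21, 21, 21, 21, 22, 22, 22, 22, 22, 22, 22, 23, 23, 23, 23, 23, 23, 23, 24, 24, 24, 24, 24, 24, 24, 25, 25, 25, 25, 25, 25, 25, 26, 26, 26, 26, 26, 26, 26, 27, 27, 27, 27, 27, 27, 27, 28, 28, 28, 28, 28, 28, 28, 28, 29, 29, 29, 29, 29, 29, 29, 29, 30, 30, 30, 30, 30, 30, 30, 31, 31, 31, 31, 31, 31, 31, 32, 32, 32, 32, 32, 32, 32, 33, 33, 33, 33, 33, 33, 33, 34, 34, 34, 34, 34, 34, 34, 35, 35, 35, 35, 35, 35, 35, 36, 36, 36, 36, 36, 36, 37, 37, 37, 37, 37, 37, 38, 38, 38, 38, 38, 38, 39, 39, 39, 39, 39, 39,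 40, 40, 40, 40, 40, 41, 41, 41, 41, 41, 42, 42, 42, 42, 43, 43, 43, 43, 44, 44, 44, 44, 45, 45, 45, 45, 46, 46, 46, 47, 47, 47, 48, 48, 49, 49, 50, 50, 51, 51, 52, 53, 54, 55, 56, 57] := by decide +kernel

theorem sum8 (x : ℤ) : (reps8.map fun d => x ^ d.len).sum = x ^ 0 + x ^ 1 + x ^ 2 + x ^ 3 + x ^ 4 + x ^ 5 + 2 * x ^ 6 + 2 * x ^ 7 + 2 * x ^ 8 + 2 * x ^ 9 + 3 * x ^ 10 + 3 * x ^ 11 + 4 * x ^ 12 + 4 * x ^ 13 + 4 * x ^ 14 + 4 * x ^ 15 + 5 * x ^ 16 + 5 * x ^ 17 + 6 * x ^ 18 + 6 * x ^ 19 + 6 * x ^ 20 + 6 * x ^ 21 + 7 * x ^ 22 + 7 * x ^ 23 + 7 * x ^ 24 + 7 * x ^ 25 + 7 * x ^ 26 + 7 * x ^ 27 + 8 * x ^ 28 + 8 * x ^ 29 + 7 * x ^ 30 + 7 * x ^ 31 + 7 * x ^ 32 + 7 * x ^ 33 + 7 * x ^ 34 + 7 * x ^ 35 + 6 * x ^ 36 + 6 * x ^ 37 + 6 * x ^ 38 + 6 * x ^ 39 + 5 * x ^ 40 + 5 * x ^ 41 + 4 * x ^ 42 + 4 * x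 ^ 43 + 4 * x ^ 44 + 4 * x ^ 45 + 3 * x ^ 46 + 3 * x ^ 47 + 2 * x ^ 48 + 2 * x ^ 49 + 2 * x ^ 50 + 2 * x ^ 51 + x ^ 52 + x ^ 53 + x ^ 54 + x ^ 55 + x ^ 56 + x ^ 57 := by
  rw [show (reps8.map fun d => x ^ d.len) = (reps8.map Rep.len).map (fun e => x ^ e) from
    (List.map_map (f := Rep.len) (g := fun e => x ^ e) (l := reps8)).symm, lens8]
  simp only [List.map_cons, List.map_nil, List.sum_cons, List.sum_nil]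
  ring

theorem diff8 (x : ℤ) : (x ^ 0 + x ^ 1 + x ^ 2 + x ^ 3 + x ^ 4 + x ^ 5 + 2 * x ^ 6 + 2 * x ^ 7 + 2 * x ^ 8 + 2 * x ^ 9 + 3 * x ^ 10 + 3 * x ^ 11 + 4 * x ^ 12 + 4 * x ^ 13 + 4 * x ^ 14 + 4 * x ^ 15 + 5 * x ^ 16 + 5 * x ^ 17 + 6 * x ^ 18 + 6 * x ^ 19 + 6 * x ^ 20 + 6 * x ^ 21 + 7 * x ^ 22 + 7 * x ^ 23 + 7 * x ^ 24 + 7 * x ^ 25 + 7 * x ^ 26 + 7 * x ^ 27 + 8 * x ^ 28 + 8 * x ^ 29 + 7 * x ^ 30 + 7 * x ^ 31 + 7 * x ^ 32 + 7 * x ^ 33 + 7 * x ^ 34 + 7 * x ^ 35 + 6 * x ^ 36 + 6 * x ^ 37 + 6 * x ^ 38 + 6 * x ^ 39 + 5 * x ^ 40 + 5 * x ^ 41 + 4 * x ^ 42 + 4 * x ^ 43 + 4 * x ^ 44 + 4 * x ^ 45 + 3 * x ^ 46 + 3 * x ^ 47 + 2 * x ^ 48 + 2 * x ^ 49 + 2 * x ^ 50 + 2 * x ^ 51 + x ^ 52 + x ^ 53 + x ^ 54 + x ^ 55 + x ^ 56 + x ^ 57) * ((x ^ 6 - 1) * (x ^ 10 - 1) * (x ^ 1 - 1)) = (x ^ 20 - 1) * (x ^ 24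 - 1) * (x ^ 30 - 1) := by ring

theorem step8 (x : ℤ) :
    (lenSum data chevE8 (weylFirst fine 8) x) * (x - 1) ^ 8 = (x ^ 2 - 1) * (x ^ 8 - 1) * (x ^ 12 - 1) * (x ^ 14 - 1) * (x ^ 18 - 1) * (x ^ 20 - 1) * (x ^ 24 - 1) * (x ^ 30 - 1) := by
  rw [fine.lenSum_step coefOK (by norm_num) (show 8 ≤ chevE8.rank by show 8 ≤ 8; norm_num) level8 x,
    show 8 - 1 = 7 from rfl, sum8 x, pow_succ]
  linear_combination (x ^ 0 + x ^ 1 + x ^ 2 + x ^ 3 + x ^ 4 + x ^ 5 + 2 * x ^ 6 + 2 * x ^ 7 + 2 * x ^ 8 + 2 * x ^ 9 + 3 * x ^ 10 + 3 * x ^ 11 + 4 * x ^ 12 + 4 * x ^ 13 + 4 * x ^ 14 + 4 * x ^ 15 + 5 * x ^ 16 + 5 * x ^ 17 + 6 * x ^ 18 + 6 * x ^ 19 + 6 * x ^ 20 + 6 * x ^ 21 + 7 * x ^ 22 + 7 * x ^ 23 + 7 * x ^ 24 + 7 * x ^ 25 + 7 * x ^ 26 + 7 * x ^ 27 + 8 * x ^ 28 + 8 * x ^ 29 + 7 * x ^ 30 + 7 * x ^ 31 + 7 * x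 ^ 32 + 7 * x ^ 33 + 7 * x ^ 34 + 7 * x ^ 35 + 6 * x ^ 36 + 6 * x ^ 37 + 6 * x ^ 38 + 6 * x ^ 39 + 5 * x ^ 40 + 5 * x ^ 41 + 4 * x ^ 42 + 4 * x ^ 43 + 4 * x ^ 44 + 4 * x ^ 45 + 3 * x ^ 46 + 3 * x ^ 47 + 2 * x ^ 48 + 2 * x ^ 49 + 2 * x ^ 50 + 2 * x ^ 51 + x ^ 52 + x ^ 53 + x ^ 54 + x ^ 55 + x ^ 56 + x ^ 57) * (x - 1) * step7 x + ((x ^ 2 - 1) * (x ^ 8 - 1) * (x ^ 12 - 1) * (x ^ 14 - 1) * (x ^ 18 - 1)) * diff8 x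

theorem lenSum_eq (x : ℤ) :
    (lenSum data chevE8 (weylGrp fine) x) * (x - 1) ^ 8 = (x ^ 2 - 1) * (x ^ 8 - 1) * (x ^ 12 - 1) * (x ^ 14 - 1) * (x ^ 18 - 1) * (x ^ 20 - 1) * (x ^ 24 - 1) * (x ^ 30 - 1) := by
  rw [← fine.weylFirst_all]
  exact step8 x

theorem card_diagonal' {F : Type*} [Field F] [Fintype F] {q : ℕ} (hq : Fintype.card F = q) :
    (1) * Nat.card (chevE8.diagonalSubgroup F) = (q - 1) ^ 8 := by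
  subst hq
  have h := card_diagonal (F := F)
  simp [Fin.prod_univ_succ] at h ⊢
  linear_combination h

theorem card_group {F : Type*} [Field F] [Fintype F] {q : ℕ} (hq : Fintype.card F = q) :
    (1) * Nat.card (chevE8.group F) = q ^ (chevE8.nroots / 2) * ((q ^ 2 - 1) * (q ^ 8 - 1) * (q ^ 12 - 1) * (q ^ 14 - 1) * (q ^ 18 - 1) * (q ^ 20 - 1) * (q ^ 24 - 1) * (q ^ 30 - 1)) := by
  subst hq
  refine fine.card_group_mul (l := 8) _ _ (card_diagonal' rfl) ?_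
  have hq1 : 1 < Fintype.card F := Fintype.one_lt_card
  push_cast [cast_pow_sub_one hq1]
  exact lenSum_eq _

end CfsgLib.Chev.E8
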