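import Cfsg.Agent.Chev.FineG2
import Cfsg.Agent.Chev.Run.G2Poin
import Cfsg.Agent.Chev.Poincare
import Cfsg.Agent.Chev.HCard
import Cfsg.Agent.Chev.Order

/-! Orders of the diagonal subgroup and of the group for type G2 (generated). -/

set_option autoImplicit false
set_option maxRecDepth 100000

namespace CfsgLib.Chev.G2

open Cfsg.Lie

theorem card_diagonal {F : Type*} [Field F] [Fintype F] :
    (∏ i : Fin 2, Nat.gcd ((![1, 1] : Fin 2 → ℕ) i) (Fintype.card F - 1)) *
      Nat.card (chevG2.diagonalSubgroup F) = (Fintype.card F - 1) ^ 2 :=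
  fine.card_diagonal (D := chevG2) (!![0, -1; 1, 2] : Matrix (Fin 2) (Fin 2) ℤ)
    (!![2, 1; -1, 0] : Matrix (Fin 2) (Fin 2) ℤ) (!![1, 2; 0, 1] : Matrix (Fin 2) (Fin 2) ℤ)
    (!![1, -2; 0, 1] : Matrix (Fin 2) (Fin 2) ℤ) ![1, 1]
    (by decide +kernel) (by decide +kernel) (by decide +kernel) (by decide +kernel) (by decide +kernel)

theorem lens1 : reps1.map Rep.len = [0, 1] := by decide +kernel

theorem sum1 (x : ℤ) : (reps1.map fun d => x ^ d.len).sum = x ^ 0 + x ^ 1 := by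
  rw [show (reps1.map fun d => x ^ d.len) = (reps1.map Rep.len).map (fun e => x ^ e) from
    (List.map_map (f := Rep.len) (g := fun e => x ^ e) (l := reps1)).symm, lens1]
  simp only [List.map_cons, List.map_nil, List.sum_cons, List.sum_nil]
  ring

theorem diff1 (x : ℤ) : (x ^ 0 + x ^ 1) * ((x ^ 1 - 1)) = (x ^ 2 - 1) := by ring

theorem step1 (x : ℤ) :
    (lenSum data chevG2 (weylFirst fine 1) x) * (x - 1) ^ 1 = (x ^ 2 - 1) := by
  rw [fine.lenSum_step coefOK (by norm_num) (show 1 ≤ chevG2.rank by show 1 ≤ 2; norm_num) level1 x,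
    show 1 - 1 = 0 from rfl, sum1 x, pow_succ]
  rw [fine.lenSum_zero x]
  linear_combination diff1 x

theorem lens2 : reps2.map Rep.len = [0, 1, 2, 3, 4, 5] := by decide +kernel

theorem sum2 (x : ℤ) : (reps2.map fun d => x ^ d.len).sum = x ^ 0 + x ^ 1 + x ^ 2 + x ^ 3 + x ^ 4 + x ^ 5 := by
  rw [show (reps2.map fun d => x ^ d.len) = (reps2.map Rep.len).map (fun e => x ^ e) from
    (List.map_map (f := Rep.len) (g := fun e => x ^ e) (l := reps2)).symm, lens2]
  simp only [List.map_cons, List.map_nil, List.sum_cons, List.sum_nil]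
  ring

theorem diff2 (x : ℤ) : (x ^ 0 + x ^ 1 + x ^ 2 + x ^ 3 + x ^ 4 + x ^ 5) * ((x ^ 1 - 1)) = (x ^ 6 - 1) := by ring

theorem step2 (x : ℤ) :
    (lenSum data chevG2 (weylFirst fine 2) x) * (x - 1) ^ 2 = (x ^ 2 - 1) * (x ^ 6 - 1) := by
  rw [fine.lenSum_step coefOK (by norm_num) (show 2 ≤ chevG2.rank by show 2 ≤ 2; norm_num) level2 x,
    show 2 - 1 = 1 from rfl, sum2 x, pow_succ]
  linear_combination (x ^ 0 + x ^ 1 + x ^ 2 + x ^ 3 + x ^ 4 + x ^ 5) * (x - 1) * step1 x + ((x ^ 2 - 1)) * diff2 x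

theorem lenSum_eq (x : ℤ) :
    (lenSum data chevG2 (weylGrp fine) x) * (x - 1) ^ 2 = (x ^ 2 - 1) * (x ^ 6 - 1) := by
  rw [← fine.weylFirst_all]
  exact step2 x

theorem card_diagonal' {F : Type*} [Field F] [Fintype F] {q : ℕ} (hq : Fintype.card F = q) :
    (1) * Nat.card (chevG2.diagonalSubgroup F) = (q - 1) ^ 2 := by
  subst hq
  have h := card_diagonal (F := F)
  simp [Fin.prod_univ_succ] at h ⊢
  linear_combination h

theorem card_group {F : Type*} [Field F] [Fintype F] {q : ℕ} (hq : Fintype.card F = q) :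
    (1) * Nat.card (chevG2.group F) = q ^ (chevG2.nroots / 2) * ((q ^ 2 - 1) * (q ^ 6 - 1)) := by
  subst hq
  refine fine.card_group_mul (l := 2) _ _ (card_diagonal' rfl) ?_
  have hq1 : 1 < Fintype.card F := Fintype.one_lt_card
  push_cast [cast_pow_sub_one hq1]
  exact lenSum_eq _

end CfsgLib.Chev.G2
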