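import Cfsg.Agent.Chev.CoxeterFacts
import Cfsg.Agent.Chev.Run.Coxeter
import Cfsg.Agent.Chev.OrdG2
import Cfsg.Agent.Chev.OrdB2
import Cfsg.Agent.Chev.OrdD4
import Cfsg.Agent.Chev.OrdF4
import Cfsg.Agent.Chev.OrdE6
import Cfsg.Agent.Chev.OrdE7
import Cfsg.Agent.Chev.OrdE8
import Cfsg.Agent.Chev.All

/-!
Properties of the seven Coxeter groups read off from the root permutations.
-/

set_option autoImplicit false
set_option maxRecDepth 100000

namespace CfsgLib.Chev

open Cfsg.Lie

variable {K : Data} {D : ChevalleyDatum}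

theorem lenSum_one (W : Subgroup (Equiv.Perm (Fin D.nroots))) : lenSum K D W (1 : ℕ) = Nat.card W := by
  classical
  simp [lenSum, finsum_eq_sum_of_fintype, Nat.card_eq_fintype_card]

/-- the checks on one type needed for its Coxeter group -/
structure CoxData (K : Data) (D : ChevalleyDatum) (M : CoxeterMatrix (Fin D.rank)) (h : ℕ) : Prop where
  comb : Comb K D
  cox : CoxOK K M
  hpos : 0 < h
  ord : K.wordOrdOK ((List.finRange D.rank).map Fin.val) h = true
  rev : K.revOK = true
  full : K.fullOK = true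

namespace Fine

theorem card_coxeterGroup (hK : Fine K D) (M : CoxeterMatrix (Fin D.rank)) (hM : CoxOK K M) :
    Nat.card M.Group = Nat.card (weylGrp hK) := by
  obtain ⟨φ, hinj, hr, -⟩ := hK.exists_coxeterEquiv (ZMod 2) M hM
  rw [← hr]
  exact Nat.card_congr (MonoidHom.ofInjective hinj).toEquiv

/-- the monomial group maps onto the Coxeter group with kernel the diagonal group -/
theorem exists_monomialQuot (hK : Fine K D) {F : Type*} [Field F] (M : CoxeterMatrix (Fin D.rank))
    (hM : CoxOK K M) :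
    ∃ φ : ↥(D.monomialSubgroup F) →* M.Group, Function.Surjective φ ∧
      φ.ker = (D.diagonalSubgroup F).subgroupOf (D.monomialSubgroup F) ∧
      ∀ (i : Fin D.rank) (g : ↥(D.monomialSubgroup F)),
        ((g : GL D.Idx F) : Matrix D.Idx D.Idx F) = D.nMat F (D.simple i) 1 → φ g = M.simple i := by
  obtain ⟨ψ, hinj, hr, hψ⟩ := hK.exists_coxeterEquiv (ZMod 2) M hM
  have hmem : ∀ n, hK.monPerm F n ∈ ψ.range := fun n => by
    rw [hr]; exact hK.mem_weylGrp_iff.2 ⟨_, rfl⟩
  let φ : ↥(D.monomialSubgroup F) →* M.Group :=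
    (MonoidHom.ofInjective hinj).symm.toMonoidHom.comp ((hK.monPerm F).codRestrict ψ.range hmem)
  have hφ : ∀ n, ψ (φ n) = hK.monPerm F n := fun n =>
    MonoidHom.apply_ofInjective_symm hinj ⟨_, hmem n⟩
  refine ⟨φ, fun x => ?_, ?_, fun i g hg => ?_⟩
  · have hx : ψ x ∈ weylGrp hK := hr ▸ ⟨x, rfl⟩
    obtain ⟨L, hL⟩ := hK.mem_weylGrp_iff.1 hx
    have hsw : sWord hK F L ∈ D.monomialSubgroup F := Subgroup.list_prod_mem _ (by
      intro g hg
      obtain ⟨j, -, rfl⟩ := List.mem_map.1 hg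
      exact hK.sU_mem_monomial j.isLt)
    refine ⟨⟨_, hsw⟩, hinj ?_⟩
    rw [hφ, ← hL]
    exact hK.moves_unique (hK.monPerm_moves F ⟨_, hsw⟩) (hK.moves_sWord L)
  · ext n
    rw [MonoidHom.mem_ker, ← hinj.eq_iff, hφ, map_one, ← MonoidHom.mem_ker, hK.monPerm_ker F]
  · refine hinj ?_
    rw [hφ, hψ]
    have hg' : (g : GL D.Idx F) = sU hK i.val := Units.ext (hg.trans (coe_sU hK i.val).symm)
    exact hK.moves_unique (hK.monPerm_moves F g) (hg' ▸ hK.moves_sU i)

end Fine

namespace CoxData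

variable {M : CoxeterMatrix (Fin D.rank)} {h : ℕ}

theorem map_word (hK : Fine K D) {φ : M.Group →* Equiv.Perm (Fin D.nroots)}
    (hφ : ∀ i, φ (M.simple i) = sPerm hK i) (L : List (Fin D.rank)) :
    φ (L.map M.simple).prod = wPerm hK L := by
  rw [map_list_prod, List.map_map, wPerm]
  congr 1
  exact List.map_congr_left fun i _ => hφ i

theorem orderOf_coxeter (hd : CoxData K D M h) :
    orderOf ((List.finRange D.rank).map M.simple).prod = h := by
  obtain ⟨φ, hinj, -, hφ⟩ := hd.comb.fine.exists_coxeterEquiv (ZMod 2) M hd.cox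
  rw [← orderOf_injective φ hinj, map_word hd.comb.fine hφ]
  exact hd.comb.fine.orderOf_wPerm _ hd.ord hd.hpos

theorem center_sign (hd : CoxData K D M h) {φ : M.Group →* Equiv.Perm (Fin D.nroots)}
    (hinj : Function.Injective φ) (hr : φ.range = weylGrp hd.comb.fine)
    (hφ : ∀ i, φ (M.simple i) = sPerm hd.comb.fine i) {z : M.Group} (hz : z ∈ Subgroup.center M.Group) :
    z = 1 ∨ ∀ i, φ z (pFin hd.comb.fine i) = negFin hd.comb.fine (pFin hd.comb.fine i) := by
  rcases hd.comb.central_sign hd.rev hd.full (z := φ z) (hr ▸ ⟨z, rfl⟩) (fun i => by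
    rw [← hφ i, ← map_mul, ← map_mul, Subgroup.mem_center_iff.1 hz]) with e | e
  · exact Or.inl (hinj (e.trans (map_one φ).symm))
  · exact Or.inr e

theorem center_two (hd : CoxData K D M h) (hr0 : 0 < D.rank) {m : ℕ}
    (hneg : K.negPowOK ((List.finRange D.rank).map Fin.val) m = true) :
    Nat.card (Subgroup.center M.Group) = 2 ∧
      Subgroup.center M.Group ≤ Subgroup.zpowers ((List.finRange D.rank).map M.simple).prod := by
  classical
  have hK := hd.comb.fine
  obtain ⟨φ, hinj, hr, hφ⟩ := hd.comb.fine.exists_coxeterEquiv (ZMod 2) M hd.cox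
  set c := ((List.finRange D.rank).map M.simple).prod
  set w := c ^ m
  have hφw : φ w = wPerm hK (List.finRange D.rank) ^ m := by rw [map_pow, map_word hK hφ]
  have hwall : ∀ i, φ w (pFin hK i) = negFin hK (pFin hK i) := fun i => by
    refine Fin.ext ?_
    simp only [Data.negPowOK, List.all_eq_true, List.mem_range, hK.toGood.n_eq] at hneg
    rw [hφw, hK.iterW_eq]
    exact Nat.eq_of_beq_eq_true (hneg _ (hK.toGood.p_lt i.isLt))
  have hwmem : w ∈ Subgroup.center M.Group := Subgroup.mem_center_iff.2 fun g => hinj (by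
    rw [map_mul, map_mul, hφw]
    exact (hK.negPow_central hneg (hr ▸ ⟨g, rfl⟩)).symm)
  have hw1 : w ≠ 1 := fun e => by
    have e' := congrArg Fin.val (hwall ⟨0, hr0⟩)
    rw [e, map_one] at e'
    have := hK.toGood.npos_le_p (i := 0) hr0
    have := (hd.comb.neg_lt_iff (hK.toGood.p_lt (i := 0) hr0)).1.2 this
    change K.p 0 = K.neg (K.p 0) at e'
    omega
  have hsub : ∀ z ∈ Subgroup.center M.Group, z = 1 ∨ z = w := fun z hz => by
    rcases hd.center_sign hinj hr hφ hz with e | e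
    · exact Or.inl e
    · exact Or.inr (hinj (hK.weyl_ext (hr ▸ ⟨z, rfl⟩) (hr ▸ ⟨w, rfl⟩) fun i => (e i).trans (hwall i).symm))
  refine ⟨?_, fun z hz => ?_⟩
  · rw [Nat.card_eq_two_iff]
    refine ⟨1, ⟨w, hwmem⟩, fun e => hw1 (congrArg Subtype.val e).symm, Set.eq_univ_iff_forall.2 fun z => ?_⟩
    rcases hsub z.1 z.2 with e | e
    · exact Or.inl (Subtype.ext e)
    · exact Or.inr (Subtype.ext e)
  · rcases hsub z hz with rfl | rfl
    · exact Subgroup.one_mem _
    · exact Subgroup.pow_mem _ (Subgroup.mem_zpowers _) _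

theorem center_one (hd : CoxData K D M h) (hlong : K.longOK = true) (hnot : K.notNegOK = true) :
    Nat.card (Subgroup.center M.Group) = 1 ∧
      Subgroup.center M.Group ≤ Subgroup.zpowers ((List.finRange D.rank).map M.simple).prod := by
  obtain ⟨φ, hinj, hr, hφ⟩ := hd.comb.fine.exists_coxeterEquiv (ZMod 2) M hd.cox
  have hbot : Subgroup.center M.Group = ⊥ := (Subgroup.eq_bot_iff_forall _).2 fun z hz =>
    (hd.center_sign hinj hr hφ hz).resolve_right (hd.comb.no_neg_one hlong hnot (hr ▸ ⟨z, rfl⟩))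
  rw [hbot]
  exact ⟨Subgroup.card_bot, bot_le⟩

theorem generated (hd : CoxData K D M h) (T : List (Fin D.rank)) (skip : Option ℕ) (W : List (ℕ × List ℕ))
    (hreach : K.reachOK ((List.finRange D.rank).map Fin.val) (T.map Fin.val) skip W = true)
    (hinjT : ∀ i ∈ T, ∀ j ∈ T, i ≠ j →
      (List.range K.n).any (fun r => !(Nat.beq (K.w i.val r) (K.w j.val r))) = true)
    (hT : T.Nodup) :
    ∃ S : Finset M.Group, S.card = T.length ∧
      (∀ t ∈ S, ∃ (g : M.Group) (i : Fin D.rank), t = g * M.simple i * g⁻¹) ∧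
      Subgroup.closure (({((List.finRange D.rank).map M.simple).prod} : Set M.Group) ∪ ↑S) = ⊤ := by
  classical
  have hK := hd.comb.fine
  obtain ⟨φ, hinj, hr, hφ⟩ := hd.comb.fine.exists_coxeterEquiv (ZMod 2) M hd.cox
  set c := ((List.finRange D.rank).map M.simple).prod with hc
  have hne : ∀ i ∈ T, ∀ j ∈ T, M.simple i = M.simple j → i = j := fun i hi j hj e => by
    by_contra hij
    obtain ⟨r, hr', h'⟩ := List.any_eq_true.1 (hinjT i hi j hj hij)
    rw [List.mem_range, hK.toGood.n_eq] at hr'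
    have e' := congrArg Fin.val (Equiv.ext_iff.1 ((hφ i).symm.trans ((congrArg φ e).trans (hφ j))) ⟨r, hr'⟩)
    rw [sPerm_val, sPerm_val] at e'
    rw [show K.w i.val r = K.w j.val r from e', Nat.beq_refl] at h'
    exact absurd h' (by decide)
  refine ⟨(T.map M.simple).toFinset, ?_, fun t ht => ?_, ?_⟩
  · rw [List.toFinset_card_of_nodup, List.length_map]
    exact hT.map_on hne
  · obtain ⟨i, -, rfl⟩ := List.mem_map.1 (List.mem_toFinset.1 ht)
    exact ⟨1, i, by simp⟩
  set G := Subgroup.closure (({c} : Set M.Group) ∪ ↑(T.map M.simple).toFinset)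
  have hcG : c ∈ G := Subgroup.subset_closure (Or.inl rfl)
  have hTG : ∀ i ∈ T, M.simple i ∈ G := fun i hi =>
    Subgroup.subset_closure (Or.inr (List.mem_toFinset.2 (List.mem_map.2 ⟨i, hi, rfl⟩)))
  simp only [Data.reachOK, List.all_eq_true, List.mem_range, Bool.or_eq_true, hK.toGood.l_eq] at hreach
  have hword : ∀ L : List ℕ, (∀ t ∈ L, t ≤ T.length) →
      ∃ L' : List (Fin D.rank), L'.map Fin.val =
          Data.tokWord ((List.finRange D.rank).map Fin.val) (T.map Fin.val) L ∧ (L'.map M.simple).prod ∈ G := by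
    intro L
    induction L with
    | nil => exact fun _ => ⟨[], rfl, by simp⟩
    | cons t L ih =>
      intro hle
      obtain ⟨L', e1, e2⟩ := ih fun x hx => hle x (List.mem_cons_of_mem _ hx)
      cases t with
      | zero =>
        refine ⟨List.finRange D.rank ++ L', ?_, ?_⟩
        · rw [List.map_append, e1]; rfl
        · rw [List.map_append, List.prod_append]; exact Subgroup.mul_mem _ hcG e2
      | succ k =>
        have hk : k < T.length := hle (k + 1) (by simp)
        refine ⟨T[k] :: L', ?_, ?_⟩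
        · rw [List.map_cons, e1]
          show _ = [(T.map Fin.val).getD k 0] ++ _
          rw [List.getD_eq_getElem _ _ (by simpa using hk), List.getElem_map]; rfl
        · rw [List.map_cons, List.prod_cons]; exact Subgroup.mul_mem _ (hTG _ (List.getElem_mem hk)) e2
  have hreached : ∀ j : Fin D.rank, skip ≠ some j.val → M.simple j ∈ G := by
    intro j hj
    rcases hreach j j.isLt with e | e
    · cases skip with
      | none => simp at e
      | some k => exact absurd (congrArg some (Nat.eq_of_beq_eq_true e)) hj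
    · cases hw : W[j.val]? with
      | none => rw [hw] at e; simp at e
      | some aL =>
        obtain ⟨a, L⟩ := aL
        rw [hw] at e
        simp only [Bool.and_eq_true, Nat.blt_eq, List.length_map, List.all_eq_true, Nat.ble_eq] at e
        obtain ⟨⟨ha, hL⟩, happ⟩ := e
        obtain ⟨L', e1, e2⟩ := hword L hL
        have hp : wPerm hK L' (pFin hK T[a]) = pFin hK j := Fin.ext (by
          rw [hK.appW_eq, e1]
          rw [List.getD_eq_getElem _ _ (by simpa using ha), List.getElem_map] at happ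
          exact Nat.eq_of_beq_eq_true happ)
        have e3 := hK.sPerm_conj (hK.mem_weylGrp_iff.2 ⟨L', rfl⟩) hp
        rw [← map_word hK hφ, ← hφ, ← hφ, ← map_mul, ← map_inv, ← map_mul] at e3
        rw [← hinj e3]
        exact Subgroup.mul_mem _ (Subgroup.mul_mem _ e2 (hTG _ (List.getElem_mem ha))) (Subgroup.inv_mem _ e2)
  have hall : ∀ j : Fin D.rank, M.simple j ∈ G := by
    intro j
    by_cases hj : skip = some j.val
    · obtain ⟨A, B, hAB⟩ := List.mem_iff_append.1 (List.mem_finRange j)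
      have hnd : (A ++ j :: B).Nodup := hAB ▸ List.nodup_finRange D.rank
      have hothers : ∀ X : List (Fin D.rank), (∀ x ∈ X, x ≠ j) → (X.map M.simple).prod ∈ G := fun X hX =>
        Subgroup.list_prod_mem _ fun g hg => by
          obtain ⟨x, hx, rfl⟩ := List.mem_map.1 hg
          refine hreached x fun e => hX x hx (Fin.ext ?_)
          exact (Option.some.inj (hj.symm.trans e)).symm
      have e : c = (A.map M.simple).prod * (M.simple j * (B.map M.simple).prod) := by
        rw [hc, hAB, List.map_append, List.prod_append, List.map_cons, List.prod_cons]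
      rw [List.nodup_append] at hnd
      have hA := hothers A fun x hx => hnd.2.2 x hx j (by simp)
      have hB := hothers B fun x hx e => (List.nodup_cons.1 hnd.2.1).1 (e ▸ hx)
      rw [show M.simple j = ((A.map M.simple).prod)⁻¹ * c * ((B.map M.simple).prod)⁻¹ by rw [e]; group]
      exact Subgroup.mul_mem _ (Subgroup.mul_mem _ (Subgroup.inv_mem _ hA) hcG) (Subgroup.inv_mem _ hB)
    · exact hreached j hj
  rw [eq_top_iff, ← M.toCoxeterSystem.subgroup_closure_range_simple, Subgroup.closure_le]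
  rintro _ ⟨i, rfl⟩
  exact hall i

end CoxData

namespace G2

theorem card_weyl : Nat.card (weylGrp (fine : Fine data chevG2)) = 12 := by
  rw [← lenSum_one, ← fine.weylFirst_all, show chevG2.rank = 2 from rfl,
    fine.lenSum_step coefOK (by norm_num) (show 2 ≤ chevG2.rank by show 2 ≤ 2; norm_num) level2 (1 : ℕ), show 2 - 1 = 1 from rfl, fine.lenSum_step coefOK (by norm_num) (show 1 ≤ chevG2.rank by show 1 ≤ 2; norm_num) level1 (1 : ℕ), show 1 - 1 = 0 from rfl, fine.lenSum_zero]
  simp only [one_pow, List.map_const', List.sum_replicate, smul_eq_mul, mul_one]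
  decide +kernel

theorem card_coxeter : Nat.card CoxeterMatrix.G₂.Group = 12 :=
  (fine.card_coxeterGroup CoxeterMatrix.G₂ coxOK).trans card_weyl

end G2

namespace B2

theorem card_weyl : Nat.card (weylGrp (fine : Fine data chevB2)) = 8 := by
  rw [← lenSum_one, ← fine.weylFirst_all, show chevB2.rank = 2 from rfl,
    fine.lenSum_step coefOK (by norm_num) (show 2 ≤ chevB2.rank by show 2 ≤ 2; norm_num) level2 (1 : ℕ), show 2 - 1 = 1 from rfl, fine.lenSum_step coefOK (by norm_num) (show 1 ≤ chevB2.rank by show 1 ≤ 2; norm_num) level1 (1 : ℕ), show 1 - 1 = 0 from rfl, fine.lenSum_zero]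
  simp only [one_pow, List.map_const', List.sum_replicate, smul_eq_mul, mul_one]
  decide +kernel

theorem card_coxeter : Nat.card (CoxeterMatrix.B 2).Group = 8 :=
  (fine.card_coxeterGroup (CoxeterMatrix.B 2) coxOK).trans card_weyl

end B2

namespace D4

theorem card_weyl : Nat.card (weylGrp (fine : Fine data chevD4)) = 192 := by
  rw [← lenSum_one, ← fine.weylFirst_all, show chevD4.rank = 4 from rfl,
    fine.lenSum_step coefOK (by norm_num) (show 4 ≤ chevD4.rank by show 4 ≤ 4; norm_num) level4 (1 : ℕ), show 4 - 1 = 3 from rfl, fine.lenSum_step coefOK (by norm_num) (show 3 ≤ chevD4.rank by show 3 ≤ 4; norm_num) level3 (1 : ℕ), show 3 - 1 = 2 from rfl, fine.lenSum_step coefOK (by norm_num) (show 2 ≤ chevD4.rank by show 2 ≤ 4; norm_num) level2 (1 : ℕ), show 2 - 1 = 1 from rfl, fine.lenSum_step coefOK (by norm_num) (show 1 ≤ chevD4.rank by show 1 ≤ 4; norm_num) level1 (1 : ℕ), show 1 - 1 = 0 from rfl, fine.lenSum_zero]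
  simp only [one_pow, List.map_const', List.sum_replicate, smul_eq_mul, mul_one]
  decide +kernel

theorem card_coxeter : Nat.card Cfsg.Lie.coxeterD4.Group = 192 :=
  (fine.card_coxeterGroup Cfsg.Lie.coxeterD4 coxOK).trans card_weyl

end D4

namespace F4

theorem card_weyl : Nat.card (weylGrp (fine : Fine data chevF4)) = 1152 := by
  rw [← lenSum_one, ← fine.weylFirst_all, show chevF4.rank = 4 from rfl,
    fine.lenSum_step coefOK (by norm_num) (show 4 ≤ chevF4.rank by show 4 ≤ 4; norm_num) level4 (1 : ℕ), show 4 - 1 = 3 from rfl, fine.lenSum_step coefOK (by norm_num) (show 3 ≤ chevF4.rank by show 3 ≤ 4; norm_num) level3 (1 : ℕ), show 3 - 1 = 2 from rfl, fine.lenSum_step coefOK (by norm_num) (show 2 ≤ chevF4.rank by show 2 ≤ 4; norm_num) level2 (1 : ℕ), show 2 - 1 = 1 from rfl, fine.lenSum_step coefOK (by norm_num) (show 1 ≤ chevF4.rank by show 1 ≤ 4; norm_num) level1 (1 : ℕ), show 1 - 1 = 0 from rfl, fine.lenSum_zero]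
  simp only [one_pow, List.map_const', List.sum_replicate, smul_eq_mul, mul_one]
  decide +kernel

theorem card_coxeter : Nat.card CoxeterMatrix.F₄.Group = 1152 :=
  (fine.card_coxeterGroup CoxeterMatrix.F₄ coxOK).trans card_weyl

end F4

namespace E6

theorem card_weyl : Nat.card (weylGrp (fine : Fine data chevE6)) = 51840 := by
  rw [← lenSum_one, ← fine.weylFirst_all, show chevE6.rank = 6 from rfl,
    fine.lenSum_step coefOK (by norm_num) (show 6 ≤ chevE6.rank by show 6 ≤ 6; norm_num) level6 (1 : ℕ), show 6 - 1 = 5 from rfl, fine.lenSum_step coefOK (by norm_num) (show 5 ≤ chevE6.rank by show 5 ≤ 6; norm_num) level5 (1 : ℕ), show 5 - 1 = 4 from rfl, fine.lenSum_step coefOK (by norm_num) (show 4 ≤ chevE6.rank by show 4 ≤ 6; norm_num) level4 (1 : ℕ), show 4 - 1 = 3 from rfl, fine.lenSum_step coefOK (by norm_num) (show 3 ≤ chevE6.rank by show 3 ≤ 6; norm_num) level3 (1 : ℕ), show 3 - 1 = 2 from rfl, fine.lenSum_step coefOK (by norm_num) (show 2 ≤ chevE6.rank by show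 2 ≤ 6; norm_num) level2 (1 : ℕ), show 2 - 1 = 1 from rfl, fine.lenSum_step coefOK (by norm_num) (show 1 ≤ chevE6.rank by show 1 ≤ 6; norm_num) level1 (1 : ℕ), show 1 - 1 = 0 from rfl, fine.lenSum_zero]
  simp only [one_pow, List.map_const', List.sum_replicate, smul_eq_mul, mul_one]
  decide +kernel

theorem card_coxeter : Nat.card CoxeterMatrix.E₆.Group = 51840 :=
  (fine.card_coxeterGroup CoxeterMatrix.E₆ coxOK).trans card_weyl

end E6

namespace E7

theorem card_weyl : Nat.card (weylGrp (fine : Fine data chevE7)) = 2903040 := by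
  rw [← lenSum_one, ← fine.weylFirst_all, show chevE7.rank = 7 from rfl,
    fine.lenSum_step coefOK (by norm_num) (show 7 ≤ chevE7.rank by show 7 ≤ 7; norm_num) level7 (1 : ℕ), show 7 - 1 = 6 from rfl, fine.lenSum_step coefOK (by norm_num) (show 6 ≤ chevE7.rank by show 6 ≤ 7; norm_num) level6 (1 : ℕ), show 6 - 1 = 5 from rfl, fine.lenSum_step coefOK (by norm_num) (show 5 ≤ chevE7.rank by show 5 ≤ 7; norm_num) level5 (1 : ℕ), show 5 - 1 = 4 from rfl, fine.lenSum_step coefOK (by norm_num) (show 4 ≤ chevE7.rank by show 4 ≤ 7; norm_num) level4 (1 : ℕ), show 4 - 1 = 3 from rfl, fine.lenSum_step coefOK (by norm_num) (show 3 ≤ chevE7.rank by show 3 ≤ 7; norm_num) level3 (1 : ℕ), show 3 - 1 = 2 from rfl, fine.lenSum_step coefOK (by norm_num) (show 2 ≤ chevE7.rank by show 2 ≤ 7; norm_num) level2 (1 : ℕ), show 2 - 1 = 1 from rfl, fine.lenSum_step coefOK (by norm_num) (show 1 ≤ chevE7.rank by show 1 ≤ 7; norm_num) level1 (1 : ℕ), show 1 - 1 = 0 from rfl, fine.lenSum_zero]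
  simp only [one_pow, List.map_const', List.sum_replicate, smul_eq_mul, mul_one]
  decide +kernel

theorem card_coxeter : Nat.card CoxeterMatrix.E₇.Group = 2903040 :=
  (fine.card_coxeterGroup CoxeterMatrix.E₇ coxOK).trans card_weyl

end E7

namespace E8

theorem card_weyl : Nat.card (weylGrp (fine : Fine data chevE8)) = 696729600 := by
  rw [← lenSum_one, ← fine.weylFirst_all, show chevE8.rank = 8 from rfl,
    fine.lenSum_step coefOK (by norm_num) (show 8 ≤ chevE8.rank by show 8 ≤ 8; norm_num) level8 (1 : ℕ), show 8 - 1 = 7 from rfl, fine.lenSum_step coefOK (by norm_num) (show 7 ≤ chevE8.rank by show 7 ≤ 8; norm_num) level7 (1 : ℕ), show 7 - 1 = 6 from rfl, fine.lenSum_step coefOK (by norm_num) (show 6 ≤ chevE8.rank by show 6 ≤ 8; norm_num) level6 (1 : ℕ), show 6 - 1 = 5 from rfl, fine.lenSum_step coefOK (by norm_num) (show 5 ≤ chevE8.rank by show 5 ≤ 8; norm_num) level5 (1 : ℕ), show 5 - 1 = 4 from rfl, fine.lenSum_step coefOK (by norm_num) (show 4 ≤ chevE8.rank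 by show 4 ≤ 8; norm_num) level4 (1 : ℕ), show 4 - 1 = 3 from rfl, fine.lenSum_step coefOK (by norm_num) (show 3 ≤ chevE8.rank by show 3 ≤ 8; norm_num) level3 (1 : ℕ), show 3 - 1 = 2 from rfl, fine.lenSum_step coefOK (by norm_num) (show 2 ≤ chevE8.rank by show 2 ≤ 8; norm_num) level2 (1 : ℕ), show 2 - 1 = 1 from rfl, fine.lenSum_step coefOK (by norm_num) (show 1 ≤ chevE8.rank by show 1 ≤ 8; norm_num) level1 (1 : ℕ), show 1 - 1 = 0 from rfl, fine.lenSum_zero]
  simp only [one_pow, List.map_const', List.sum_replicate, smul_eq_mul, mul_one]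
  decide +kernel

theorem card_coxeter : Nat.card CoxeterMatrix.E₈.Group = 696729600 :=
  (fine.card_coxeterGroup CoxeterMatrix.E₈ coxOK).trans card_weyl

end E8

theorem G2.coxData : CoxData G2.data chevG2 CoxeterMatrix.G₂ 6 :=
  ⟨⟨G2.fine, G2.combOK, G2.coweights⟩, G2.coxOK, by norm_num, G2.coxOrd, G2.revOK, G2.fullOK⟩

theorem G2.coxCenter : Nat.card (Subgroup.center CoxeterMatrix.G₂.Group) = 2 ∧
    Subgroup.center CoxeterMatrix.G₂.Group ≤ Subgroup.zpowers ((List.finRange 2).map CoxeterMatrix.G₂.simple).prod :=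
  G2.coxData.center_two (show 0 < 2 by norm_num) G2.negPow

theorem G2.coxGenerated : ∃ S : Finset CoxeterMatrix.G₂.Group, S.card = 1 ∧
    (∀ t ∈ S, ∃ (g : CoxeterMatrix.G₂.Group) (i : Fin 2), t = g * CoxeterMatrix.G₂.simple i * g⁻¹) ∧
    Subgroup.closure (({((List.finRange 2).map CoxeterMatrix.G₂.simple).prod} : Set CoxeterMatrix.G₂.Group) ∪ ↑S) = ⊤ :=
  G2.coxData.generated [(0 : Fin 2)] _ _ G2.reach (by decide +kernel) (by decide)

theorem B2.coxData : CoxData B2.data chevB2 (CoxeterMatrix.B 2) 4 :=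
  ⟨⟨B2.fine, B2.combOK, B2.coweights⟩, B2.coxOK, by norm_num, B2.coxOrd, B2.revOK, B2.fullOK⟩

theorem B2.coxCenter : Nat.card (Subgroup.center (CoxeterMatrix.B 2).Group) = 2 ∧
    Subgroup.center (CoxeterMatrix.B 2).Group ≤ Subgroup.zpowers ((List.finRange 2).map (CoxeterMatrix.B 2).simple).prod :=
  B2.coxData.center_two (show 0 < 2 by norm_num) B2.negPow

theorem B2.coxGenerated : ∃ S : Finset (CoxeterMatrix.B 2).Group, S.card = 1 ∧
    (∀ t ∈ S, ∃ (g : (CoxeterMatrix.B 2).Group) (i : Fin 2), t = g * (CoxeterMatrix.B 2).simple i * g⁻¹) ∧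
    Subgroup.closure (({((List.finRange 2).map (CoxeterMatrix.B 2).simple).prod} : Set (CoxeterMatrix.B 2).Group) ∪ ↑S) = ⊤ :=
  B2.coxData.generated [(0 : Fin 2)] _ _ B2.reach (by decide +kernel) (by decide)

theorem D4.coxData : CoxData D4.data chevD4 Cfsg.Lie.coxeterD4 6 :=
  ⟨⟨D4.fine, D4.combOK, D4.coweights⟩, D4.coxOK, by norm_num, D4.coxOrd, D4.revOK, D4.fullOK⟩

theorem D4.coxCenter : Nat.card (Subgroup.center Cfsg.Lie.coxeterD4.Group) = 2 ∧
    Subgroup.center Cfsg.Lie.coxeterD4.Group ≤ Subgroup.zpowers ((List.finRange 4).map Cfsg.Lie.coxeterD4.simple).prod :=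
  D4.coxData.center_two (show 0 < 4 by norm_num) D4.negPow

theorem D4.coxGenerated : ∃ S : Finset Cfsg.Lie.coxeterD4.Group, S.card = 2 ∧
    (∀ t ∈ S, ∃ (g : Cfsg.Lie.coxeterD4.Group) (i : Fin 4), t = g * Cfsg.Lie.coxeterD4.simple i * g⁻¹) ∧
    Subgroup.closure (({((List.finRange 4).map Cfsg.Lie.coxeterD4.simple).prod} : Set Cfsg.Lie.coxeterD4.Group) ∪ ↑S) = ⊤ :=
  D4.coxData.generated [(0 : Fin 4), (2 : Fin 4)] _ _ D4.reach (by decide +kernel) (by decide)

theorem F4.coxData : CoxData F4.data chevF4 CoxeterMatrix.F₄ 12 :=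
  ⟨⟨F4.fine, F4.combOK, F4.coweights⟩, F4.coxOK, by norm_num, F4.coxOrd, F4.revOK, F4.fullOK⟩

theorem F4.coxCenter : Nat.card (Subgroup.center CoxeterMatrix.F₄.Group) = 2 ∧
    Subgroup.center CoxeterMatrix.F₄.Group ≤ Subgroup.zpowers ((List.finRange 4).map CoxeterMatrix.F₄.simple).prod :=
  F4.coxData.center_two (show 0 < 4 by norm_num) F4.negPow

theorem F4.coxGenerated : ∃ S : Finset CoxeterMatrix.F₄.Group, S.card = 2 ∧
    (∀ t ∈ S, ∃ (g : CoxeterMatrix.F₄.Group) (i : Fin 4), t = g * CoxeterMatrix.F₄.simple i * g⁻¹) ∧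
    Subgroup.closure (({((List.finRange 4).map CoxeterMatrix.F₄.simple).prod} : Set CoxeterMatrix.F₄.Group) ∪ ↑S) = ⊤ :=
  F4.coxData.generated [(0 : Fin 4), (2 : Fin 4)] _ _ F4.reach (by decide +kernel) (by decide)

theorem E6.coxData : CoxData E6.data chevE6 CoxeterMatrix.E₆ 12 :=
  ⟨⟨E6.fine, E6.combOK, E6.coweights⟩, E6.coxOK, by norm_num, E6.coxOrd, E6.revOK, E6.fullOK⟩

theorem E6.coxCenter : Nat.card (Subgroup.center CoxeterMatrix.E₆.Group) = 1 ∧
    Subgroup.center CoxeterMatrix.E₆.Group ≤ Subgroup.zpowers ((List.finRange 6).map CoxeterMatrix.E₆.simple).prod :=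
  E6.coxData.center_one E6.longOK E6.notNegOK

theorem E6.coxGenerated : ∃ S : Finset CoxeterMatrix.E₆.Group, S.card = 1 ∧
    (∀ t ∈ S, ∃ (g : CoxeterMatrix.E₆.Group) (i : Fin 6), t = g * CoxeterMatrix.E₆.simple i * g⁻¹) ∧
    Subgroup.closure (({((List.finRange 6).map CoxeterMatrix.E₆.simple).prod} : Set CoxeterMatrix.E₆.Group) ∪ ↑S) = ⊤ :=
  E6.coxData.generated [(0 : Fin 6)] _ _ E6.reach (by decide +kernel) (by decide)

theorem E7.coxData : CoxData E7.data chevE7 CoxeterMatrix.E₇ 18 :=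
  ⟨⟨E7.fine, E7.combOK, E7.coweights⟩, E7.coxOK, by norm_num, E7.coxOrd, E7.revOK, E7.fullOK⟩

theorem E7.coxCenter : Nat.card (Subgroup.center CoxeterMatrix.E₇.Group) = 2 ∧
    Subgroup.center CoxeterMatrix.E₇.Group ≤ Subgroup.zpowers ((List.finRange 7).map CoxeterMatrix.E₇.simple).prod :=
  E7.coxData.center_two (show 0 < 7 by norm_num) E7.negPow

theorem E7.coxGenerated : ∃ S : Finset CoxeterMatrix.E₇.Group, S.card = 1 ∧
    (∀ t ∈ S, ∃ (g : CoxeterMatrix.E₇.Group) (i : Fin 7), t = g * CoxeterMatrix.E₇.simple i * g⁻¹) ∧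
    Subgroup.closure (({((List.finRange 7).map CoxeterMatrix.E₇.simple).prod} : Set CoxeterMatrix.E₇.Group) ∪ ↑S) = ⊤ :=
  E7.coxData.generated [(1 : Fin 7)] _ _ E7.reach (by decide +kernel) (by decide)

theorem E8.coxData : CoxData E8.data chevE8 CoxeterMatrix.E₈ 30 :=
  ⟨⟨E8.fine, E8.combOK, E8.coweights⟩, E8.coxOK, by norm_num, E8.coxOrd, E8.revOK, E8.fullOK⟩

theorem E8.coxCenter : Nat.card (Subgroup.center CoxeterMatrix.E₈.Group) = 2 ∧
    Subgroup.center CoxeterMatrix.E₈.Group ≤ Subgroup.zpowers ((List.finRange 8).map CoxeterMatrix.E₈.simple).prod :=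
  E8.coxData.center_two (show 0 < 8 by norm_num) E8.negPow

theorem E8.coxGenerated : ∃ S : Finset CoxeterMatrix.E₈.Group, S.card = 1 ∧
    (∀ t ∈ S, ∃ (g : CoxeterMatrix.E₈.Group) (i : Fin 8), t = g * CoxeterMatrix.E₈.simple i * g⁻¹) ∧
    Subgroup.closure (({((List.finRange 8).map CoxeterMatrix.E₈.simple).prod} : Set CoxeterMatrix.E₈.Group) ∪ ↑S) = ⊤ :=
  E8.coxData.generated [(0 : Fin 8)] _ _ E8.reach (by decide +kernel) (by decide)

end CfsgLib.Chev
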