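import Cfsg.Agent.Chev.ParCosets
import Cfsg.Prelude.Def_ParabolicCharacters

/-!
The alternating sum of parabolic permutation characters on the Borel subgroup, and the number of
elements of prime power order in the defining characteristic.
-/

set_option autoImplicit false

namespace CfsgLib.Chev

open Cfsg.Lie

variable {K : Data} {D : ChevalleyDatum} {F : Type*} [Field F]

/-- alternating sums of partial sums over the subsets of labels -/
theorem alt_sum_subsets {W C : Type*} [CommRing C] (s : Finset W) (A : W → Finset ℕ) (R : Finset ℕ)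
    (hA : ∀ w ∈ s, A w ⊆ R) (f : W → C) :
    ∑ J ∈ R.powerset, (-1 : C) ^ J.card * ∑ w ∈ s.filter (fun w => J ⊆ A w), f w =
      ∑ w ∈ s.filter (fun w => A w = ∅), f w := by
  classical
  simp only [Finset.mul_sum, Finset.sum_filter]
  rw [Finset.sum_comm]
  refine Finset.sum_congr rfl fun w hw => ?_
  simp only [mul_ite, mul_zero]
  rw [← Finset.sum_filter]
  have e : R.powerset.filter (fun J => J ⊆ A w) = (A w).powerset := by
    ext J
    simp only [Finset.mem_filter, Finset.mem_powerset]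
    exact ⟨fun h => h.2, fun h => ⟨h.trans (hA w hw), h⟩⟩
  rw [e, ← Finset.sum_mul]
  have h := congrArg (fun z : ℤ => (z : C)) (Finset.sum_powerset_neg_one_pow_card (x := A w))
  push_cast at h
  rw [h]
  split_ifs <;> simp

/-- the labels whose fundamental root stays positive -/
noncomputable def ascSet (hK : Fine K D) (σ : Equiv.Perm (Fin D.nroots)) (R : Finset ℕ) : Finset ℕ :=
  R.filter fun i => K.npos ≤ permNat σ (K.p i)

/-- fixed points of `g` in one cell -/
noncomputable def cellCnt (hK : Fine K D) (F : Type*) [Field F] (τ : weylGrp hK) (g : GL D.Idx F) : ℕ :=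
  Nat.card {u : genU hK F (invSet K D τ.val⁻¹) //
    (u.val * nOf hK F τ)⁻¹ * g * (u.val * nOf hK F τ) ∈ D.borelSubgroup F}

/-- fixed points of `g` on the cosets of `P_I` inside `P_J` -/
noncomputable def parCnt (D : ChevalleyDatum) (F : Type*) [Field F] (I J : Set ℕ) (g : ↥(D.group F)) : ℕ :=
  Nat.card {x : ↥(D.group F) ⧸ (D.parabolicSubgroup F I).subgroupOf (D.group F) //
    g • x = x ∧ x.out ∈ (D.parabolicSubgroup F J).subgroupOf (D.group F)}

theorem out_mem_iff {G : Type*} [Group G] {H P : Subgroup G} (h : H ≤ P) (a : G) :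
    (QuotientGroup.mk a : G ⧸ H).out ∈ P ↔ a ∈ P := by
  obtain ⟨k, hk⟩ := QuotientGroup.mk_out_eq_mul H a
  rw [hk]
  exact P.mul_mem_cancel_right (h k.2)

theorem smul_mk_eq_iff {G : Type*} [Group G] {H : Subgroup G} (g a : G) :
    g • (QuotientGroup.mk a : G ⧸ H) = QuotientGroup.mk a ↔ a⁻¹ * g * a ∈ H := by
  rw [MulAction.Quotient.smul_mk, QuotientGroup.eq, ← inv_mem_iff]
  simp [mul_assoc]

namespace Comb

theorem weylSub_top (hC : Comb K D) {J : Set ℕ} (hJ : ∀ i : Fin D.rank, i.val ∈ J) :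
    weylSub hC.fine J = weylGrp hC.fine :=
  le_antisymm (hC.weylSub_le J) ((Subgroup.closure_le _).2 fun _ ⟨i, e⟩ =>
    e ▸ hC.sPerm_mem_weylSub (hJ i))

theorem ascSet_minRep (hC : Comb K D) {σ : Equiv.Perm (Fin D.nroots)} {I R : Finset ℕ}
    (hI : I ⊆ R) (hR : ∀ i ∈ R, i < D.rank) :
    I ⊆ ascSet hC.fine σ R ↔ MinRep hC.fine (↑I : Set ℕ) σ := by
  constructor
  · intro h i hi
    have := (Finset.mem_filter.1 (h hi)).2
    rwa [show K.p i.val = ((pFin hC.fine i : Fin D.nroots) : ℕ) from rfl, permNat_fin] at this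
  · intro h i hi
    refine Finset.mem_filter.2 ⟨hI hi, ?_⟩
    rw [show K.p i = ((pFin hC.fine ⟨i, hR i (hI hi)⟩ : Fin D.nroots) : ℕ) from rfl, permNat_fin]
    exact h ⟨i, hR i (hI hi)⟩ hi

theorem ascSet_maxRep (hC : Comb K D) {σ : Equiv.Perm (Fin D.nroots)} {R : Finset ℕ}
    (hR : ∀ i ∈ R, i < D.rank) :
    ascSet hC.fine σ R = ∅ ↔ MaxRep hC.fine (↑R : Set ℕ) σ := by
  constructor
  · intro h i hi
    by_contra hcon
    have : i.val ∈ ascSet hC.fine σ R := Finset.mem_filter.2 ⟨hi, by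
      rw [show K.p i.val = ((pFin hC.fine i : Fin D.nroots) : ℕ) from rfl, permNat_fin]
      exact Nat.le_of_not_lt hcon⟩
    simp [h] at this
  · intro h
    refine Finset.eq_empty_of_forall_notMem fun i hi => ?_
    obtain ⟨h1, h2⟩ := Finset.mem_filter.1 hi
    have := h ⟨i, hR i h1⟩ h1
    rw [show K.p i = ((pFin hC.fine ⟨i, hR i h1⟩ : Fin D.nroots) : ℕ) from rfl, permNat_fin] at h2
    omega

/-- for an element of the Borel subgroup a parabolic condition is a Borel condition -/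
theorem cell_cond_iff (hC : Comb K D) {J : Set ℕ} (τ : weylGrp hC.fine) (h : MinRep hC.fine J τ.val)
    {g u : GL D.Idx F} (hg : g ∈ D.borelSubgroup F) (hu : u ∈ genU hC.fine F (invSet K D τ.val⁻¹)) :
    (u * nOf hC.fine F τ)⁻¹ * g * (u * nOf hC.fine F τ) ∈ D.parabolicSubgroup F J ↔
      (u * nOf hC.fine F τ)⁻¹ * g * (u * nOf hC.fine F τ) ∈ D.borelSubgroup F := by
  refine ⟨fun hP => ?_, fun hB => Subgroup.mem_sup_left hB⟩
  have hK := hC.fine
  have huB : u ∈ D.borelSubgroup F := Subgroup.mem_sup_left (hK.invSet_le_pos _ hu)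
  obtain ⟨x, hx, d, hd, e⟩ := hK.mem_borel_iff.1
    (Subgroup.mul_mem _ (Subgroup.mul_mem _ (Subgroup.inv_mem _ huB) hg) huB)
  set n := nOf hC.fine F τ
  have hd' : n⁻¹ * d * n ∈ D.diagonalSubgroup F := by
    have := (Subgroup.mem_normalizer_iff.1
      (hK.monomial_le_normalizer_diagonal (Subgroup.inv_mem _ (hC.nOf_mem (F := F) τ))) d).1 hd
    rwa [inv_inv] at this
  have e' : (u * n)⁻¹ * g * (u * n) = n⁻¹ * x * n * (n⁻¹ * d * n) := by
    calc (u * n)⁻¹ * g * (u * n) = n⁻¹ * (u⁻¹ * g * u) * n := by group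
      _ = _ := by rw [e]; group
  rw [e'] at hP ⊢
  have hxP : n⁻¹ * x * n ∈ D.parabolicSubgroup F J :=
    (Subgroup.mul_mem_cancel_right _ (hC.diagonal_le_parabolic J hd')).1 hP
  exact Subgroup.mul_mem _
    (Subgroup.mem_sup_left (hC.conj_keep_mem τ ((hC.conj_mem_parabolic_iff τ h hx).1 hxP)))
    (Subgroup.mem_sup_right hd')

theorem cellMap_mem_iff (hC : Comb K D) {I J : Set ℕ} (hIJ : D.parabolicSubgroup F I ≤ D.parabolicSubgroup F J)
    (x : Σ τ : {σ : weylGrp hC.fine // MinRep hC.fine I σ.val},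
      ↥(genU hC.fine F (invSet K D τ.1.val⁻¹))) :
    (hC.cellMap F I x).out ∈ (D.parabolicSubgroup F J).subgroupOf (D.group F) ↔
      x.1.1.val ∈ weylSub hC.fine J := by
  unfold cellMap
  refine (out_mem_iff (P := (D.parabolicSubgroup F J).subgroupOf (D.group F))
    (Subgroup.comap_mono hIJ) _).trans (Subgroup.mem_subgroupOf.trans ?_)
  rw [← hC.nOf_mem_parabolic_iff (F := F) J]
  exact Subgroup.mul_mem_cancel_left _ (hC.pos_le_parabolic J (hC.fine.invSet_le_pos _ x.2.2))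

theorem parabolic_mono (hC : Comb K D) {I J : Set ℕ} (h : I ⊆ J) :
    D.parabolicSubgroup F I ≤ D.parabolicSubgroup F J :=
  sup_le le_sup_left (le_trans (Subgroup.closure_mono (by rintro g ⟨j, hj, hg⟩; exact ⟨j, h hj, hg⟩))
    le_sup_right)

section Finite

variable [Fintype F]

/-- the Weyl group of a subset of labels as a finset -/
noncomputable def subW (hC : Comb K D) (J : Set ℕ) : Finset (weylGrp hC.fine) := by
  classical
  exact Finset.univ.filter fun σ => σ.val ∈ weylSub hC.fine J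

theorem mem_subW (hC : Comb K D) {J : Set ℕ} {σ : weylGrp hC.fine} :
    σ ∈ hC.subW J ↔ σ.val ∈ weylSub hC.fine J := by
  classical
  simp [subW]

theorem parCnt_borel (hC : Comb K D) {R I : Finset ℕ} (hI : I ⊆ R) (hR : ∀ i ∈ R, i < D.rank)
    (g : ↥(D.group F)) (hg : (g : GL D.Idx F) ∈ D.borelSubgroup F) :
    parCnt D F (↑I : Set ℕ) (↑R : Set ℕ) g =
      ∑ τ ∈ (hC.subW (↑R : Set ℕ)).filter (fun τ => I ⊆ ascSet hC.fine τ.val R),
        cellCnt hC.fine F τ g := by
  classical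
  have hIR : (↑I : Set ℕ) ⊆ ↑R := Finset.coe_subset.2 hI
  let P := D.parabolicSubgroup F (↑I : Set ℕ)
  let S := Σ τ : {σ : weylGrp hC.fine // σ.val ∈ weylSub hC.fine (↑R : Set ℕ) ∧
      MinRep hC.fine (↑I : Set ℕ) σ.val},
    {u : genU hC.fine F (invSet K D τ.1.val⁻¹) //
      (u.val * nOf hC.fine F τ.1)⁻¹ * (g : GL D.Idx F) * (u.val * nOf hC.fine F τ.1) ∈
        D.borelSubgroup F}
  let f : S → {x : ↥(D.group F) ⧸ (D.parabolicSubgroup F (↑I : Set ℕ)).subgroupOf (D.group F) //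
      g • x = x ∧ x.out ∈ (D.parabolicSubgroup F (↑R : Set ℕ)).subgroupOf (D.group F)} := fun y =>
    ⟨hC.cellMap F _ ⟨⟨y.1.1, y.1.2.2⟩, y.2.1⟩, by
      constructor
      · unfold cellMap
        rw [smul_mk_eq_iff, Subgroup.mem_subgroupOf]
        exact (hC.cell_cond_iff y.1.1 y.1.2.2 hg y.2.1.2).2 y.2.2
      · exact (hC.cellMap_mem_iff (hC.parabolic_mono hIR) _).2 y.1.2.1⟩
  have hf : Function.Bijective f := by
    constructor
    · rintro ⟨⟨τ, h1, h2⟩, u, hu⟩ ⟨⟨τ', h1', h2'⟩, u', hu'⟩ e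
      have e' := (hC.cellMap_bijective (F := F) (↑I : Set ℕ)).1 (congrArg Subtype.val e)
      obtain ⟨e1, e2⟩ := Sigma.mk.inj_iff.1 e'
      obtain rfl : τ = τ' := congrArg Subtype.val e1
      obtain rfl : u = u' := eq_of_heq e2
      rfl
    · rintro ⟨x, hx1, hx2⟩
      obtain ⟨⟨⟨τ, h⟩, u⟩, rfl⟩ := (hC.cellMap_bijective (F := F) (↑I : Set ℕ)).2 x
      have hW := (hC.cellMap_mem_iff (hC.parabolic_mono hIR) _).1 hx2
      unfold cellMap at hx1
      rw [smul_mk_eq_iff, Subgroup.mem_subgroupOf] at hx1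
      exact ⟨⟨⟨τ, hW, h⟩, ⟨u, (hC.cell_cond_iff τ h hg u.2).1 hx1⟩⟩, rfl⟩
  unfold parCnt
  rw [← Nat.card_congr (Equiv.ofBijective f hf), Nat.card_sigma]
  unfold cellCnt
  refine (Finset.sum_subtype (p := fun σ : weylGrp hC.fine =>
    σ.val ∈ weylSub hC.fine (↑R : Set ℕ) ∧ MinRep hC.fine (↑I : Set ℕ) σ.val) _ (fun τ => ?_)
    (fun τ => Nat.card {u : genU hC.fine F (invSet K D τ.val⁻¹) //
      (u.val * nOf hC.fine F τ)⁻¹ * (g : GL D.Idx F) * (u.val * nOf hC.fine F τ) ∈
        D.borelSubgroup F})).symm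
  rw [Finset.mem_filter, hC.mem_subW, hC.ascSet_minRep hI hR]

theorem alt_parCnt (hC : Comb K D) {C : Type*} [CommRing C] {R : Finset ℕ} (hR : ∀ i ∈ R, i < D.rank)
    (g : ↥(D.group F)) (hg : (g : GL D.Idx F) ∈ D.borelSubgroup F) :
    ∃ w : weylGrp hC.fine, w.val ∈ weylSub hC.fine (↑R : Set ℕ) ∧ MaxRep hC.fine (↑R : Set ℕ) w.val ∧
      ∑ I ∈ R.powerset, (-1 : C) ^ I.card * (parCnt D F (↑I : Set ℕ) (↑R : Set ℕ) g : C) =
        (cellCnt hC.fine F w g : C) := by
  classical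
  obtain ⟨v, hv, hmax⟩ := hC.exists_maxRep (↑R : Set ℕ)
  refine ⟨⟨v, hC.weylSub_le _ hv⟩, hv, hmax, ?_⟩
  rw [Finset.sum_congr rfl fun I hI => by
    rw [hC.parCnt_borel (Finset.mem_powerset.1 hI) hR g hg, Nat.cast_sum]]
  rw [alt_sum_subsets (hC.subW (↑R : Set ℕ)) (fun w => ascSet hC.fine w.val R) R
    (fun w _ => Finset.filter_subset _ _) (fun w => (cellCnt hC.fine F w (g : GL D.Idx F) : C))]
  refine Finset.sum_eq_single_of_mem _ ?_ fun w hw hne => ?_
  · rw [Finset.mem_filter, hC.mem_subW, hC.ascSet_maxRep hR]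
    exact ⟨hv, hmax⟩
  · rw [Finset.mem_filter, hC.mem_subW, hC.ascSet_maxRep hR] at hw
    exact absurd (Subtype.ext (hC.maxRep_unique hw.1 hv hw.2 hmax)) hne

theorem parCnt_univ (hC : Comb K D) {R : Finset ℕ} (hR : ∀ i : Fin D.rank, i.val ∈ R) (I : Finset ℕ)
    (g : ↥(D.group F)) :
    (parCnt D F (↑I : Set ℕ) (↑R : Set ℕ) g : ℂ) = Cfsg.fixedPointCharacter (D.parabolicIn F I) g := by
  unfold parCnt Cfsg.fixedPointCharacter ChevalleyDatum.parabolicIn
  congr 1
  refine Nat.card_congr (Equiv.subtypeEquivRight fun x => ?_)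
  refine ⟨fun h => h.1, fun h => ⟨h, ?_⟩⟩
  obtain ⟨τ, u, h1, h2, h3⟩ := hC.cell_exists (↑R : Set ℕ) (x.out).2
  rw [Subgroup.mem_subgroupOf]
  have hn : nOf hC.fine F τ ∈ D.parabolicSubgroup F (↑R : Set ℕ) :=
    (hC.nOf_mem_parabolic_iff _ τ).2 (by rw [hC.weylSub_top (J := (↑R : Set ℕ)) hR]; exact τ.2)
  have := Subgroup.mul_mem _ (Subgroup.mul_mem _
    (hC.pos_le_parabolic (↑R : Set ℕ) (hC.fine.invSet_le_pos _ h2)) hn) h3
  rwa [mul_inv_cancel_left] at this

theorem steinberg_eq (hC : Comb K D) (g : ↥(D.group F)) :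
    D.steinbergCharacter F g = ∑ I ∈ (Finset.range D.rank).powerset,
      (-1 : ℂ) ^ I.card * (parCnt D F (↑I : Set ℕ) (↑(Finset.range D.rank) : Set ℕ) g : ℂ) := by
  unfold ChevalleyDatum.steinbergCharacter
  exact Finset.sum_congr rfl fun I _ => by
    rw [hC.parCnt_univ (fun i => Finset.mem_range.2 i.isLt)]

/-- the fixed points in a cell of a longest element -/
theorem cellCnt_maxRep (hC : Comb K D) {J : Set ℕ} (w : weylGrp hC.fine)
    (hw : w.val ∈ weylSub hC.fine J) (hmax : MaxRep hC.fine J w.val) {g : GL D.Idx F}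
    (hg : g ∈ D.posUnipotent F) :
    (g ∈ D.unipotentRadical F J → cellCnt hC.fine F w g = Fintype.card F ^ (subPos K D J).ncard) ∧
    (g ∉ D.unipotentRadical F J → cellCnt hC.fine F w g = 0) := by
  classical
  have hK := hC.fine
  obtain ⟨e1, e2⟩ := hC.invSet_maxRep_inv hw hmax
  have key : ∀ u : genU hC.fine F (invSet K D w.val⁻¹),
      (u.val * nOf hC.fine F w)⁻¹ * g * (u.val * nOf hC.fine F w) ∈ D.borelSubgroup F ↔
        g ∈ D.unipotentRadical F J := by
    intro u
    have huP : u.val ∈ D.parabolicSubgroup F J := hC.pos_le_parabolic J (hK.invSet_le_pos _ u.2)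
    have hx : u.val⁻¹ * g * u.val ∈ D.posUnipotent F := Subgroup.mul_mem _
      (Subgroup.mul_mem _ (Subgroup.inv_mem _ (hK.invSet_le_pos _ u.2)) hg) (hK.invSet_le_pos _ u.2)
    have hnorm : u.val⁻¹ * g * u.val ∈ D.unipotentRadical F J ↔ g ∈ D.unipotentRadical F J := by
      have := (Subgroup.mem_normalizer_iff.1
        (Subgroup.inv_mem _ (hC.parabolic_le_normalizer J huP)) g)
      rw [inv_inv] at this
      exact this.symm
    rw [show (u.val * nOf hC.fine F w)⁻¹ * g * (u.val * nOf hC.fine F w) =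
      (nOf hC.fine F w)⁻¹ * (u.val⁻¹ * g * u.val) * nOf hC.fine F w by group, ← hnorm,
      hC.unipotentRadical_eq, ← e2]
    constructor
    · intro h
      exact (hC.conj_mem_parabolic_iff (J := (∅ : Set ℕ)) w (fun i hi => absurd hi (Set.notMem_empty _)) hx).1
        (Subgroup.mem_sup_left h)
    · exact fun h => Subgroup.mem_sup_left (hC.conj_keep_mem w h)
  constructor
  · intro h
    unfold cellCnt
    rw [Nat.card_congr (Equiv.subtypeUnivEquiv fun u => (key u).2 h),
      hC.card_cell (Subgroup.inv_mem _ w.2), e1]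
  · intro h
    unfold cellCnt
    rw [Nat.card_eq_zero]
    exact Or.inl ⟨fun u => h ((key u.1).1 u.2)⟩

theorem ncard_subPos_add (hC : Comb K D) (J : Set ℕ) :
    (subPos K D J).ncard + (outSet K D J).ncard = D.nroots / 2 := by
  have hu : subPos K D J ∪ outSet K D J = {r | K.npos ≤ r ∧ r < D.nroots} := by
    ext r
    exact ⟨fun h => h.elim (fun h => h.1) (fun h => h.1), fun h => mem_subPos_or_outSet J h.1 h.2⟩
  rw [← Set.ncard_union_eq (Set.disjoint_left.2 fun r h1 h2 => h2.2 h1.2)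
    ((Set.finite_Iio D.nroots).subset fun r hr => hr.1.2)
    ((Set.finite_Iio D.nroots).subset fun r hr => hr.1.2), hu]
  have h2 := hC.fine.toGood.nroots_eq_two_mul
  rw [show {r | K.npos ≤ r ∧ r < D.nroots} = Set.Ico K.npos D.nroots from rfl,
    ← Finset.coe_Ico, Set.ncard_coe_finset, Nat.card_Ico]
  omega

theorem subPos_univ (hC : Comb K D) {J : Set ℕ} (hJ : ∀ i : Fin D.rank, i.val ∈ J) :
    (subPos K D J).ncard = D.nroots / 2 := by
  have : outSet K D J = ∅ := Set.eq_empty_iff_forall_notMem.2 fun r hr =>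
    hr.2 ((hC.inRootSub_iff hr.1.2).2 fun i hi hiJ => absurd (hJ ⟨i, hi⟩) hiJ)
  have h := hC.ncard_subPos_add J
  rwa [this, Set.ncard_empty, add_zero] at h

theorem steinberg_borel (hC : Comb K D) (g : ↥(D.group F)) (hg : (g : GL D.Idx F) ∈ D.borelSubgroup F) :
    ∃ w : weylGrp hC.fine, MaxRep hC.fine Set.univ w.val ∧
      D.steinbergCharacter F g = (cellCnt hC.fine F w g : ℂ) := by
  obtain ⟨w, -, hmax, e⟩ :=
    hC.alt_parCnt (C := ℂ) (R := Finset.range D.rank) (fun i hi => Finset.mem_range.1 hi) g hg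
  exact ⟨w, fun i _ => hmax i (Finset.mem_range.2 i.isLt), (hC.steinberg_eq g).trans e⟩

theorem steinberg_one (hC : Comb K D) :
    D.steinbergCharacter F 1 = (Fintype.card F : ℂ) ^ (D.nroots / 2) := by
  obtain ⟨w, hmax, e⟩ := hC.steinberg_borel (1 : ↥(D.group F)) (Subgroup.one_mem _)
  rw [e, OneMemClass.coe_one, (hC.cellCnt_maxRep (J := Set.univ) w (by rw [hC.weylSub_top fun i => Set.mem_univ _]; exact w.2)
    hmax (Subgroup.one_mem _)).1 (Subgroup.one_mem _), hC.subPos_univ fun i => Set.mem_univ _,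
    Nat.cast_pow]

theorem steinberg_restrict_borel (hC : Comb K D)
    (b : ↥((D.borelSubgroup F).subgroupOf (D.group F))) :
    D.steinbergCharacter F (((D.borelSubgroup F).subgroupOf (D.group F)).subtype b) =
      Cfsg.fixedPointCharacter (((D.diagonalSubgroup F).subgroupOf (D.group F)).subgroupOf
        ((D.borelSubgroup F).subgroupOf (D.group F))) b := by
  classical
  have hK := hC.fine
  have hb : ((b : ↥(D.group F)) : GL D.Idx F) ∈ D.borelSubgroup F := Subgroup.mem_subgroupOf.1 b.2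
  obtain ⟨w, hmax, e⟩ := hC.steinberg_borel b.val hb
  rw [Subgroup.subtype_apply, e]
  unfold Cfsg.fixedPointCharacter cellCnt
  congr 1
  have hw : w.val ∈ weylSub hC.fine Set.univ := by
    rw [hC.weylSub_top fun i => Set.mem_univ _]; exact w.2
  obtain ⟨e1, -⟩ := hC.invSet_maxRep_inv hw hmax
  have hall : invSet K D w.val⁻¹ = {r | K.npos ≤ r ∧ r < D.nroots} := by
    rw [e1]
    ext r
    exact ⟨fun h => h.1, fun h => ⟨h, (hC.inRootSub_iff h.2).2 fun i _ hi => absurd (Set.mem_univ i) hi⟩⟩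
  have hU : genU hC.fine F (invSet K D w.val⁻¹) = D.posUnipotent F := by
    rw [hall, hK.posUnipotent_eq]
  set n := nOf hC.fine F w
  -- conjugation of `B` by the longest element meets `B` in `H`
  have key : ∀ x ∈ D.borelSubgroup F, (n⁻¹ * x * n ∈ D.borelSubgroup F ↔ x ∈ D.diagonalSubgroup F) := by
    intro x hx
    obtain ⟨v, hv, d, hd, rfl⟩ := hK.mem_borel_iff.1 hx
    have hd' : n⁻¹ * d * n ∈ D.diagonalSubgroup F := by
      have := (Subgroup.mem_normalizer_iff.1
        (hK.monomial_le_normalizer_diagonal (Subgroup.inv_mem _ (hC.nOf_mem (F := F) w))) d).1 hd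
      rwa [inv_inv] at this
    constructor
    · intro h
      have hvB : n⁻¹ * v * n ∈ D.borelSubgroup F := by
        have := Subgroup.mul_mem _ h (Subgroup.inv_mem _ (Subgroup.mem_sup_right hd'))
        convert this using 1
        group
      have h1 : n⁻¹ * v * n ∈ D.borelSubgroup F ⊓ D.negUnipotent F := by
        refine ⟨hvB, ?_⟩
        have := hK.conj_invSet_mem_neg (hK.moves_inv (hC.nOf_moves (F := F) w)) (g := v) (by rw [hU]; exact hv)
        rwa [inv_inv] at this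
      rw [hK.borel_inf_neg, Subgroup.mem_bot] at h1
      have : v = 1 := by
        calc v = n * (n⁻¹ * v * n) * n⁻¹ := by group
          _ = 1 := by rw [h1]; group
      rw [this, one_mul]
      exact hd
    · intro h
      have := (Subgroup.mem_normalizer_iff.1
        (hK.monomial_le_normalizer_diagonal (Subgroup.inv_mem _ (hC.nOf_mem (F := F) w))) _).1 h
      rw [inv_inv] at this
      exact Subgroup.mem_sup_right this
  let B := (D.borelSubgroup F).subgroupOf (D.group F)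
  let H : Subgroup B := ((D.diagonalSubgroup F).subgroupOf (D.group F)).subgroupOf B
  let emb : genU hC.fine F (invSet K D w.val⁻¹) → B := fun u =>
    ⟨⟨u.val, hK.genU_le_group _ u.2⟩,
      Subgroup.mem_subgroupOf.2 (Subgroup.mem_sup_left (hU ▸ u.2))⟩
  let φ : genU hC.fine F (invSet K D w.val⁻¹) → B ⧸ H := fun u => QuotientGroup.mk (emb u)
  have hφ : Function.Bijective φ := by
    constructor
    · intro u u' he
      have hm : u.val⁻¹ * u'.val ∈ D.posUnipotent F ⊓ D.diagonalSubgroup F :=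
        ⟨Subgroup.mul_mem _ (Subgroup.inv_mem _ (hU ▸ u.2)) (hU ▸ u'.2),
          Subgroup.mem_subgroupOf.1 (Subgroup.mem_subgroupOf.1 (QuotientGroup.eq.1 he))⟩
      rw [hK.pos_inf_diagonal, Subgroup.mem_bot] at hm
      exact Subtype.ext (inv_mul_eq_one.1 hm)
    · intro x
      obtain ⟨⟨⟨g, hg⟩, hgB⟩, rfl⟩ := QuotientGroup.mk_surjective x
      obtain ⟨v, hv, d, hd, rfl⟩ := hK.mem_borel_iff.1 (Subgroup.mem_subgroupOf.1 hgB)
      refine ⟨⟨v, hU ▸ hv⟩, QuotientGroup.eq.2 ?_⟩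
      show v⁻¹ * (v * d) ∈ D.diagonalSubgroup F
      rwa [inv_mul_cancel_left]
  refine Nat.card_congr ((Equiv.ofBijective φ hφ).subtypeEquiv fun u => ?_)
  show _ ↔ b • φ u = φ u
  rw [smul_mk_eq_iff, Subgroup.mem_subgroupOf, Subgroup.mem_subgroupOf]
  show _ ↔ u.val⁻¹ * (b : ↥(D.group F)).val * u.val ∈ D.diagonalSubgroup F
  have huB : u.val ∈ D.borelSubgroup F := Subgroup.mem_sup_left (hU ▸ u.2)
  rw [← key _ (Subgroup.mul_mem _ (Subgroup.mul_mem _ (Subgroup.inv_mem _ huB) hb) huB),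
    show (u.val * n)⁻¹ * (b : ↥(D.group F)).val * (u.val * n) =
      n⁻¹ * (u.val⁻¹ * (b : ↥(D.group F)).val * u.val) * n by group]

end Finite

end Comb

end CfsgLib.Chev
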