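import Cfsg.Agent.Chev.Coxeter
import Cfsg.Agent.Chev.Steinberg

/-!
The centre of the Weyl group and generation by the Coxeter element with few reflections.
-/

set_option autoImplicit false

namespace CfsgLib.Chev

open Cfsg.Lie

variable {K : Data} {D : ChevalleyDatum}

namespace Comb

/-- an element centralising all fundamental reflections is trivial or reverses all fundamental roots -/
theorem central_sign (hC : Comb K D) (hrev : K.revOK = true) (hfull : K.fullOK = true)
    {z : Equiv.Perm (Fin D.nroots)} (hz : z ∈ weylGrp hC.fine)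
    (hcomm : ∀ i, z * sPerm hC.fine i = sPerm hC.fine i * z) :
    z = 1 ∨ ∀ i, z (pFin hC.fine i) = negFin hC.fine (pFin hC.fine i) := by
  classical
  have hK := hC.fine
  have hG := hK.toGood
  simp only [Data.revOK, List.all_eq_true, List.mem_range, Bool.or_eq_true, Bool.not_eq_true',
    hG.l_eq, hG.n_eq] at hrev
  have hsign : ∀ i, z (pFin hK i) = pFin hK i ∨ z (pFin hK i) = negFin hK (pFin hK i) := by
    intro i
    have e : sPerm hK i (z (pFin hK i)) = negFin hK (z (pFin hK i)) := by
      rw [← Equiv.Perm.mul_apply, ← hcomm i, Equiv.Perm.mul_apply, hK.sPerm_pFin, hK.perm_negFin hz]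
    have e' : K.w i.val (z (pFin hK i)).val = K.neg (z (pFin hK i)).val := congrArg Fin.val e
    rcases hrev i i.isLt _ (z (pFin hK i)).isLt with (h | h) | h
    · rw [e', Nat.beq_refl] at h; exact absurd h (by decide)
    · exact Or.inl (Fin.ext (Nat.eq_of_beq_eq_true h))
    · exact Or.inr (Fin.ext (Nat.eq_of_beq_eq_true h))
  rcases Nat.eq_zero_or_pos D.rank with h0 | h0
  · exact Or.inr fun i => absurd i.isLt (by omega)
  simp only [Data.fullOK, List.all_eq_true, List.mem_range, Bool.not_eq_true', hG.l_eq, hG.n_eq] at hfull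
  obtain ⟨B, d, hd, hB⟩ := hC.cow
  have hp : ∀ k j : Fin D.rank, cFun K (fun m => B k m) (K.p j.val) = if k = j then d else 0 := fun k j => by
    have e : cFun K (fun m => B k m) (K.p j.val) = (Matrix.diagonal fun _ => d) k j := by
      rw [← hB, Matrix.mul_apply]; rfl
    rw [e, Matrix.diagonal_apply]
  set θ : Fin D.nroots := ⟨D.nroots - 1, by have := hG.p_lt (i := 0) h0; omega⟩ with hθ
  have hnpos : K.npos ≤ θ.val := by
    have := hG.npos_le_p (i := 0) h0
    have := hG.p_lt (i := 0) h0
    show K.npos ≤ D.nroots - 1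
    omega
  obtain ⟨L, hL⟩ := hK.mem_weylGrp_iff.1 hz
  have hθc : ∀ k : Fin D.rank, 0 < cFun K (fun m => B k m) θ.val := by
    intro k
    have hc : ∀ i : Fin D.rank, (i.val ∈ {x : ℕ | x ≠ k.val} → cFun K (fun m => B k m) (K.p i.val) = 0) ∧
        (i.val ∉ {x : ℕ | x ≠ k.val} → 0 < cFun K (fun m => B k m) (K.p i.val)) := fun i => by
      refine ⟨fun h => ?_, fun h => ?_⟩
      · rw [hp, if_neg fun e => h (by rw [e])]
      · simp only [Set.mem_setOf_eq, not_not] at h
        rw [hp, if_pos (Fin.ext h.symm)]; exact hd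
    obtain ⟨h1, h2⟩ := hC.cow_pos hc θ.val hnpos θ.isLt
    refine lt_of_le_of_ne h1 fun e => ?_
    have h3 := (hC.inRootSub_iff θ.isLt).1 (h2.1 e.symm) k.val k.isLt (by simp)
    have h4 := hfull k.val k.isLt
    rw [Bool.eq_false_iff, ne_eq, intEq_iff] at h4
    exact h4 h3
  have hval : ∀ (k : Fin D.rank) (ε : ℤ),
      cFun K (fun m => B k m) (z (pFin hK k)).val = ε * d →
      cFun K (fun m => B k m) (z θ).val = ε * cFun K (fun m => B k m) θ.val := by
    intro k ε hε
    have hlin : IsLin K D (fun r => cFun K (fun m => B k m) (permNat z r)) :=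
      hL ▸ hK.isLin_comp_wPerm L (hC.isLin_cFun _)
    have hbase : ∀ i : Fin D.rank, cFun K (fun m => B k m) (permNat z (K.p i.val)) =
        ε * cFun K (fun m => B k m) (K.p i.val) := fun i => by
      rw [show permNat z (K.p i.val) = (z (pFin hK i)).val from permNat_fin z (pFin hK i), hp]
      split_ifs with hik
      · rw [← hik]; exact hε
      · rcases hsign i with h | h
        · rw [h, show (pFin hK i).val = K.p i.val from rfl, hp, if_neg hik, mul_zero]
        · rw [h, show (negFin hK (pFin hK i)).val = K.neg (K.p i.val) from rfl,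
            (hC.isLin_cFun _).neg _ (hG.p_lt i.isLt), hp, if_neg hik, neg_zero, mul_zero]
    have key : ∀ v, K.npos ≤ v → v < D.nroots →
        cFun K (fun m => B k m) (permNat z v) = ε * cFun K (fun m => B k m) v := by
      intro v
      induction v using Nat.strong_induction_on with
      | _ v ih =>
        intro hv1 hv2
        obtain ⟨i, hi, e | ⟨h1, h2, -, m, -, hm⟩⟩ := hK.comb_step hC.comb hv1 hv2
        · rw [← e]; exact hbase ⟨i, hi⟩
        · rw [hm _ hlin, hm _ (hC.isLin_cFun _), ih _ h2 h1 (h2.trans hv2)]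
          rw [show cFun K (fun m => B k m) (permNat z (K.p i)) = ε * cFun K (fun m => B k m) (K.p i) from
            hbase ⟨i, hi⟩, mul_add, mul_smul_comm]
    rw [← permNat_fin]
    exact key _ hnpos θ.isLt
  have hnn : ∀ (k : Fin D.rank) (v : ℕ), K.npos ≤ v → v < D.nroots → 0 ≤ cFun K (fun m => B k m) v :=
    fun k => hC.nonneg_of_simple (hC.isLin_cFun _) fun i => by
      rw [hp]; split_ifs
      exacts [hd.le, le_rfl]
  have hplus : ∀ k, z (pFin hK k) = pFin hK k → K.npos ≤ (z θ).val := by
    intro k hk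
    by_contra hneg
    have h1 := hval k 1 (by rw [hk, one_mul]; exact (hp k k).trans (if_pos rfl))
    rw [one_mul] at h1
    have h2 := hθc k
    have hn : K.npos ≤ K.neg (z θ).val := (hC.neg_lt_iff (z θ).isLt).2.2 (by omega)
    have h3 := hnn k _ hn (hG.Kneg_lt (z θ).isLt)
    rw [(hC.isLin_cFun _).neg _ (z θ).isLt, h1] at h3
    omega
  have hminus : ∀ k, z (pFin hK k) = negFin hK (pFin hK k) → (z θ).val < K.npos := by
    intro k hk
    by_contra hpos
    have h1 := hval k (-1) (by
      rw [hk, show (negFin hK (pFin hK k)).val = K.neg (K.p k.val) from rfl,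
        (hC.isLin_cFun _).neg _ (hG.p_lt k.isLt), hp, if_pos rfl, neg_one_mul])
    have h2 := hθc k
    have h3 := hnn k _ (Nat.le_of_not_lt hpos) (z θ).isLt
    rw [h1] at h3
    omega
  rcases Nat.lt_or_ge (z θ).val K.npos with h | h
  · refine Or.inr fun i => (hsign i).resolve_left fun hi => ?_
    exact absurd h (Nat.not_lt.2 (hplus i hi))
  · refine Or.inl (hK.weyl_ext hz (Subgroup.one_mem _) fun i => ?_)
    exact (hsign i).resolve_right fun hi => absurd (hminus i hi) (Nat.not_lt.2 h)

/-- if the longest element is not minus the identity, the centre is trivial -/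
theorem no_neg_one (hC : Comb K D) (hlong : K.longOK = true) (hnot : K.notNegOK = true)
    {z : Equiv.Perm (Fin D.nroots)} (hz : z ∈ weylGrp hC.fine) :
    ¬ ∀ i, z (pFin hC.fine i) = negFin hC.fine (pFin hC.fine i) := by
  intro hall
  have hG := hC.fine.toGood
  simp only [Data.longOK, Bool.and_eq_true, List.all_eq_true, List.mem_range, Nat.blt_eq, hG.l_eq] at hlong
  simp only [Data.notNegOK, List.any_eq_true, List.mem_range, Bool.not_eq_true', hG.l_eq] at hnot
  obtain ⟨j, hj, hne⟩ := hnot
  let L : List (Fin D.rank) := K.longWord.attach.map fun x => ⟨x.1, hlong.1 x.1 x.2⟩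
  have hmap : L.map Fin.val = K.longWord := by
    simp [L, List.map_map, Function.comp_def]
  have hmem : ∀ σ ∈ weylGrp hC.fine, σ ∈ weylSub hC.fine Set.univ := fun σ h => by
    rwa [hC.weylSub_top fun i => Set.mem_univ _]
  have hwL : wPerm hC.fine L ∈ weylGrp hC.fine := hC.fine.mem_weylGrp_iff.2 ⟨L, rfl⟩
  have heq : z = wPerm hC.fine L := by
    refine hC.maxRep_unique (hmem z hz) (hmem _ hwL) (fun i _ => ?_) (fun i _ => ?_)
    · rw [hall]
      exact (hC.neg_lt_iff (pFin hC.fine i).isLt).1.2 (hG.npos_le_p i.isLt)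
    · rw [hC.fine.appW_eq, hmap]
      exact hlong.2 i i.isLt
  have e := congrArg Fin.val (hall ⟨j, hj⟩)
  rw [heq, hC.fine.appW_eq, hmap] at e
  rw [show K.appW K.longWord (K.p j) = K.neg (K.p j) from e, Nat.beq_refl] at hne
  exact absurd hne (by decide)

end Comb

namespace Fine

/-- a power that is minus the identity commutes with the Weyl group -/
theorem negPow_central (hK : Fine K D) {L : List (Fin D.rank)} {m : ℕ}
    (h : K.negPowOK (L.map Fin.val) m = true) {σ : Equiv.Perm (Fin D.nroots)}
    (hσ : σ ∈ weylGrp hK) : wPerm hK L ^ m * σ = σ * wPerm hK L ^ m := by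
  simp only [Data.negPowOK, List.all_eq_true, List.mem_range, hK.toGood.n_eq] at h
  have e : ∀ r, (wPerm hK L ^ m) r = negFin hK r := fun r =>
    Fin.ext (by rw [hK.iterW_eq]; exact Nat.eq_of_beq_eq_true (h r r.isLt))
  ext r
  rw [Equiv.Perm.mul_apply, Equiv.Perm.mul_apply, e, e, hK.perm_negFin hσ]

/-- conjugating a fundamental reflection to another -/
theorem sPerm_conj (hK : Fine K D) {σ : Equiv.Perm (Fin D.nroots)} (hσ : σ ∈ weylGrp hK)
    {i j : Fin D.rank} (h : σ (pFin hK i) = pFin hK j) : σ * sPerm hK i * σ⁻¹ = sPerm hK j := by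
  obtain ⟨L, rfl⟩ := hK.mem_weylGrp_iff.1 hσ
  have hw : ∀ k : Fin D.rank, Moves hK (nU hK (pFin hK k).val (1 : ZMod 2)) (sPerm hK k) := fun k => by
    have := hK.moves_sU (F := ZMod 2) k
    rwa [sU, hK.toGood.simple_eq k.isLt] at this
  have hc := hK.moves_mul (hK.moves_mul (hK.moves_sWord (F := ZMod 2) L) (hw i))
    (hK.moves_inv (hK.moves_sWord (F := ZMod 2) L))
  rcases hK.sWord_nU (F := ZMod 2) L (pFin hK i) with e | e
  · rw [e, h] at hc
    exact hK.moves_unique hc (hw j)
  · rw [e, h] at hc
    exact hK.moves_unique hc (hK.sPerm_inv j ▸ hK.moves_inv (hw j))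

end Fine

end CfsgLib.Chev
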