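import Cfsg.Agent.Chev.Fine

/-!
Weights of the coordinates, the diagonal elements `h_r(c)` and conjugation of root elements by
diagonal matrices.
-/

set_option autoImplicit false

namespace CfsgLib.Chev

open Cfsg.Lie Matrix

variable {K : Data} {D : ChevalleyDatum}

/-- a function on root indices that is additive along the chains -/
structure IsLin (K : Data) (D : ChevalleyDatum) {M : Type*} [AddCommGroup M] (f : ℕ → M) : Prop where
  neg : ∀ r < D.nroots, f (K.neg r) = - f r
  chain : ∀ r < D.nroots, ∀ s < D.nroots, ∀ q ∈ K.tab.chainTerms r s,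
    f (q.1 - D.rank) = q.2.1 • f r + f s

/-- the weight of a coordinate -/
def wt {M : Type*} [Zero M] (D : ChevalleyDatum) (f : ℕ → M) : D.Idx → M :=
  Sum.elim (fun _ => 0) (fun s => f s.val)

theorem wt_inl {M : Type*} [Zero M] (f : ℕ → M) (i : Fin D.rank) :
    wt D f (Sum.inl i) = 0 := rfl

theorem wt_inr {M : Type*} [Zero M] (f : ℕ → M) (s : Fin D.nroots) :
    wt D f (Sum.inr s) = f s.val := rfl

namespace Good

theorem col_weight {M : Type*} [AddCommGroup M] (hG : Good K D) {f : ℕ → M} (hf : IsLin K D f)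
    {r : ℕ} (hr : r < D.nroots) (a b : D.Idx) {e : ℕ × ℕ × ℤ} (he : e ∈ colList D r (code D b))
    (hea : e.1 = code D a) : wt D f a = wt D f b + e.2.1 • f r := by
  rcases b with j | v
  · rw [colList, if_pos (show code D (Sum.inl j) < D.rank from j.isLt)] at he
    simp only [List.mem_cons, List.not_mem_nil, or_false] at he
    rcases he with rfl | rfl
    · obtain rfl : a = Sum.inl j := code_injective D hea.symm
      simp
    · obtain rfl : a = Sum.inr ⟨r, hr⟩ := code_injective D hea.symm
      simp [wt]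
  · have hb : ¬ code D (Sum.inr v) < D.rank := by simp [code]
    rw [colList, if_neg hb] at he
    by_cases h1 : v.val = r
    · rw [if_pos (show code D (Sum.inr v) = D.rank + r by simp [code, h1])] at he
      simp only [List.mem_cons, List.not_mem_nil, or_false] at he
      subst he
      obtain rfl : a = Sum.inr v := code_injective D hea.symm
      simp
    rw [if_neg (show ¬ code D (Sum.inr v) = D.rank + r by simp [code]; omega)] at he
    by_cases h2 : v.val = K.neg r
    · rw [if_pos (show code D (Sum.inr v) = D.rank + D.negIdx.getD r 0 by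
        rw [hG.fits.neg_eq r hr, ← hG.Kneg_eq]; simp [code, h2])] at he
      simp only [List.mem_cons, List.mem_map, List.mem_range] at he
      have hn : wt D f (Sum.inr v) = - f r := by rw [wt_inr, h2, hf.neg r hr]
      rcases he with rfl | rfl | ⟨i, hi, rfl⟩
      · obtain rfl : a = Sum.inr v := code_injective D hea.symm
        simp
      · obtain rfl : a = Sum.inr ⟨r, hr⟩ := code_injective D hea.symm
        rw [hn, two_nsmul, wt_inr, neg_add_cancel_left]
      · obtain rfl : a = Sum.inl ⟨i, hi⟩ := code_injective D hea.symm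
        rw [hn, one_nsmul, wt_inl, neg_add_cancel]
    · rw [if_neg (show ¬ code D (Sum.inr v) = D.rank + D.negIdx.getD r 0 by
        rw [hG.fits.neg_eq r hr, ← hG.Kneg_eq]; simp [code]; omega)] at he
      rw [show code D (Sum.inr v) - D.rank = v.val from Nat.add_sub_cancel_left _ _,
        hG.fits.chain_eq r hr v.val v.isLt] at he
      rcases List.mem_cons.1 he with rfl | he
      · obtain rfl : a = Sum.inr v := code_injective D hea.symm
        simp
      · obtain ⟨h3, h4, -⟩ := hG.chainTerms_mem hr v.isLt he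
        rcases a with i | u
        · exfalso; simp [code] at hea; omega
        · have := hf.chain r hr v.val v.isLt e he
          simp only [code] at hea
          rw [hea, Nat.add_sub_cancel_left] at this
          rw [wt_inr, wt_inr, this, add_comm]

end Good

/-! ### Linear functions -/

namespace Fine

theorem isLin_phi (hK : Fine K D) : IsLin K D K.phi where
  neg r hr := (hK.toGood.root_facts hr).2.2.2
  chain r hr s hs q hq := by rw [hK.toGood.phi_chain hr hs hq, nsmul_eq_mul]

theorem coroot_facts (hK : Fine K D) :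
    (∀ r < D.nroots, ((List.range D.rank).map fun i => (K.tab.C r i).natAbs).foldr Nat.gcd 0 = 1 ∧
      ∀ i < D.rank, K.tab.A i (K.neg r) = - K.tab.A i r ∧ K.tab.C (K.neg r) i = - K.tab.C r i ∧
        K.eta i (K.neg r) = K.eta i r) ∧
    ∀ i < D.rank, K.tab.A i (K.p i) = 2 ∧ ∀ j < D.rank,
      K.tab.C (K.p i) j = (if i = j then 1 else 0) ∧
      ∀ v < D.nroots, K.tab.A j (K.w i v) = K.tab.A j v - K.tab.A i v * K.tab.A j (K.p i) := by
  have h := hK.corootChk
  simp only [Data.corootOK, Bool.and_eq_true, List.all_eq_true, List.mem_range, intEq_iff,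
    hK.toGood.n_eq, hK.toGood.l_eq] at h
  refine ⟨fun r hr => ⟨Nat.eq_of_beq_eq_true (h.1 r hr).1, fun i hi => ?_⟩, fun i hi =>
    ⟨(h.2 i hi).1, fun j hj => ⟨?_, ((h.2 i hi).2 j hj).2⟩⟩⟩
  · obtain ⟨⟨a, b⟩, c⟩ := (h.1 r hr).2 i hi
    exact ⟨a, b, c⟩
  · rw [((h.2 i hi).2 j hj).1]
    by_cases hij : i = j
    · simp [hij]
    · rw [show Nat.beq i j = false from by rw [Bool.eq_false_iff]; simpa using hij]
      simp [hij]

theorem isLin_cartan (hK : Fine K D) {i : ℕ} (hi : i < D.rank) : IsLin K D (K.tab.A i) where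
  neg r hr := ((hK.coroot_facts.1 r hr).2 i hi).1
  chain r hr s hs q hq := by
    have hq' := hq
    rw [← hK.toGood.fits.chain_eq r hr s hs, chainCol] at hq'
    simp only [List.mem_flatMap, List.mem_filter, decide_eq_true_eq] at hq'
    obtain ⟨e, ⟨he, hes⟩, -⟩ := hq'
    have h := hK.linChk r hr
    simp only [Data.linRowOK, List.all_eq_true, intEq_iff, List.mem_range, hK.toGood.l_eq] at h
    have := h e he q (hes.symm ▸ hq) i hi
    rw [hes] at this
    rw [this, nsmul_eq_mul]

theorem pair_eq (hK : Fine K D) (r v : ℕ) :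
    K.pair r v = ∑ i ∈ Finset.range D.rank, K.tab.C r i * K.tab.A i v := by
  rw [← hK.toGood.l_eq, Data.pair]
  induction K.l with
  | zero => rfl
  | succ m ih =>
    rw [Finset.sum_range_succ, ← ih]
    exact add_comm _ _

theorem pair_simple (hK : Fine K D) {i : ℕ} (hi : i < D.rank) (v : ℕ) :
    K.pair (K.p i) v = K.tab.A i v := by
  rw [hK.pair_eq, Finset.sum_eq_single i]
  · simp [((hK.coroot_facts.2 i hi).2 i hi).1]
  · intro j hj hne
    simp [((hK.coroot_facts.2 i hi).2 j (Finset.mem_range.1 hj)).1, Ne.symm hne]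
  · intro h; exact absurd (Finset.mem_range.2 hi) h

theorem pair_move (hK : Fine K D) {r : ℕ} (hr : r < D.nroots) (hrep : r ∉ K.reps) {i : ℕ}
    (hvia : K.via r = i) (hi : i < D.rank) {v : ℕ} (hv : v < D.nroots) :
    K.pair (K.w i r) (K.w i v) = K.pair r v := by
  have h := hK.pairChk r hr
  simp only [Data.pairMoveOK, Bool.or_eq_true, List.contains_iff_mem, List.all_eq_true,
    List.mem_range, intEq_iff, hvia, hK.toGood.l_eq] at h
  have h' := h.resolve_left hrep
  have hC : ∀ j ∈ Finset.range D.rank, K.tab.C (K.w i r) j * K.tab.A j (K.w i v) =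
      K.tab.C r j * K.tab.A j v - K.tab.A i v * (K.tab.C r j * K.tab.A j (K.p i)) -
        (if i = j then K.pair r (K.p i) * K.tab.A j (K.w i v) else 0) := by
    intro j hj
    have hj' := Finset.mem_range.1 hj
    rw [h' j hj', ((hK.coroot_facts.2 i hi).2 j hj').2 v hv]
    by_cases hij : i = j
    · subst hij
      simp only [Nat.beq_refl, cond_true, if_true]
      ring
    · rw [show Nat.beq i j = false from by rw [Bool.eq_false_iff]; simpa using hij]
      simp only [cond_false, if_neg hij]
      ring
  rw [hK.pair_eq (K.w i r), Finset.sum_congr rfl hC, Finset.sum_sub_distrib, Finset.sum_sub_distrib,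
    Finset.sum_ite_eq, if_pos (Finset.mem_range.2 hi), ← Finset.mul_sum, ← hK.pair_eq, ← hK.pair_eq,
    ((hK.coroot_facts.2 i hi).2 i hi).2 v hv, (hK.coroot_facts.2 i hi).1]
  ring

end Fine

/-! ### Diagonal matrices -/

section Diagonal

variable {F : Type*} [Field F]

/-- diagonal matrix with `1` on the coroot coordinates and `χ` on the root vectors -/
def dmat (D : ChevalleyDatum) (χ : ℕ → F) : Matrix D.Idx D.Idx F :=
  Matrix.diagonal (Sum.elim (fun _ => (1 : F)) (fun s : Fin D.nroots => χ s.val))

theorem dmat_mul (χ ψ : ℕ → F) : dmat D χ * dmat D ψ = dmat D (fun s => χ s * ψ s) := by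
  rw [dmat, dmat, dmat, Matrix.diagonal_mul_diagonal]
  congr 1
  funext a
  rcases a with i | s <;> simp

theorem dmat_one : dmat D (fun _ => (1 : F)) = 1 := by
  rw [dmat, ← Matrix.diagonal_one]
  congr 1
  funext a
  rcases a with i | s <;> simp

theorem dmat_congr {χ ψ : ℕ → F} (h : ∀ s < D.nroots, χ s = ψ s) : dmat D χ = dmat D ψ := by
  rw [dmat, dmat]
  congr 1
  funext a
  rcases a with i | s
  · rfl
  · exact h _ s.isLt

theorem dmat_inj {χ ψ : ℕ → F} (h : dmat D χ = dmat D ψ) {s : ℕ} (hs : s < D.nroots) :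
    χ s = ψ s := by
  have := congrFun (congrFun h (Sum.inr ⟨s, hs⟩)) (Sum.inr ⟨s, hs⟩)
  simpa [dmat] using this

theorem dmat_mulVec_inr (χ : ℕ → F) (s : Fin D.nroots) :
    dmat D χ *ᵥ Pi.single (Sum.inr s) 1 = χ s.val • Pi.single (Sum.inr s) (1 : F) := by
  funext a
  by_cases h : a = Sum.inr s
  · subst h; simp [dmat]
  · simp [dmat, Pi.single_apply, h, Matrix.diagonal_apply_ne _ h]

theorem dmat_mulVec_inl (χ : ℕ → F) (i : Fin D.rank) :
    dmat D χ *ᵥ Pi.single (Sum.inl i) 1 = Pi.single (Sum.inl i) (1 : F) := by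
  funext a
  by_cases h : a = Sum.inl i
  · subst h; simp [dmat]
  · simp [dmat, Pi.single_apply, h, Matrix.diagonal_apply_ne _ h]

/-- a multiplicative character on the roots -/
def IsCharOn (K : Data) (D : ChevalleyDatum) (χ : ℕ → Fˣ) : Prop :=
  IsLin K D fun s => Additive.ofMul (χ s)

/-- conjugation of a root element by a diagonal matrix -/
theorem Good.dmat_conj (hG : Good K D) {χ : ℕ → Fˣ} (hχ : IsCharOn K D χ) {r : ℕ}
    (hr : r < D.nroots) (t : F) :
    dmat D (fun s => (χ s : F)) * D.x F r t =
      D.x F r ((χ r : F) * t) * dmat D (fun s => (χ s : F)) := by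
  ext a b
  simp only [dmat, Matrix.diagonal_mul, Matrix.mul_diagonal, x_of_lt D hr, xMat_apply_eq_evalCol,
    evalCol, ← List.sum_map_mul_left, ← List.sum_map_mul_right]
  refine congrArg List.sum (List.map_congr_left fun e he => ?_)
  by_cases hea : e.1 = code D a
  · simp only [if_pos hea]
    have h := hG.col_weight hχ hr a b he hea
    have h' : ((Additive.toMul (wt D (fun s => Additive.ofMul (χ s)) a) : Fˣ) : F) =
        ((Additive.toMul (wt D (fun s => Additive.ofMul (χ s)) b) : Fˣ) : F) * (χ r : F) ^ e.2.1 := by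
      rw [h, toMul_add, toMul_nsmul, Units.val_mul, Units.val_pow_eq_pow_val]; rfl
    have hwt : ∀ c : D.Idx, ((Additive.toMul (wt D (fun s => Additive.ofMul (χ s)) c) : Fˣ) : F) =
        Sum.elim (fun _ => (1 : F)) (fun s : Fin D.nroots => (χ s.val : F)) c := by
      intro c; rcases c with i | s <;> simp [wt]
    rw [hwt, hwt] at h'
    rw [h', mul_pow]
    ring
  · simp [hea]

end Diagonal

/-! ### The elements `h_r(c)` -/

namespace Fine

variable {F : Type*} [Field F]

theorem nMat_dmat (hK : Fine K D) {i : ℕ} (hi : i < D.rank) {χ χ' : ℕ → F}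
    (h : ∀ v < D.nroots, χ' (K.w i v) = χ v) :
    dmat D χ' * D.nMat F (D.simple i) 1 = D.nMat F (D.simple i) 1 * dmat D χ := by
  have hG := hK.toGood
  refine matrix_ext_single fun b => ?_
  rw [← Matrix.mulVec_mulVec, ← Matrix.mulVec_mulVec]
  rcases b with j | v
  · rw [dmat_mulVec_inl, hG.monOK_apply hi (Sum.inl j) 1 1]
    funext a
    simp only [dmat, Matrix.mulVec_diagonal]
    rcases a with i' | s
    · simp
    · have : vecOf D (1 : F) 1 (K.monCol i (code D (Sum.inl j))) (Sum.inr s) = 0 := by
        have hb : Nat.blt (code D (Sum.inl j)) K.l = true := by simp [Nat.blt_eq, code, hG.l_eq]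
        simp only [vecOf, Data.monCol, hb, cond_true, evalTerms, List.map_cons, List.map_nil,
          List.sum_cons, List.sum_nil, Term.val]
        have h1 := j.isLt
        simp [code]
        rw [if_neg (by omega), if_neg (by have := hG.l_eq; omega), add_zero]
      rw [this, mul_zero]
  · rw [dmat_mulVec_inr, Matrix.mulVec_smul, hG.nMat_root hi, Matrix.mulVec_smul, dmat_mulVec_inr,
      smul_comm, h v.val v.isLt]

theorem nMat_one_mul_neg_one (hK : Fine K D) {r : ℕ} :
    D.nMat F r 1 * D.nMat F r (-1) = 1 ∧ D.nMat F r (-1) * D.nMat F r 1 = 1 := by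
  have hG := hK.toGood
  simp only [ChevalleyDatum.nMat, ChevalleyDatum.nWord, wordMat_cons, wordMat_nil, mul_one, inv_one,
    inv_neg, neg_neg]
  set a := D.x F r 1
  set a' := D.x F r (-1)
  set c := D.x F (D.neg r) (-1)
  set c' := D.x F (D.neg r) 1
  have h1 : a * a' = 1 := hG.x_mul_neg _ _
  have h2 : a' * a = 1 := hG.x_neg_mul _ _
  have h3 : c * c' = 1 := hG.x_neg_mul _ _
  have h4 : c' * c = 1 := hG.x_mul_neg _ _
  constructor
  · calc a * (c * a) * (a' * (c' * a')) = a * c * (a * a') * (c' * a') := by noncomm_ring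
      _ = a * (c * c') * a' := by rw [h1]; noncomm_ring
      _ = 1 := by rw [h3, mul_one, h1]
  · calc a' * (c' * a') * (a * (c * a)) = a' * c' * (a' * a) * (c * a) := by noncomm_ring
      _ = a' * (c' * c) * a := by rw [h2]; noncomm_ring
      _ = 1 := by rw [h4, mul_one, h2]

theorem hMat_rep (hK : Fine K D) {r : ℕ} (hr : r ∈ K.reps) {c : F} (hc : c ≠ 0) :
    D.hMat F r c = dmat D (fun s => c ^ K.pair r s) := by
  have hG := hK.toGood
  have hrn := (hG.stabChk r hr).1
  refine matrix_ext_single fun b => ?_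
  have hw : D.hMat F r c = D.wordMat F (evalWord c 1
      [⟨r, 1, 1, 0⟩, ⟨K.neg r, -1, -1, 0⟩, ⟨r, 1, 1, 0⟩,
        ⟨r, -1, 0, 0⟩, ⟨K.neg r, 1, 0, 0⟩, ⟨r, -1, 0, 0⟩]) := by
    simp [ChevalleyDatum.hMat, ChevalleyDatum.hWord, ChevalleyDatum.nWord, evalWord, Letter.arg,
      hG.neg_eq hrn, hG.Kneg_eq]
  have h := hK.hRepChk r hr
  simp only [Data.hRepOK, List.all_eq_true, List.mem_range] at h
  rw [hw, wordMat_mulVec_single hG hc one_ne_zero _ (by simp [hrn, hG.Kneg_lt hrn]),
    vecOf_eq_of_agree D c 1 (h (code D b) (by rw [hG.fits.dim_eq]; exact code_lt D b))]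
  funext a
  simp only [vecOf, evalTerms, List.map_cons, List.map_nil, List.sum_cons, List.sum_nil, add_zero,
    Term.val, Matrix.mulVec_single_one, Matrix.col_apply, dmat, Matrix.diagonal_apply,
    (code_injective D).eq_iff]
  rcases b with j | s
  · rw [show Nat.blt (code D (Sum.inl j)) K.l = true from by
      simp [Nat.blt_eq, code, hG.l_eq], cond_true]
    by_cases hab : a = Sum.inl j
    · subst hab; simp
    · simp [hab, Ne.symm hab]
  · rw [show Nat.blt (code D (Sum.inr s)) K.l = false from by
      rw [Bool.eq_false_iff]; simp [Nat.blt_eq, code, hG.l_eq], cond_false]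
    by_cases hab : a = Sum.inr s
    · subst hab
      simp [code, hG.l_eq]
    · simp [hab, Ne.symm hab]

theorem hMat_eq_aux (hK : Fine K D) : ∀ (d r : ℕ), r < D.nroots → K.dist r ≤ d →
    ∀ c : F, c ≠ 0 → D.hMat F r c = dmat D (fun s => c ^ K.pair r s) := by
  intro d
  induction d using Nat.strong_induction_on with
  | _ d ih =>
    intro r hr hd c hc
    have hG := hK.toGood
    by_cases hrep : r ∈ K.reps
    · exact hK.hMat_rep hrep hc
    have hm := hG.moveChk r hr
    simp only [Data.commMoveOK, Bool.or_eq_true, Bool.and_eq_true, List.contains_iff_mem] at hm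
    obtain ⟨⟨hi, hd'⟩, -⟩ := hm.resolve_left hrep
    rw [Nat.blt_eq, hG.l_eq] at hi
    rw [Nat.blt_eq] at hd'
    set i := K.via r with hidef
    set r' := K.w i r
    have hr' : r' < D.nroots := hG.w_lt hi hr
    have hP : ∀ c : F, c ≠ 0 → D.hMat F r' c = dmat D (fun s => c ^ K.pair r' s) :=
      ih _ (by omega) r' hr' le_rfl
    set η := K.eta i r with hη
    have hneg : K.eta i (K.neg r) = η := ((hK.coroot_facts.1 r hr).2 i hi).2.2
    have himg : D.nMat F (D.simple i) 1 * D.hMat F r c =
        dmat D (fun s => c ^ K.pair r' s) * D.nMat F (D.simple i) 1 := by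
      rw [ChevalleyDatum.hMat, hG.nMat_mul_wordMat hi]
      · congr 1
        have e : D.wordMat F (List.map (fun p => (K.w i p.1, (K.eta i p.1 : F) * p.2)) (D.hWord r c)) =
            D.nMat F r' ((η : F) * c) * D.nMat F r' (-(η : F)) := by
          rw [ChevalleyDatum.nMat, ChevalleyDatum.nMat, ← wordMat_append]
          congr 1
          simp only [ChevalleyDatum.hWord, ChevalleyDatum.nWord, List.map_append, List.map_cons,
            List.map_nil, hG.neg_eq hr, hG.neg_eq hr', ← hG.Kneg_eq, hG.w_neg hi hr, hneg, ← hη,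
            inv_neg, inv_one, neg_neg, mul_neg, mul_one, mul_inv]
          rcases Good.eta_eq_or K i r with h | h <;> rw [← hη] at h <;> simp [h, r']
        rw [e]
        rcases Good.eta_eq_or K i r with h | h <;> rw [← hη] at h
        · rw [h, Int.cast_one, one_mul, ← hP c hc]
          simp [ChevalleyDatum.hMat, ChevalleyDatum.hWord, ChevalleyDatum.nMat, wordMat_append]
        · rw [h, Int.cast_neg, Int.cast_one, neg_neg, neg_mul, one_mul]
          obtain ⟨h1, h2⟩ := hK.nMat_one_mul_neg_one (F := F) (r := r')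
          have hh : ∀ z : F, z ≠ 0 → D.nMat F r' z * D.nMat F r' (-1) =
              dmat D (fun s => z ^ K.pair r' s) := by
            intro z hz
            rw [← hP z hz]
            simp [ChevalleyDatum.hMat, ChevalleyDatum.hWord, ChevalleyDatum.nMat, wordMat_append]
          have hsq : dmat D (fun s => (-1 : F) ^ K.pair r' s) *
              (D.nMat F r' 1 * D.nMat F r' 1) = 1 := by
            rw [← hh (-1) (neg_ne_zero.2 one_ne_zero)]
            calc D.nMat F r' (-1) * D.nMat F r' (-1) * (D.nMat F r' 1 * D.nMat F r' 1)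
                = D.nMat F r' (-1) * (D.nMat F r' (-1) * D.nMat F r' 1) * D.nMat F r' 1 := by
                  noncomm_ring
              _ = 1 := by rw [h2, mul_one, h2]
          have hsq' : dmat D (fun s => (-1 : F) ^ K.pair r' s) *
              dmat D (fun s => (-1 : F) ^ K.pair r' s) = 1 := by
            rw [dmat_mul, ← dmat_one]
            refine dmat_congr fun s _ => ?_
            rw [← mul_zpow, neg_mul_neg, one_mul, _root_.one_zpow]
          have hinv : D.nMat F r' 1 * D.nMat F r' 1 = dmat D (fun s => (-1 : F) ^ K.pair r' s) := by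
            calc D.nMat F r' 1 * D.nMat F r' 1
                = (dmat D (fun s => (-1 : F) ^ K.pair r' s) *
                    dmat D (fun s => (-1 : F) ^ K.pair r' s)) * (D.nMat F r' 1 * D.nMat F r' 1) := by
                  rw [hsq', one_mul]
              _ = _ := by rw [mul_assoc, hsq, mul_one]
          calc D.nMat F r' (-c) * D.nMat F r' 1
              = D.nMat F r' (-c) * D.nMat F r' (-1) * (D.nMat F r' 1 * D.nMat F r' 1) := by
                rw [mul_assoc, ← mul_assoc (D.nMat F r' (-1)), h2, one_mul]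
            _ = dmat D (fun s => (-c) ^ K.pair r' s) * dmat D (fun s => (-1 : F) ^ K.pair r' s) := by
                rw [hh (-c) (neg_ne_zero.2 hc), hinv]
            _ = _ := by
                rw [dmat_mul]
                refine dmat_congr fun s _ => ?_
                rw [← mul_zpow, neg_mul_neg, mul_one]
      · intro p hp
        simp [ChevalleyDatum.hWord, ChevalleyDatum.nWord, hG.neg_eq hr] at hp
        rcases hp with rfl | rfl | rfl | rfl | rfl | rfl <;> simp <;> omega
    rw [hK.nMat_dmat hi (χ := fun s => c ^ K.pair r s)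
      (fun v hv => by rw [hK.pair_move hr hrep hidef.symm hi hv])] at himg
    have hinv := (hG.nMat_mul_inv (F := F) hi).2
    have := congrArg (fun z => D.wordMat F [(K.p i, -1), (K.neg (K.p i), 1), (K.p i, -1)] * z) himg
    simpa [← mul_assoc, hinv] using this

theorem hMat_eq (hK : Fine K D) {r : ℕ} (hr : r < D.nroots) {c : F} (hc : c ≠ 0) :
    D.hMat F r c = dmat D (fun s => c ^ K.pair r s) :=
  hK.hMat_eq_aux (K.dist r) r hr le_rfl c hc

/-- the character `∏ c_i ^ A(i, ·)` -/
noncomputable def torusChar (K : Data) (D : ChevalleyDatum) (c : ℕ → Fˣ) (s : ℕ) : Fˣ :=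
  ∏ i ∈ Finset.range D.rank, c i ^ (K.tab.A i s)

theorem isCharOn_torusChar (hK : Fine K D) (c : ℕ → Fˣ) : IsCharOn K D (torusChar K D c) where
  neg r hr := by
    rw [← ofMul_inv]
    refine congrArg Additive.ofMul ?_
    rw [torusChar, torusChar, ← Finset.prod_inv_distrib]
    refine Finset.prod_congr rfl fun i hi => ?_
    rw [(hK.isLin_cartan (Finset.mem_range.1 hi)).neg r hr, _root_.zpow_neg]
  chain r hr s hs q hq := by
    rw [← ofMul_pow, ← ofMul_mul]
    refine congrArg Additive.ofMul ?_
    rw [torusChar, torusChar, torusChar, ← Finset.prod_pow, ← Finset.prod_mul_distrib]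
    refine Finset.prod_congr rfl fun i hi => ?_
    rw [(hK.isLin_cartan (Finset.mem_range.1 hi)).chain r hr s hs q hq, _root_.zpow_add, nsmul_eq_mul,
      mul_comm ((q.2.1 : ℤ)) (K.tab.A i r), _root_.zpow_mul, zpow_natCast]

end Fine

end CfsgLib.Chev
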