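import Cfsg.Agent.Chev.Checks

/-!
Table checks on the signs of the fundamental monomial matrices.
-/

set_option autoImplicit false

namespace CfsgLib.Chev.Data

variable (K : Data)

/-- sign rules of one fundamental monomial matrix -/
noncomputable def etaRowOK (i : ℕ) : Bool :=
  intEq (K.eta i (K.p i)) (-1) && intEq (K.eta i (K.neg (K.p i))) (-1) &&
    (List.range K.n).all fun s =>
      intEq (K.eta i s * K.eta i (K.w i s)) (bif Nat.beq ((K.tab.A i s).natAbs % 2) 0 then 1 else -1) &&
      intEq (K.eta i s * K.eta i (K.neg s)) 1

/-- all fundamental monomial matrices -/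
noncomputable def etaOK : Bool := (List.range K.l).all fun i => K.etaRowOK i

end CfsgLib.Chev.Data
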