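import Cfsg.Agent.Chev.SylowP

/-!
Nilpotency degree of positive unipotent elements from a grading.
-/

set_option autoImplicit false

namespace CfsgLib.Chev

open Cfsg.Lie

variable {K : Data} {D : ChevalleyDatum} {F : Type*} [Field F]

theorem isLin_sum_cartan (hK : Fine K D) (c : Fin D.rank → ℤ) :
    IsLin K D (fun r => ∑ i : Fin D.rank, c i * K.tab.A i r) where
  neg r hr := by
    rw [← Finset.sum_neg_distrib]
    refine Finset.sum_congr rfl fun i _ => ?_
    rw [(hK.isLin_cartan i.isLt).neg r hr, mul_neg]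
  chain r hr s hs q hq := by
    rw [Finset.smul_sum, ← Finset.sum_add_distrib]
    refine Finset.sum_congr rfl fun i _ => ?_
    rw [(hK.isLin_cartan i.isLt).chain r hr s hs q hq, nsmul_eq_mul, nsmul_eq_mul]
    ring

/-- if a grading is bounded by `B` and positive on the positive roots then `(u - 1) ^ k = 0` for `2 B < k` -/
theorem Fine.sub_one_pow_grading (hK : Fine K D) {f : ℕ → ℤ} (hf : IsLin K D f) (B : ℕ)
    (hpos : ∀ r, K.npos ≤ r → r < D.nroots → 1 ≤ f r)
    (hB : ∀ r, r < D.nroots → -(B : ℤ) ≤ f r ∧ f r ≤ B) {k : ℕ} (hk : 2 * B < k)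
    {g : GL D.Idx F} (hg : g ∈ D.posUnipotent F) :
    ((g : Matrix D.Idx D.Idx F) - 1) ^ k = 0 := by
  rw [hK.posUnipotent_eq] at hg
  obtain ⟨h1, h2⟩ := hK.genU_raise hf one_pos (fun r hr hrn => hpos r hr.1 hrn) hg
  set N := (g : Matrix D.Idx D.Idx F) - 1 with hN
  have hlt : ∀ a b, N a b ≠ 0 → wt D f b + 1 ≤ wt D f a := by
    intro a b h
    by_cases hab : a = b
    · subst hab; exact absurd (by rw [hN, Matrix.sub_apply, h1, Matrix.one_apply_eq, sub_self]) h
    · rw [hN, Matrix.sub_apply, Matrix.one_apply_ne hab, sub_zero] at h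
      exact h2 a b hab h
  have hwt : ∀ a, -(B : ℤ) ≤ wt D f a ∧ wt D f a ≤ B := by
    rintro (i | s)
    · rw [wt_inl]; omega
    · rw [wt_inr]; exact hB _ s.isLt
  have key : ∀ (j : ℕ) a b, (N ^ j) a b ≠ 0 → wt D f b + j ≤ wt D f a := by
    intro j
    induction j with
    | zero =>
      intro a b h
      by_cases hab : a = b
      · subst hab; simp
      · rw [pow_zero, Matrix.one_apply_ne hab] at h; exact absurd rfl h
    | succ j ih =>
      intro a b h
      rw [pow_succ, Matrix.mul_apply] at h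
      obtain ⟨c, -, hc⟩ := Finset.exists_ne_zero_of_sum_ne_zero h
      have g1 := ih a c (left_ne_zero_of_mul hc)
      have g2 := hlt c b (right_ne_zero_of_mul hc)
      push_cast
      omega
  ext a b
  by_contra h
  have := key k a b h
  have := hwt a
  have := hwt b
  omega

end CfsgLib.Chev
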