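import Cfsg.Agent.Chev.FineF4
import Cfsg.Agent.Chev.UnipExp
import Cfsg.Prelude.Def_LieTwisted

/-!
The exponent of a Sylow 2-subgroup of `F₄` in characteristic 2 is at most 32.
-/

set_option autoImplicit false
set_option maxRecDepth 100000

namespace CfsgLib.Chev.F4

open Cfsg.Lie

/-- the height function -/
noncomputable def ht (r : ℕ) : ℤ := ∑ i : Fin chevF4.rank, ![8, 15, 21, 11] i * data.tab.A i r

theorem ht_check : ∀ r : Fin 48, (data.npos ≤ r.val → 1 ≤ ht r.val) ∧ -11 ≤ ht r.val ∧ ht r.val ≤ 11 := by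
  decide +kernel

theorem twisted_le_group {F : Type*} [Field F] (e : ℕ) : twistedF4 F e ≤ chevF4.group F := by
  refine (Subgroup.closure_le _).2 ?_
  rintro g ⟨w, -, hg⟩
  rw [show g = CfsgLib.Chev.wordU fine w from Units.ext (by rw [hg, CfsgLib.Chev.coe_wordU])]
  exact fine.wordU_mem_group w

theorem pow_32 {F : Type*} [Field F] [CharP F 2] {u : GL chevF4.Idx F}
    (hu : u ∈ chevF4.posUnipotent F) : u ^ 32 = 1 := by
  refine Units.ext ?_
  have h := fine.sub_one_pow_grading (isLin_sum_cartan fine ![8, 15, 21, 11]) 11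
    (fun r h1 h2 => (ht_check ⟨r, h2⟩).1 h1) (fun r hr => (ht_check ⟨r, hr⟩).2)
    (k := 32) (by norm_num) hu
  rw [Units.val_pow_eq_pow_val, Units.val_one]
  haveI : Nonempty chevF4.Idx := ⟨Sum.inl ⟨0, by decide⟩⟩
  have hp := sub_pow_char_pow_of_commute (p := 2) (n := 5)
    (Commute.one_right (u : Matrix chevF4.Idx chevF4.Idx F))
  norm_num at hp
  rw [h] at hp
  exact sub_eq_zero.1 hp.symm

theorem orderOf_le_32 {F : Type*} [Field F] [Fintype F] {m : ℕ} (hF : Fintype.card F = 2 ^ (2 * m + 1))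
    (g : GL chevF4.Idx F) (hg : g ∈ chevF4.group F) (h2 : ∃ j, orderOf g = 2 ^ j) : orderOf g ≤ 32 := by
  haveI : Fact (Nat.Prime 2) := ⟨Nat.prime_two⟩
  haveI : CharP F 2 := by
    refine CharTwo.of_one_ne_zero_of_two_eq_zero one_ne_zero ?_
    have := Nat.cast_card_eq_zero F
    rw [hF] at this
    push_cast at this
    exact eq_zero_of_pow_eq_zero this
  obtain ⟨c, hc⟩ := fine.exists_conj_mem_pos 2 ⟨g, hg⟩
    (by rw [← Subgroup.orderOf_coe]; exact h2)
  have h := pow_32 hc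
  simp only [Subgroup.coe_mul, InvMemClass.coe_inv] at h
  rw [conj_pow, conj_eq_one_iff] at h
  exact Nat.le_of_dvd (by norm_num) (orderOf_dvd_of_pow_eq_one h)

end CfsgLib.Chev.F4
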