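import Cfsg.Agent.Chev.Checks

/-!
Table check for maps of root elements `x_r(t) ↦ x_{ρ r}(ε_r t^{e_r})` in characteristic dividing `m`
(`m = 0`: every characteristic) respecting the commutator formula.
-/

set_option autoImplicit false

namespace CfsgLib.Chev

/-- a candidate map of root elements -/
structure RootTab where
  rho : List ℕ
  sgn : List ℤ
  exp : List ℕ

namespace RootTab

/-- image root -/
noncomputable def im (T : RootTab) (r : ℕ) : ℕ := T.rho.getD r 0

/-- sign -/
noncomputable def sg (T : RootTab) (r : ℕ) : ℤ := T.sgn.getD r 1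

/-- exponent -/
noncomputable def ex (T : RootTab) (r : ℕ) : ℕ := T.exp.getD r 1

end RootTab

namespace Data

variable (K : Data) (T : RootTab) (m : ℕ)

/-- integer powers by recursion -/
noncomputable def gpow (a : ℤ) (k : ℕ) : ℤ := Nat.rec (motive := fun _ => ℤ) 1 (fun _ x => a * x) k

/-- terms of the image of a commutator word, reduced -/
noncomputable def imTerms (r s : ℕ) : List (ℕ × ℤ × ℕ × ℕ) :=
  ((K.comm r s).map fun c =>
    (T.im c.1, (T.sg c.1 * (c.2.1 * gpow (-1) c.2.2.1)) % (m : ℤ), c.2.2.1 * T.ex c.1, c.2.2.2 * T.ex c.1)).filter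
      fun c => !(intEq c.2.1 0)

/-- terms of the commutator word of the images, reduced -/
noncomputable def tgtTerms (r s : ℕ) : List (ℕ × ℤ × ℕ × ℕ) :=
  ((K.comm (T.im r) (T.im s)).map fun c =>
    (c.1, (c.2.1 * gpow (-(T.sg r)) c.2.2.1 * gpow (T.sg s) c.2.2.2) % (m : ℤ), T.ex r * c.2.2.1, T.ex s * c.2.2.2)).filter
      fun c => !(intEq c.2.1 0)

/-- two root elements commute in characteristic dividing `m` -/
noncomputable def comZero (a b : ℕ) : Bool :=
  Nat.beq a b || (!(Nat.beq b (K.neg a)) && (K.comm a b).all fun c => intEq (c.2.1 % (m : ℤ)) 0)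

/-- equality of terms -/
noncomputable def termEq (a b : ℕ × ℤ × ℕ × ℕ) : Bool :=
  Nat.beq a.1 b.1 && intEq a.2.1 b.2.1 && Nat.beq a.2.2.1 b.2.2.1 && Nat.beq a.2.2.2 b.2.2.2

/-- one pair of roots -/
noncomputable def graphPairOK (r s : ℕ) : Bool :=
  Nat.beq s r || Nat.beq s (K.neg r) ||
    (!(Nat.beq (T.im s) (T.im r)) && !(Nat.beq (T.im s) (K.neg (T.im r))) &&
      Nat.beq (K.imTerms T m r s).length (K.tgtTerms T m r s).length &&
      ((K.imTerms T m r s).all fun a => (K.tgtTerms T m r s).any fun b => termEq a b) &&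
      ((List.range (K.imTerms T m r s).length).all fun i => (List.range i).all fun j =>
        !(Nat.beq ((K.imTerms T m r s).getD i (0, 0, 0, 0)).1 ((K.imTerms T m r s).getD j (0, 0, 0, 0)).1)) &&
      (K.tgtTerms T m r s).all fun a => (K.tgtTerms T m r s).all fun b => K.comZero m a.1 b.1)

/-- one root -/
noncomputable def graphRootOK (r : ℕ) : Bool :=
  Nat.blt (T.im r) K.n && (intEq (T.sg r) 1 || intEq (T.sg r) (-1)) &&
    (Nat.beq (T.ex r) 1 || (Nat.beq (T.ex r) m && !(Nat.beq m 0))) &&
    Nat.beq (T.im (K.neg r)) (K.neg (T.im r)) && intEq (T.sg (K.neg r)) (T.sg r) &&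
    Nat.beq (T.ex (K.neg r)) (T.ex r) &&
    (List.range K.n).any fun s => Nat.beq (T.im s) r

/-- all roots and pairs -/
noncomputable def graphOK : Bool :=
  (List.range K.n).all fun r => K.graphRootOK T m r && (List.range K.n).all fun s => K.graphPairOK T m r s

/-- `k` applications send `t` to `t^q` on every root subgroup -/
noncomputable def powOK (k q : ℕ) : Bool :=
  (List.range K.n).all fun r =>
    let st := Nat.rec (motive := fun _ => ℕ × ℤ × ℕ) (r, 1, 1)
      (fun _ st => (T.im st.1, T.sg st.1 * st.2.1, T.ex st.1 * st.2.2)) k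
    Nat.beq st.1 r && intEq st.2.1 1 && Nat.beq st.2.2 q

end Data

end CfsgLib.Chev
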