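import Cfsg.Agent.Chev.GraphAut
import Cfsg.Agent.Chev.Run.Graph
import Cfsg.Prelude.Def_ChevAutomorphisms
import Cfsg.Prelude.Def_LieTwisted

/-!
Graph automorphisms of the Chevalley groups.
-/

set_option autoImplicit false
set_option maxRecDepth 100000

namespace CfsgLib.Chev

open Cfsg.Lie

variable {K : Data} {D : ChevalleyDatum} {F : Type*} [Field F]

theorem graphE6_data : GraphData E6.data chevE6 graphE6 0 :=
  ⟨⟨⟨E6.fine, E6.combOK, E6.coweights⟩, _, E6.liftOK⟩, graphE6_ok⟩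

theorem graphE6id_data : GraphData E6.data chevE6 graphE6id 0 :=
  ⟨⟨⟨E6.fine, E6.combOK, E6.coweights⟩, _, E6.liftOK⟩, graphE6id_ok⟩

theorem liftD4 : LiftData D4.data chevD4 := ⟨⟨D4.fine, D4.combOK, D4.coweights⟩, _, D4.liftOK⟩

theorem graphB2_data : GraphData B2.data chevB2 graphB2 2 :=
  ⟨⟨⟨B2.fine, B2.combOK, B2.coweights⟩, _, B2.liftOK⟩, graphB2_ok⟩

theorem graphF4_data : GraphData F4.data chevF4 graphF4 2 :=
  ⟨⟨⟨F4.fine, F4.combOK, F4.coweights⟩, _, F4.liftOK⟩, graphF4_ok⟩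

theorem graphG2_data : GraphData G2.data chevG2 graphG2 3 :=
  ⟨⟨⟨G2.fine, G2.combOK, G2.coweights⟩, _, G2.liftOK⟩, graphG2_ok⟩

/-- a table sends the fundamental roots as prescribed, without signs -/
def OnSimple (K : Data) (D : ChevalleyDatum) (T : RootTab) (l : List (ℕ × ℕ)) : Prop :=
  ∀ i : Fin D.rank, T.im (K.p i.val) = K.p (l.getD i.val (0, 1)).1 ∧ (l.getD i.val (0, 1)).1 < D.rank ∧
    T.sg (K.p i.val) = 1 ∧ T.ex (K.p i.val) = (l.getD i.val (0, 1)).2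

theorem GraphData.exists_named {T : RootTab} {m : ℕ} (hg : GraphData K D T m) (he : ExpOK F m) {k q : ℕ}
    (hk : 0 < k) (hp : K.powOK T k q = true) (hq : q = 1 ∨ (q = m ∧ m ≠ 0)) {l : List (ℕ × ℕ)}
    (hl : OnSimple K D T l) :
    ∃ α : ↥(D.group F) ≃* ↥(D.group F), ∀ (g : ↥(D.group F)) (i : ℕ) (t : F), i < D.rank →
      (((g : GL D.Idx F) : Matrix D.Idx D.Idx F) = D.x F (D.simple i) t →
        ((α g : GL D.Idx F) : Matrix D.Idx D.Idx F) =
          D.x F (D.simple (l.getD i (0, 1)).1) (t ^ (l.getD i (0, 1)).2)) ∧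
      (((g : GL D.Idx F) : Matrix D.Idx D.Idx F) = D.x F (D.neg (D.simple i)) t →
        ((α g : GL D.Idx F) : Matrix D.Idx D.Idx F) =
          D.x F (D.neg (D.simple (l.getD i (0, 1)).1)) (t ^ (l.getD i (0, 1)).2)) := by
  obtain ⟨α, hα⟩ := hg.exists_aut (F := F) he hk hp hq
  have hG := hg.lift.comb.fine.toGood
  refine ⟨α, fun g i t hi => ?_⟩
  obtain ⟨h1, hj, h2, h3⟩ := hl ⟨i, hi⟩
  simp only at h1 hj h2 h3
  have hp' := hG.p_lt hi
  obtain ⟨-, -, -, h4, h5, h6, -⟩ := hg.root hp'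
  rw [hG.simple_eq hi, hG.simple_eq hj, hG.neg_eq hp', hG.neg_eq (hG.p_lt hj), ← hG.Kneg_eq, ← hG.Kneg_eq]
  constructor
  · intro hgx
    rw [hα _ t hp' g (Units.ext (hgx.trans (coe_xU hg.lift.comb.fine _ t).symm)), coe_xU, h1, h2, h3]
    simp
  · intro hgx
    rw [hα _ t (hG.Kneg_lt hp') g (Units.ext (hgx.trans (coe_xU hg.lift.comb.fine _ t).symm)), coe_xU,
      h4, h5, h6, h1, h2, h3]
    simp

theorem onSimple_E6 : OnSimple E6.data chevE6 graphE6 ([5, 1, 4, 3, 2, 0].map fun j => (j, 1)) := by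
  unfold OnSimple; decide +kernel

theorem onSimple_D4a : OnSimple D4.data chevD4 graphD4a ([2, 1, 3, 0].map fun j => (j, 1)) := by
  unfold OnSimple; decide +kernel

theorem onSimple_D4b : OnSimple D4.data chevD4 graphD4b ([3, 1, 0, 2].map fun j => (j, 1)) := by
  unfold OnSimple; decide +kernel

theorem onSimple_B2 : OnSimple B2.data chevB2 graphB2 [(1, 2), (0, 1)] := by
  unfold OnSimple; decide +kernel

theorem onSimple_F4 : OnSimple F4.data chevF4 graphF4 [(3, 2), (2, 2), (1, 1), (0, 1)] := by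
  unfold OnSimple; decide +kernel

theorem onSimple_G2 : OnSimple G2.data chevG2 graphG2 [(1, 3), (0, 1)] := by
  unfold OnSimple; decide +kernel

theorem g2_names : g2a = chevG2.simple 0 ∧ g2b = chevG2.simple 1 ∧ g2ma = chevG2.neg (chevG2.simple 0) ∧
    g2mb = chevG2.neg (chevG2.simple 1) := by decide +kernel

/-- two homomorphisms of the group agreeing on the root elements of the fundamental roots and their negatives -/
theorem Fine.hom_ext (hK : Fine K D) {M : Type*} [Group M] {α β : ↥(D.group F) →* M}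
    (h : ∀ (i : ℕ), i < D.rank → ∀ t : F,
      α ⟨xU hK (K.p i) t, hK.xU_mem_group _ t⟩ = β ⟨xU hK (K.p i) t, hK.xU_mem_group _ t⟩ ∧
        α ⟨xU hK (K.neg (K.p i)) t, hK.xU_mem_group _ t⟩ = β ⟨xU hK (K.neg (K.p i)) t, hK.xU_mem_group _ t⟩) :
    α = β := by
  refine MonoidHom.ext fun g => ?_
  have hle : D.group F ≤ (MonoidHom.eqLocus α β).map (D.group F).subtype := by
    conv_lhs => rw [hK.group_eq_simple]
    refine (Subgroup.closure_le _).2 ?_
    rintro x ⟨i, hi, t, rfl | rfl⟩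
    · exact ⟨_, (h i hi t).1, rfl⟩
    · exact ⟨_, (h i hi t).2, rfl⟩
  obtain ⟨y, hy, hyg⟩ := hle g.2
  rw [show g = y from Subtype.ext hyg.symm]
  exact hy

/-- the table of a diagram symmetry -/
def SymTab (K : Data) (D : ChevalleyDatum) (π : Equiv.Perm (Fin D.rank)) (T : RootTab) : Prop :=
  (∀ i : Fin D.rank, T.im (K.p i.val) = K.p (π i).val ∧ T.sg (K.p i.val) = 1 ∧ T.ex (K.p i.val) = 1) ∧
    ∀ r : Fin D.nroots, T.im r.val = D.permRoot π r.val ∧ T.ex r.val = 1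

noncomputable instance (K : Data) (D : ChevalleyDatum) (π : Equiv.Perm (Fin D.rank)) (T : RootTab) :
    Decidable (SymTab K D π T) := by unfold SymTab; infer_instance

theorem sym_tabs_D4 : ∀ π : Equiv.Perm (Fin chevD4.rank), chevD4.IsDiagramSymmetry π →
    SymTab D4.data chevD4 π graphD4id ∨ SymTab D4.data chevD4 π graphD4a ∨ SymTab D4.data chevD4 π graphD4b ∨
      SymTab D4.data chevD4 π graphD4c ∨ SymTab D4.data chevD4 π graphD4d ∨ SymTab D4.data chevD4 π graphD4e := by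
  unfold ChevalleyDatum.IsDiagramSymmetry
  decide +kernel

theorem sym_tabs_E6 : ∀ π : Equiv.Perm (Fin chevE6.rank), chevE6.IsDiagramSymmetry π →
    SymTab E6.data chevE6 π graphE6id ∨ SymTab E6.data chevE6 π graphE6 := by
  unfold ChevalleyDatum.IsDiagramSymmetry
  decide +kernel

theorem sign_of_sym {T : RootTab} {k : ℕ} (hg : GraphData K D T 0) (hk : 0 < k) (hp : K.powOK T k 1 = true)
    {π : Equiv.Perm (Fin D.rank)} (hT : SymTab K D π T) (φ : ↥(D.group F) ≃* ↥(D.group F))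
    (hφ : ∀ (g : ↥(D.group F)) (i : Fin D.rank) (t : F),
      (((g : GL D.Idx F) : Matrix D.Idx D.Idx F) = D.x F (D.simple i) t →
        ((φ g : GL D.Idx F) : Matrix D.Idx D.Idx F) = D.x F (D.simple (π i)) t) ∧
      (((g : GL D.Idx F) : Matrix D.Idx D.Idx F) = D.x F (D.neg (D.simple i)) t →
        ((φ g : GL D.Idx F) : Matrix D.Idx D.Idx F) = D.x F (D.neg (D.simple (π i))) t))
    {r : ℕ} (hr : r < D.nroots) :
    ∃ ε : F, (ε = 1 ∨ ε = -1) ∧ ∀ (g : ↥(D.group F)) (t : F),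
      ((g : GL D.Idx F) : Matrix D.Idx D.Idx F) = D.x F r t →
        ((φ g : GL D.Idx F) : Matrix D.Idx D.Idx F) = D.x F (D.permRoot π r) (ε * t) := by
  obtain ⟨α, hα⟩ := hg.exists_aut (F := F) (ExpOK.zero_case F) hk hp (Or.inl rfl)
  have hK := hg.lift.comb.fine
  have hG := hK.toGood
  have heq : φ.toMonoidHom = α.toMonoidHom := by
    refine hK.hom_ext fun i hi t => ?_
    obtain ⟨h1, h2, h3⟩ := hT.1 ⟨i, hi⟩
    simp only at h1 h2 h3
    obtain ⟨-, -, -, h4, h5, h6, -⟩ := hg.root (hG.p_lt hi)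
    obtain ⟨hp1, hn1⟩ := hφ ⟨xU hK (K.p i) t, hK.xU_mem_group _ t⟩ ⟨i, hi⟩ t
    obtain ⟨hp2, hn2⟩ := hφ ⟨xU hK (K.neg (K.p i)) t, hK.xU_mem_group _ t⟩ ⟨i, hi⟩ t
    constructor <;> refine Subtype.ext (Units.ext ?_)
    · show ((φ _ : GL D.Idx F) : Matrix D.Idx D.Idx F) = _
      rw [hp1 (by rw [coe_xU, hG.simple_eq hi])]
      show _ = ((α _ : GL D.Idx F) : Matrix D.Idx D.Idx F)
      rw [hα _ t (hG.p_lt hi) _ rfl, coe_xU, h1, h2, h3, hG.simple_eq (π ⟨i, hi⟩).isLt]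
      simp
    · show ((φ _ : GL D.Idx F) : Matrix D.Idx D.Idx F) = _
      rw [hn2 (by rw [coe_xU, hG.simple_eq hi, hG.neg_eq (hG.p_lt hi), ← hG.Kneg_eq])]
      show _ = ((α _ : GL D.Idx F) : Matrix D.Idx D.Idx F)
      rw [hα _ t (hG.Kneg_lt (hG.p_lt hi)) _ rfl, coe_xU, h4, h5, h6, h1, h2, h3,
        hG.simple_eq (π ⟨i, hi⟩).isLt, hG.neg_eq (hG.p_lt (π ⟨i, hi⟩).isLt), ← hG.Kneg_eq]
      simp
  obtain ⟨h1, h2⟩ := hT.2 ⟨r, hr⟩
  simp only at h1 h2
  refine ⟨(T.sg r : F), ?_, fun g t hgx => ?_⟩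
  · rcases (hg.root hr).2.1 with h | h <;> simp [h]
  · rw [show φ g = α g from DFunLike.congr_fun heq g,
      hα r t hr g (Units.ext (hgx.trans (coe_xU hK r t).symm)), coe_xU, h1, h2, pow_one]

end CfsgLib.Chev
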