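import Cfsg.Agent.Chev.Presented
import Cfsg.Agent.Chev.GraphCheck

/-!
Maps of root elements respecting the commutator formula give automorphisms of the Chevalley group.
-/

set_option autoImplicit false

namespace CfsgLib.Chev

open Cfsg.Lie Fine

variable {K : Data} {D : ChevalleyDatum} {F : Type*} [Field F]

/-- hypotheses on the field for a table of exponents -/
structure ExpOK (F : Type*) [Field F] (m : ℕ) : Prop where
  zero : (m : F) = 0
  add : m ≠ 0 → ∀ a b : F, (a + b) ^ m = a ^ m + b ^ m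
  surj : m ≠ 0 → ∀ x : F, ∃ y : F, y ^ m = x

theorem ExpOK.zero_case (F : Type*) [Field F] : ExpOK F 0 :=
  ⟨Nat.cast_zero, fun h => absurd rfl h, fun h => absurd rfl h⟩

theorem ExpOK.of_prime (F : Type*) [Field F] (p : ℕ) [Fact p.Prime] [CharP F p]
    (hperf : ∀ x : F, ∃ y : F, y ^ p = x) : ExpOK F p :=
  ⟨CharP.cast_eq_zero F p, fun _ a b => add_pow_char a b p, fun _ => hperf⟩

/-- the image of a symbol -/
noncomputable def imgVal (hK : Fine K D) (F : Type*) [Field F] (T : RootTab) (p : Fin D.nroots × F) : GL D.Idx F :=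
  xU hK (T.im p.1.val) ((T.sg p.1.val : F) * p.2 ^ T.ex p.1.val)

theorem gpow_eq (a : ℤ) (k : ℕ) : Data.gpow a k = a ^ k := by
  induction k with
  | zero => rw [pow_zero]; rfl
  | succ k ih => rw [pow_succ', ← ih]; rfl

theorem cast_emod {m : ℕ} (h : (m : F) = 0) (z : ℤ) : ((z % (m : ℤ) : ℤ) : F) = (z : F) := by
  rw [Int.emod_def, Int.cast_sub, Int.cast_mul, Int.cast_natCast, h, zero_mul, sub_zero]

/-- one letter from a reduced term -/
def termLetter (t u : F) (c : ℕ × ℤ × ℕ × ℕ) : ℕ × F := (c.1, (c.2.1 : F) * t ^ c.2.2.1 * u ^ c.2.2.2)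

theorem wordU_filter (hK : Fine K D) (t u : F) : ∀ l : List (ℕ × ℤ × ℕ × ℕ),
    wordU hK ((l.filter fun c => !(intEq c.2.1 0)).map (termLetter t u)) = wordU hK (l.map (termLetter t u))
  | [] => rfl
  | c :: l => by
    have ih := wordU_filter hK t u l
    by_cases h : c.2.1 = 0
    · rw [List.filter_cons_of_neg (by simp [h, intEq_iff]), ih]
      simp [wordU, termLetter, h, xU_zero]
    · have h' : intEq c.2.1 0 = false := by rw [Bool.eq_false_iff, ne_eq, intEq_iff]; exact h
      rw [List.filter_cons_of_pos (by simp [h'])]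
      simp only [wordU, List.map_cons, List.prod_cons] at ih ⊢
      rw [ih]

structure GraphData (K : Data) (D : ChevalleyDatum) (T : RootTab) (m : ℕ) : Prop where
  lift : LiftData K D
  ok : K.graphOK T m = true

namespace GraphData

variable {T : RootTab} {m : ℕ}

theorem root (hg : GraphData K D T m) {r : ℕ} (hr : r < D.nroots) :
    T.im r < D.nroots ∧ (T.sg r = 1 ∨ T.sg r = -1) ∧ (T.ex r = 1 ∨ (T.ex r = m ∧ m ≠ 0)) ∧
      T.im (K.neg r) = K.neg (T.im r) ∧ T.sg (K.neg r) = T.sg r ∧ T.ex (K.neg r) = T.ex r ∧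
      ∃ s < D.nroots, T.im s = r := by
  have h := hg.ok
  have hn := hg.lift.comb.fine.toGood.n_eq
  simp only [Data.graphOK, Data.graphRootOK, List.all_eq_true, List.mem_range, Bool.and_eq_true, Bool.or_eq_true,
    List.any_eq_true, Bool.not_eq_true', intEq_iff, hn, Nat.blt_eq] at h
  obtain ⟨⟨⟨⟨⟨⟨⟨h1, h2⟩, h3⟩, h4⟩, h5⟩, h6⟩, s, hs, h7⟩, -⟩ := h r hr
  refine ⟨h1, h2, h3.imp Nat.eq_of_beq_eq_true fun ⟨a, b⟩ => ⟨Nat.eq_of_beq_eq_true a, fun e => ?_⟩,
    Nat.eq_of_beq_eq_true h4, h5, Nat.eq_of_beq_eq_true h6, s, hs, Nat.eq_of_beq_eq_true h7⟩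
  rw [e] at b
  simp at b

theorem ex_add (hg : GraphData K D T m) (he : ExpOK F m) {r : ℕ} (hr : r < D.nroots) (a b : F) :
    (a + b) ^ T.ex r = a ^ T.ex r + b ^ T.ex r := by
  rcases (hg.root hr).2.2.1 with h | ⟨h, hm⟩
  · simp [h]
  · rw [h]; exact he.add hm a b

theorem ex_pos (hg : GraphData K D T m) {r : ℕ} (hr : r < D.nroots) : T.ex r ≠ 0 := by
  rcases (hg.root hr).2.2.1 with h | ⟨h, hm⟩ <;> rw [h]
  · exact one_ne_zero
  · exact hm

theorem intCast_pow (hg : GraphData K D T m) (he : ExpOK F m) {r : ℕ} (hr : r < D.nroots) (z : ℤ) :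
    (z : F) ^ T.ex r = z := by
  let f : F →+ F :=
    { toFun := fun x => x ^ T.ex r
      map_zero' := zero_pow (hg.ex_pos hr)
      map_add' := hg.ex_add he hr }
  have h := map_zsmul f z (1 : F)
  simpa [f, zsmul_eq_mul] using h

theorem neg_pow_ex (hg : GraphData K D T m) (he : ExpOK F m) {r : ℕ} (hr : r < D.nroots) (x : F) :
    (-x) ^ T.ex r = -(x ^ T.ex r) := by
  have h := hg.intCast_pow (F := F) he hr (-1)
  push_cast at h
  rw [neg_pow, h, neg_one_mul]

theorem wordU_img (hg : GraphData K D T m) (w : List (ℕ × F)) (hw : ∀ p ∈ w, p.1 < D.nroots) :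
    FreeGroup.lift (imgVal hg.lift.comb.fine F T) (D.stWord w) =
      wordU hg.lift.comb.fine (w.map fun p => (T.im p.1, (T.sg p.1 : F) * p.2 ^ T.ex p.1)) := by
  rw [ChevalleyDatum.stWord, map_list_prod, List.map_map, wordU, List.map_map]
  congr 1
  refine List.map_congr_left fun p hp => ?_
  simp only [Function.comp, ChevalleyDatum.stX, dif_pos (hw p hp), FreeGroup.lift_apply_of]
  rfl

theorem comm_img (hg : GraphData K D T m) (he : ExpOK F m) {r s : ℕ} (hr : r < D.nroots) (hs : s < D.nroots)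
    (hsr : s ≠ r) (hneg : s ≠ K.neg r) (t u : F) :
    T.im s ≠ T.im r ∧ T.im s ≠ K.neg (T.im r) ∧
    wordU hg.lift.comb.fine ((D.commWord F r s t u).map fun p => (T.im p.1, (T.sg p.1 : F) * p.2 ^ T.ex p.1)) =
      wordU hg.lift.comb.fine (D.commWord F (T.im r) (T.im s) ((T.sg r : F) * t ^ T.ex r)
        ((T.sg s : F) * u ^ T.ex s)) := by
  classical
  have hK := hg.lift.comb.fine
  have hG := hK.toGood
  have h := hg.ok
  simp only [Data.graphOK, List.all_eq_true, List.mem_range, Bool.and_eq_true, hG.n_eq] at h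
  have h' := (h r hr).2 s hs
  have hbeq : ∀ a b : ℕ, (Nat.beq a b = true) = (a = b) := fun a b =>
    propext ⟨Nat.eq_of_beq_eq_true, fun h => h ▸ Nat.beq_refl a⟩
  simp only [Data.graphPairOK, Bool.or_eq_true, Bool.and_eq_true, hbeq, List.all_eq_true, List.any_eq_true,
    List.mem_range, Bool.not_eq_true', Bool.eq_false_iff, ne_eq] at h'
  rcases h' with (h' | h') | ⟨⟨⟨⟨⟨hne, hnen⟩, hlen⟩, hsub⟩, hnodup⟩, hcom⟩
  · exact absurd h' hsr
  · exact absurd h' hneg
  refine ⟨hne, hnen, ?_⟩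
  set r' := T.im r
  set s' := T.im s
  have hr' := (hg.root hr).1
  have hs' := (hg.root hs).1
  have eA : ((D.commWord F r s t u).map fun p => (T.im p.1, (T.sg p.1 : F) * p.2 ^ T.ex p.1)) =
      (((K.comm r s).map fun c => (T.im c.1, (T.sg c.1 * (c.2.1 * Data.gpow (-1) c.2.2.1)) % (m : ℤ),
        c.2.2.1 * T.ex c.1, c.2.2.2 * T.ex c.1)).map (termLetter t u)) := by
    rw [ChevalleyDatum.commWord, hG.commTerms_eq hr hs, List.map_map, List.map_map]
    refine List.map_congr_left fun c hc => ?_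
    have hc1 := (hG.comm_mem hr hs hc).1
    simp only [Function.comp, termLetter, cast_emod he.zero, gpow_eq]
    refine Prod.ext rfl ?_
    push_cast
    have e1 := hg.intCast_pow (F := F) he hc1 c.2.1
    have e2 : ((-1 : F) ^ c.2.2.1) ^ T.ex c.1 = (-1 : F) ^ c.2.2.1 := by
      have := hg.intCast_pow (F := F) he hc1 ((-1) ^ c.2.2.1)
      push_cast at this
      exact this
    rw [neg_pow t, mul_pow, mul_pow, mul_pow, e1, e2, pow_mul, pow_mul]
    ring
  have eB : D.commWord F r' s' ((T.sg r : F) * t ^ T.ex r) ((T.sg s : F) * u ^ T.ex s) =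
      (((K.comm r' s').map fun c => (c.1, (c.2.1 * Data.gpow (-(T.sg r)) c.2.2.1 * Data.gpow (T.sg s) c.2.2.2) % (m : ℤ),
        T.ex r * c.2.2.1, T.ex s * c.2.2.2)).map (termLetter t u)) := by
    rw [ChevalleyDatum.commWord, hG.commTerms_eq hr' hs', List.map_map]
    refine List.map_congr_left fun c hc => ?_
    simp only [Function.comp, termLetter, cast_emod he.zero, gpow_eq]
    refine Prod.ext rfl ?_
    push_cast
    rw [show -((T.sg r : F) * t ^ T.ex r) = (-(T.sg r : F)) * t ^ T.ex r by ring, mul_pow, mul_pow, pow_mul, pow_mul]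
    ring
  rw [eA, eB, ← wordU_filter hK t u, ← wordU_filter hK t u ((K.comm r' s').map _)]
  change wordU hK ((K.imTerms T m r s).map (termLetter t u)) = wordU hK ((K.tgtTerms T m r s).map (termLetter t u))
  have hnd : (K.imTerms T m r s).Nodup := by
    rw [List.nodup_iff_injective_getElem]
    rintro ⟨i, hi⟩ ⟨j, hj⟩ e
    by_contra hij
    have hij' : i ≠ j := fun e' => hij (Fin.ext e')
    rcases Nat.lt_or_ge j i with hlt | hge
    · refine hnodup i hi j hlt ?_
      rw [List.getD_eq_getElem _ _ hi, List.getD_eq_getElem _ _ hj]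
      exact congrArg Prod.fst e
    · refine hnodup j hj i (by omega) ?_
      rw [List.getD_eq_getElem _ _ hi, List.getD_eq_getElem _ _ hj]
      exact (congrArg Prod.fst e).symm
  have hss : K.imTerms T m r s ⊆ K.tgtTerms T m r s := fun a ha => by
    obtain ⟨b, hb, hab⟩ := hsub a ha
    simp only [Data.termEq, Bool.and_eq_true, hbeq, intEq_iff] at hab
    obtain ⟨⟨⟨a1, a2⟩, a3⟩, a4⟩ := hab
    rwa [show a = b from Prod.ext a1 (Prod.ext a2 (Prod.ext a3 a4))]
  have hperm : (K.imTerms T m r s).Perm (K.tgtTerms T m r s) :=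
    (hnd.subperm hss).perm_of_length_le hlen.ge
  simp only [wordU]
  refine List.Perm.prod_eq' ((hperm.map _).map _) ?_
  simp only [List.map_map]
  refine List.pairwise_of_forall_mem_list ?_
  intro g hgm g' hgm'
  obtain ⟨a, ha, rfl⟩ := List.mem_map.1 hgm
  obtain ⟨b, hb, rfl⟩ := List.mem_map.1 hgm'
  have hc := hcom a (hperm.subset ha) b (hperm.subset hb)
  simp only [Data.comZero, Bool.or_eq_true, Bool.and_eq_true, hbeq, Bool.not_eq_true', Bool.eq_false_iff, ne_eq,
    List.all_eq_true, intEq_iff] at hc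
  simp only [Function.comp, termLetter]
  rcases hc with hc | ⟨hn', hz⟩
  · rw [commute_iff_eq, hc, xU_mul hK, xU_mul hK, add_comm]
  · by_cases hab : b.1 = a.1
    · rw [commute_iff_eq, hab, xU_mul hK, xU_mul hK, add_comm]
    by_cases hA : a.1 < D.nroots
    · by_cases hB : b.1 < D.nroots
      · have hone : ∀ x y : F, wordU hK (D.commWord F a.1 b.1 x y) = 1 := by
          intro x y
          rw [ChevalleyDatum.commWord, hG.commTerms_eq hA hB, wordU, List.map_map]
          refine List.prod_eq_one fun z hz' => ?_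
          obtain ⟨c, hc, rfl⟩ := List.mem_map.1 hz'
          have : (c.2.1 : F) = 0 := by rw [← cast_emod he.zero, hz c hc, Int.cast_zero]
          simp [this, xU_zero]
        have hf := hK.conj_formula hA hB hab hn' ((a.2.1 : F) * t ^ a.2.2.1 * u ^ a.2.2.2)
          ((b.2.1 : F) * t ^ b.2.2.1 * u ^ b.2.2.2)
        rw [hone, mul_one] at hf
        rw [commute_iff_eq]
        rw [mul_assoc, inv_mul_eq_iff_eq_mul] at hf
        exact hf.symm
      · rw [xU_of_not_lt hK hB]; exact Commute.one_right _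
    · rw [xU_of_not_lt hK hA]; exact Commute.one_left _

theorem commWord_lt (hK : Fine K D) {r s : ℕ} (hr : r < D.nroots) (hs : s < D.nroots) (t u : F) :
    ∀ p ∈ D.commWord F r s t u, p.1 < D.nroots := by
  intro p hp
  simp only [ChevalleyDatum.commWord, List.mem_map] at hp
  obtain ⟨c, hc, rfl⟩ := hp
  rw [hK.toGood.commTerms_eq hr hs] at hc
  exact (hK.toGood.comm_mem hr hs hc).1

theorem nWord_img (hg : GraphData K D T m) (he : ExpOK F m) {r : ℕ} (hr : r < D.nroots) (x : F) :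
    wordU hg.lift.comb.fine ((D.nWord r x).map fun p => (T.im p.1, (T.sg p.1 : F) * p.2 ^ T.ex p.1)) =
      nU hg.lift.comb.fine (T.im r) ((T.sg r : F) * x ^ T.ex r) := by
  have hG := hg.lift.comb.fine.toGood
  obtain ⟨h1, h2, -, h4, h5, h6, -⟩ := hg.root hr
  have hinv : ((T.sg r : F))⁻¹ = T.sg r := by
    rcases h2 with h | h <;> simp [h, inv_neg]
  simp only [ChevalleyDatum.nWord, List.map_cons, List.map_nil, nU, hG.neg_eq hr, hG.neg_eq h1, ← hG.Kneg_eq,
    h4, h5, h6, hg.neg_pow_ex he hr, inv_pow, mul_inv, hinv, mul_neg]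

theorem img_sat (hg : GraphData K D T m) (he : ExpOK F m) :
    ∀ g ∈ D.steinbergRels F, FreeGroup.lift (imgVal hg.lift.comb.fine F T) g = 1 := by
  have hK := hg.lift.comb.fine
  have hG := hK.toGood
  have hx : ∀ r < D.nroots, ∀ t : F, FreeGroup.lift (imgVal hg.lift.comb.fine F T) (D.stX r t) =
      xU hK (T.im r) ((T.sg r : F) * t ^ T.ex r) := fun r hr t => by
    simp only [ChevalleyDatum.stX, dif_pos hr, FreeGroup.lift_apply_of]
    rfl
  rintro g ((⟨r, t, u, hr, rfl⟩ | ⟨r, s, t, u, hr, hs, hsr, hneg, rfl⟩) | ⟨r, t, u, hr, ht, hu, rfl⟩)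
  · rw [map_mul, map_mul, map_inv, hx r hr, hx r hr, hx r hr, xU_mul hK, hg.ex_add he hr, mul_add, mul_inv_cancel]
  · rw [map_mul, map_mul, map_mul, map_mul, map_inv, map_inv, map_inv, hx r hr, hx s hs,
      hg.wordU_img _ (commWord_lt hK hr hs t u)]
    obtain ⟨hne, hnen, e⟩ := hg.comm_img he hr hs hsr (by rwa [hG.Kneg_eq, ← hG.neg_eq hr]) t u
    have h := hK.conj_formula (hg.root hr).1 (hg.root hs).1 hne hnen ((T.sg r : F) * t ^ T.ex r)
      ((T.sg s : F) * u ^ T.ex s)
    rw [e, show (xU hK (T.im s) ((T.sg s : F) * u ^ T.ex s))⁻¹ * (xU hK (T.im r) ((T.sg r : F) * t ^ T.ex r))⁻¹ *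
        xU hK (T.im s) ((T.sg s : F) * u ^ T.ex s) * xU hK (T.im r) ((T.sg r : F) * t ^ T.ex r) =
        (xU hK (T.im s) ((T.sg s : F) * u ^ T.ex s))⁻¹ * ((xU hK (T.im r) ((T.sg r : F) * t ^ T.ex r))⁻¹ *
        xU hK (T.im s) ((T.sg s : F) * u ^ T.ex s) * xU hK (T.im r) ((T.sg r : F) * t ^ T.ex r)) by group, h]
    group
  · have hlt : ∀ x : F, ∀ p ∈ D.hWord r x, p.1 < D.nroots := by
      intro x p hp
      simp [ChevalleyDatum.hWord, ChevalleyDatum.nWord, hG.neg_eq hr] at hp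
      casesm* _ ∨ _ <;> subst_vars <;> simp <;> omega
    have h1 := (hg.root hr).1
    obtain ⟨ε, hεv⟩ : ∃ ε : Fˣ, (ε : F) = (T.sg r : F) := by
      rcases (hg.root hr).2.1 with h | h
      · exact ⟨1, by simp [h]⟩
      · exact ⟨-1, by simp [h]⟩
    have hh : ∀ a : F, a ≠ 0 → ∃ w : Fˣ, (w : F) = a ^ T.ex r ∧
        FreeGroup.lift (imgVal hg.lift.comb.fine F T) (D.stH r a) = tU K D (hParam K (T.im r) w) := by
      intro a ha
      refine ⟨Units.mk0 _ (pow_ne_zero _ ha), rfl, ?_⟩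
      rw [ChevalleyDatum.stH, hg.wordU_img _ (hlt a), ChevalleyDatum.hWord, List.map_append]
      rw [show wordU hK ((D.nWord r a).map (fun p => (T.im p.1, (T.sg p.1 : F) * p.2 ^ T.ex p.1)) ++
        (D.nWord r (-1)).map (fun p => (T.im p.1, (T.sg p.1 : F) * p.2 ^ T.ex p.1))) =
        wordU hK ((D.nWord r a).map fun p => (T.im p.1, (T.sg p.1 : F) * p.2 ^ T.ex p.1)) *
        wordU hK ((D.nWord r (-1)).map fun p => (T.im p.1, (T.sg p.1 : F) * p.2 ^ T.ex p.1)) by simp [wordU]]
      rw [hg.nWord_img he hr, hg.nWord_img he hr, hg.neg_pow_ex he hr, one_pow, mul_neg, mul_one, ← hεv]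
      set w := Units.mk0 (a ^ T.ex r) (pow_ne_zero _ ha)
      have e1 := nU_mul_neg_eq_tU hK h1 (ε * w)
      have e2 := nU_mul_neg_eq_tU hK h1 ε
      rw [Units.val_mul] at e1
      have e3 : nU hK (T.im r) (-(ε : F)) = (nU hK (T.im r) (ε : F))⁻¹ := by
        simp [nU, wordU, ChevalleyDatum.nWord, xU_inv hK, mul_assoc]
      rw [show (a ^ T.ex r : F) = (w : F) from rfl, e3,
        show nU hK (T.im r) ((ε : F) * (w : F)) = (nU hK (T.im r) ((ε : F) * (w : F)) * nU hK (T.im r) (-1)) *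
          (nU hK (T.im r) (-1))⁻¹ by group, e1,
        show nU hK (T.im r) (ε : F) = (nU hK (T.im r) (ε : F) * nU hK (T.im r) (-1)) *
          (nU hK (T.im r) (-1))⁻¹ by group, e2,
        show hParam K (T.im r) (ε * w) = hParam K (T.im r) w * hParam K (T.im r) ε from
          funext fun i => by simp [hParam, mul_zpow, mul_comm], tU_mul]
      group
    obtain ⟨wa, hwa, ea⟩ := hh t ht
    obtain ⟨wb, hwb, eb⟩ := hh u hu
    obtain ⟨wc, hwc, ec⟩ := hh (t * u) (mul_ne_zero ht hu)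
    rw [map_mul, map_mul, map_inv, ea, eb, ec,
      show wc = wa * wb from Units.ext (by rw [Units.val_mul, hwa, hwb, hwc, mul_pow]),
      show hParam K (T.im r) (wa * wb) = hParam K (T.im r) wa * hParam K (T.im r) wb from
        funext fun i => _root_.mul_zpow wa wb _, tU_mul, mul_inv_cancel]

theorem exists_hom (hg : GraphData K D T m) (he : ExpOK F m) :
    ∃ α : ↥(D.group F) →* GL D.Idx F, α.range = D.group F ∧
      ∀ (r : ℕ) (t : F), r < D.nroots →
        α ⟨xU hg.lift.comb.fine r t, hg.lift.comb.fine.xU_mem_group r t⟩ =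
          xU hg.lift.comb.fine (T.im r) ((T.sg r : F) * t ^ T.ex r) := by
  classical
  have hK := hg.lift.comb.fine
  set c := Lift.ofSteinberg hK F
  let Φ : D.SteinbergGroup F →* GL D.Idx F := PresentedGroup.toGroup (hg.img_sat he)
  have hΦ : ∀ (r : ℕ) (t : F), r < D.nroots → Φ (c.e r t) = xU hK (T.im r) ((T.sg r : F) * t ^ T.ex r) := by
    intro r t hr
    show Φ (PresentedGroup.mk _ (D.stX r t)) = _
    simp only [ChevalleyDatum.stX, dif_pos hr]
    exact PresentedGroup.toGroup.of (hg.img_sat he)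
  have hpre : ∀ (s : ℕ) (y : F), s < D.nroots → ∃ x, Φ x = xU hK s y := by
    intro s y hs
    obtain ⟨r, hr, rfl⟩ := (hg.root hs).2.2.2.2.2.2
    obtain ⟨-, hsg, hex, -⟩ := hg.root hr
    obtain ⟨t, ht⟩ : ∃ t : F, (T.sg r : F) * t ^ T.ex r = y := by
      obtain ⟨z, hz⟩ : ∃ z : F, z ^ T.ex r = (T.sg r : F) * y := by
        rcases hex with h | ⟨h, hm⟩
        · exact ⟨_, by rw [h, pow_one]⟩
        · rw [h]; exact he.surj hm _
      refine ⟨z, ?_⟩
      rw [hz]
      rcases hsg with h | h <;> simp [h]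
    exact ⟨c.e r t, by rw [hΦ r t hr, ht]⟩
  have hrange : Φ.range = D.group F := by
    refine le_antisymm ?_ ((Subgroup.closure_le _).2 ?_)
    · rw [MonoidHom.range_eq_map, ← PresentedGroup.closure_range_of, MonoidHom.map_closure, Subgroup.closure_le]
      rintro _ ⟨_, ⟨p, rfl⟩, rfl⟩
      rw [PresentedGroup.toGroup.of]
      exact hK.xU_mem_group _ _
    · rintro g ⟨r, t, hgx⟩
      obtain ⟨x, hx⟩ := hpre r.val t r.isLt
      exact ⟨x, by rw [hx]; exact Units.ext (by rw [hgx, coe_xU, x_of_lt D r.isLt])⟩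
  have hker : c.projGroup.ker ≤ Φ.ker := by
    rw [c.projGroup_ker, c.ker_eq_center hg.lift]
    intro z hz
    rw [MonoidHom.mem_ker]
    refine hK.eq_one_of_commute hg.lift.comb.comb (RingHom.id F) (hrange ▸ ⟨z, rfl⟩) fun s hs y _ => ?_
    obtain ⟨x, hx⟩ := hpre s y hs
    rw [← hx, ← map_mul, ← map_mul, Subgroup.mem_center_iff.1 hz x]
  let α := c.projGroup.liftOfSurjective c.projGroup_surjective ⟨Φ, hker⟩
  have hα : ∀ x, α (c.projGroup x) = Φ x := fun x =>
    MonoidHom.liftOfRightInverse_comp_apply _ _ _ ⟨Φ, hker⟩ x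
  refine ⟨α, Eq.trans ?_ hrange, fun r t hr => ?_⟩
  · ext g
    constructor
    · rintro ⟨y, rfl⟩
      obtain ⟨x, rfl⟩ := c.projGroup_surjective y
      exact ⟨x, (hα x).symm⟩
    · rintro ⟨x, rfl⟩
      exact ⟨_, hα x⟩
  · have e : (⟨xU hg.lift.comb.fine r t, hK.xU_mem_group r t⟩ : ↥(D.group F)) = c.projGroup (c.e r t) :=
      Subtype.ext (by rw [c.coe_projGroup, c.proj_e])
    rw [e, hα, hΦ r t hr]

theorem exists_aut (hg : GraphData K D T m) (he : ExpOK F m) {k q : ℕ} (hk : 0 < k) (hp : K.powOK T k q = true)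
    (hq : q = 1 ∨ (q = m ∧ m ≠ 0)) :
    ∃ α : ↥(D.group F) ≃* ↥(D.group F), ∀ (r : ℕ) (t : F), r < D.nroots → ∀ g : ↥(D.group F),
      (g : GL D.Idx F) = xU hg.lift.comb.fine r t →
        (α g : GL D.Idx F) = xU hg.lift.comb.fine (T.im r) ((T.sg r : F) * t ^ T.ex r) := by
  classical
  have hK := hg.lift.comb.fine
  obtain ⟨α, hr, hα⟩ := hg.exists_hom (F := F) he
  let β : ↥(D.group F) →* ↥(D.group F) := α.codRestrict _ fun g => hr.le ⟨g, rfl⟩
  have hβ : ∀ (r : ℕ) (t : F), r < D.nroots → β ⟨xU hK r t, hK.xU_mem_group r t⟩ =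
      ⟨xU hK (T.im r) ((T.sg r : F) * t ^ T.ex r), hK.xU_mem_group _ _⟩ := fun r t h => Subtype.ext (hα r t h)
  have hsurj : Function.Surjective β := by
    intro g
    obtain ⟨x, hx⟩ : (g : GL D.Idx F) ∈ α.range := hr.ge g.2
    exact ⟨x, Subtype.ext hx⟩
  have hqadd : ∀ a b : F, (a + b) ^ q = a ^ q + b ^ q := by
    rcases hq with rfl | ⟨rfl, hm⟩
    · simp
    · exact he.add hm
  have hqpos : q ≠ 0 := by rcases hq with rfl | ⟨rfl, hm⟩ <;> [exact one_ne_zero; exact hm]
  let φ : F →+* F :=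
    { toFun := fun x => x ^ q
      map_one' := one_pow q
      map_mul' := fun a b => mul_pow a b q
      map_zero' := zero_pow hqpos
      map_add' := hqadd }
  -- iterate the table
  let it : ℕ → ℕ → ℕ × ℤ × ℕ := fun j r => Nat.rec (motive := fun _ => ℕ × ℤ × ℕ) (r, 1, 1)
    (fun _ st => (T.im st.1, T.sg st.1 * st.2.1, T.ex st.1 * st.2.2)) j
  have hit : ∀ (j r : ℕ) (t : F), r < D.nroots → (it j r).1 < D.nroots ∧
      ((β^[j] ⟨xU hK r t, hK.xU_mem_group r t⟩ : ↥(D.group F)) : GL D.Idx F) =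
        xU hK (it j r).1 (((it j r).2.1 : F) * t ^ (it j r).2.2) := by
    intro j r t hr'
    induction j with
    | zero => exact ⟨hr', by simp [it]⟩
    | succ j ih =>
      obtain ⟨h1, h2⟩ := ih
      refine ⟨(hg.root h1).1, ?_⟩
      rw [Function.iterate_succ_apply', show (β^[j] ⟨xU hK r t, hK.xU_mem_group r t⟩ : ↥(D.group F)) =
        ⟨_, hK.xU_mem_group (it j r).1 _⟩ from Subtype.ext h2, hβ _ _ h1]
      show xU hK _ _ = xU hK _ (((T.sg (it j r).1 * (it j r).2.1 : ℤ) : F) * t ^ (T.ex (it j r).1 * (it j r).2.2))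
      rw [mul_pow, hg.intCast_pow he h1, ← pow_mul, Int.cast_mul, Nat.mul_comm (it j r).2.2, mul_assoc]
  simp only [Data.powOK, List.all_eq_true, List.mem_range, Bool.and_eq_true, intEq_iff, hK.toGood.n_eq] at hp
  have hinj : Function.Injective β := by
    have key : ∀ g : ↥(D.group F), ((β^[k] g : ↥(D.group F)) : GL D.Idx F) = fieldMap D φ (g : GL D.Idx F) := by
      rintro ⟨g, hg'⟩
      induction hg' using Subgroup.closure_induction with
      | mem x hx =>
        obtain ⟨r, t, hx⟩ := hx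
        obtain rfl : x = xU hK r.val t := Units.ext (by rw [hx, coe_xU, x_of_lt D r.isLt])
        rw [hK.fieldMap_xU]
        obtain ⟨⟨a, b⟩, c⟩ := hp r.val r.isLt
        have := (hit k r.val t r.isLt).2
        rw [show (it k r.val).1 = r.val from Nat.eq_of_beq_eq_true a,
          show (it k r.val).2.1 = 1 from b,
          show (it k r.val).2.2 = q from Nat.eq_of_beq_eq_true c, Int.cast_one, one_mul] at this
        exact this
      | one =>
        show ((β^[k] (1 : ↥(D.group F)) : ↥(D.group F)) : GL D.Idx F) = _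
        rw [Function.iterate_fixed (map_one β) k]; simp
      | mul a b ha hb iha ihb =>
        rw [show (⟨a * b, _⟩ : ↥(D.group F)) = ⟨a, ha⟩ * ⟨b, hb⟩ from rfl,
          iterate_map_mul, Subgroup.coe_mul, Subgroup.coe_mul, map_mul, iha, ihb]
      | inv a ha iha =>
        rw [show (⟨a⁻¹, _⟩ : ↥(D.group F)) = (⟨a, ha⟩)⁻¹ from rfl,
          iterate_map_inv, Subgroup.coe_inv, Subgroup.coe_inv, map_inv, iha]
    intro a b hab
    refine Subtype.ext (fieldMap_injective (D := D) φ ?_)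
    rw [← key, ← key, ← Nat.sub_add_cancel hk, Function.iterate_succ_apply, Function.iterate_succ_apply, hab]
  refine ⟨MulEquiv.ofBijective β ⟨hinj, hsurj⟩, fun r t h g hgx => ?_⟩
  obtain rfl : g = ⟨xU hK r t, hK.xU_mem_group r t⟩ := Subtype.ext hgx
  exact hα r t h

end GraphData

end CfsgLib.Chev
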