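import Cfsg.Agent.Chev.Diag

/-!
The root elements, torus elements and monomial elements as elements of the general linear group.
-/

set_option autoImplicit false

namespace CfsgLib.Chev

open Cfsg.Lie Matrix

variable {K : Data} {D : ChevalleyDatum} {F : Type*} [Field F]

/-- `x_r(t)` in the general linear group -/
def xU (hK : Fine K D) (r : ℕ) (t : F) : GL D.Idx F :=
  ⟨D.x F r t, D.x F r (-t), hK.toGood.x_mul_neg r t, hK.toGood.x_neg_mul r t⟩

theorem coe_xU (hK : Fine K D) (r : ℕ) (t : F) :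
    (xU hK r t : Matrix D.Idx D.Idx F) = D.x F r t := rfl

theorem eq_xU (hK : Fine K D) {g : GL D.Idx F} {r : ℕ} {t : F}
    (h : (g : Matrix D.Idx D.Idx F) = D.x F r t) : g = xU hK r t := Units.ext h

theorem xU_mul (hK : Fine K D) (r : ℕ) (t u : F) : xU hK r t * xU hK r u = xU hK r (t + u) :=
  Units.ext (hK.toGood.x_add r t u)

theorem xU_zero (hK : Fine K D) (r : ℕ) : xU hK r (0 : F) = 1 := Units.ext (hK.toGood.x_zero r)

theorem xU_inv (hK : Fine K D) (r : ℕ) (t : F) : (xU hK r t)⁻¹ = xU hK r (-t) := Units.ext rfl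

theorem xU_of_not_lt (hK : Fine K D) {r : ℕ} (hr : ¬ r < D.nroots) (t : F) : xU hK r t = 1 :=
  Units.ext (x_of_not_lt D hr t)

/-- the matrix of a word in the general linear group -/
def wordU (hK : Fine K D) (w : List (ℕ × F)) : GL D.Idx F := (w.map fun p => xU hK p.1 p.2).prod

theorem coe_wordU (hK : Fine K D) (w : List (ℕ × F)) :
    (wordU hK w : Matrix D.Idx D.Idx F) = D.wordMat F w := by
  induction w with
  | nil => rfl
  | cons p w ih =>
    rw [wordMat_cons, ← ih, wordU, List.map_cons, List.prod_cons, Units.val_mul, coe_xU]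
    rfl

theorem eq_wordU (hK : Fine K D) {g : GL D.Idx F} {w : List (ℕ × F)}
    (h : (g : Matrix D.Idx D.Idx F) = D.wordMat F w) : g = wordU hK w :=
  Units.ext (h.trans (coe_wordU hK w).symm)

/-- `n_r(t)` in the general linear group -/
def nU (hK : Fine K D) (r : ℕ) (t : F) : GL D.Idx F := wordU hK (D.nWord r t)

theorem coe_nU (hK : Fine K D) (r : ℕ) (t : F) :
    (nU hK r t : Matrix D.Idx D.Idx F) = D.nMat F r t := coe_wordU hK _

/-- the element `n_i = n_{p_i}(1)` -/
def sU (hK : Fine K D) (i : ℕ) : GL D.Idx F := nU hK (D.simple i) 1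

theorem coe_sU (hK : Fine K D) (i : ℕ) :
    ((sU hK i : GL D.Idx F) : Matrix D.Idx D.Idx F) = D.nMat F (D.simple i) 1 := coe_nU hK _ _

theorem nU_neg_one (hK : Fine K D) (r : ℕ) : nU hK r (-1 : F) = (nU hK r 1)⁻¹ := by
  refine (inv_eq_of_mul_eq_one_right ?_).symm
  refine Units.ext ?_
  rw [Units.val_mul, coe_nU, coe_nU, (hK.nMat_one_mul_neg_one (F := F) (r := r)).1, Units.val_one]

theorem nU_inv_sign (hK : Fine K D) (r : ℕ) {η : ℤ} (h : η = 1 ∨ η = -1) :
    nU hK r (η : F) = nU hK r 1 ∨ nU hK r (η : F) = (nU hK r 1)⁻¹ := by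
  rcases h with rfl | rfl
  · left; simp
  · right; rw [← nU_neg_one, Int.cast_neg, Int.cast_one]

namespace Fine

theorem sU_conj_xU (hK : Fine K D) {i : ℕ} (hi : i < D.rank) {s : ℕ} (hs : s < D.nroots) (t : F) :
    sU hK i * xU hK s t * (sU hK i)⁻¹ = xU hK (K.w i s) ((K.eta i s : F) * t) := by
  rw [mul_inv_eq_iff_eq_mul]
  refine Units.ext ?_
  simp only [Units.val_mul, coe_sU, coe_xU]
  exact hK.toGood.nMat_conj hi hs t

theorem sU_inv_conj_xU (hK : Fine K D) {i : ℕ} (hi : i < D.rank) {s : ℕ} (hs : s < D.nroots)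
    (t : F) :
    (sU hK i)⁻¹ * xU hK s t * sU hK i =
      xU hK (K.w i s) ((K.eta i (K.w i s) : F) * t) := by
  have h := hK.sU_conj_xU hi (hK.toGood.w_lt hi hs) ((K.eta i (K.w i s) : F) * t)
  rw [hK.toGood.w_w hi hs, ← mul_assoc, ← Int.cast_mul, Good.eta_sq, Int.cast_one, one_mul] at h
  rw [← h]; group

theorem sU_conj_wordU (hK : Fine K D) {i : ℕ} (hi : i < D.rank) (w : List (ℕ × F))
    (hw : ∀ p ∈ w, p.1 < D.nroots) :
    sU hK i * wordU hK w * (sU hK i)⁻¹ =
      wordU hK (w.map fun p => (K.w i p.1, (K.eta i p.1 : F) * p.2)) := by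
  rw [mul_inv_eq_iff_eq_mul]
  refine Units.ext ?_
  simp only [Units.val_mul, coe_sU, coe_wordU]
  exact hK.toGood.nMat_mul_wordMat hi w hw

theorem sU_conj_nU (hK : Fine K D) {i : ℕ} (hi : i < D.rank) {r : ℕ} (hr : r < D.nroots) :
    sU hK i * nU hK r (1 : F) * (sU hK i)⁻¹ = nU hK (K.w i r) (K.eta i r : F) := by
  have hG := hK.toGood
  rw [nU, hK.sU_conj_wordU hi]
  · rw [nU]
    congr 1
    have hneg : K.eta i (K.neg r) = K.eta i r := ((hK.coroot_facts.1 r hr).2 i hi).2.2
    simp only [ChevalleyDatum.nWord, List.map_cons, List.map_nil, hG.neg_eq hr,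
      hG.neg_eq (hG.w_lt hi hr), ← hG.Kneg_eq, hG.w_neg hi hr, hneg, inv_one, mul_neg, mul_one]
    rcases Good.eta_eq_or K i r with h | h <;> simp [h]
  · intro p hp
    simp [ChevalleyDatum.nWord, hG.neg_eq hr] at hp
    casesm* _ ∨ _ <;> subst_vars <;> simp <;> omega

/-! ### The torus -/

/-- the torus element with parameters `c` -/
noncomputable def tU (K : Data) (D : ChevalleyDatum) (c : ℕ → Fˣ) : GL D.Idx F :=
  ⟨dmat D (fun s => (torusChar K D c s : F)), dmat D (fun s => ((torusChar K D c s)⁻¹ : Fˣ)),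
    by rw [dmat_mul, ← dmat_one (D := D)]; exact dmat_congr fun s _ => by simp,
    by rw [dmat_mul, ← dmat_one (D := D)]; exact dmat_congr fun s _ => by simp⟩

theorem coe_tU (c : ℕ → Fˣ) :
    (tU K D c : Matrix D.Idx D.Idx F) = dmat D (fun s => (torusChar K D c s : F)) := rfl

theorem torusChar_mul (c d : ℕ → Fˣ) (s : ℕ) :
    torusChar K D (c * d) s = torusChar K D c s * torusChar K D d s := by
  simp only [torusChar, Pi.mul_apply, mul_zpow, Finset.prod_mul_distrib]

theorem torusChar_one (s : ℕ) : torusChar K D (1 : ℕ → Fˣ) s = 1 := by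
  simp [torusChar]

theorem tU_mul (c d : ℕ → Fˣ) : (tU K D (c * d) : GL D.Idx F) = tU K D c * tU K D d := by
  refine Units.ext ?_
  rw [Units.val_mul, coe_tU, coe_tU, coe_tU, dmat_mul]
  exact dmat_congr fun s _ => by rw [torusChar_mul, Units.val_mul]

theorem tU_one : (tU K D (1 : ℕ → Fˣ) : GL D.Idx F) = 1 := by
  refine Units.ext ?_
  rw [coe_tU, Units.val_one, ← dmat_one (D := D)]
  exact dmat_congr fun s _ => by rw [torusChar_one, Units.val_one]

/-- the torus as a homomorphism -/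
noncomputable def tHom (K : Data) (D : ChevalleyDatum) : (ℕ → Fˣ) →* GL D.Idx F where
  toFun := tU K D
  map_one' := tU_one
  map_mul' := tU_mul

theorem tHom_apply (c : ℕ → Fˣ) : tHom K D c = tU K D c := rfl

theorem tU_conj_xU (hK : Fine K D) (c : ℕ → Fˣ) {r : ℕ} (hr : r < D.nroots) (t : F) :
    tU K D c * xU hK r t * (tU K D c)⁻¹ = xU hK r ((torusChar K D c r : F) * t) := by
  rw [mul_inv_eq_iff_eq_mul]
  refine Units.ext ?_
  rw [Units.val_mul, Units.val_mul, coe_tU, coe_xU, coe_xU]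
  exact hK.toGood.dmat_conj (hK.isCharOn_torusChar c) hr t

/-- parameters of `h_r(c)` -/
noncomputable def hParam (K : Data) (r : ℕ) (c : Fˣ) : ℕ → Fˣ := fun i => c ^ K.tab.C r i

theorem torusChar_hParam (hK : Fine K D) (r : ℕ) (c : Fˣ) (s : ℕ) :
    torusChar K D (hParam K r c) s = c ^ K.pair r s := by
  rw [torusChar, hK.pair_eq]
  induction Finset.range D.rank using Finset.cons_induction with
  | empty => simp
  | cons i S hi ih =>
    rw [Finset.prod_cons, Finset.sum_cons, ih, _root_.zpow_add, hParam, _root_.zpow_mul]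

theorem coe_tU_hParam (hK : Fine K D) {r : ℕ} (hr : r < D.nroots) (c : Fˣ) :
    (tU K D (hParam K r c) : Matrix D.Idx D.Idx F) = D.hMat F r (c : F) := by
  rw [coe_tU, hK.hMat_eq hr c.ne_zero]
  exact dmat_congr fun s _ => by rw [hK.torusChar_hParam, Units.val_zpow_eq_zpow_val]

theorem wordMat_hWords (hK : Fine K D) (c : ℕ → Fˣ) :
    D.wordMat F ((List.range D.rank).flatMap fun i => D.hWord (D.simple i) (c i : F)) =
      (tU K D c : Matrix D.Idx D.Idx F) := by
  have hG := hK.toGood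
  have key : ∀ m, m ≤ D.rank →
      D.wordMat F ((List.range m).flatMap fun i => D.hWord (D.simple i) (c i : F)) =
        dmat D (fun s => ((∏ i ∈ Finset.range m, c i ^ K.tab.A i s : Fˣ) : F)) := by
    intro m hm
    induction m with
    | zero => simp [wordMat_nil, dmat_one]
    | succ m ih =>
      rw [List.range_succ, List.flatMap_append, wordMat_append, ih (by omega)]
      simp only [List.flatMap_cons, List.flatMap_nil, List.append_nil]
      rw [hG.simple_eq (show m < D.rank by omega),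
        show D.wordMat F (D.hWord (K.p m) (c m : F)) = D.hMat F (K.p m) (c m : F) from rfl,
        hK.hMat_eq (hG.p_lt (show m < D.rank by omega)) (c m).ne_zero, dmat_mul]
      refine dmat_congr fun s hs => ?_
      rw [Finset.prod_range_succ, Units.val_mul, hK.pair_simple (show m < D.rank by omega),
        Units.val_zpow_eq_zpow_val]
  exact key D.rank le_rfl

theorem diagonal_le_range (hK : Fine K D) :
    D.diagonalSubgroup F ≤ (tHom K D).range := by
  rw [ChevalleyDatum.diagonalSubgroup, Subgroup.closure_le]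
  rintro g ⟨r, t, hr, ht, hg⟩
  exact ⟨hParam K r (Units.mk0 t ht), Units.ext (by rw [tHom_apply, hK.coe_tU_hParam hr, hg]; rfl)⟩

theorem tU_mem_diagonal (hK : Fine K D) (c : ℕ → Fˣ) : tU K D c ∈ D.diagonalSubgroup F := by
  have hG := hK.toGood
  have hw : (tU K D c : GL D.Idx F) =
      wordU hK ((List.range D.rank).flatMap fun i => D.hWord (D.simple i) (c i : F)) :=
    eq_wordU hK (hK.wordMat_hWords c).symm
  have key : ∀ L : List ℕ, (∀ i ∈ L, i < D.rank) →
      wordU hK (L.flatMap fun i => D.hWord (D.simple i) (c i : F)) ∈ D.diagonalSubgroup F := by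
    intro L hL
    induction L with
    | nil => exact one_mem _
    | cons i L ih =>
      rw [List.flatMap_cons, wordU, List.map_append, List.prod_append]
      refine mul_mem (Subgroup.subset_closure ⟨D.simple i, (c i : F), ?_, (c i).ne_zero, ?_⟩)
        (ih fun j hj => hL j (List.mem_cons_of_mem _ hj))
      · rw [hG.simple_eq (hL i (by simp))]; exact hG.p_lt (hL i (by simp))
      · exact coe_wordU hK _
  rw [hw]
  exact key _ fun i hi => List.mem_range.1 hi

theorem mem_diagonal_iff (hK : Fine K D) {g : GL D.Idx F} :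
    g ∈ D.diagonalSubgroup F ↔ ∃ c : ℕ → Fˣ, tU K D c = g :=
  ⟨fun h => MonoidHom.mem_range.1 (hK.diagonal_le_range h), fun ⟨c, hc⟩ => hc ▸ hK.tU_mem_diagonal c⟩

/-- reflected parameters -/
noncomputable def reflC (K : Data) (D : ChevalleyDatum) (i : ℕ) (c : ℕ → Fˣ) : ℕ → Fˣ :=
  fun j => if j = i then c j * (∏ k ∈ Finset.range D.rank, c k ^ K.tab.A k (K.p i))⁻¹ else c j

theorem torusChar_w (hK : Fine K D) {i : ℕ} (hi : i < D.rank) (c : ℕ → Fˣ) {v : ℕ}
    (hv : v < D.nroots) :
    torusChar K D c (K.w i v) = torusChar K D (reflC K D i c) v := by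
  have h1 : torusChar K D c (K.w i v) = torusChar K D c v *
      ((∏ k ∈ Finset.range D.rank, c k ^ K.tab.A k (K.p i))⁻¹) ^ K.tab.A i v := by
    rw [torusChar, torusChar, _root_.inv_zpow', ← Finset.prod_zpow, ← Finset.prod_mul_distrib]
    refine Finset.prod_congr rfl fun j hj => ?_
    rw [((hK.coroot_facts.2 i hi).2 j (Finset.mem_range.1 hj)).2 v hv, ← _root_.zpow_mul,
      ← _root_.zpow_add]
    congr 1; ring
  rw [h1, torusChar, torusChar, ← Finset.prod_erase_mul _ _ (Finset.mem_range.2 hi),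
    ← Finset.prod_erase_mul (Finset.range D.rank) (fun j => reflC K D i c j ^ K.tab.A j v)
      (Finset.mem_range.2 hi), mul_assoc]
  congr 1
  · exact Finset.prod_congr rfl fun j hj => by rw [reflC, if_neg (Finset.ne_of_mem_erase hj)]
  · rw [reflC, if_pos rfl, mul_zpow]

theorem sU_conj_tU (hK : Fine K D) {i : ℕ} (hi : i < D.rank) (c : ℕ → Fˣ) :
    sU hK i * tU K D (reflC K D i c) * (sU hK i)⁻¹ = (tU K D c : GL D.Idx F) := by
  rw [mul_inv_eq_iff_eq_mul]
  refine Units.ext ?_
  rw [Units.val_mul, Units.val_mul, coe_tU, coe_tU, coe_sU]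
  exact (hK.nMat_dmat hi fun v hv => by rw [hK.torusChar_w hi c hv]).symm

theorem sU_conj_diagonal (hK : Fine K D) {i : ℕ} (hi : i < D.rank) {g : GL D.Idx F}
    (hg : g ∈ D.diagonalSubgroup F) :
    sU hK i * g * (sU hK i)⁻¹ ∈ D.diagonalSubgroup F ∧
      (sU hK i)⁻¹ * g * sU hK i ∈ D.diagonalSubgroup F := by
  obtain ⟨c, rfl⟩ := hK.mem_diagonal_iff.1 hg
  refine ⟨?_, ?_⟩
  · have h : torusChar K D (reflC K D i (reflC K D i c)) = torusChar K D (reflC K D i (reflC K D i c)) := rfl
    have h2 : (tU K D (reflC K D i (reflC K D i c)) : GL D.Idx F) = tU K D c := by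
      refine Units.ext ?_
      rw [coe_tU, coe_tU]
      refine dmat_congr fun v hv => ?_
      rw [← hK.torusChar_w hi (reflC K D i c) hv, ← hK.torusChar_w hi c (hK.toGood.w_lt hi hv),
        hK.toGood.w_w hi hv]
    rw [← h2, hK.sU_conj_tU hi]
    exact hK.tU_mem_diagonal _
  · rw [← hK.sU_conj_tU hi c]
    have e : ∀ a : GL D.Idx F, (sU hK i)⁻¹ * (sU hK i * a * (sU hK i)⁻¹) * sU hK i = a := fun a => by group
    rw [e]
    exact hK.tU_mem_diagonal _

/-! ### The subgroups -/

theorem xU_mem_group (hK : Fine K D) (r : ℕ) (t : F) : xU hK r t ∈ D.group F := by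
  by_cases hr : r < D.nroots
  · exact Subgroup.subset_closure ⟨⟨r, hr⟩, t, by rw [coe_xU, x_of_lt D hr]⟩
  · rw [xU_of_not_lt hK hr]; exact one_mem _

theorem wordU_mem_group (hK : Fine K D) (w : List (ℕ × F)) : wordU hK w ∈ D.group F := by
  refine Subgroup.list_prod_mem _ ?_
  intro x hx
  obtain ⟨p, -, rfl⟩ := List.mem_map.1 hx
  exact hK.xU_mem_group _ _

theorem xU_mem_rootSubgroup (hK : Fine K D) (r : ℕ) (t : F) :
    xU hK r t ∈ D.rootSubgroup F r := Subgroup.subset_closure ⟨t, coe_xU hK r t⟩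

theorem mem_rootSubgroup_iff (hK : Fine K D) {r : ℕ} {g : GL D.Idx F} :
    g ∈ D.rootSubgroup F r ↔ ∃ t : F, g = xU hK r t := by
  refine ⟨fun h => ?_, fun ⟨t, ht⟩ => ht ▸ hK.xU_mem_rootSubgroup r t⟩
  induction h using Subgroup.closure_induction with
  | mem x hx => obtain ⟨t, ht⟩ := hx; exact ⟨t, eq_xU hK ht⟩
  | one => exact ⟨0, (xU_zero hK r).symm⟩
  | mul a b _ _ ha hb =>
    obtain ⟨t, rfl⟩ := ha; obtain ⟨u, rfl⟩ := hb; exact ⟨t + u, xU_mul hK r t u⟩
  | inv a _ ha => obtain ⟨t, rfl⟩ := ha; exact ⟨-t, xU_inv hK r t⟩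

theorem posUnipotent_le_group (hK : Fine K D) : D.posUnipotent F ≤ D.group F := by
  rw [ChevalleyDatum.posUnipotent, Subgroup.closure_le]
  rintro g ⟨r, t, -, hg⟩
  rw [eq_xU hK hg]; exact hK.xU_mem_group r t

theorem negUnipotent_le_group (hK : Fine K D) : D.negUnipotent F ≤ D.group F := by
  rw [ChevalleyDatum.negUnipotent, Subgroup.closure_le]
  rintro g ⟨r, t, -, hg⟩
  rw [eq_xU hK hg]; exact hK.xU_mem_group r t

theorem xU_mem_pos (hK : Fine K D) {r : ℕ} (h1 : K.npos ≤ r) (t : F) :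
    xU hK r t ∈ D.posUnipotent F := by
  by_cases hr : r < D.nroots
  · exact Subgroup.subset_closure ⟨r, t, (hK.toGood.isPosRoot_iff r).2 ⟨h1, hr⟩, coe_xU hK r t⟩
  · rw [xU_of_not_lt hK hr]; exact one_mem _

theorem xU_mem_neg (hK : Fine K D) {r : ℕ} (h1 : r < K.npos) (t : F) :
    xU hK r t ∈ D.negUnipotent F :=
  Subgroup.subset_closure ⟨r, t, (hK.toGood.isNegRoot_iff r).2 h1, coe_xU hK r t⟩

theorem pos_sup_neg (hK : Fine K D) : D.posUnipotent F ⊔ D.negUnipotent F = D.group F := by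
  refine le_antisymm (sup_le hK.posUnipotent_le_group hK.negUnipotent_le_group) ?_
  rw [ChevalleyDatum.group, Subgroup.closure_le]
  rintro g ⟨r, t, hg⟩
  rw [← x_of_lt D r.isLt] at hg
  rw [eq_xU hK hg]
  rcases Nat.lt_or_ge r.val K.npos with h | h
  · exact Subgroup.mem_sup_right (hK.xU_mem_neg h t)
  · exact Subgroup.mem_sup_left (hK.xU_mem_pos h t)

theorem diagonal_le_group (hK : Fine K D) : D.diagonalSubgroup F ≤ D.group F := by
  rw [ChevalleyDatum.diagonalSubgroup, Subgroup.closure_le]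
  rintro g ⟨r, t, -, -, hg⟩
  have hg' : (g : Matrix D.Idx D.Idx F) = D.wordMat F (D.hWord r t) := hg
  rw [eq_wordU hK hg']
  exact hK.wordU_mem_group _

theorem monomial_le_group (hK : Fine K D) : D.monomialSubgroup F ≤ D.group F := by
  refine sup_le hK.diagonal_le_group ?_
  rw [Subgroup.closure_le]
  rintro g ⟨r, -, hg⟩
  have hg' : (g : Matrix D.Idx D.Idx F) = D.wordMat F (D.nWord r 1) := hg
  rw [eq_wordU hK hg']
  exact hK.wordU_mem_group _

theorem borel_le_group (hK : Fine K D) : D.borelSubgroup F ≤ D.group F :=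
  sup_le hK.posUnipotent_le_group hK.diagonal_le_group

theorem sU_mem_monomial (hK : Fine K D) {i : ℕ} (hi : i < D.rank) :
    sU hK i ∈ D.monomialSubgroup F :=
  Subgroup.mem_sup_right (Subgroup.subset_closure
    ⟨D.simple i, by rw [hK.toGood.simple_eq hi]; exact hK.toGood.p_lt hi, coe_sU hK i⟩)

theorem desc (hK : Fine K D) {r : ℕ} (hr : r < D.nroots) (hpos : K.npos ≤ r) :
    ∃ i < D.rank, K.p i = r ∨ (K.npos ≤ K.w i r ∧ K.w i r < r) := by
  have h := hK.descChk
  simp only [Data.descOK, List.all_eq_true, List.mem_range, List.any_eq_true, Bool.or_eq_true,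
    Bool.and_eq_true, Nat.ble_eq, Nat.blt_eq] at h
  have h2 := hK.toGood.nroots_eq_two_mul
  obtain ⟨i, hi, h⟩ := h (r - K.npos) (by omega)
  rw [show K.npos + (r - K.npos) = r by omega] at h
  exact ⟨i, hK.toGood.l_eq ▸ hi, h.imp Nat.eq_of_beq_eq_true id⟩

theorem nU_mem_simples (hK : Fine K D) : ∀ r, K.npos ≤ r → r < D.nroots →
    nU hK r (1 : F) ∈ Subgroup.closure {g | ∃ i < D.rank, g = sU hK i} ∧
    nU hK (K.neg r) (1 : F) ∈ Subgroup.closure {g | ∃ i < D.rank, g = sU hK i} := by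
  intro r
  induction r using Nat.strong_induction_on with
  | _ r ih =>
    intro hpos hr
    set S := Subgroup.closure {g : GL D.Idx F | ∃ i < D.rank, g = sU hK i}
    have hG := hK.toGood
    have hs : ∀ i < D.rank, sU hK i ∈ S := fun i hi => Subgroup.subset_closure ⟨i, hi, rfl⟩
    -- transport along a reflection
    have move : ∀ i < D.rank, ∀ s < D.nroots, nU hK s (1 : F) ∈ S →
        nU hK (K.w i s) (1 : F) ∈ S := by
      intro i hi s hs' hmem
      have hconj : nU hK (K.w i s) (K.eta i s : F) ∈ S := by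
        rw [← hK.sU_conj_nU hi hs']
        exact mul_mem (mul_mem (hs i hi) hmem) (inv_mem (hs i hi))
      rcases nU_inv_sign hK (F := F) (K.w i s) (Good.eta_eq_or K i s) with h | h
      · rwa [← h]
      · rw [h] at hconj; simpa using inv_mem hconj
    obtain ⟨i, hi, h | ⟨h1, h2⟩⟩ := hK.desc hr hpos
    · subst h
      have hp : nU hK (K.p i) (1 : F) ∈ S := by
        rw [← hG.simple_eq hi]; exact hs i hi
      exact ⟨hp, hG.w_p hi ▸ move i hi _ hr hp⟩
    · obtain ⟨g1, g2⟩ := ih _ h2 h1 (hG.w_lt hi hr)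
      refine ⟨by have := move i hi _ (hG.w_lt hi hr) g1; rwa [hG.w_w hi hr] at this, ?_⟩
      have := move i hi _ (hG.Kneg_lt (hG.w_lt hi hr)) g2
      rwa [hG.w_neg hi (hG.w_lt hi hr), hG.w_w hi hr] at this

theorem monomial_eq (hK : Fine K D) :
    D.monomialSubgroup F =
      D.diagonalSubgroup F ⊔ Subgroup.closure {g | ∃ i < D.rank, g = sU hK i} := by
  refine le_antisymm (sup_le le_sup_left ?_) (sup_le le_sup_left ?_)
  · rw [Subgroup.closure_le]
    rintro g ⟨r, hr, hg⟩
    have hg' : g = nU hK r 1 := Units.ext (hg.trans (coe_nU hK r 1).symm)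
    subst hg'
    refine Subgroup.mem_sup_right ?_
    have h2 := hK.toGood.nroots_eq_two_mul
    rcases Nat.lt_or_ge r K.npos with h | h
    · have h3 := (hK.nU_mem_simples (F := F) (K.neg r) (by rw [hK.toGood.Kneg_eq]; omega)
        (hK.toGood.Kneg_lt hr)).2
      rwa [hK.toGood.Kneg_Kneg hr] at h3
    · exact (hK.nU_mem_simples (F := F) r h hr).1
  · rw [Subgroup.closure_le]
    rintro g ⟨i, hi, rfl⟩
    exact hK.sU_mem_monomial hi

theorem monomial_le_normalizer_diagonal (hK : Fine K D) :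
    D.monomialSubgroup F ≤ Subgroup.normalizer (D.diagonalSubgroup F : Set (GL D.Idx F)) := by
  rw [hK.monomial_eq]
  refine sup_le Subgroup.le_normalizer ?_
  rw [Subgroup.closure_le]
  rintro g ⟨i, hi, rfl⟩
  rw [SetLike.mem_coe, Subgroup.mem_normalizer_iff]
  intro h
  refine ⟨fun hh => (hK.sU_conj_diagonal hi hh).1, fun hh => ?_⟩
  have := (hK.sU_conj_diagonal hi hh).2
  have e : (sU hK i)⁻¹ * (sU hK i * h * (sU hK i)⁻¹) * sU hK i = h := by group
  rwa [e] at this

end Fine

end CfsgLib.Chev
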