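import Cfsg.Agent.Chev.Groups
import Cfsg.Agent.Chev.Run.Eta
import Cfsg.Agent.Chev.All

/-!
The matrices of the fundamental monomial elements.
-/

set_option autoImplicit false

namespace CfsgLib.Chev

open Cfsg.Lie
open scoped Matrix

variable {K : Data} {D : ChevalleyDatum} {F : Type*} [Field F]

theorem fine_eta_of_mem {D : ChevalleyDatum}
    (hD : D ∈ [chevG2, chevB2, chevD4, chevF4, chevE6, chevE7, chevE8]) :
    ∃ K : Data, Fine K D ∧ K.etaOK = true := by
  simp only [List.mem_cons, List.not_mem_nil, or_false] at hD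
  rcases hD with rfl | rfl | rfl | rfl | rfl | rfl | rfl
  exacts [⟨_, G2.fine, G2.etaOK⟩, ⟨_, B2.fine, B2.etaOK⟩, ⟨_, D4.fine, D4.etaOK⟩, ⟨_, F4.fine, F4.etaOK⟩,
    ⟨_, E6.fine, E6.etaOK⟩, ⟨_, E7.fine, E7.etaOK⟩, ⟨_, E8.fine, E8.etaOK⟩]

namespace Fine

theorem eta_facts (hK : Fine K D) (he : K.etaOK = true) {i : ℕ} (hi : i < D.rank) :
    K.eta i (K.p i) = -1 ∧ K.eta i (K.neg (K.p i)) = -1 ∧
      ∀ s < D.nroots, K.eta i s * K.eta i (K.w i s) = (-1) ^ (D.cartan i s).natAbs ∧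
        K.eta i s * K.eta i (K.neg s) = 1 := by
  simp only [Data.etaOK, Data.etaRowOK, List.all_eq_true, List.mem_range, Bool.and_eq_true, intEq_iff,
    hK.toGood.l_eq, hK.toGood.n_eq] at he
  obtain ⟨⟨h1, h2⟩, h3⟩ := he i hi
  refine ⟨h1, h2, fun s hs => ⟨?_, (h3 s hs).2⟩⟩
  rw [(h3 s hs).1, show D.cartan i s = K.tab.A i s from hK.toGood.fits.cartan_eq i hi s hs]
  rcases Nat.even_or_odd (K.tab.A i s).natAbs with h | h
  · rw [h.neg_one_pow, show (K.tab.A i s).natAbs % 2 = 0 from Nat.even_iff.1 h]; rfl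
  · rw [h.neg_one_pow, show (K.tab.A i s).natAbs % 2 = 1 from Nat.odd_iff.1 h]; rfl

theorem nMat_coroot (hK : Fine K D) {i : ℕ} (hi : i < D.rank) (j : Fin D.rank) :
    D.nMat F (D.simple i) 1 *ᵥ Pi.single (Sum.inl j) 1 =
      Pi.single (Sum.inl j) 1 - (D.cartan j (D.simple i) : F) • Pi.single (Sum.inl ⟨i, hi⟩) 1 := by
  rw [hK.toGood.monOK_apply hi (Sum.inl j) 1 1]
  funext a
  have hb : Nat.blt (code D (Sum.inl j)) K.l = true := by
    simp [Nat.blt_eq, code, hK.toGood.l_eq]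
  have hA : D.cartan j.val (D.simple i) = K.tab.A j.val (K.p i) := by
    rw [hK.toGood.simple_eq hi]
    exact hK.toGood.fits.cartan_eq j.val j.isLt _ (hK.toGood.p_lt hi)
  simp only [Data.monCol, hb, cond_true, vecOf, evalTerms, List.map_cons, List.map_nil, List.sum_cons,
    List.sum_nil, add_zero, Term.val, zpow_zero, mul_one, Pi.sub_apply, Pi.smul_apply, smul_eq_mul,
    Pi.single_apply, hA]
  rcases a with a | a
  · simp only [code, Sum.inl.injEq, Fin.ext_iff, Int.cast_one, Int.cast_neg]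
    split_ifs <;> first | omega | ring
  · simp only [code, reduceCtorEq, if_false, hK.toGood.l_eq]
    have := j.isLt
    have h1 : ¬ (j : ℕ) = D.rank + a.val := by omega
    have h2 : ¬ i = D.rank + a.val := by omega
    simp [h1, h2]

theorem nMat_entries (hK : Fine K D) {i : ℕ} (hi : i < D.rank) (row col : D.Idx) :
    D.nMat F (D.simple i) 1 row col =
      Sum.elim
        (fun j' : Fin D.rank => Sum.elim
          (fun j : Fin D.rank => (if j' = j then (1 : F) else 0) -
            (if (j' : ℕ) = i then ((D.cartan j (D.simple i) : ℤ) : F) else 0))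
          (fun _ => (0 : F)) col)
        (fun s' : Fin D.nroots => Sum.elim
          (fun _ => (0 : F))
          (fun s : Fin D.nroots => if (s' : ℕ) = D.reflectRoot i s then ((K.eta i s : ℤ) : F) else 0) col)
        row := by
  have key : D.nMat F (D.simple i) 1 row col = (D.nMat F (D.simple i) 1 *ᵥ Pi.single col 1) row := by
    simp [Matrix.mulVec_single_one]
  rw [key]
  rcases col with j | s
  · rw [hK.nMat_coroot hi]
    rcases row with a | a
    · simp [Pi.single_apply, Fin.ext_iff]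
    · simp
  · rw [hK.toGood.nMat_root hi]
    rcases row with a | a
    · simp
    · simp [Pi.single_apply, Fin.ext_iff, hK.toGood.reflectRoot_eq hi s.isLt]

theorem sU_conj_nU' (hK : Fine K D) {i : ℕ} (hi : i < D.rank) {r : ℕ} (hr : r < D.nroots) (t : F) :
    sU hK i * nU hK r t * (sU hK i)⁻¹ = nU hK (K.w i r) ((K.eta i r : F) * t) := by
  have hG := hK.toGood
  rw [nU, hK.sU_conj_wordU hi]
  · rw [nU]
    congr 1
    have hneg : K.eta i (K.neg r) = K.eta i r := ((hK.coroot_facts.1 r hr).2 i hi).2.2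
    simp only [ChevalleyDatum.nWord, List.map_cons, List.map_nil, hG.neg_eq hr,
      hG.neg_eq (hG.w_lt hi hr), ← hG.Kneg_eq, hG.w_neg hi hr, hneg]
    rcases Good.eta_eq_or K i r with h | h <;> simp [h, inv_neg]
  · intro p hp
    simp [ChevalleyDatum.nWord, hG.neg_eq hr] at hp
    casesm* _ ∨ _ <;> subst_vars <;> simp <;> omega

/-- `n_i h_r(t) = h_{w_i r}(t) n_i` -/
theorem nMat_hMat (hK : Fine K D) {i : ℕ} (hi : i < D.rank) {r : ℕ} (hr : r < D.nroots) {t : F}
    (ht : t ≠ 0) :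
    D.nMat F (D.simple i) 1 * D.hMat F r t = D.hMat F (D.reflectRoot i r) t * D.nMat F (D.simple i) 1 := by
  have hG := hK.toGood
  have hh : ∀ (s : ℕ) (c : F), D.hMat F s c =
      ((nU hK s c * nU hK s (-1 : F) : GL D.Idx F) : Matrix D.Idx D.Idx F) := fun s c => by
    rw [Units.val_mul, coe_nU, coe_nU, ChevalleyDatum.nMat, ChevalleyDatum.nMat, ← wordMat_append]; rfl
  have hw := hG.w_lt hi hr
  rw [hh r t, hG.reflectRoot_eq hi hr]
  have key : sU hK i * (nU hK r t * nU hK r (-1 : F)) =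
      nU hK (K.w i r) ((K.eta i r : F) * t) * nU hK (K.w i r) ((K.eta i r : F) * -1) * sU hK i := by
    rw [← mul_inv_eq_iff_eq_mul, ← hK.sU_conj_nU' hi hr, ← hK.sU_conj_nU' hi hr]
    group
  have key' := congrArg (fun g : GL D.Idx F => (g : Matrix D.Idx D.Idx F)) key
  rw [Units.val_mul, coe_sU, Units.val_mul _ (sU hK i), coe_sU] at key'
  rw [key']
  congr 1
  rcases Good.eta_eq_or K i r with h | h
  · rw [h, hh]; simp
  · have e : (nU hK (K.w i r) ((K.eta i r : F) * t) * nU hK (K.w i r) ((K.eta i r : F) * -1) : GL D.Idx F) =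
        (nU hK (K.w i r) (-t) * nU hK (K.w i r) (-1)) *
          (nU hK (K.w i r) (-1 : F) * nU hK (K.w i r) (-1))⁻¹ := by
      rw [h, nU_neg_one hK]
      simp [nU_neg_one hK]
    rw [e, Units.val_mul, ← hh, hK.hMat_eq hw (neg_ne_zero.2 ht)]
    have e2 : (((nU hK (K.w i r) (-1 : F) * nU hK (K.w i r) (-1))⁻¹ : GL D.Idx F) : Matrix D.Idx D.Idx F) =
        dmat D (fun s => ((-1 : F) ^ K.pair (K.w i r) s)⁻¹) := by
      refine left_inv_eq_right_inv (Units.inv_mul _) ?_
      rw [← hh, hK.hMat_eq hw (neg_ne_zero.2 one_ne_zero), dmat_mul, ← dmat_one (D := D)]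
      exact dmat_congr fun s _ => mul_inv_cancel₀ (zpow_ne_zero _ (neg_ne_zero.2 one_ne_zero))
    rw [e2, dmat_mul, hK.hMat_eq hw ht]
    exact dmat_congr fun s _ => by rw [← inv_zpow, ← mul_zpow]; simp

end Fine

end CfsgLib.Chev
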