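import Cfsg.Agent.Chev.All
import Cfsg.Agent.Chev.Poincare
import Cfsg.Agent.Chev.Run.Comb

/-!
Positive roots as combinations of fundamental roots; the longest element of the Weyl group.
-/

set_option autoImplicit false

namespace CfsgLib.Chev

open Cfsg.Lie

variable {K : Data} {D : ChevalleyDatum} {F : Type*} [Field F]

theorem comb_of_mem {D : ChevalleyDatum}
    (hD : D ∈ [chevG2, chevB2, chevD4, chevF4, chevE6, chevE7, chevE8]) :
    ∃ K : Data, Fine K D ∧ K.combOK = true := by
  simp only [List.mem_cons, List.not_mem_nil, or_false] at hD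
  rcases hD with rfl | rfl | rfl | rfl | rfl | rfl | rfl
  exacts [⟨_, G2.fine, G2.combOK⟩, ⟨_, B2.fine, B2.combOK⟩, ⟨_, D4.fine, D4.combOK⟩,
    ⟨_, F4.fine, F4.combOK⟩, ⟨_, E6.fine, E6.combOK⟩, ⟨_, E7.fine, E7.combOK⟩, ⟨_, E8.fine, E8.combOK⟩]

namespace Fine

theorem comb_coef (hK : Fine K D) (hc : K.combOK = true) {i j : ℕ} (hi : i < D.rank) (hj : j < D.rank)
    (hne : i ≠ j) {r : ℕ} (hr : r < D.nroots) : K.tab.C (K.w i r) j = K.tab.C r j := by
  simp only [Data.combOK, Bool.and_eq_true] at hc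
  exact hK.coef_w hc.1 hi hj hne hr

theorem comb_root (hK : Fine K D) (hc : K.combOK = true) {v : ℕ} (hp : K.npos ≤ v)
    (hv : v < D.nroots) : K.combRootOK v = true := by
  simp only [Data.combOK, Bool.and_eq_true, List.all_eq_true, List.mem_range] at hc
  have h2 := hK.toGood.nroots_eq_two_mul
  have := hc.2 (v - K.npos) (by omega)
  rwa [Nat.add_sub_cancel' hp] at this

theorem C_nonneg (hK : Fine K D) (hc : K.combOK = true) {v j : ℕ} (hp : K.npos ≤ v)
    (hv : v < D.nroots) (hj : j < D.rank) : 0 ≤ K.tab.C v j := by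
  have h := hK.comb_root hc hp hv
  simp only [Data.combRootOK, Bool.and_eq_true, List.all_eq_true, List.mem_range,
    Data.intNonneg_iff, hK.toGood.l_eq] at h
  exact h.1 j hj

/-- a non-fundamental positive root is a lower one plus a multiple of a fundamental root -/
theorem comb_step (hK : Fine K D) (hc : K.combOK = true) {v : ℕ} (hp : K.npos ≤ v)
    (hv : v < D.nroots) :
    ∃ i < D.rank, K.p i = v ∨ (K.npos ≤ K.w i v ∧ K.w i v < v ∧ 0 < K.tab.C v i ∧
      ∃ k : ℕ, 0 < k ∧ ∀ {M : Type} [AddCommGroup M] (f : ℕ → M), IsLin K D f →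
        f v = k • f (K.p i) + f (K.w i v)) := by
  have hG := hK.toGood
  have h := hK.comb_root hc hp hv
  simp only [Data.combRootOK, Bool.and_eq_true, Bool.or_eq_true, List.any_eq_true, List.mem_range,
    Data.intPos_iff, hG.l_eq, Nat.ble_eq, Nat.blt_eq] at h
  obtain ⟨i, hi, h | ⟨⟨⟨h1, h2⟩, h3⟩, q, hq, hqv⟩⟩ := h.2
  · exact ⟨i, hi, Or.inl (Nat.eq_of_beq_eq_true h)⟩
  · have hw := hG.w_lt hi hv
    refine ⟨i, hi, Or.inr ⟨h1, h2, h3, q.2.1, (hG.chainTerms_mem (hG.p_lt hi) hw hq).2.2, ?_⟩⟩
    intro M _ f hf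
    have := hf.chain _ (hG.p_lt hi) _ hw q hq
    rwa [Nat.eq_of_beq_eq_true hqv, Nat.add_sub_cancel_left] at this

/-- a linear function that is negative on the fundamental roots is negative on all positive roots -/
theorem neg_of_simple_neg (hK : Fine K D) (hc : K.combOK = true) {f : ℕ → ℤ} (hf : IsLin K D f)
    (h : ∀ i < D.rank, f (K.p i) < 0) : ∀ v, K.npos ≤ v → v < D.nroots → f v < 0 := by
  intro v
  induction v using Nat.strong_induction_on with
  | _ v ih =>
    intro hp hv
    obtain ⟨i, hi, e | ⟨h1, h2, -, k, hk, hlin⟩⟩ := hK.comb_step hc hp hv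
    · exact e ▸ h i hi
    · have a := ih _ h2 h1 (hK.toGood.w_lt hi hv)
      have b := h i hi
      rw [hlin f hf, nsmul_eq_mul]
      have : (1 : ℤ) ≤ (k : ℤ) := by exact_mod_cast hk
      nlinarith

theorem invSet_finite (σ : Equiv.Perm (Fin D.nroots)) : (invSet K D σ).Finite :=
  (Set.finite_Iio D.nroots).subset fun _ hr => hr.1.2

/-- there is an element sending every positive root to a negative one -/
theorem exists_longest (hK : Fine K D) (hc : K.combOK = true) :
    ∃ L : List (Fin D.rank), ∀ v, K.npos ≤ v → v < D.nroots → permNat (wPerm hK L) v < K.npos := by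
  classical
  obtain ⟨σ, -, hmax⟩ := Finset.exists_max_image (Finset.univ : Finset (weylGrp hK))
    (fun σ => (invSet K D σ.val).ncard) Finset.univ_nonempty
  obtain ⟨L, hL⟩ := hK.mem_weylGrp_iff.1 σ.2
  refine ⟨L, fun v hp hv => ?_⟩
  have hG := hK.toGood
  have hsimple : ∀ j : Fin D.rank, permNat σ.val (K.p j.val) < K.npos := by
    intro j
    by_contra hpos
    rw [not_lt] at hpos
    have hτ : σ.val * sPerm hK j ∈ weylGrp hK :=
      Subgroup.mul_mem _ σ.2 (Subgroup.subset_closure ⟨j, rfl⟩)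
    have hsub : insert (K.p j.val) ((fun r => K.w j.val r) '' invSet K D σ.val) ⊆
        invSet K D (σ.val * sPerm hK j) := by
      have hmove : ∀ r < D.nroots,
          permNat (σ.val * sPerm hK j) r = permNat σ.val (K.w j.val r) := by
        intro r hr
        simp [permNat, hr, hG.w_lt j.isLt hr, sPerm]
        rfl
      intro r hr
      rcases Set.mem_insert_iff.1 hr with rfl | ⟨s, hs, rfl⟩
      · refine ⟨⟨hG.npos_le_p j.isLt, hG.p_lt j.isLt⟩, ?_⟩
        rw [hmove _ (hG.p_lt j.isLt), hG.w_p j.isLt]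
        have hneg := (hK.mem_weylGrp_iff.1 σ.2)
        obtain ⟨M, hM⟩ := hneg
        have e : permNat σ.val (K.neg (K.p j.val)) = K.neg (permNat σ.val (K.p j.val)) := by
          have := congrArg Fin.val (hK.wPerm_negFin M (pFin hK j))
          rw [hM] at this
          rw [show permNat σ.val (K.p j.val) = (σ.val (pFin hK j)).val from permNat_fin _ (pFin hK j)]
          exact (permNat_fin σ.val (negFin hK (pFin hK j))).trans this
        rw [e, hG.Kneg_eq]
        have := permNat_lt (σ := σ.val) (hG.p_lt j.isLt)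
        have := hG.nroots_eq_two_mul
        omega
      · have hne : s ≠ K.p j.val := fun e => by
          have := hs.2
          rw [e] at this
          omega
        refine ⟨⟨hG.npos_le_w j.isLt hs.1.2 hs.1.1 hne, hG.w_lt j.isLt hs.1.2⟩, ?_⟩
        rw [hmove _ (hG.w_lt j.isLt hs.1.2), hG.w_w j.isLt hs.1.2]
        exact hs.2
    have hnot : K.p j.val ∉ (fun r => K.w j.val r) '' invSet K D σ.val := by
      rintro ⟨s, hs, e⟩
      have e2 := congrArg (K.w j.val) e
      simp only [hG.w_w j.isLt hs.1.2, hG.w_p j.isLt] at e2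
      have := hs.1.1
      rw [e2, hG.Kneg_eq] at this
      have := hG.nroots_eq_two_mul
      have := hG.npos_le_p j.isLt
      omega
    have h1 := Set.ncard_le_ncard hsub (invSet_finite _)
    rw [Set.ncard_insert_of_notMem hnot ((invSet_finite _).image _),
      Set.ncard_image_of_injOn (fun a ha b hb e => by
        have := congrArg (K.w j.val) e
        simpa [hG.w_w j.isLt ha.1.2, hG.w_w j.isLt hb.1.2] using this)] at h1
    have h2 := hmax ⟨_, hτ⟩ (Finset.mem_univ _)
    simp only at h2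
    omega
  rw [hL]
  refine (hK.phi_nonneg_iff (permNat_lt hv)).2.1 ?_
  refine hK.neg_of_simple_neg hc (f := fun r => K.phi (permNat σ.val r))
    (hL ▸ hK.isLin_comp_wPerm L hK.isLin_phi) (fun i hi => ?_) v hp hv
  exact (hK.phi_nonneg_iff (permNat_lt (hG.p_lt hi))).2.2 (hsimple ⟨i, hi⟩)

/-- the monomial element of the longest element exchanges the positive and negative roots -/
theorem longest_conj (hK : Fine K D) {L : List (Fin D.rank)}
    (hL : ∀ v, K.npos ≤ v → v < D.nroots → permNat (wPerm hK L) v < K.npos) :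
    ∀ v < D.nroots, (K.npos ≤ permNat (wPerm hK L) v ↔ v < K.npos) := by
  intro v hv
  have hG := hK.toGood
  have h2 := hG.nroots_eq_two_mul
  constructor
  · intro h
    by_contra hge
    have := hL v (Nat.le_of_not_lt hge) hv
    omega
  · intro h
    have h1 := hL (K.neg v) (by rw [hG.Kneg_eq]; omega) (hG.Kneg_lt hv)
    have e : permNat (wPerm hK L) (K.neg v) = K.neg (permNat (wPerm hK L) v) := by
      have := congrArg Fin.val (hK.wPerm_negFin L ⟨v, hv⟩)
      rw [show permNat (wPerm hK L) v = (wPerm hK L ⟨v, hv⟩).val from permNat_fin _ ⟨v, hv⟩]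
      exact (permNat_fin (wPerm hK L) (negFin hK ⟨v, hv⟩)).trans this
    rw [e, hG.Kneg_eq] at h1
    have := permNat_lt (σ := wPerm hK L) hv
    omega

/-- the longest element conjugates `U` onto `U⁻` -/
theorem exists_monomial_pos_to_neg (hK : Fine K D) (hc : K.combOK = true) :
    ∃ n ∈ D.monomialSubgroup F,
      (D.posUnipotent F).map (MulAut.conj n).toMonoidHom = D.negUnipotent F := by
  obtain ⟨L, hL⟩ := hK.exists_longest hc
  refine ⟨sWord hK F L, hK.sWord_mem_monomial L, le_antisymm ?_ ?_⟩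
  · rintro _ ⟨g, hg, rfl⟩
    rw [hK.negUnipotent_eq]
    rw [SetLike.mem_coe, hK.posUnipotent_eq] at hg
    exact hK.conj_genU_le (hK.moves_sWord L) (fun r hr => ⟨hr.2, hL r hr.1 hr.2⟩) hg
  · rw [hK.negUnipotent_eq, genU, Subgroup.closure_le]
    rintro g ⟨r, hr, t, rfl⟩
    have hr' : r < K.npos := hr
    have hrn : r < D.nroots := by
      have := hK.toGood.nroots_eq_two_mul
      omega
    set s := (wPerm hK L).symm ⟨r, hrn⟩ with hs
    have hσ : wPerm hK L s = ⟨r, hrn⟩ := (wPerm hK L).apply_symm_apply _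
    have hspos : K.npos ≤ s.val := by
      by_contra hneg
      have := (hK.longest_conj hL s.val s.isLt).2 (Nat.lt_of_not_le hneg)
      rw [permNat_fin, hσ] at this
      exact absurd this (Nat.not_le.2 hr')
    obtain ⟨a, ha⟩ := hK.moves_sWord (F := F) L s
    refine ⟨xU hK s.val ((a : F)⁻¹ * t), ?_, ?_⟩
    · rw [SetLike.mem_coe, hK.posUnipotent_eq]
      exact hK.mem_genU (T := {r | K.npos ≤ r ∧ r < D.nroots}) ⟨hspos, s.isLt⟩ _
    · show sWord hK F L * _ * (sWord hK F L)⁻¹ = _
      rw [ha, hσ, mul_inv_cancel_left₀ a.ne_zero]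

end Fine

end CfsgLib.Chev
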