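import Cfsg.Agent.Chev.Checks

/-!
Table check: every positive root that is not fundamental is a fundamental root plus a smaller one.
-/

set_option autoImplicit false

namespace CfsgLib.Chev.Data

variable (K : Data)

/-- one positive root -/
noncomputable def stepRootOK (v : ℕ) : Bool :=
  (List.range K.l).any fun i =>
    Nat.beq (K.p i) v ||
      match K.croot (K.neg (K.p i)) v 1 with
      | none => false
      | some u => Nat.ble K.npos u && Nat.blt u v &&
          match K.croot (K.p i) u 1 with
          | none => false
          | some w => Nat.beq w v

/-- all positive roots -/
noncomputable def stepOK : Bool :=
  (List.range K.npos).all fun k => K.stepRootOK (K.npos + k)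

end CfsgLib.Chev.Data
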