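import Cfsg.Agent.Chev.Parabolic
import Cfsg.Agent.Chev.Run.Step
import Cfsg.Agent.Chev.SylowP
import Cfsg.Prelude.Def_ChevAutomorphisms

/-!
Characters of the root lattice and their diagonal matrices.
-/

set_option autoImplicit false

namespace CfsgLib.Chev

open Cfsg.Lie

variable {K : Data} {D : ChevalleyDatum} {F : Type*} [Field F]

/-- the checks used for root characters -/
theorem exists_comb_step {D : ChevalleyDatum}
    (hD : D ∈ [chevG2, chevB2, chevD4, chevF4, chevE6, chevE7, chevE8]) :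
    ∃ K : Data, Comb K D ∧ K.stepOK = true := by
  simp only [List.mem_cons, List.not_mem_nil, or_false] at hD
  rcases hD with rfl | rfl | rfl | rfl | rfl | rfl | rfl
  exacts [⟨_, ⟨G2.fine, G2.combOK, G2.coweights⟩, G2.stepOK⟩, ⟨_, ⟨B2.fine, B2.combOK, B2.coweights⟩, B2.stepOK⟩,
    ⟨_, ⟨D4.fine, D4.combOK, D4.coweights⟩, D4.stepOK⟩, ⟨_, ⟨F4.fine, F4.combOK, F4.coweights⟩, F4.stepOK⟩,
    ⟨_, ⟨E6.fine, E6.combOK, E6.coweights⟩, E6.stepOK⟩, ⟨_, ⟨E7.fine, E7.combOK, E7.coweights⟩, E7.stepOK⟩,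
    ⟨_, ⟨E8.fine, E8.combOK, E8.coweights⟩, E8.stepOK⟩]

namespace Comb

theorem step_root (hC : Comb K D) (hs : K.stepOK = true) {v : ℕ} (h1 : K.npos ≤ v) (h2 : v < D.nroots) :
    ∃ i < D.rank, K.p i = v ∨
      ∃ u, K.npos ≤ u ∧ u < v ∧ D.chainRoot (K.p i) u 1 = some v ∧ K.croot (K.p i) u 1 = some v := by
  have hG := hC.fine.toGood
  simp only [Data.stepOK, List.all_eq_true, List.mem_range] at hs
  have h := hs (v - K.npos) (by have := hG.nroots_eq_two_mul; omega)
  rw [show K.npos + (v - K.npos) = v by omega] at h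
  simp only [Data.stepRootOK, List.any_eq_true, List.mem_range, Bool.or_eq_true, hG.l_eq] at h
  obtain ⟨i, hi, h | h⟩ := h
  · exact ⟨i, hi, Or.inl (Nat.eq_of_beq_eq_true h)⟩
  · refine ⟨i, hi, Or.inr ?_⟩
    cases hu : K.croot (K.neg (K.p i)) v 1 with
    | none => rw [hu] at h; simp at h
    | some u =>
      rw [hu] at h
      simp only [Bool.and_eq_true] at h
      obtain ⟨⟨ha, hb⟩, hc⟩ := h
      cases hw : K.croot (K.p i) u 1 with
      | none => rw [hw] at hc; simp at hc
      | some w =>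
        rw [hw] at hc
        obtain rfl : w = v := Nat.eq_of_beq_eq_true hc
        have hub : u < w := Nat.le_of_ble_eq_true hb
        exact ⟨u, Nat.le_of_ble_eq_true ha, hub,
          (hG.chainRoot_eq (hG.p_lt hi) (hub.trans h2) 1).trans hw, hw⟩

/-- coordinate functions in the fundamental roots -/
theorem exists_coord (hC : Comb K D) (hs : K.stepOK = true) (i : Fin D.rank) :
    ∃ g : ℕ → ℤ, IsLin K D g ∧ ∀ j : Fin D.rank, g (K.p j.val) = if i = j then 1 else 0 := by
  have hG := hC.fine.toGood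
  obtain ⟨B, d, hd, hB⟩ := hC.cow
  set c : Fin D.rank → ℤ := fun k => B i k
  have hp : ∀ j : Fin D.rank, cFun K c (K.p j.val) = if i = j then d else 0 := fun j => by
    have e : cFun K c (K.p j.val) = (Matrix.diagonal fun _ => d) i j := by
      rw [← hB, Matrix.mul_apply]; rfl
    rw [e, Matrix.diagonal_apply]
  have hf := hC.isLin_cFun c
  have hpos : ∀ v, K.npos ≤ v → v < D.nroots → d ∣ cFun K c v := by
    intro v
    induction v using Nat.strong_induction_on with
    | _ v ih =>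
      intro h1 h2
      obtain ⟨j, hj, e | ⟨u, u1, u2, -, hu⟩⟩ := hC.step_root hs h1 h2
      · rw [← e, show j = ((⟨j, hj⟩ : Fin D.rank) : ℕ) from rfl, hp]
        split_ifs <;> simp
      · rw [hC.fine.entry_weight hf (hG.p_lt hj) (u2.trans h2) one_pos hu, one_smul,
          show j = ((⟨j, hj⟩ : Fin D.rank) : ℕ) from rfl, hp]
        refine dvd_add ?_ (ih u u2 u1 (u2.trans h2))
        split_ifs <;> simp
  have hall : ∀ v < D.nroots, d ∣ cFun K c v := by
    intro v hv
    rcases Nat.lt_or_ge v K.npos with h | h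
    · have h' := hpos (K.neg v) (by rw [hG.Kneg_eq]; have := hG.nroots_eq_two_mul; omega) (hG.Kneg_lt hv)
      rw [hf.neg v hv, dvd_neg] at h'
      exact h'
    · exact hpos v h hv
  refine ⟨fun v => cFun K c v / d, ⟨fun r hr => ?_, fun r hr s hs' q hq => ?_⟩, fun j => ?_⟩
  · simp only [hf.neg r hr, Int.neg_ediv_of_dvd (hall r hr)]
  · have hlin := hf.chain r hr s hs' q hq
    simp only [nsmul_eq_mul] at hlin ⊢
    rw [hlin, Int.add_ediv_of_dvd_right (hall s hs'), Int.mul_ediv_assoc _ (hall r hr)]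
  · show cFun K c (K.p j.val) / d = _
    rw [hp]
    split_ifs
    · exact Int.ediv_self hd.ne'
    · simp

/-- a root character is determined by its values on the fundamental roots -/
theorem rootChar_isCharOn (hC : Comb K D) (hs : K.stepOK = true) {χ : ℕ → Fˣ} (hχ : D.IsRootCharacter χ) :
    ∃ ψ : ℕ → Fˣ, IsCharOn K D ψ ∧ ∀ s < D.nroots, χ s = ψ s := by
  classical
  have hG := hC.fine.toGood
  choose g hg hgp using hC.exists_coord hs
  let ψ : ℕ → Fˣ := fun v => ∏ i : Fin D.rank, χ (K.p i.val) ^ g i v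
  have hψ : IsCharOn K D ψ :=
    { neg := fun r hr => by
        rw [← ofMul_inv]
        refine congrArg Additive.ofMul ?_
        simp only [ψ, ← Finset.prod_inv_distrib]
        exact Finset.prod_congr rfl fun i _ => by rw [(hg i).neg r hr, _root_.zpow_neg]
      chain := fun r hr s hs' q hq => by
        rw [← ofMul_pow, ← ofMul_mul]
        refine congrArg Additive.ofMul ?_
        simp only [ψ, ← Finset.prod_pow, ← Finset.prod_mul_distrib]
        refine Finset.prod_congr rfl fun i _ => ?_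
        rw [(hg i).chain r hr s hs' q hq, ← zpow_natCast (χ (K.p i.val) ^ g i r),
          ← _root_.zpow_mul, nsmul_eq_mul, _root_.zpow_add, mul_comm (g i r)] }
  have hψp : ∀ j : Fin D.rank, ψ (K.p j.val) = χ (K.p j.val) := fun j => by
    simp only [ψ, hgp]
    rw [Finset.prod_eq_single j (fun b _ hb => by rw [if_neg hb, zpow_zero])
      (fun h => absurd (Finset.mem_univ _) h), if_pos rfl, zpow_one]
  have hpos : ∀ v, K.npos ≤ v → v < D.nroots → χ v = ψ v := by
    intro v
    induction v using Nat.strong_induction_on with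
    | _ v ih =>
      intro h1 h2
      obtain ⟨j, hj, e | ⟨u, u1, u2, hu', hu⟩⟩ := hC.step_root hs h1 h2
      · rw [← e]; exact (hψp ⟨j, hj⟩).symm
      · have e1 := hC.fine.entry_weight hψ (hG.p_lt hj) (u2.trans h2) one_pos hu
        rw [one_smul, ← ofMul_mul] at e1
        rw [Additive.ofMul.injective e1, hχ.2 _ _ _ (hG.p_lt hj) (u2.trans h2) hu',
          ih u u2 u1 (u2.trans h2), hψp ⟨j, hj⟩]
  refine ⟨ψ, hψ, fun s hs' => ?_⟩
  rcases Nat.lt_or_ge s K.npos with h | h
  · have h' := hpos (K.neg s) (by rw [hG.Kneg_eq]; have := hG.nroots_eq_two_mul; omega) (hG.Kneg_lt hs')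
    have e := hψ.neg s hs'
    rw [← ofMul_inv] at e
    rw [Additive.ofMul.injective e, hG.Kneg_eq, ← hG.neg_eq hs', hχ.1 s hs'] at h'
    exact inv_injective h'
  · exact hpos s h hs'

theorem charDiag_eq {χ ψ : ℕ → Fˣ} (h : ∀ s < D.nroots, χ s = ψ s) :
    D.charDiag F χ = dmat D (fun s => (ψ s : F)) :=
  dmat_congr (χ := fun s => (χ s : F)) fun s hs => by rw [h s hs]

theorem charDiag_conj (hC : Comb K D) (hs : K.stepOK = true) {χ : ℕ → Fˣ} (hχ : D.IsRootCharacter χ)
    {r : ℕ} (hr : r < D.nroots) (t : F) :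
    D.charDiag F χ * D.x F r t * D.charDiag F (fun s => (χ s)⁻¹) = D.x F r ((χ r : F) * t) := by
  obtain ⟨ψ, hψ, e⟩ := hC.rootChar_isCharOn hs hχ
  rw [charDiag_eq e, charDiag_eq (ψ := fun s => (ψ s)⁻¹) (fun s hs' => by rw [e s hs']),
    hC.fine.toGood.dmat_conj hψ hr, e r hr, mul_assoc, dmat_mul]
  rw [dmat_congr (ψ := fun _ => (1 : F)) (fun s _ => Units.mul_inv (ψ s)), dmat_one, mul_one]

theorem charDiag_mem_diagonal (hC : Comb K D) (hs : K.stepOK = true) {χ : ℕ → Fˣ}
    (hχ : D.IsRootCharacter χ) {g : GL D.Idx F} (hg : g ∈ D.group F)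
    (hgχ : (g : Matrix D.Idx D.Idx F) = D.charDiag F χ) : g ∈ D.diagonalSubgroup F := by
  have hK := hC.fine
  obtain ⟨ψ, hψ, e⟩ := hC.rootChar_isCharOn hs hχ
  have hconj : ∀ r < D.nroots, ∀ t : F, g * xU hK r t * g⁻¹ = xU hK r ((χ r : F) * t) := fun r hr t => by
    rw [mul_inv_eq_iff_eq_mul]
    refine Units.ext ?_
    rw [Units.val_mul, Units.val_mul, coe_xU, coe_xU, hgχ, charDiag_eq e, hK.toGood.dmat_conj hψ hr, e r hr]
  obtain ⟨b, hb, L, u, hu, eg⟩ := hK.normal_form_exists hg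
  have hσ : wPerm hK L = 1 := by
    by_contra hne
    obtain ⟨j, hj⟩ := hK.exists_descent L.length L le_rfl hne
    set s := wPerm hK L (pFin hK j)
    -- the conjugate of a simple root element stays in the Borel subgroup
    obtain ⟨a, ha⟩ := hK.moves_sWord (F := F) L (pFin hK j)
    have huB : u ∈ D.borelSubgroup F := Subgroup.mem_sup_left (hK.invSet_le_pos _ hu)
    have hxB : u⁻¹ * xU hK (K.p j.val) 1 * u ∈ D.posUnipotent F :=
      Subgroup.mul_mem _ (Subgroup.mul_mem _ (Subgroup.inv_mem _ (hK.invSet_le_pos _ hu))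
        (by rw [hK.posUnipotent_eq]
            exact hK.mem_genU (T := {r | K.npos ≤ r ∧ r < D.nroots})
              ⟨hK.toGood.npos_le_p j.isLt, hK.toGood.p_lt j.isLt⟩ _)) (hK.invSet_le_pos _ hu)
    have h1 : b * (sWord hK F L * xU hK (K.p j.val) 1 * (sWord hK F L)⁻¹) * b⁻¹ =
        g * (u⁻¹ * xU hK (K.p j.val) 1 * u) * g⁻¹ := by
      rw [eg]; group
    have hU : ∀ y ∈ genU hK F {r | K.npos ≤ r ∧ r < D.nroots},
        g * y * g⁻¹ ∈ genU hK F {r | K.npos ≤ r ∧ r < D.nroots} := by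
      intro y hy
      induction hy using Subgroup.closure_induction with
      | mem x hx =>
        obtain ⟨r, hr, t, rfl⟩ := hx
        rw [hconj r hr.2]
        exact hK.mem_genU (T := {r | K.npos ≤ r ∧ r < D.nroots}) hr _
      | one => simp
      | mul x y _ _ hx hy =>
        rw [show g * (x * y) * g⁻¹ = g * x * g⁻¹ * (g * y * g⁻¹) by group]
        exact Subgroup.mul_mem _ hx hy
      | inv x _ hx =>
        rw [show g * x⁻¹ * g⁻¹ = (g * x * g⁻¹)⁻¹ by group]
        exact Subgroup.inv_mem _ hx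
    have h2 : g * (u⁻¹ * xU hK (K.p j.val) 1 * u) * g⁻¹ ∈ D.borelSubgroup F := by
      refine Subgroup.mem_sup_left ?_
      rw [hK.posUnipotent_eq] at hxB ⊢
      exact hU _ hxB
    rw [← h1, show K.p j.val = (pFin hK j).val from rfl, ha 1, mul_one] at h2
    have h3 : xU hK s.val (a : F) ∈ D.borelSubgroup F ⊓ D.negUnipotent F := by
      refine ⟨?_, hK.xU_mem_neg hj _⟩
      have := Subgroup.mul_mem _ (Subgroup.mul_mem _ (Subgroup.inv_mem _ hb) h2) hb
      simpa [mul_assoc] using this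
    rw [hK.borel_inf_neg, Subgroup.mem_bot] at h3
    exact a.ne_zero ((hK.xU_eq_one_iff s.isLt _).1 h3)
  have hgB : g ∈ D.borelSubgroup F := by
    rw [eg]
    exact Subgroup.mul_mem _ (Subgroup.mul_mem _ hb
      (Subgroup.mem_sup_right (hK.sWord_mem_diagonal L.length L le_rfl hσ)))
      (Subgroup.mem_sup_left (hK.invSet_le_pos _ hu))
  obtain ⟨v, hv, d, hd, hvd⟩ := hK.mem_borel_iff.1 hgB
  have hoff : ∀ a b : D.Idx, a ≠ b → (v : Matrix D.Idx D.Idx F) a b = 0 := by
    intro a b hab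
    have h1 : (v : Matrix D.Idx D.Idx F) * (d : Matrix D.Idx D.Idx F) = D.charDiag F χ := by
      rw [← Units.val_mul, ← hvd, hgχ]
    have h2 := congrFun (congrFun h1 a) b
    rw [Matrix.mul_apply, Finset.sum_eq_single b (fun x _ hx => by
      rw [hK.diagonal_offdiag hd hx, mul_zero]) (fun h => absurd (Finset.mem_univ _) h)] at h2
    rw [show D.charDiag F χ a b = 0 from Matrix.diagonal_apply_ne _ hab] at h2
    refine (mul_eq_zero.1 h2).resolve_right fun h0 => ?_
    obtain ⟨c, rfl⟩ := hK.mem_diagonal_iff.1 hd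
    rw [Fine.coe_tU, dmat, Matrix.diagonal_apply_eq] at h0
    rcases b with i | s <;> simp at h0
  have hv1 : v = 1 := by
    rw [hK.posUnipotent_eq] at hv
    obtain ⟨r1, -⟩ := hK.genU_raise hK.isLin_phi one_pos
      (fun r hr hrn => (hK.phi_nonneg_iff hrn).1.2 hr.1) hv
    refine Units.ext ?_
    ext a b
    by_cases hab : a = b
    · subst hab; rw [r1, Units.val_one, Matrix.one_apply_eq]
    · rw [hoff a b hab, Units.val_one, Matrix.one_apply_ne hab]
  rw [hvd, hv1, one_mul]
  exact hd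

end Comb

end CfsgLib.Chev
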