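import Cfsg.Agent.Chev.CentCheck

/-! Checker: the top root and another long root, not its negative, generate a unipotent group. -/

set_option autoImplicit false

namespace CfsgLib.Chev.Data

variable (K : Data)

/-- the top root and the targets of its commutators with `b` -/
noncomputable def pairSet (r b : ℕ) : List ℕ := r :: (K.comm r b).map fun c => c.1

/-- `b` normalises an abelian group containing `X_r` -/
noncomputable def pairRootOK (r b : ℕ) : Bool :=
  (K.pairSet r b).all fun s => Nat.blt s K.n &&
    (Nat.beq s b || (!(Nat.beq s (K.neg b)) &&
      (K.comm b s).all fun c => (K.pairSet r b).contains c.1)) &&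
    (K.pairSet r b).all fun u => Nat.beq u s || (!(Nat.beq u (K.neg s)) && (K.comm s u).isEmpty)

/-- all roots of the orbit but the negative -/
noncomputable def pairAllOK (r S : ℕ) : Bool :=
  (List.range K.n).all fun b => !(inMask S b) || Nat.beq b (K.neg r) || K.pairRootOK r b

end CfsgLib.Chev.Data
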