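import Cfsg.Agent.Chev.Centralizer
import Cfsg.Agent.Chev.RootPairCheck
import Cfsg.Agent.Chev.FineG2
import Cfsg.Agent.Chev.FineD4
import Cfsg.Agent.Chev.FineE6
import Cfsg.Agent.Chev.FineE7
import Cfsg.Agent.Chev.FineE8

/-!
Two long root subgroups in characteristic two: a 2-group or opposite up to conjugation.
-/

set_option autoImplicit false
set_option maxRecDepth 100000

namespace CfsgLib.Chev

open Cfsg.Lie

variable {K : Data} {D : ChevalleyDatum} {F : Type*} [Field F]

namespace Fine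

theorem rootSubgroup_eq_genU (hK : Fine K D) (r : ℕ) :
    D.rootSubgroup F r = genU hK F {r} := by
  unfold ChevalleyDatum.rootSubgroup genU
  congr 1
  ext g
  constructor
  · rintro ⟨t, ht⟩; exact ⟨r, rfl, t, eq_xU hK ht⟩
  · rintro ⟨s, hs, t, rfl⟩
    rw [Set.mem_singleton_iff] at hs
    subst hs
    exact ⟨t, coe_xU hK _ _⟩

theorem isPGroup_genU_comm (hK : Fine K D) [CharP F 2] {T : Set ℕ} (hn : ∀ s ∈ T, s < D.nroots)
    (h : ∀ s ∈ T, ∀ u ∈ T, u ≠ s → u ≠ K.neg s ∧ K.comm s u = []) :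
    IsPGroup 2 ↥(genU hK F T) := by
  have hc : ∀ x ∈ {g : GL D.Idx F | ∃ r ∈ T, ∃ t : F, g = xU hK r t},
      ∀ y ∈ {g : GL D.Idx F | ∃ r ∈ T, ∃ t : F, g = xU hK r t}, x * y = y * x := by
    rintro x ⟨s, hs, t, rfl⟩ y ⟨u, hu, v, rfl⟩
    by_cases hus : u = s
    · subst hus; rw [xU_mul, xU_mul, add_comm]
    · obtain ⟨h1, h2⟩ := h s hs u hu hus
      exact (hK.commute_of_comm_nil (hn s hs) (hn u hu) hus h1 (by simp [h2]) t v).eq
  have hcomm : ∀ x ∈ genU hK F T, ∀ y ∈ genU hK F T, Commute x y := by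
    intro x hx y hy
    induction hx, hy using Subgroup.closure_induction₂ with
    | mem a b ha hb => exact hc a ha b hb
    | one_left a _ => exact Commute.one_left a
    | one_right a _ => exact Commute.one_right a
    | mul_left a b c _ _ _ ih1 ih2 => exact ih1.mul_left ih2
    | mul_right a b c _ _ _ ih1 ih2 => exact ih1.mul_right ih2
    | inv_left a b _ _ ih => exact ih.inv_left
    | inv_right a b _ _ ih => exact ih.inv_right
  have hsq : ∀ g ∈ genU hK F T, g ^ 2 = 1 := by
    intro g hg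
    induction hg using Subgroup.closure_induction with
    | mem x hx =>
      obtain ⟨s, -, t, rfl⟩ := hx
      rw [pow_two, xU_mul, CharTwo.add_self_eq_zero, xU_zero]
    | one => exact one_pow 2
    | mul a b ha hb iha ihb => rw [(hcomm a ha b hb).mul_pow, iha, ihb, one_mul]
    | inv a ha iha => rw [inv_pow, iha, inv_one]
  intro g
  refine ⟨1, ?_⟩
  rw [pow_one]
  exact Subtype.ext ((SubmonoidClass.coe_pow g 2).trans (hsq g.1 g.2))

theorem isPGroup_pair (hK : Fine K D) [CharP F 2] {r b : ℕ} (hr : r < D.nroots) (hb : b < D.nroots)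
    (h : K.pairRootOK r b = true) :
    IsPGroup 2 ↥(D.rootSubgroup F r ⊔ D.rootSubgroup F b) := by
  simp only [Data.pairRootOK, List.all_eq_true, Bool.and_eq_true, Bool.or_eq_true, Nat.blt_eq,
    Bool.not_eq_true', List.contains_iff_mem, List.isEmpty_iff, hK.toGood.n_eq] at h
  have hA : IsPGroup 2 ↥(genU hK F {s | s ∈ K.pairSet r b}) := by
    refine hK.isPGroup_genU_comm (fun s hs => (h s hs).1.1) fun s hs u hu hne => ?_
    rcases (h s hs).2 u hu with e | ⟨e1, e2⟩
    · exact absurd (Nat.eq_of_beq_eq_true e) hne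
    · exact ⟨fun e => by rw [e] at e1; simp [Nat.beq_refl] at e1, e2⟩
  have hB : IsPGroup 2 ↥(genU hK F {b}) :=
    hK.isPGroup_genU_comm (by simp [hb]) (by simp)
  have hN : genU hK F {b} ≤ Subgroup.normalizer (genU hK F {s | s ∈ K.pairSet r b} : Set (GL D.Idx F)) := by
    refine (Subgroup.closure_le _).2 ?_
    rintro g ⟨s, hs, t, rfl⟩
    rw [Set.mem_singleton_iff] at hs
    subst hs
    refine hK.xU_mem_normalizer hb (fun u hu _ => ?_) t
    rcases (h u hu).1.2 with e | ⟨e1, e2⟩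
    · exact Or.inl (Nat.eq_of_beq_eq_true e)
    · exact Or.inr ⟨fun e => by rw [e] at e1; simp [Nat.beq_refl] at e1, e2⟩
  refine (IsPGroup.to_sup_of_normal_right' hB hA hN).to_le ?_
  rw [hK.rootSubgroup_eq_genU, hK.rootSubgroup_eq_genU]
  refine sup_le (le_trans (hK.genU_mono ?_) le_sup_right) le_sup_left
  intro s hs
  rw [Set.mem_singleton_iff] at hs
  subst hs
  exact List.mem_cons_self

theorem map_conj_rootSubgroup (hK : Fine K D) {n : GL D.Idx F} {r s : ℕ} {a : Fˣ}
    (h : ∀ t : F, n * xU hK r t * n⁻¹ = xU hK s ((a : F) * t)) :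
    (D.rootSubgroup F r).map (MulAut.conj n).toMonoidHom = D.rootSubgroup F s := by
  ext g
  rw [hK.mem_rootSubgroup_iff]
  constructor
  · rintro ⟨x, hx, rfl⟩
    obtain ⟨t, rfl⟩ := hK.mem_rootSubgroup_iff.1 hx
    exact ⟨_, h t⟩
  · rintro ⟨t, rfl⟩
    refine ⟨xU hK r ((a : F)⁻¹ * t), hK.xU_mem_rootSubgroup _ _, ?_⟩
    show n * _ * n⁻¹ = _
    rw [h, mul_inv_cancel_left₀ a.ne_zero]

theorem map_conj_of_commute (hK : Fine K D) {u : GL D.Idx F} {r : ℕ}
    (h : ∀ t : F, Commute u (xU hK r t)) :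
    (D.rootSubgroup F r).map (MulAut.conj u).toMonoidHom = D.rootSubgroup F r := by
  refine hK.map_conj_rootSubgroup (a := 1) fun t => ?_
  rw [Units.val_one, one_mul, (h t).eq, mul_inv_cancel_right]

theorem root_pair (hK : Fine K D) [CharP F 2] {J : List ℕ} {r S : ℕ} (hc : K.centOK [r] J = true)
    (hS : K.topOrbitOK r S = true) (hp : K.pairAllOK r S = true) {g : GL D.Idx F}
    (hg : g ∈ D.group F) :
    IsPGroup 2 ↥(D.rootSubgroup F r ⊔ (D.rootSubgroup F r).map (MulAut.conj g).toMonoidHom) ∨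
      ∃ h ∈ D.group F,
        (D.rootSubgroup F r ⊔ (D.rootSubgroup F r).map (MulAut.conj g).toMonoidHom).map
          (MulAut.conj h).toMonoidHom = D.rootSubgroup F r ⊔ D.rootSubgroup F (K.neg r) := by
  obtain ⟨⟨hrp, hr⟩, hrS, -, -⟩ := hK.mem_topOrbit hS
  have hfix : ∀ u ∈ D.posUnipotent F, ∀ t : F, Commute u (xU hK r t) := by
    intro u hu t
    rw [hK.posUnipotent_eq] at hu
    have hle : genU hK F {s | K.npos ≤ s ∧ s < D.nroots} ≤ Subgroup.centralizer {xU hK r t} := by
      refine (Subgroup.closure_le _).2 ?_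
      rintro x ⟨s, hs, v, rfl⟩
      refine Subgroup.mem_centralizer_singleton_iff.2 ?_
      by_cases hsr : s = r
      · subst hsr
        show xU hK s v * xU hK s t = xU hK s t * xU hK s v
        rw [xU_mul, xU_mul, add_comm]
      · obtain ⟨h1, h2⟩ := (hK.cent_facts hc).1 r (by simp) s hs.2 (Or.inl hs.1) hsr
        exact (hK.commute_of_comm_nil hr hs.2 hsr h1 h2 t v).eq.symm
    exact Subgroup.mem_centralizer_singleton_iff.1 (hle hu)
  obtain ⟨b, hb, L, u, hu, rfl⟩ := hK.normal_form_exists hg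
  obtain ⟨v, hv, h, hh, rfl⟩ := hK.mem_borel_iff.1 hb
  set β := (wPerm hK L ⟨r, hr⟩).val with hβ
  have hm : Moves hK (h * sWord hK F L) (wPerm hK L) := by
    simpa using hK.moves_mul (hK.moves_diagonal hh) (hK.moves_sWord L)
  obtain ⟨a, ha⟩ := hm ⟨r, hr⟩
  have hu' : u ∈ D.posUnipotent F := hK.invSet_le_pos _ hu
  have himg : (D.rootSubgroup F r).map (MulAut.conj (v * h * sWord hK F L * u)).toMonoidHom =
      (D.rootSubgroup F β).map (MulAut.conj v).toMonoidHom := by
    rw [show (MulAut.conj (v * h * sWord hK F L * u)).toMonoidHom =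
        (MulAut.conj v).toMonoidHom.comp ((MulAut.conj (h * sWord hK F L)).toMonoidHom.comp
          (MulAut.conj u).toMonoidHom) from MonoidHom.ext fun x => by simp [mul_assoc],
      ← Subgroup.map_map, ← Subgroup.map_map, hK.map_conj_of_commute (hfix u hu'),
      hK.map_conj_rootSubgroup ha]
  have e : D.rootSubgroup F r ⊔
      (D.rootSubgroup F r).map (MulAut.conj (v * h * sWord hK F L * u)).toMonoidHom =
      (D.rootSubgroup F r ⊔ D.rootSubgroup F β).map (MulAut.conj v).toMonoidHom := by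
    rw [Subgroup.map_sup, himg, hK.map_conj_of_commute (hfix v hv)]
  rw [e]
  by_cases hβr : β = K.neg r
  · refine Or.inr ⟨v⁻¹, Subgroup.inv_mem _ (hK.posUnipotent_le_group hv), ?_⟩
    rw [Subgroup.map_map, hβr]
    convert Subgroup.map_id _ using 2
    exact MonoidHom.ext fun x => by simp [mul_assoc]
  · left
    simp only [Data.pairAllOK, List.all_eq_true, List.mem_range, Bool.or_eq_true,
      Bool.not_eq_true', hK.toGood.n_eq] at hp
    rcases hp β (wPerm hK L ⟨r, hr⟩).isLt with (h1 | h1) | h1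
    · rw [hβ, hK.orbit_wPerm hS L ⟨r, hr⟩ hrS] at h1
      exact absurd h1 (by simp)
    · exact absurd (Nat.eq_of_beq_eq_true h1) hβr
    · exact (hK.isPGroup_pair hr (wPerm hK L ⟨r, hr⟩).isLt h1).map _

theorem root_pair' (hK : Fine K D) [CharP F 2] {J : List ℕ} {S : ℕ}
    (hc : K.centOK [D.nroots - 1] J = true) (hS : K.topOrbitOK (D.nroots - 1) S = true)
    (hp : K.pairAllOK (D.nroots - 1) S = true) {g : GL D.Idx F} (hg : g ∈ D.group F) :
    IsPGroup 2 ↥(D.rootSubgroup F (D.nroots - 1) ⊔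
        (D.rootSubgroup F (D.nroots - 1)).map (MulAut.conj g).toMonoidHom) ∨
      ∃ h ∈ D.group F,
        (D.rootSubgroup F (D.nroots - 1) ⊔
          (D.rootSubgroup F (D.nroots - 1)).map (MulAut.conj g).toMonoidHom).map
          (MulAut.conj h).toMonoidHom = D.rootSubgroup F (D.nroots - 1) ⊔ D.rootSubgroup F 0 := by
  have h := hK.root_pair hc hS hp hg
  rwa [show K.neg (D.nroots - 1) = 0 by rw [hK.toGood.Kneg_eq]; omega] at h

end Fine

theorem root_pair_of_mem {F : Type*} [Field F] [CharP F 2] (D : ChevalleyDatum)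
    (hD : D ∈ [chevG2, chevD4, chevE6, chevE7, chevE8]) (g : GL D.Idx F) (hg : g ∈ D.group F) :
    IsPGroup 2 ↥(D.rootSubgroup F (D.nroots - 1) ⊔
        (D.rootSubgroup F (D.nroots - 1)).map (MulAut.conj g).toMonoidHom) ∨
      ∃ h ∈ D.group F,
        (D.rootSubgroup F (D.nroots - 1) ⊔
          (D.rootSubgroup F (D.nroots - 1)).map (MulAut.conj g).toMonoidHom).map
          (MulAut.conj h).toMonoidHom = D.rootSubgroup F (D.nroots - 1) ⊔ D.rootSubgroup F 0 := by
  simp only [List.mem_cons, List.not_mem_nil, or_false] at hD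
  rcases hD with rfl | rfl | rfl | rfl | rfl
  · exact G2.fine.root_pair' (J := [0]) (S := 3171) (by decide +kernel) (by decide +kernel)
      (by decide +kernel) hg
  · exact D4.fine.root_pair' (J := [0, 2, 3]) (S := 2 ^ 24 - 1) (by decide +kernel) (by decide +kernel)
      (by decide +kernel) hg
  · exact E6.fine.root_pair' (J := [0, 2, 3, 4, 5]) (S := 2 ^ 72 - 1) (by decide +kernel)
      (by decide +kernel) (by decide +kernel) hg
  · exact E7.fine.root_pair' (J := [1, 2, 3, 4, 5, 6]) (S := 2 ^ 126 - 1) (by decide +kernel)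
      (by decide +kernel) (by decide +kernel) hg
  · exact E8.fine.root_pair' (J := [0, 1, 2, 3, 4, 5, 6]) (S := 2 ^ 240 - 1) (by decide +kernel)
      (by decide +kernel) (by decide +kernel) hg

end CfsgLib.Chev
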