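import Cfsg.Agent.Chev.CoxeterCheck

/-!
Checks on the longest elements of orbits and on coset representatives in the fixed Weyl group.
-/

set_option autoImplicit false

namespace CfsgLib.Chev

namespace Data

variable (K : Data)

/-- the word spelled by a list of orbits -/
noncomputable def twWord (Ws : List (List ℕ)) (d : List ℕ) : List ℕ := d.flatMap fun j => Ws.getD j []

/-- images of the fundamental roots under such a word -/
noncomputable def twKey (Ws : List (List ℕ)) (d : List ℕ) : List ℕ :=
  (List.range K.l).map fun i => K.appW (twWord Ws d) (K.p i)

/-- number of positive roots made negative -/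
noncomputable def twLen (Ws : List (List ℕ)) (d : List ℕ) : ℕ :=
  ((List.range K.n).filter fun r => Nat.ble K.npos r && Nat.blt (K.appW (twWord Ws d) r) K.npos).length

/-- the words give the longest elements of the orbits -/
noncomputable def twMaxOK (Os Ws : List (List ℕ)) : Bool :=
  (List.range Os.length).all fun j =>
    ((Ws.getD j []).all fun a => (Os.getD j []).any fun b => Nat.beq a b) &&
    ((Os.getD j []).all fun i => Nat.blt i K.l && Nat.blt (K.appW (Ws.getD j []) (K.p i)) K.npos)

/-- one level of representatives -/
noncomputable def twLevelOK (Os Ws : List (List ℕ)) (k : ℕ) (R : List (List ℕ)) : Bool :=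
  R.any (fun d => d.isEmpty) &&
  R.all fun d =>
    (d.all fun a => Nat.blt a (k + 1)) &&
    ((List.range k).all fun j => (Os.getD j []).all fun i =>
      Nat.ble K.npos (K.appW (twWord Ws d) (K.p i))) &&
    ((List.range (k + 1)).all fun j => R.any fun d' =>
      ([] :: (List.range k).map fun c => [c]).any fun c =>
        (List.range K.l).all fun i =>
          Nat.beq (K.appW (twWord Ws (j :: d)) (K.p i)) (K.appW (twWord Ws (d' ++ c)) (K.p i)))

end Data

end CfsgLib.Chev
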