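import Cfsg.Agent.Chev.GraphCheck

/-!
Checks on a root table as a symmetry of the fundamental roots.
-/

set_option autoImplicit false

namespace CfsgLib.Chev

namespace Data

variable (K : Data)

/-- the table is a symmetry of the fundamental roots given by the list `pl` -/
noncomputable def symTabOK (T : RootTab) (pl : List ℕ) : Bool :=
  ((List.range K.n).all fun r =>
    (Nat.ble K.npos (T.im r) && Nat.ble K.npos r) || (Nat.blt (T.im r) K.npos && Nat.blt r K.npos)) &&
  ((List.range K.l).all fun i =>
    Nat.beq (T.im (K.p i)) (K.p (pl.getD i 0)) && intEq (T.sg (K.p i)) 1 &&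
      (List.range K.n).all fun r => Nat.beq (T.im (K.w i r)) (K.w (pl.getD i 0) (T.im r)))

/-- the positive roots in the span of the listed fundamental roots -/
noncomputable def subPosL (O : List ℕ) : List ℕ :=
  (List.range K.n).filter fun r => Nat.ble K.npos r &&
    ((List.range K.l).all fun i => (O.any fun j => Nat.beq j i) || intEq (K.tab.C r i) 0)

/-- their negatives -/
noncomputable def negSubL (O : List ℕ) : List ℕ :=
  (List.range K.n).filter fun r => (K.subPosL O).any fun s => Nat.beq s (K.neg r)

end Data

end CfsgLib.Chev
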