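import Cfsg.Agent.Chev.Parabolic
import Cfsg.Agent.Chev.FieldMap
import Cfsg.Agent.Chev.GenCheck

/-!
Generation of a Chevalley group by the monomial subgroup and some fundamental root subgroups.
-/

set_option autoImplicit false

namespace CfsgLib.Chev

open Cfsg.Lie

variable {K : Data} {D : ChevalleyDatum} {F : Type*} [Field F]

namespace Fine

/-- all elements of the root subgroup of `r` lie in `M` -/
def RootIn (hK : Fine K D) (M : Subgroup (GL D.Idx F)) (r : ℕ) : Prop :=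
  ∀ t : F, xU hK r t ∈ M

theorem rootIn_w (hK : Fine K D) {M : Subgroup (GL D.Idx F)} (hN : D.monomialSubgroup F ≤ M) {r i : ℕ}
    (hr : r < D.nroots) (hi : i < D.rank) (h : hK.RootIn M r) : hK.RootIn M (K.w i r) := by
  intro t
  have e := hK.sU_conj_xU (F := F) hi hr ((K.eta i r : F) * t)
  rw [← mul_assoc, ← Int.cast_mul, Good.eta_sq, Int.cast_one, one_mul] at e
  rw [← e]
  exact Subgroup.mul_mem _ (Subgroup.mul_mem _ (hN (hK.sU_mem_monomial hi)) (h _))
    (Subgroup.inv_mem _ (hN (hK.sU_mem_monomial hi)))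

/-- a set of labels whose fundamental root subgroups lie in `M` -/
def LabelsIn (hK : Fine K D) (M : Subgroup (GL D.Idx F)) (S : List ℕ) : Prop :=
  ∀ k ∈ S, k < D.rank ∧ hK.RootIn M (K.p k)

theorem labelsIn_next (hK : Fine K D) {M : Subgroup (GL D.Idx F)} (hN : D.monomialSubgroup F ≤ M)
    {S : List ℕ} (h : hK.LabelsIn M S) : hK.LabelsIn M (K.simpNext S) := by
  intro m hm
  simp only [Data.simpNext, List.mem_filter, List.mem_range, Bool.or_eq_true, List.any_eq_true,
    hK.toGood.l_eq] at hm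
  obtain ⟨hml, ⟨k, hk, e⟩ | ⟨k, hk, e⟩⟩ := hm
  · exact Nat.eq_of_beq_eq_true e ▸ h k hk
  · obtain ⟨hkl, hkM⟩ := h k hk
    refine ⟨hml, ?_⟩
    rw [← Nat.eq_of_beq_eq_true e]
    exact hK.rootIn_w hN (hK.toGood.w_lt hml (hK.toGood.p_lt hkl)) hkl
      (hK.rootIn_w hN (hK.toGood.p_lt hkl) hml hkM)

theorem labelsIn_orbit (hK : Fine K D) {M : Subgroup (GL D.Idx F)} (hN : D.monomialSubgroup F ≤ M)
    {S : List ℕ} (h : hK.LabelsIn M S) : hK.LabelsIn M (K.simpOrbit S) := by
  unfold Data.simpOrbit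
  induction K.l with
  | zero => exact h
  | succ n ih => exact hK.labelsIn_next hN ih

theorem rootIn_orbit2 (hK : Fine K D) {M : Subgroup (GL D.Idx F)} (hN : D.monomialSubgroup F ≤ M)
    {S : List ℕ} (h : hK.LabelsIn M S) : ∀ r ∈ K.orbit2 S, r < D.nroots ∧ hK.RootIn M r := by
  have h0 : ∀ r ∈ (K.simpOrbit S).map K.p, r < D.nroots ∧ hK.RootIn M r := by
    intro r hr
    obtain ⟨k, hk, rfl⟩ := List.mem_map.1 hr
    exact ⟨hK.toGood.p_lt (hK.labelsIn_orbit hN h k hk).1, (hK.labelsIn_orbit hN h k hk).2⟩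
  have hstep : ∀ O : List ℕ, (∀ r ∈ O, r < D.nroots ∧ hK.RootIn M r) →
      ∀ r ∈ O ++ O.flatMap (fun r => (List.range K.l).map fun i => K.w i r),
        r < D.nroots ∧ hK.RootIn M r := by
    intro O hO r hr
    rw [List.mem_append, List.mem_flatMap] at hr
    rcases hr with hr | ⟨s, hs, hr⟩
    · exact hO r hr
    · obtain ⟨i, hi, rfl⟩ := List.mem_map.1 hr
      rw [List.mem_range, hK.toGood.l_eq] at hi
      exact ⟨hK.toGood.w_lt hi (hO s hs).1, hK.rootIn_w hN (hO s hs).1 hi (hO s hs).2⟩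
  intro r hr
  exact hstep _ (hstep _ h0) r hr

theorem labelsIn_comm (hK : Fine K D) {M : Subgroup (GL D.Idx F)} (hN : D.monomialSubgroup F ≤ M) {m : ℕ}
    (hm : (m : F) ≠ 0) {S : List ℕ} (h : hK.LabelsIn M S) : hK.LabelsIn M (K.commRoots m S) := by
  intro j hj
  simp only [Data.commRoots, List.mem_filter, List.mem_range, List.any_eq_true, Bool.and_eq_true,
    Bool.not_eq_true', hK.toGood.l_eq] at hj
  obtain ⟨hjl, r, hr, s, hs, ⟨hne, hneg⟩, hc⟩ := hj
  refine ⟨hjl, ?_⟩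
  obtain ⟨hrn, hrM⟩ := hK.rootIn_orbit2 hN h r hr
  obtain ⟨hsn, hsM⟩ := hK.rootIn_orbit2 hN h s hs
  split at hc
  next c e =>
    simp only [Bool.and_eq_true, Bool.or_eq_true] at hc
    obtain ⟨⟨⟨e1, e2⟩, e3⟩, e4⟩ := hc
    have hcne : (c.2.1 : F) ≠ 0 := by
      rcases e4 with h4 | h4 <;> have h4' := Nat.eq_of_beq_eq_true h4 <;>
        rcases Int.natAbs_eq c.2.1 with h5 | h5 <;> rw [h5, h4'] <;> simp [hm]
    have hsr : s ≠ r := by rintro rfl; simp at hne
    have hsneg : s ≠ K.neg r := by rintro rfl; simp at hneg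
    intro t
    have hf := hK.conj_formula (F := F) hrn hsn hsr hsneg (-(t / (c.2.1 : F))) 1
    have hmem : wordU hK (D.commWord F r s (-(t / (c.2.1 : F))) 1) ∈ M := by
      have := Subgroup.mul_mem _ (Subgroup.inv_mem _ (hsM 1))
        (Subgroup.mul_mem _ (Subgroup.mul_mem _ (Subgroup.inv_mem _ (hrM (-(t / (c.2.1 : F))))) (hsM 1))
          (hrM (-(t / (c.2.1 : F)))))
      rwa [hf, inv_mul_cancel_left] at this
    simp only [ChevalleyDatum.commWord, hK.toGood.commTerms_eq hrn hsn, e, List.map_cons, List.map_nil,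
      Nat.eq_of_beq_eq_true e1, Nat.eq_of_beq_eq_true e2, Nat.eq_of_beq_eq_true e3, pow_one, neg_neg,
      mul_one, mul_div_cancel₀ t hcne] at hmem
    simpa [wordU] using hmem
  next => simp at hc

theorem group_le_of_genOK (hK : Fine K D) {M : Subgroup (GL D.Idx F)} (hN : D.monomialSubgroup F ≤ M)
    {m : ℕ} (hm : (m : F) ≠ 0) {S : List ℕ} (hS : hK.LabelsIn M S) (h : K.genOK m S = true) :
    D.group F ≤ M := by
  have h1 : hK.LabelsIn M (K.simpOrbit S ++ K.commRoots m S) := fun k hk =>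
    (List.mem_append.1 hk).elim (hK.labelsIn_orbit hN hS k) (hK.labelsIn_comm hN hm hS k)
  rw [hK.group_eq_simple]
  refine (Subgroup.closure_le _).2 ?_
  rintro g ⟨i, hi, t, hg⟩
  simp only [Data.genOK, List.all_eq_true, List.mem_range, List.any_eq_true, hK.toGood.l_eq] at h
  obtain ⟨k, hk, e⟩ := h i hi
  have hp : hK.RootIn M (K.p i) := Nat.eq_of_beq_eq_true e ▸ (hK.labelsIn_orbit hN h1 k hk).2
  rcases hg with rfl | rfl
  · exact hp t
  · have := hK.rootIn_w hN (hK.toGood.p_lt hi) hi hp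
    rw [hK.toGood.w_p hi] at this
    exact this t

theorem rootIn_rootSubgroup (hK : Fine K D) {M : Subgroup (GL D.Idx F)} {i : ℕ} (hi : i < D.rank)
    (h : D.rootSubgroup F (D.simple i) ≤ M) : hK.RootIn M (K.p i) := by
  intro t
  rw [hK.toGood.simple_eq hi] at h
  exact h (hK.xU_mem_rootSubgroup _ t)

theorem group_le_one (hK : Fine K D) {m i : ℕ} (hi : i < D.rank) (hm : (m : F) ≠ 0)
    (h : K.genOK m [i] = true) :
    D.group F ≤ D.monomialSubgroup F ⊔ D.rootSubgroup F (D.simple i) :=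
  hK.group_le_of_genOK le_sup_left hm
    (fun k hk => by rw [List.mem_singleton] at hk; subst hk; exact ⟨hi, hK.rootIn_rootSubgroup hi le_sup_right⟩) h

theorem group_le_two (hK : Fine K D) {m i j : ℕ} (hi : i < D.rank) (hj : j < D.rank) (hm : (m : F) ≠ 0)
    (h : K.genOK m [i, j] = true) :
    D.group F ≤ D.monomialSubgroup F ⊔ D.rootSubgroup F (D.simple i) ⊔ D.rootSubgroup F (D.simple j) := by
  refine hK.group_le_of_genOK (le_sup_left.trans le_sup_left) hm (fun k hk => ?_) h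
  simp only [List.mem_cons, List.not_mem_nil, or_false] at hk
  rcases hk with rfl | rfl
  · exact ⟨hi, hK.rootIn_rootSubgroup hi (le_sup_right.trans le_sup_left)⟩
  · exact ⟨hj, hK.rootIn_rootSubgroup hj le_sup_right⟩

end Fine

end CfsgLib.Chev
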