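import Cfsg.Agent.Chev.Structure
import Cfsg.Agent.Chev.ShortGen
import Cfsg.Agent.Chev.SimpleCheck
import Cfsg.Agent.Base.BNPairProps

/-!
Perfectness and simplicity of the Chevalley groups.
-/

set_option autoImplicit false

namespace CfsgLib.Chev

open Cfsg.Lie

variable {K : Data} {D : ChevalleyDatum} {F : Type*} [Field F]

namespace Fine

theorem comm_mem_derived (hK : Fine K D) {a b : GL D.Idx F} (ha : a ∈ D.group F) (hb : b ∈ D.group F) :
    a * b * a⁻¹ * b⁻¹ ∈ ⁅D.group F, D.group F⁆ :=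
  Subgroup.commutator_mem_commutator ha hb

theorem group_le_normalizer_derived (hK : Fine K D) {g x : GL D.Idx F} (hg : g ∈ D.group F)
    (hx : x ∈ ⁅D.group F, D.group F⁆) : g * x * g⁻¹ ∈ ⁅D.group F, D.group F⁆ := by
  have hxG : x ∈ D.group F := by
    refine (Subgroup.commutator_le (H₁ := D.group F) (H₂ := D.group F) (H₃ := D.group F)).2
      (fun a ha b hb => ?_) hx
    exact Subgroup.mul_mem _ (Subgroup.mul_mem _ (Subgroup.mul_mem _ ha hb) (Subgroup.inv_mem _ ha))
      (Subgroup.inv_mem _ hb)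
  have := Subgroup.mul_mem _ (hK.comm_mem_derived hg hxG) hx
  rwa [inv_mul_cancel_right] at this

theorem comm_word_mem (hK : Fine K D) {r s : ℕ} (hr : r < D.nroots) (hs : s < D.nroots)
    (hsr : s ≠ r) (hneg : s ≠ K.neg r) (t u : F) :
    wordU hK (D.commWord F r s t u) ∈ ⁅D.group F, D.group F⁆ := by
  have h := hK.conj_formula (F := F) hr hs hsr hneg t u
  have := hK.comm_mem_derived (Subgroup.inv_mem _ (hK.xU_mem_group (F := F) s u))
    (Subgroup.inv_mem _ (hK.xU_mem_group (F := F) r t))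
  rw [inv_inv, inv_inv] at this
  rwa [show wordU hK (D.commWord F r s t u) =
    (xU hK s u)⁻¹ * (xU hK r t)⁻¹ * xU hK s u * xU hK r t by
      rw [mul_assoc (xU hK s u)⁻¹, mul_assoc (xU hK s u)⁻¹, h]; group]

theorem single_mem (hK : Fine K D) {v : ℕ} (h : K.singleOK v = true) (t : F) :
    xU hK v t ∈ ⁅D.group F, D.group F⁆ := by
  simp only [Data.singleOK, List.any_eq_true, List.mem_range, hK.toGood.n_eq] at h
  obtain ⟨r, hr, h⟩ := h
  split at h
  next => simp at h
  next s e =>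
    simp only [Bool.and_eq_true, Bool.not_eq_true', Nat.blt_eq] at h
    obtain ⟨⟨⟨h1, h2⟩, hs⟩, hc⟩ := h
    split at hc
    next c e' =>
      simp only [Bool.and_eq_true] at hc
      obtain ⟨⟨⟨e1, e2⟩, e3⟩, e4⟩ := hc
      have hsr : s ≠ r := by rintro rfl; simp at h1
      have hsneg : s ≠ K.neg r := by rintro rfl; simp at h2
      have hcne : (c.2.1 : F) * (c.2.1 : F) = 1 := by
        rcases Int.natAbs_eq c.2.1 with h5 | h5 <;> rw [h5, Nat.eq_of_beq_eq_true e2] <;> simp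
      have hm := hK.comm_word_mem hr hs hsr hsneg (-((c.2.1 : F) * t)) 1
      simp only [ChevalleyDatum.commWord, hK.toGood.commTerms_eq hr hs, e', List.map_cons, List.map_nil,
        Nat.eq_of_beq_eq_true e1, Nat.eq_of_beq_eq_true e3, Nat.eq_of_beq_eq_true e4, pow_one, neg_neg,
        mul_one, ← mul_assoc, hcne, one_mul] at hm
      simpa [wordU] using hm
    next => simp at hc

theorem double_mem (hK : Fine K D) {v : ℕ} (h : K.doubleOK v = true) (t : F) :
    xU hK v t ∈ ⁅D.group F, D.group F⁆ := by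
  simp only [Data.doubleOK, Bool.or_eq_true, List.any_eq_true, List.mem_range, hK.toGood.n_eq] at h
  rcases h with h | ⟨r, hr, h⟩
  · exact hK.single_mem h t
  split at h
  next => simp at h
  next s e =>
    simp only [Bool.and_eq_true, Bool.not_eq_true', Nat.blt_eq] at h
    obtain ⟨⟨⟨h1, h2⟩, hs⟩, hc⟩ := h
    split at hc
    next c d e' =>
      simp only [Bool.and_eq_true] at hc
      obtain ⟨⟨⟨⟨e1, e2⟩, e3⟩, e4⟩, e5⟩ := hc
      have hsr : s ≠ r := by rintro rfl; simp at h1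
      have hsneg : s ≠ K.neg r := by rintro rfl; simp at h2
      have hcne : (c.2.1 : F) * (c.2.1 : F) = 1 := by
        rcases Int.natAbs_eq c.2.1 with h5 | h5 <;> rw [h5, Nat.eq_of_beq_eq_true e2] <;> simp
      have hm := hK.comm_word_mem hr hs hsr hsneg (-((c.2.1 : F) * t)) 1
      simp only [ChevalleyDatum.commWord, hK.toGood.commTerms_eq hr hs, e', List.map_cons, List.map_nil,
        Nat.eq_of_beq_eq_true e1, Nat.eq_of_beq_eq_true e3, Nat.eq_of_beq_eq_true e4, pow_one, neg_neg,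
        one_pow, mul_one, ← mul_assoc, hcne, one_mul, wordU, List.prod_cons, List.prod_nil] at hm
      exact (Subgroup.mul_mem_cancel_right _ (hK.single_mem e5 _)).1 hm
    next => simp at hc

theorem torus_mem (hK : Fine K D) {i j : ℕ} (hi : i < D.rank) (hj : j < D.rank) {a : Fˣ}
    (ha : a ^ K.tab.A i (K.p j) ≠ 1) (t : F) :
    xU hK (K.p j) t ∈ ⁅D.group F, D.group F⁆ := by
  set c := hParam K (K.p i) a
  have hz : ((torusChar K D c (K.p j) : Fˣ) : F) ≠ 1 := by
    rw [hK.torusChar_hParam, hK.pair_simple hi, ne_eq, Units.val_eq_one]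
    exact ha
  set z : F := (torusChar K D c (K.p j) : F)
  have hne : z - 1 ≠ 0 := sub_ne_zero.2 hz
  have h := hK.comm_mem_derived ((hK.monomial_le_group ((le_sup_left : D.diagonalSubgroup F ≤ D.monomialSubgroup F) (hK.tU_mem_diagonal c))))
    (hK.xU_mem_group (F := F) (K.p j) (t / (z - 1)))
  rw [hK.tU_conj_xU c (hK.toGood.p_lt hj), xU_inv, xU_mul] at h
  rwa [show z * (t / (z - 1)) + -(t / (z - 1)) = t by field_simp; ring] at h

theorem perfect_of (hK : Fine K D)
    (h : ∀ j < D.rank, ∀ t : F, xU hK (K.p j) t ∈ ⁅D.group F, D.group F⁆) :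
    commutator ↥(D.group F) = ⊤ := by
  refine Subgroup.map_injective (D.group F).subtype_injective ?_
  rw [Subgroup.map_subtype_commutator, ← MonoidHom.range_eq_map, Subgroup.range_subtype]
  refine le_antisymm ((Subgroup.commutator_le).2 fun a ha b hb => ?_) ?_
  · exact Subgroup.mul_mem _ (Subgroup.mul_mem _ (Subgroup.mul_mem _ ha hb) (Subgroup.inv_mem _ ha))
      (Subgroup.inv_mem _ hb)
  · conv_lhs => rw [hK.group_eq_simple]
    refine (Subgroup.closure_le _).2 ?_
    rintro g ⟨i, hi, t, rfl | rfl⟩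
    · exact h i hi t
    · rw [hK.neg_p_eq_conj hi]
      exact hK.group_le_normalizer_derived (hK.monomial_le_group (hK.sU_mem_monomial hi)) (h i hi _)

theorem perfect_derived (hK : Fine K D) (h : K.derivedOK = true) : commutator ↥(D.group F) = ⊤ := by
  refine hK.perfect_of fun j hj t => ?_
  simp only [Data.derivedOK, List.all_eq_true, List.mem_range, hK.toGood.l_eq] at h
  exact hK.double_mem (h j hj) t

theorem derived_w (hK : Fine K D) {i r : ℕ} (hi : i < D.rank) (hr : r < D.nroots)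
  (h : ∀ u : F, xU hK r u ∈ ⁅D.group F, D.group F⁆) :
    ∀ u : F, xU hK (K.w i r) u ∈ ⁅D.group F, D.group F⁆ := fun u => by
  have e := hK.sU_conj_xU (F := F) hi hr ((K.eta i r : F) * u)
  rw [← mul_assoc, ← Int.cast_mul, Good.eta_sq, Int.cast_one, one_mul] at e
  rw [← e]
  exact hK.group_le_normalizer_derived (hK.monomial_le_group (hK.sU_mem_monomial hi)) (h _)

/-- the two fields with few units -/
theorem exists_unit_of (ha : ∃ a : F, a ≠ 0 ∧ a ≠ 1) :
    (∃ b : Fˣ, b ^ (2 : ℤ) ≠ 1) ∨ ((-1 : Fˣ) ≠ 1 ∧ (2 : F) ≠ 0) := by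
  by_cases h : ∃ b : Fˣ, b ^ (2 : ℤ) ≠ 1
  · exact Or.inl h
  refine Or.inr ?_
  have h' : ∀ b : Fˣ, b ^ (2 : ℤ) = 1 := fun b => by_contra fun hb => h ⟨b, hb⟩
  obtain ⟨a, a0, a1⟩ := ha
  have hsq : a * a = 1 := by
    have e := congrArg (fun u : Fˣ => (u : F)) (h' (Units.mk0 a a0))
    simpa [sq, zpow_ofNat] using e
  have han : a = -1 := (mul_self_eq_one_iff.1 hsq).resolve_left a1
  have h1 : (-1 : F) ≠ 1 := han ▸ a1
  refine ⟨fun e => h1 (by simpa using congrArg (fun u : Fˣ => (u : F)) e), fun e => h1 ?_⟩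
  exact neg_eq_of_add_eq_zero_left (by rw [← e]; norm_num)

theorem perfect_rank_two (hK : Fine K D) (ha : ∃ a : F, a ≠ 0 ∧ a ≠ 1)
    (hA : ∀ j < D.rank, K.tab.A j (K.p j) = 2)
    (h : ∀ j < D.rank, K.oddOK j = true ∨
      ∃ i < D.rank, i ≠ j ∧ K.oddOK i = true ∧ j ∈ K.commRoots 2 [i]) :
    commutator ↥(D.group F) = ⊤ := by
  refine hK.perfect_of fun j hj t => ?_
  rcases exists_unit_of ha with ⟨b, hb⟩ | ⟨h1, h2⟩
  · exact hK.torus_mem hj hj (a := b) (by rw [hA j hj]; exact hb) t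
  have hodd : ∀ i < D.rank, K.oddOK i = true → ∀ u : F, xU hK (K.p i) u ∈ ⁅D.group F, D.group F⁆ := by
    intro i hi ho u
    simp only [Data.oddOK, List.any_eq_true, List.mem_range, hK.toGood.l_eq] at ho
    obtain ⟨k, hk, e⟩ := ho
    refine hK.torus_mem hk hi (a := -1) ?_ u
    have : Odd (K.tab.A k (K.p i)) := Int.natAbs_odd.1 (Nat.odd_iff.2 (Nat.eq_of_beq_eq_true e))
    rw [this.neg_one_zpow]
    exact h1
  rcases h j hj with hj' | ⟨i, hi, -, hio, hmem⟩
  · exact hodd j hj hj' t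
  · -- commutators of conjugates of the short root subgroup
    set Dd := ⁅D.group F, D.group F⁆
    have hroot : ∀ r ∈ K.orbit2 [i], r < D.nroots ∧ ∀ u : F, xU hK r u ∈ Dd := by
      have hO : ∀ S : List ℕ, (∀ k ∈ S, k < D.rank ∧ ∀ u : F, xU hK (K.p k) u ∈ Dd) →
          ∀ k ∈ K.simpOrbit S, k < D.rank ∧ ∀ u : F, xU hK (K.p k) u ∈ Dd := by
        intro S hS
        have step : ∀ T : List ℕ, (∀ k ∈ T, k < D.rank ∧ ∀ u : F, xU hK (K.p k) u ∈ Dd) →
            ∀ k ∈ K.simpNext T, k < D.rank ∧ ∀ u : F, xU hK (K.p k) u ∈ Dd := by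
          intro T hT m hm
          simp only [Data.simpNext, List.mem_filter, List.mem_range, Bool.or_eq_true, List.any_eq_true,
            hK.toGood.l_eq] at hm
          obtain ⟨hml, ⟨k, hk, e⟩ | ⟨k, hk, e⟩⟩ := hm
          · exact Nat.eq_of_beq_eq_true e ▸ hT k hk
          · obtain ⟨hkl, hkM⟩ := hT k hk
            refine ⟨hml, fun u => ?_⟩
            rw [← Nat.eq_of_beq_eq_true e]
            exact hK.derived_w hkl (hK.toGood.w_lt hml (hK.toGood.p_lt hkl))
              (hK.derived_w hml (hK.toGood.p_lt hkl) hkM) u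
        unfold Data.simpOrbit
        induction K.l with
        | zero => exact hS
        | succ n ih => exact step _ ih
      have h0 := hO [i] (fun k hk => by rw [List.mem_singleton] at hk; subst hk; exact ⟨hi, hodd k hi hio⟩)
      intro r hr
      simp only [Data.orbit2, List.mem_append, List.mem_flatMap, List.mem_map, List.mem_range,
        hK.toGood.l_eq] at hr
      have h1 : ∀ r, (∃ k ∈ K.simpOrbit [i], K.p k = r) → r < D.nroots ∧ ∀ u : F, xU hK r u ∈ Dd := by
        rintro r ⟨k, hk, rfl⟩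
        exact ⟨hK.toGood.p_lt (h0 k hk).1, (h0 k hk).2⟩
      have h2 : ∀ r, ((∃ k ∈ K.simpOrbit [i], K.p k = r) ∨
          ∃ s, (∃ k ∈ K.simpOrbit [i], K.p k = s) ∧ ∃ m < D.rank, K.w m s = r) →
          r < D.nroots ∧ ∀ u : F, xU hK r u ∈ Dd := by
        rintro r (hr | ⟨s, hs, m, hm, rfl⟩)
        · exact h1 r hr
        · exact ⟨hK.toGood.w_lt hm (h1 s hs).1, hK.derived_w hm (h1 s hs).1 (h1 s hs).2⟩
      rcases hr with hr | ⟨s, hs, m, hm, rfl⟩
      · exact h2 r hr
      · exact ⟨hK.toGood.w_lt hm (h2 s hs).1, hK.derived_w hm (h2 s hs).1 (h2 s hs).2⟩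
    simp only [Data.commRoots, List.mem_filter, List.mem_range, List.any_eq_true, Bool.and_eq_true,
      Bool.not_eq_true', hK.toGood.l_eq] at hmem
    obtain ⟨-, r, hr, s, hs, ⟨hne, hneg⟩, hc⟩ := hmem
    split at hc
    next c e =>
      simp only [Bool.and_eq_true, Bool.or_eq_true] at hc
      obtain ⟨⟨⟨e1, e2⟩, e3⟩, e4⟩ := hc
      have hcne : (c.2.1 : F) ≠ 0 := by
        rcases e4 with h4 | h4 <;> have h4' := Nat.eq_of_beq_eq_true h4 <;>
          rcases Int.natAbs_eq c.2.1 with h5 | h5 <;> rw [h5, h4'] <;> simp [h2]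
      have hsr : s ≠ r := by rintro rfl; simp at hne
      have hsneg : s ≠ K.neg r := by rintro rfl; simp at hneg
      have hm := hK.comm_word_mem (hroot r hr).1 (hroot s hs).1 hsr hsneg (-(t / (c.2.1 : F))) 1
      simp only [ChevalleyDatum.commWord, hK.toGood.commTerms_eq (hroot r hr).1 (hroot s hs).1, e,
        List.map_cons, List.map_nil, Nat.eq_of_beq_eq_true e1, Nat.eq_of_beq_eq_true e2,
        Nat.eq_of_beq_eq_true e3, pow_one, neg_neg, mul_one, mul_div_cancel₀ t hcne] at hm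
      simpa [wordU] using hm
    next => simp at hc

theorem irreducible (hK : Fine K D) (h : K.connOK = true) : (hK.bnPair F).Irreducible := by
  intro J hJ hne hne'
  by_contra hcon
  push_neg at hcon
  -- labels of the two parts
  have hlab : ∀ n ∈ simpleReps D F, ∃ i < D.rank, ((n : ↥(D.group F)) : GL D.Idx F) = sU hK i := by
    rintro n ⟨i, hi, e⟩
    exact ⟨i, hi, Units.ext (e.trans (coe_sU hK i).symm)⟩
  let inJ : ℕ → Prop := fun k => ∃ n ∈ J, (n : GL D.Idx F) = sU hK k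
  let outJ : ℕ → Prop := fun k => ∃ n ∈ (hK.bnPair F).S \ J, (n : GL D.Idx F) = sU hK k
  have hex : ∀ k < D.rank, inJ k ∨ outJ k := fun k hk => by
    let n : ↥(D.group F) := ⟨sU hK k, hK.monomial_le_group (hK.sU_mem_monomial hk)⟩
    have hn : n ∈ (hK.bnPair F).S := ⟨k, hk, coe_sU hK k⟩
    by_cases hn' : n ∈ J
    · exact Or.inl ⟨n, hn', rfl⟩
    · exact Or.inr ⟨n, ⟨hn, hn'⟩, rfl⟩
  have hcomm : ∀ k m, k < D.rank → m < D.rank → inJ k → outJ m →
      ∀ r < D.nroots, K.w k (K.w m r) = K.w m (K.w k r) := by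
    rintro k m hk hm ⟨n, hn, en⟩ ⟨n', hn', en'⟩ r hr
    have hB := Subgroup.mem_subgroupOf.1 (hcon n hn n' hn')
    simp only [Subgroup.coe_mul, InvMemClass.coe_inv, en, en'] at hB
    have hN : (sU hK k : GL D.Idx F) * sU hK m * (sU hK k)⁻¹ * (sU hK m)⁻¹ ∈ D.monomialSubgroup F :=
      Subgroup.mul_mem _ (Subgroup.mul_mem _ (Subgroup.mul_mem _ (hK.sU_mem_monomial hk)
        (hK.sU_mem_monomial hm)) (Subgroup.inv_mem _ (hK.sU_mem_monomial hk)))
        (Subgroup.inv_mem _ (hK.sU_mem_monomial hm))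
    have hH : (sU hK k : GL D.Idx F) * sU hK m * (sU hK k)⁻¹ * (sU hK m)⁻¹ ∈ D.diagonalSubgroup F := by
      rw [← hK.borel_inf_monomial]
      exact ⟨hB, hN⟩
    have e := hK.moves_unique (hK.moves_diagonal hH)
      (hK.moves_mul (hK.moves_mul (hK.moves_mul (hK.moves_sU ⟨k, hk⟩) (hK.moves_sU ⟨m, hm⟩))
        (hK.moves_inv (hK.moves_sU ⟨k, hk⟩))) (hK.moves_inv (hK.moves_sU ⟨m, hm⟩)))
    have e' : sPerm hK ⟨k, hk⟩ * sPerm hK ⟨m, hm⟩ = sPerm hK ⟨m, hm⟩ * sPerm hK ⟨k, hk⟩ := by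
      have := e.symm
      rw [mul_inv_eq_one, mul_inv_eq_iff_eq_mul] at this
      exact this
    have := congrArg Fin.val (DFunLike.congr_fun e' ⟨r, hr⟩)
    simpa [Equiv.Perm.mul_apply, sPerm_val] using this
  obtain ⟨n₀, hn₀⟩ := hne
  obtain ⟨n₁, hn₁⟩ := hne'
  obtain ⟨i₀, hi₀, e₀⟩ := hlab n₀ (hJ hn₀)
  obtain ⟨i₁, hi₁, e₁⟩ := hlab n₁ hn₁.1
  have hexcl : ∀ k, inJ k → outJ k → False := by
    rintro k ⟨n, hn, en⟩ ⟨n', ⟨-, hn'⟩, en'⟩
    exact hn' (Subtype.ext (en'.trans en.symm) ▸ hn)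
  have hl : 0 < D.rank := lt_of_le_of_lt (Nat.zero_le _) hi₀
  have step : ∀ T : List ℕ, (∀ m ∈ T, m < D.rank ∧ (inJ m ↔ inJ 0)) →
      ∀ m ∈ K.adjNext T, m < D.rank ∧ (inJ m ↔ inJ 0) := by
    intro T ih
    intro m hm
    simp only [Data.adjNext, List.mem_filter, List.mem_range, Bool.or_eq_true, List.any_eq_true,
      hK.toGood.l_eq, Bool.not_eq_true'] at hm
    obtain ⟨hml, ⟨k, hk, e⟩ | ⟨k, hk, e⟩⟩ := hm
    · exact Nat.eq_of_beq_eq_true e ▸ ih k hk
    · obtain ⟨hkl, hk0⟩ := ih k hk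
      refine ⟨hml, Iff.trans ?_ hk0⟩
      have hne2 : K.w k (K.w m (K.p k)) ≠ K.w m (K.w k (K.p k)) := fun h' => by
        rw [h', Nat.beq_refl] at e
        simp at e
      constructor
      · intro hm'
        refine (hex k hkl).resolve_right fun ho => ?_
        exact hne2 (hcomm m k hml hkl hm' ho _ (hK.toGood.p_lt hkl)).symm
      · intro hk'
        refine (hex m hml).resolve_right fun ho => ?_
        exact hne2 (hcomm k m hkl hml hk' ho _ (hK.toGood.p_lt hkl))
  have hcl : ∀ S : ℕ, ∀ m ∈ (Nat.rec (motive := fun _ => List ℕ) [0] (fun _ ih => K.adjNext ih) S : List ℕ),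
      m < D.rank ∧ (inJ m ↔ inJ 0) := by
    intro S
    induction S with
    | zero =>
      intro m hm
      rw [List.mem_singleton.1 hm]
      exact ⟨hl, Iff.rfl⟩
    | succ n ih => exact step _ ih
  simp only [Data.connOK, List.all_eq_true, List.mem_range, List.any_eq_true, hK.toGood.l_eq] at h
  have hsame : ∀ m < D.rank, (inJ m ↔ inJ 0) := fun m hm => by
    obtain ⟨k, hk, e⟩ := h m hm
    exact Nat.eq_of_beq_eq_true e ▸ (hcl _ k hk).2
  exact hexcl i₁ ((hsame i₁ hi₁).2 ((hsame i₀ hi₀).1 ⟨n₀, hn₀, e₀⟩)) ⟨n₁, hn₁, e₁⟩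

theorem group_nontrivial (hK : Fine K D) (hl : 0 < D.rank) : Nontrivial ↥(D.group F) :=
  ⟨⟨⟨xU hK (K.p 0) 1, hK.xU_mem_group _ _⟩, 1, fun e =>
    one_ne_zero ((hK.xU_eq_one_iff (hK.toGood.p_lt hl) (1 : F)).1 (congrArg Subtype.val e))⟩⟩

theorem isSimple_of_perfect (hK : Fine K D) (hl : 0 < D.rank) (hc : K.combOK = true) (hconn : K.connOK = true)
    (hperf : commutator ↥(D.group F) = ⊤) :
    IsSimpleGroup ↥(D.group F) ∧ ¬ IsMulCommutative ↥(D.group F) := by
  haveI := hK.group_nontrivial (F := F) hl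
  refine ⟨CfsgLib.Base.BN.simple_of_irreducible (hK.bnPair F) (hK.irreducible hconn) ?_ hperf
    (hK.borel_normalCore hc), fun h => ?_⟩
  · haveI := hK.borel_isSolvable (F := F)
    let e := (Subgroup.subgroupOfEquivOfLe (hK.borel_le_group (F := F))).symm
    exact Group.isSolvable_of_surjective (f := e.toMonoidHom) (show Function.Surjective e.toMonoidHom from e.surjective)
  · have hbot : commutator ↥(D.group F) = ⊥ := by
      rw [commutator_def, Subgroup.commutator_eq_bot_iff_le_centralizer]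
      intro a _ b _
      exact h.is_comm.comm b a
    exact bot_ne_top (hbot.symm.trans hperf)

end Fine

end CfsgLib.Chev
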