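import Cfsg.Prelude.Def_ChevStructure

/-!
Sparse symbolic evaluation of words in root elements of a Chevalley datum.

A vector with Laurent-monomial entries in two non-zero parameters `t`, `u` is a list of `Term`s.
-/

set_option autoImplicit false

namespace CfsgLib.Chev

open Cfsg.Lie

/-- `coef * t^ea * u^eb` at coordinate `row`. -/
structure Term where
  row : ℕ
  ea : ℤ
  eb : ℤ
  coef : ℤ

section Eval

variable {F : Type*} [Field F]

/-- value of one term at coordinate `j` -/
def Term.val (t u : F) (e : Term) (j : ℕ) : F :=
  if e.row = j then (e.coef : F) * t ^ e.ea * u ^ e.eb else 0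

/-- value of a list of terms -/
def evalTerms (t u : F) (L : List Term) (j : ℕ) : F := (L.map fun e => e.val t u j).sum

theorem evalTerms_nil (t u : F) (j : ℕ) : evalTerms t u [] j = 0 := rfl

theorem evalTerms_cons (t u : F) (e : Term) (L : List Term) (j : ℕ) :
    evalTerms t u (e :: L) j = e.val t u j + evalTerms t u L j := rfl

theorem evalTerms_append (t u : F) (L M : List Term) (j : ℕ) :
    evalTerms t u (L ++ M) j = evalTerms t u L j + evalTerms t u M j := by
  simp [evalTerms]

/-- negation of a list of terms -/
def negTerms (L : List Term) : List Term := L.map fun e => ⟨e.row, e.ea, e.eb, -e.coef⟩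

theorem evalTerms_negTerms (t u : F) (L : List Term) (j : ℕ) :
    evalTerms t u (negTerms L) j = - evalTerms t u L j := by
  induction L with
  | nil => simp [negTerms, evalTerms]
  | cons e L ih =>
    rw [negTerms, List.map_cons, ← negTerms, evalTerms_cons, evalTerms_cons, ih, neg_add]
    congr 1
    simp only [Term.val]
    split_ifs <;> simp

/-- kernel-cheap equality of integers -/
noncomputable def intEq (a b : ℤ) : Bool :=
  Int.rec (fun m => Int.rec (fun n => Nat.beq m n) (fun _ => false) b)
    (fun m => Int.rec (fun _ => false) (fun n => Nat.beq m n) b) a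

theorem intEq_iff (a b : ℤ) : intEq a b = true ↔ a = b := by
  cases a <;> cases b <;> simp [intEq]

/-- add a term into an association list -/
noncomputable def addTerm (e : Term) (L : List Term) : List Term :=
  List.rec [e]
    (fun f L' ih => bif Nat.beq f.row e.row && intEq f.ea e.ea && intEq f.eb e.eb then
      ⟨f.row, f.ea, f.eb, f.coef + e.coef⟩ :: L' else f :: ih) L

theorem addTerm_cons (e f : Term) (L : List Term) :
    addTerm e (f :: L) = bif Nat.beq f.row e.row && intEq f.ea e.ea && intEq f.eb e.eb then
      ⟨f.row, f.ea, f.eb, f.coef + e.coef⟩ :: L else f :: addTerm e L := rfl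

theorem evalTerms_addTerm (t u : F) (e : Term) (L : List Term) (j : ℕ) :
    evalTerms t u (addTerm e L) j = e.val t u j + evalTerms t u L j := by
  induction L with
  | nil => rfl
  | cons f L ih =>
    rw [addTerm_cons]
    cases h : (Nat.beq f.row e.row && intEq f.ea e.ea && intEq f.eb e.eb)
    · simp only [cond_false, evalTerms_cons, ih]; ring
    · simp only [Bool.and_eq_true, intEq_iff] at h
      obtain ⟨⟨h1, h2⟩, h3⟩ := h
      have h1 := Nat.eq_of_beq_eq_true h1
      simp only [cond_true, evalTerms_cons, Term.val, h1, h2, h3]
      split_ifs <;> push_cast <;> ring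

/-- collect like terms -/
noncomputable def normTerms (L : List Term) : List Term :=
  List.rec [] (fun e _ ih => addTerm e ih) L

/-- all coefficients cancel -/
noncomputable def zeroTerms (L : List Term) : Bool :=
  List.rec true (fun e _ ih => intEq e.coef 0 && ih) (normTerms L)

theorem evalTerms_normTerms (t u : F) (L : List Term) (j : ℕ) :
    evalTerms t u (normTerms L) j = evalTerms t u L j := by
  induction L with
  | nil => rfl
  | cons e L ih =>
    rw [show normTerms (e :: L) = addTerm e (normTerms L) from rfl, evalTerms_addTerm,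
      evalTerms_cons, ih]

/-- collect like terms and drop those with coefficient zero -/
noncomputable def tidy (L : List Term) : List Term :=
  List.rec [] (fun e _ ih => bif intEq e.coef 0 then ih else e :: ih) (normTerms L)

theorem evalTerms_tidy (t u : F) (L : List Term) (j : ℕ) :
    evalTerms t u (tidy L) j = evalTerms t u L j := by
  rw [← evalTerms_normTerms t u L j, tidy]
  induction normTerms L with
  | nil => rfl
  | cons e M ih =>
    show evalTerms t u (bif intEq e.coef 0 then _ else e :: _) j = _
    cases h : intEq e.coef 0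
    · simp only [cond_false, evalTerms_cons, ih]
    · simp only [intEq_iff] at h
      simp only [cond_true, evalTerms_cons, ih, Term.val, h, Int.cast_zero, zero_mul, ite_self,
        zero_add]

/-- two lists of terms have the same value -/
noncomputable def sameTerms (L M : List Term) : Bool := zeroTerms (L ++ negTerms M)

theorem evalTerms_eq_zero (t u : F) {L : List Term} (h : zeroTerms L = true) (j : ℕ) :
    evalTerms t u L j = 0 := by
  have h1 : evalTerms t u (normTerms L) j = evalTerms t u L j := by
    clear h
    induction L with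
    | nil => rfl
    | cons e L ih =>
      rw [show normTerms (e :: L) = addTerm e (normTerms L) from rfl, evalTerms_addTerm,
        evalTerms_cons, ih]
  rw [← h1]
  have hz : ∀ M : List Term, List.rec (motive := fun _ => Bool) true
      (fun e _ ih => intEq e.coef 0 && ih) M = true → ∀ e ∈ M, e.coef = 0 := by
    intro M
    induction M with
    | nil => simp
    | cons e M ih =>
      intro hM
      have hM' : (intEq e.coef 0 && List.rec (motive := fun _ => Bool) true
        (fun e _ ih => intEq e.coef 0 && ih) M) = true := hM
      rw [Bool.and_eq_true, intEq_iff] at hM'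
      exact List.forall_mem_cons.2 ⟨hM'.1, ih hM'.2⟩
  refine List.sum_eq_zero ?_
  intro x hx
  obtain ⟨e, he, rfl⟩ := List.mem_map.1 hx
  simp [Term.val, hz _ h e he]

theorem evalTerms_eq_of_sameTerms (t u : F) {L M : List Term} (h : sameTerms L M = true) (j : ℕ) :
    evalTerms t u L j = evalTerms t u M j := by
  have := evalTerms_eq_zero t u h j
  rw [evalTerms_append, evalTerms_negTerms, add_neg_eq_zero] at this
  exact this

end Eval

/-! ### Columns of root elements -/

variable (D : ChevalleyDatum)

/-- number of coordinates -/
def dim : ℕ := D.rank + D.nroots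

/-- number of a coordinate -/
def code : D.Idx → ℕ
  | Sum.inl i => i.val
  | Sum.inr r => D.rank + r.val

theorem code_lt (a : D.Idx) : code D a < dim D := by
  rcases a with ⟨i, hi⟩ | ⟨r, hr⟩ <;> simp [code, dim] <;> omega

theorem code_injective : Function.Injective (code D) := by
  rintro (⟨i, hi⟩ | ⟨r, hr⟩) (⟨i', hi'⟩ | ⟨r', hr'⟩) h <;> simp [code] at h <;> simp <;> omega

theorem exists_code_eq {j : ℕ} (hj : j < dim D) : ∃ a : D.Idx, code D a = j := by
  by_cases h : j < D.rank
  · exact ⟨Sum.inl ⟨j, h⟩, rfl⟩
  · refine ⟨Sum.inr ⟨j - D.rank, ?_⟩, ?_⟩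
    · simp [dim] at hj; omega
    · simp [code]; omega

/-- the chain part of a column -/
def chainCol (s : ℕ) (row : List (ℕ × Array (ℕ × ℤ))) : List (ℕ × ℕ × ℤ) :=
  (row.filter fun e => decide (e.1 = s)).flatMap fun e =>
    e.2.toList.zipIdx.map fun q => (D.rank + q.1.1, q.2 + 1, q.1.2)

/-- column `j` of `x_r(t)`: entries `(row, exponent of t, coefficient)` -/
def colList (r j : ℕ) : List (ℕ × ℕ × ℤ) :=
  if j < D.rank then [(j, 0, 1), (D.rank + r, 1, - (D.cartanSR.getD j #[]).getD r 0)]
  else if j = D.rank + r then [(j, 0, 1)]
  else if j = D.rank + D.negIdx.getD r 0 then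
    (j, 0, 1) :: (D.rank + r, 2, -1) ::
      (List.range D.rank).map fun i => (i, 1, (D.coroot.getD r #[]).getD i 0)
  else (j, 0, 1) :: chainCol D (j - D.rank) (D.chain.getD r #[]).toList

variable {F : Type*} [Field F]

/-- value of a column list -/
def evalCol (t : F) (L : List (ℕ × ℕ × ℤ)) (j : ℕ) : F :=
  (L.map fun e => if e.1 = j then (e.2.2 : F) * t ^ e.2.1 else 0).sum

theorem evalCol_cons (t : F) (e : ℕ × ℕ × ℤ) (L : List (ℕ × ℕ × ℤ)) (j : ℕ) :
    evalCol t (e :: L) j = (if e.1 = j then (e.2.2 : F) * t ^ e.2.1 else 0) + evalCol t L j := rfl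

theorem evalCol_chainCol (t : F) (s : ℕ) (a : D.Idx) (r : ℕ) :
    evalCol t (chainCol D s (D.chain.getD r #[]).toList) (code D a) =
      match a with
      | Sum.inl _ => 0
      | Sum.inr u => ((D.chainCoeff r s u.val).map fun km => ((km.2 : ℤ) : F) * t ^ km.1).sum := by
  unfold ChevalleyDatum.chainCoeff chainCol evalCol
  generalize ((D.chain.getD r #[]).toList.filter fun e => decide (e.1 = s)) = L
  induction L with
  | nil => rcases a with i | u <;> simp
  | cons e L ih =>
    rcases a with i | u
    · simp only [List.flatMap_cons, List.map_append, List.sum_append, ih, add_zero]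
      refine List.sum_eq_zero ?_
      intro x hx
      simp only [List.map_map, List.mem_map, Function.comp] at hx
      obtain ⟨q, -, rfl⟩ := hx
      rw [if_neg]
      simp only [code]; omega
    · simp only [List.flatMap_cons, List.map_append, List.sum_append, ih]
      congr 1
      generalize e.2.toList.zipIdx = M
      induction M with
      | nil => rfl
      | cons q M ih2 =>
        simp only [List.map_cons, List.sum_cons, ih2, List.filter_cons]
        have hc : (D.rank + q.1.1 = code D (Sum.inr u)) ↔ q.1.1 = u.val := by
          simp only [code]; omega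
        by_cases h : q.1.1 = u.val
        · simp [h, code]
        · rw [if_neg (mt hc.1 h)]; simp [h]

theorem sum_inl_single {l : ℕ} (f : ℕ → F) (a : D.Idx) (hl : l = D.rank) :
    (((List.range l).map fun i => if i = code D a then f i else 0)).sum =
      match a with
      | Sum.inl i => f i.val
      | Sum.inr _ => 0 := by
  subst hl
  have : ∀ j : ℕ, ((List.range D.rank).map fun i => if i = j then f i else 0).sum =
      if j < D.rank then f j else 0 := by
    intro j
    generalize D.rank = m
    induction m with
    | zero => simp
    | succ m ih =>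
      rw [List.range_succ, List.map_append, List.sum_append, ih]
      simp only [List.map_cons, List.map_nil, List.sum_cons, List.sum_nil, add_zero]
      rcases lt_trichotomy j m with h | h | h
      · rw [if_pos h, if_neg (by omega), add_zero, if_pos (by omega)]
      · subst h; simp
      · rw [if_neg (by omega), if_neg (by omega), zero_add, if_neg (by omega)]
  rcases a with i | u
  · rw [this, if_pos (show code D (Sum.inl i) < D.rank from i.isLt)]; rfl
  · rw [this, if_neg (show ¬ code D (Sum.inr u) < D.rank by simp [code])]

theorem xMat_apply_eq_evalCol (r : Fin D.nroots) (t : F) (a b : D.Idx) :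
    D.xMat F r t a b = evalCol t (colList D r.val (code D b)) (code D a) := by
  rcases b with i | s
  · have hb : code D (Sum.inl i) < D.rank := i.isLt
    rw [colList, if_pos hb]
    rcases a with i' | v
    · simp only [ChevalleyDatum.xMat, Matrix.of_apply, evalCol, code, List.map_cons, List.map_nil,
        List.sum_cons, List.sum_nil, pow_zero, Int.cast_one, mul_one, add_zero]
      have := i'.isLt
      split_ifs <;> simp_all [Fin.ext_iff] <;> omega
    · simp only [ChevalleyDatum.xMat, Matrix.of_apply, evalCol, code, List.map_cons, List.map_nil,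
        List.sum_cons, List.sum_nil, pow_zero, Int.cast_one, mul_one, add_zero]
      have := i.isLt
      split_ifs <;> simp_all [Fin.ext_iff] <;> omega
  · have hb : ¬ code D (Sum.inr s) < D.rank := by simp [code]
    rw [colList, if_neg hb]
    rw [show code D (Sum.inr s) = D.rank + s.val from rfl]
    simp only [ChevalleyDatum.xMat, Matrix.of_apply, Nat.add_left_cancel_iff, Fin.val_inj]
    by_cases h1 : s = r
    · simp only [if_pos h1]
      rcases a with i' | v
      · simp [evalCol, code, h1]
        omega
      · simp [evalCol, code, h1, Fin.val_inj, eq_comm]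
    · simp only [if_neg h1]
      by_cases h2 : s.val = D.negIdx.getD r.val 0
      · simp only [if_pos h2]
        rw [evalCol_cons, evalCol_cons]
        have e : evalCol t ((List.range D.rank).map fun i => (i, 1, (D.coroot.getD r.val #[]).getD i 0)) (code D a) =
            ((List.range D.rank).map fun i => if i = code D a then (((D.coroot.getD r.val #[]).getD i 0 : ℤ) : F) * t else 0).sum := by
          simp [evalCol, Function.comp_def, List.map_map]
        rw [e, sum_inl_single D _ a rfl]
        rcases a with i' | v
        · have := i'.isLt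
          simp only [code]
          split_ifs <;> simp_all [Fin.ext_iff] <;> omega
        · simp only [code, Nat.add_left_cancel_iff, Fin.val_inj]
          by_cases h3 : v = s
          · subst h3
            simp [show r ≠ v from fun h => h1 h.symm]
          · by_cases h4 : v = r
            · subst h4
              simp [h1, show v ≠ s from h3]
            · simp [show r ≠ v from fun h => h4 h.symm, show s ≠ v from fun h => h3 h.symm, h3, h4]
      · simp only [if_neg h2]
        rw [evalCol_cons, Nat.add_sub_cancel_left, evalCol_chainCol]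
        rcases a with i' | v
        · have := i'.isLt
          simp only [code]
          split_ifs <;> simp_all [Fin.ext_iff] <;> omega
        · simp [code, Fin.val_inj, eq_comm]

/-! ### Packed tables -/

/-- binary tree of naturals, read by the bits of the index -/
inductive NTree where
  | leaf (n : ℕ)
  | node (a b : NTree)

/-- lookup in a tree -/
noncomputable def NTree.get (t : NTree) : ℕ → ℕ :=
  NTree.rec (fun n _ => n)
    (fun _ _ ia ib i => bif Nat.beq (i % 2) 0 then ia (i / 2) else ib (i / 2)) t

/-- packed tables of a datum -/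
structure Tab where
  rank : ℕ
  nroots : ℕ
  cart : NTree
  co : NTree
  ch : NTree
  width : ℕ

namespace Tab

variable (T : Tab)

/-- Cartan integer -/
noncomputable def A (i r : ℕ) : ℤ := Int.subNatNat ((T.cart.get i >>> (4 * r)) &&& 15) 8

/-- coroot coefficient -/
noncomputable def C (r i : ℕ) : ℤ := Int.subNatNat ((T.co.get r >>> (4 * i)) &&& 15) 8

/-- decode the chain of `r` through `s` -/
noncomputable def chainTerms (r s : ℕ) : List (ℕ × ℕ × ℤ) :=
  Nat.rec (motive := fun _ => ℕ → ℕ → List (ℕ × ℕ × ℤ)) (fun _ _ => [])
    (fun _ ih k x =>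
      bif Nat.beq x 0 then []
      else (T.rank + ((x &&& 255) - 1), k, Int.subNatNat ((x >>> 8) &&& 7) 4) :: ih (k + 1) (x >>> 11))
    3 1 (((T.ch.get r) >>> (T.width * s)) % (2 ^ T.width))

/-- total dimension -/
noncomputable def dim : ℕ := T.rank + T.nroots

/-- coroot column part -/
noncomputable def coTerms (r : ℕ) : List (ℕ × ℕ × ℤ) :=
  (List.range T.rank).map fun i => (i, 1, T.C r i)

/-- column `j` of `x_r(t)` -/
noncomputable def col (r j : ℕ) : List (ℕ × ℕ × ℤ) :=
  bif Nat.blt j T.rank then [(j, 0, 1), (T.rank + r, 1, - T.A j r)]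
  else bif Nat.beq j (T.rank + r) then [(j, 0, 1)]
  else bif Nat.beq j (T.rank + (T.nroots - 1 - r)) then
    (j, 0, 1) :: (T.rank + r, 2, -1) :: T.coTerms r
  else (j, 0, 1) :: T.chainTerms r (j - T.rank)

/-- `T` is a packed copy of `D` -/
structure Fits (D : ChevalleyDatum) : Prop where
  rank_eq : T.rank = D.rank
  nroots_eq : T.nroots = D.nroots
  neg_eq : ∀ r < D.nroots, D.negIdx.getD r 0 = D.nroots - 1 - r
  cartan_eq : ∀ i < D.rank, ∀ r < D.nroots, (D.cartanSR.getD i #[]).getD r 0 = T.A i r
  coroot_eq : ∀ r < D.nroots, ∀ i < D.rank, (D.coroot.getD r #[]).getD i 0 = T.C r i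
  chain_eq : ∀ r < D.nroots, ∀ s < D.nroots,
    chainCol D s (D.chain.getD r #[]).toList = T.chainTerms r s
  chain_key : ∀ r < D.nroots, ∀ e ∈ (D.chain.getD r #[]).toList,
    e.1 < D.nroots ∧ e.2.size ≠ 0 ∧ ∀ q ∈ e.2.toList, q.1 < D.nroots
  chain_single : ∀ r < D.nroots, ∀ s < D.nroots,
    ((D.chain.getD r #[]).toList.filter fun e => decide (e.1 = s)).length ≤ 1

theorem Fits.dim_eq {T : Tab} {D : ChevalleyDatum} (hT : T.Fits D) : T.dim = CfsgLib.Chev.dim D := by
  rw [Tab.dim, CfsgLib.Chev.dim, hT.rank_eq, hT.nroots_eq]

theorem Fits.col_eq {T : Tab} {D : ChevalleyDatum} (hT : T.Fits D) {r j : ℕ} (hr : r < D.nroots)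
    (hj : j < CfsgLib.Chev.dim D) : T.col r j = colList D r j := by
  have hn := hT.neg_eq r hr
  simp only [Tab.col, colList, hT.rank_eq, hT.nroots_eq, hn]
  simp only [CfsgLib.Chev.dim] at hj
  by_cases h1 : j < D.rank
  · rw [show Nat.blt j D.rank = true from by simpa [Nat.blt_eq] using h1, if_pos h1, cond_true,
      hT.cartan_eq j h1 r hr]
  · rw [show Nat.blt j D.rank = false from by
      rw [Bool.eq_false_iff]; simpa [Nat.blt_eq] using h1, if_neg h1, cond_false]
    by_cases h2 : j = D.rank + r
    · simp [h2]
    · rw [show Nat.beq j (D.rank + r) = false from by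
        rw [Bool.eq_false_iff]; simpa using h2, if_neg h2, cond_false]
      by_cases h3 : j = D.rank + (D.nroots - 1 - r)
      · rw [if_pos h3, show Nat.beq j (D.rank + (D.nroots - 1 - r)) = true from by simpa using h3,
          cond_true, Tab.coTerms, hT.rank_eq]
        congr 2
        refine List.map_congr_left fun i hi => ?_
        rw [hT.coroot_eq r hr i (List.mem_range.1 hi)]
      · rw [if_neg h3, show Nat.beq j (D.rank + (D.nroots - 1 - r)) = false from by
          rw [Bool.eq_false_iff]; simpa using h3, cond_false, hT.chain_eq r hr _ (by omega)]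

end Tab

/-! ### Words -/

/-- a letter: root index and the argument `coef * t^ea * u^eb` -/
structure Letter where
  root : ℕ
  coef : ℤ
  ea : ℤ
  eb : ℤ

/-- the argument of a letter -/
def Letter.arg (t u : F) (x : Letter) : F := (x.coef : F) * t ^ x.ea * u ^ x.eb

/-- apply one root element to a vector -/
noncomputable def applyX (T : Tab) (x : Letter) (L : List Term) : List Term :=
  L.flatMap fun e =>
    bif Nat.blt e.row T.dim then
      (T.col x.root e.row).map fun q =>
        ⟨q.1, e.ea + (q.2.1 : ℤ) * x.ea, e.eb + (q.2.1 : ℤ) * x.eb, e.coef * q.2.2 * x.coef ^ q.2.1⟩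
    else []

/-- evaluate a word in the root elements -/
def evalWord (t u : F) (w : List Letter) : List (ℕ × F) := w.map fun x => (x.root, x.arg t u)

/-- a column of the matrix of a word -/
noncomputable def wordCol (T : Tab) (w : List Letter) (j : ℕ) : List Term :=
  w.foldr (fun x L => tidy (applyX T x L)) [⟨j, 0, 0, 1⟩]

theorem evalTerms_applyX_single {T : Tab} (hT : T.Fits D) {t u : F} (ht : t ≠ 0) (hu : u ≠ 0) (x : Letter)
    (hx : x.root < D.nroots) (e : Term) (a : D.Idx) :
    evalTerms t u (applyX T x [e]) (code D a) =
      ∑ b : D.Idx, D.xMat F ⟨x.root, hx⟩ (x.arg t u) a b * e.val t u (code D b) := by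
  simp only [applyX, List.flatMap_cons, List.flatMap_nil, List.append_nil]
  by_cases h : e.row < dim D
  · obtain ⟨b, hb⟩ := exists_code_eq D h
    rw [show Nat.blt e.row T.dim = true from by simpa [Nat.blt_eq, hT.dim_eq] using h, cond_true,
      hT.col_eq hx h, Finset.sum_eq_single b]
    · rw [xMat_apply_eq_evalCol]
      simp only [Term.val, ← hb, if_true, evalCol, evalTerms, List.map_map, ← List.sum_map_mul_right]
      refine congrArg List.sum (List.map_congr_left fun q _ => ?_)
      simp only [Function.comp, ite_mul, zero_mul]
      split_ifs with hq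
      · simp only [Letter.arg, mul_pow, zpow_add₀ ht, zpow_add₀ hu]
        rw [mul_comm (q.2.1 : ℤ) x.ea, mul_comm (q.2.1 : ℤ) x.eb, zpow_mul, zpow_mul,
          zpow_natCast, zpow_natCast]
        push_cast
        ring
      · rfl
    · intro c _ hc
      rw [Term.val, if_neg, mul_zero]
      rw [← hb]; exact fun h' => hc (code_injective D h').symm
    · simp
  · rw [show Nat.blt e.row T.dim = false from by
      rw [Bool.eq_false_iff]; simpa [Nat.blt_eq, hT.dim_eq] using h, cond_false, evalTerms_nil]
    symm
    refine Finset.sum_eq_zero fun b _ => ?_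
    rw [Term.val, if_neg, mul_zero]
    intro h'; exact h (h' ▸ code_lt D b)

theorem evalTerms_applyX {T : Tab} (hT : T.Fits D) {t u : F} (ht : t ≠ 0) (hu : u ≠ 0) (x : Letter)
    (hx : x.root < D.nroots) (L : List Term) (a : D.Idx) :
    evalTerms t u (applyX T x L) (code D a) =
      ∑ b : D.Idx, D.xMat F ⟨x.root, hx⟩ (x.arg t u) a b * evalTerms t u L (code D b) := by
  induction L with
  | nil => simp [applyX, evalTerms]
  | cons e L ih =>
    have : applyX T x (e :: L) = applyX T x [e] ++ applyX T x L := by simp [applyX]
    rw [this, evalTerms_append, ih, evalTerms_applyX_single D hT ht hu x hx e a,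
      ← Finset.sum_add_distrib]
    exact Finset.sum_congr rfl fun b _ => by rw [evalTerms_cons]; ring

theorem evalTerms_wordCol {T : Tab} (hT : T.Fits D) {t u : F} (ht : t ≠ 0) (hu : u ≠ 0) (w : List Letter)
    (hw : ∀ x ∈ w, x.root < D.nroots) (a b : D.Idx) :
    evalTerms t u (wordCol T w (code D b)) (code D a) =
      D.wordMat F (evalWord t u w) a b := by
  induction w generalizing a with
  | nil =>
    simp only [wordCol, List.foldr_nil, evalTerms, List.map_cons, List.map_nil, List.sum_cons,
      List.sum_nil, add_zero, Term.val, evalWord, ChevalleyDatum.wordMat, List.prod_nil,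
      Matrix.one_apply, (code_injective D).eq_iff, eq_comm]
    simp
  | cons x w ih =>
    have hx : x.root < D.nroots := hw x (by simp)
    rw [show wordCol T (x :: w) (code D b) = tidy (applyX T x (wordCol T w (code D b))) from rfl,
      evalTerms_tidy, evalTerms_applyX D hT ht hu x hx]
    simp only [evalWord, ChevalleyDatum.wordMat, List.map_cons, List.prod_cons, Matrix.mul_apply]
    refine Finset.sum_congr rfl fun c _ => ?_
    rw [ih (fun y hy => hw y (by simp [hy])) c]
    simp [ChevalleyDatum.x, dif_pos hx, evalWord, ChevalleyDatum.wordMat]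

/-- Two words have the same matrix as soon as their columns agree symbolically. -/
theorem wordMat_eq_of_sameTerms {T : Tab} (hT : T.Fits D) {t u : F} (ht : t ≠ 0) (hu : u ≠ 0) {v w : List Letter}
    (hv : ∀ x ∈ v, x.root < D.nroots) (hw : ∀ x ∈ w, x.root < D.nroots)
    (h : ∀ j < dim D, sameTerms (wordCol T v j) (wordCol T w j) = true) :
    D.wordMat F (evalWord t u v) = D.wordMat F (evalWord t u w) := by
  ext a b
  rw [← evalTerms_wordCol D hT ht hu v hv, ← evalTerms_wordCol D hT ht hu w hw]
  exact evalTerms_eq_of_sameTerms t u (h _ (code_lt D b)) _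

end CfsgLib.Chev
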