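import Cfsg.Agent.Chev.Steinberg

/-!
The number of elements of prime power order in a parabolic subgroup (Steinberg's count).
-/

set_option autoImplicit false

namespace CfsgLib.Chev

open Cfsg.Lie

variable {K : Data} {D : ChevalleyDatum} {F : Type*} [Field F]

/-- the elements of `p`-power order in a parabolic subgroup -/
def uniIn (D : ChevalleyDatum) (F : Type*) [Field F] (p : ℕ) (J : Set ℕ) : Set ↥(D.group F) :=
  {g | (g : GL D.Idx F) ∈ D.parabolicSubgroup F J ∧ ∃ k, orderOf g = p ^ k}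

namespace Comb

variable [Fintype F]

theorem parCnt_conj (hC : Comb K D) {I J : Set ℕ}
    (hIJ : D.parabolicSubgroup F I ≤ D.parabolicSubgroup F J) (c g : ↥(D.group F))
    (hc : (c : GL D.Idx F) ∈ D.parabolicSubgroup F J) :
    parCnt D F I J (c * g * c⁻¹) = parCnt D F I J g := by
  have hP := Subgroup.comap_mono (f := (D.group F).subtype) hIJ
  have hc' : c ∈ (D.parabolicSubgroup F J).subgroupOf (D.group F) := Subgroup.mem_subgroupOf.2 hc
  symm
  unfold parCnt
  refine Nat.card_congr ((MulAction.toPerm c).subtypeEquiv fun x => ?_)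
  show _ ↔ (c * g * c⁻¹) • c • x = c • x ∧ _
  rw [← mul_smul (c * g * c⁻¹), inv_mul_cancel_right, mul_smul, smul_left_cancel_iff]
  refine and_congr_right fun _ => ?_
  obtain ⟨a, rfl⟩ := QuotientGroup.mk_surjective x
  show _ ↔ (MulAction.toPerm c (QuotientGroup.mk a) :
    ↥(D.group F) ⧸ (D.parabolicSubgroup F I).subgroupOf (D.group F)).out ∈ _
  rw [show (MulAction.toPerm c (QuotientGroup.mk a) :
    ↥(D.group F) ⧸ (D.parabolicSubgroup F I).subgroupOf (D.group F)) = QuotientGroup.mk (c * a) from rfl]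
  refine (out_mem_iff (P := (D.parabolicSubgroup F J).subgroupOf (D.group F)) hP a).trans ?_
  refine Iff.trans ?_ (out_mem_iff (P := (D.parabolicSubgroup F J).subgroupOf (D.group F)) hP (c * a)).symm
  exact (Subgroup.mul_mem_cancel_left _ hc').symm

theorem cellCnt_one (hC : Comb K D) (τ : weylGrp hC.fine) :
    cellCnt hC.fine F τ 1 = Fintype.card F ^ (invSet K D τ.val).ncard := by
  unfold cellCnt
  rw [Nat.card_congr (Equiv.subtypeUnivEquiv fun u => by
      rw [mul_one, inv_mul_cancel]; exact Subgroup.one_mem _),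
    hC.card_cell (Subgroup.inv_mem _ τ.2), hC.ncard_invSet_inv τ.2]

theorem parCnt_one (hC : Comb K D) {R I : Finset ℕ} (hI : I ⊆ R) (hR : ∀ i ∈ R, i < D.rank) :
    parCnt D F (↑I : Set ℕ) (↑R : Set ℕ) 1 =
      ∑ τ ∈ (hC.subW (↑R : Set ℕ)).filter (fun τ => I ⊆ ascSet hC.fine τ.val R),
        Fintype.card F ^ (invSet K D τ.val).ncard := by
  rw [hC.parCnt_borel hI hR 1 (Subgroup.one_mem _)]
  exact Finset.sum_congr rfl fun τ _ => by rw [OneMemClass.coe_one, hC.cellCnt_one]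

/-- summing one maximal coset representative per coset -/
theorem sum_minRep_mul (hC : Comb K D) {R I : Finset ℕ} (hI : I ⊆ R) (hR : ∀ i ∈ R, i < D.rank)
    (q : ℤ) :
    (∑ τ ∈ (hC.subW (↑R : Set ℕ)).filter (fun τ => I ⊆ ascSet hC.fine τ.val R),
        q ^ (invSet K D τ.val).ncard) * q ^ (subPos K D (↑I : Set ℕ)).ncard =
      ∑ σ ∈ (hC.subW (↑R : Set ℕ)).filter (fun σ => I ⊆ R \ ascSet hC.fine σ.val R),
        q ^ (invSet K D σ.val).ncard := by
  classical
  obtain ⟨v, hv, hmax⟩ := hC.exists_maxRep (↑I : Set ℕ)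
  have hle : weylSub hC.fine (↑I : Set ℕ) ≤ weylSub hC.fine (↑R : Set ℕ) :=
    Subgroup.closure_mono fun _ ⟨i, hi, e⟩ => ⟨i, Finset.coe_subset.2 hI hi, e⟩
  let v₀ : weylGrp hC.fine := ⟨v, hC.weylSub_le _ hv⟩
  have hdesc : ∀ σ : weylGrp hC.fine,
      I ⊆ R \ ascSet hC.fine σ.val R ↔ MaxRep hC.fine (↑I : Set ℕ) σ.val := by
    intro σ
    constructor
    · intro h i hi
      have h' := (Finset.mem_sdiff.1 (h hi)).2
      by_contra hcon
      refine h' (Finset.mem_filter.2 ⟨hI hi, ?_⟩)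
      rw [show K.p i.val = ((pFin hC.fine i : Fin D.nroots) : ℕ) from rfl, permNat_fin]
      exact Nat.le_of_not_lt hcon
    · intro h i hi
      refine Finset.mem_sdiff.2 ⟨hI hi, fun hmem => ?_⟩
      have h1 := (Finset.mem_filter.1 hmem).2
      have h2 := h ⟨i, hR i (hI hi)⟩ hi
      rw [show K.p i = ((pFin hC.fine ⟨i, hR i (hI hi)⟩ : Fin D.nroots) : ℕ) from rfl, permNat_fin] at h1
      omega
  rw [Finset.sum_mul]
  refine Finset.sum_nbij' (fun τ => τ * v₀) (fun σ => σ * v₀⁻¹) ?_ ?_ (fun τ _ => mul_inv_cancel_right τ v₀)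
    (fun σ _ => inv_mul_cancel_right σ v₀) ?_
  · intro τ hτ
    rw [Finset.mem_filter] at hτ ⊢
    rw [hC.mem_subW, hC.ascSet_minRep hI hR] at hτ
    rw [hC.mem_subW, hdesc]
    refine ⟨Subgroup.mul_mem _ hτ.1 (hle hv), fun i hi => ?_⟩
    show ((τ.val * v) (pFin hC.fine i)).val < K.npos
    rw [Equiv.Perm.mul_apply]
    set w := v (pFin hC.fine i)
    have h1 : K.neg w.val ∈ subPos K D (↑I : Set ℕ) :=
      ⟨⟨(hC.neg_lt_iff w.isLt).2.2 (hmax i hi), hC.fine.toGood.Kneg_lt w.isLt⟩,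
        (hC.inRootSub_neg w.isLt).2 ((hC.weylSub_inRootSub hv _).2 ((hC.inRootSub_p i.isLt).2 hi))⟩
    have h2 := MinRep.pos hC τ.2 hτ.2 _ h1
    rw [hC.permNat_neg τ.2 w.isLt, permNat_fin, (hC.neg_lt_iff (τ.val w).isLt).2] at h2
    exact h2
  · intro σ hσ
    rw [Finset.mem_filter] at hσ ⊢
    rw [hC.mem_subW, hdesc] at hσ
    rw [hC.mem_subW, hC.ascSet_minRep hI hR]
    refine ⟨Subgroup.mul_mem _ hσ.1 (Subgroup.inv_mem _ (hle hv)), fun i hi => ?_⟩
    show K.npos ≤ ((σ.val * v⁻¹) (pFin hC.fine i)).val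
    rw [Equiv.Perm.mul_apply]
    set w := v⁻¹ (pFin hC.fine i)
    have hp : (pFin hC.fine i).val ∈ subPos K D (↑I : Set ℕ) :=
      ⟨⟨hC.fine.toGood.npos_le_p i.isLt, hC.fine.toGood.p_lt i.isLt⟩, (hC.inRootSub_p i.isLt).2 hi⟩
    have hw : w.val < K.npos := by
      have h := ((hC.invSet_maxRep_inv hv hmax).1.ge hp).2
      rwa [permNat_fin] at h
    have h1 : K.neg w.val ∈ subPos K D (↑I : Set ℕ) :=
      ⟨⟨(hC.neg_lt_iff w.isLt).2.2 hw, hC.fine.toGood.Kneg_lt w.isLt⟩,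
        (hC.inRootSub_neg w.isLt).2
          ((hC.weylSub_inRootSub (Subgroup.inv_mem _ hv) _).2 ((hC.inRootSub_p i.isLt).2 hi))⟩
    have h2 := MaxRep.neg hC σ.2 hσ.2 _ h1
    rw [hC.permNat_neg σ.2 w.isLt, permNat_fin, (hC.neg_lt_iff (σ.val w).isLt).1] at h2
    exact h2
  · intro τ hτ
    simp only [Finset.mem_filter] at hτ
    rw [hC.mem_subW, hC.ascSet_minRep hI hR] at hτ
    show _ = q ^ (invSet K D (τ.val * v)).ncard
    rw [hC.invSet_mul τ.2 hτ.2 hv, hC.invSet_maxRep hv hmax, pow_add, mul_comm]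

theorem alt_index (hC : Comb K D) {R : Finset ℕ} (hR : ∀ i ∈ R, i < D.rank) :
    ∑ I ∈ R.powerset, (-1 : ℤ) ^ I.card * ((parCnt D F (↑I : Set ℕ) (↑R : Set ℕ) 1 : ℤ) *
      (Fintype.card F : ℤ) ^ (subPos K D (↑I : Set ℕ)).ncard) = 1 := by
  classical
  rw [Finset.sum_congr rfl fun I hI => by
    rw [hC.parCnt_one (Finset.mem_powerset.1 hI) hR, Nat.cast_sum,
      Finset.sum_congr rfl fun τ _ => Nat.cast_pow _ _, hC.sum_minRep_mul (Finset.mem_powerset.1 hI) hR]]
  rw [alt_sum_subsets (hC.subW (↑R : Set ℕ)) (fun w => R \ ascSet hC.fine w.val R) R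
    (fun w _ => Finset.sdiff_subset) (fun w => (Fintype.card F : ℤ) ^ (invSet K D w.val).ncard)]
  have hone : invSet K D ((1 : weylGrp hC.fine) : Equiv.Perm (Fin D.nroots)) = ∅ :=
    (hC.fine.invSet_eq_empty_iff (Subgroup.one_mem _)).2 rfl
  rw [Finset.sum_eq_single_of_mem (1 : weylGrp hC.fine), hone, Set.ncard_empty, pow_zero]
  · rw [Finset.mem_filter, hC.mem_subW, Finset.sdiff_eq_empty_iff_subset,
      hC.ascSet_minRep (Finset.Subset.refl R) hR]
    refine ⟨Subgroup.one_mem _, fun i _ => ?_⟩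
    exact hC.fine.toGood.npos_le_p i.isLt
  · intro w hw hne
    rw [Finset.mem_filter, hC.mem_subW, Finset.sdiff_eq_empty_iff_subset,
      hC.ascSet_minRep (Finset.Subset.refl R) hR] at hw
    refine absurd (Subtype.ext ?_) hne
    exact hC.minRep_unique (Subgroup.one_mem _)
      (fun i _ => hC.fine.toGood.npos_le_p i.isLt) hw.2 hw.1 (one_mul _).symm

section PGroup

variable (p : ℕ) [Fact p.Prime] [CharP F p]

theorem exists_conj_parabolic (hC : Comb K D) (J : Set ℕ) (g : ↥(D.group F)) (hg : g ∈ uniIn D F p J) :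
    ∃ c : ↥(D.group F), (c : GL D.Idx F) ∈ D.parabolicSubgroup F J ∧
      ((c * g * c⁻¹ : ↥(D.group F)) : GL D.Idx F) ∈ D.posUnipotent F := by
  classical
  obtain ⟨hgP, k, hk⟩ := hg
  set Pj := (D.parabolicSubgroup F J).subgroupOf (D.group F)
  set Q := ((D.posUnipotent F).subgroupOf (D.group F)).subgroupOf Pj
  have hle : (D.posUnipotent F).subgroupOf (D.group F) ≤ Pj := Subgroup.comap_mono (hC.pos_le_parabolic J)
  have hndvd : ¬ p ∣ Q.index := fun h => hC.fine.not_dvd_index_pos (F := F) p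
    (h.trans (Subgroup.relIndex_dvd_index_of_le hle))
  let g₀ : Pj := ⟨g, Subgroup.mem_subgroupOf.2 hgP⟩
  have hP : IsPGroup p (Subgroup.zpowers g₀) := IsPGroup.of_card (n := k) (by
    rw [Nat.card_zpowers, ← hk]
    exact (Subgroup.orderOf_coe g₀).symm)
  haveI : Finite (Pj ⧸ Q) := inferInstance
  obtain ⟨x, hx⟩ := hP.nonempty_fixed_point_of_prime_not_dvd_card (Pj ⧸ Q)
    (by rw [← Subgroup.index_eq_card]; exact hndvd)
  obtain ⟨a, rfl⟩ := QuotientGroup.mk_surjective x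
  have ha : a⁻¹ * g₀ * a ∈ Q := (smul_mk_eq_iff g₀ a).1 (hx ⟨g₀, Subgroup.mem_zpowers g₀⟩)
  refine ⟨(a : ↥(D.group F))⁻¹, Subgroup.inv_mem _ (Subgroup.mem_subgroupOf.1 a.2), ?_⟩
  rw [inv_inv]
  exact Subgroup.mem_subgroupOf.1 (Subgroup.mem_subgroupOf.1 ha)

theorem radical_le_uni (hC : Comb K D) (J : Set ℕ) (g : ↥(D.group F))
    (hg : (g : GL D.Idx F) ∈ D.unipotentRadical F J) : g ∈ uniIn D F p J := by
  rw [hC.unipotentRadical_eq] at hg
  have hU : (g : GL D.Idx F) ∈ D.posUnipotent F := by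
    rw [hC.fine.posUnipotent_eq]
    exact hC.fine.genU_mono (fun r hr => hr.1) hg
  refine ⟨hC.pos_le_parabolic J hU, ?_⟩
  obtain ⟨k, hk⟩ := IsPGroup.iff_orderOf.1 (hC.fine.posSylow F p).isPGroup' ⟨g, hU⟩
  exact ⟨k, (Subgroup.orderOf_coe (⟨g, hU⟩ :
    (hC.fine.posSylow F p : Subgroup ↥(D.group F)))).trans hk⟩

theorem chi_unipotent (hC : Comb K D) {R : Finset ℕ} (hR : ∀ i ∈ R, i < D.rank) (g : ↥(D.group F))
    (hg : g ∈ uniIn D F p (↑R : Set ℕ)) :
    ((g : GL D.Idx F) ∈ D.unipotentRadical F (↑R : Set ℕ) →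
      ∑ I ∈ R.powerset, (-1 : ℤ) ^ I.card * (parCnt D F (↑I : Set ℕ) (↑R : Set ℕ) g : ℤ) =
        (Fintype.card F : ℤ) ^ (subPos K D (↑R : Set ℕ)).ncard) ∧
    ((g : GL D.Idx F) ∉ D.unipotentRadical F (↑R : Set ℕ) →
      ∑ I ∈ R.powerset, (-1 : ℤ) ^ I.card * (parCnt D F (↑I : Set ℕ) (↑R : Set ℕ) g : ℤ) = 0) := by
  classical
  obtain ⟨c, hc, hU⟩ := hC.exists_conj_parabolic p _ g hg
  have e : ∀ I ∈ R.powerset, (-1 : ℤ) ^ I.card * (parCnt D F (↑I : Set ℕ) (↑R : Set ℕ) g : ℤ) =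
      (-1 : ℤ) ^ I.card * (parCnt D F (↑I : Set ℕ) (↑R : Set ℕ) (c * g * c⁻¹) : ℤ) := fun I hI => by
    rw [hC.parCnt_conj (hC.parabolic_mono (Finset.coe_subset.2 (Finset.mem_powerset.1 hI))) c g hc]
  obtain ⟨w, hw, hmax, hsum⟩ := hC.alt_parCnt (C := ℤ) hR (c * g * c⁻¹) (Subgroup.mem_sup_left hU)
  rw [Finset.sum_congr rfl e, hsum]
  obtain ⟨h1, h2⟩ := hC.cellCnt_maxRep w hw hmax hU
  have hn : ((c * g * c⁻¹ : ↥(D.group F)) : GL D.Idx F) ∈ D.unipotentRadical F (↑R : Set ℕ) ↔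
      (g : GL D.Idx F) ∈ D.unipotentRadical F (↑R : Set ℕ) := by
    simp only [Subgroup.coe_mul, InvMemClass.coe_inv]
    exact ((Subgroup.mem_normalizer_iff.1 (hC.parabolic_le_normalizer _ hc)) _).symm
  exact ⟨fun h => by rw [h1 (hn.2 h), Nat.cast_pow], fun h => by rw [h2 (fun h' => h (hn.1 h')), Nat.cast_zero]⟩

theorem sum_parCnt (hC : Comb K D) [Fintype ↥(D.group F)] {I J : Set ℕ}
    (hIJ : D.parabolicSubgroup F I ≤ D.parabolicSubgroup F J) [DecidablePred (· ∈ uniIn D F p J)] :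
    ∑ g ∈ Finset.univ.filter (· ∈ uniIn D F p J), parCnt D F I J g =
      parCnt D F I J 1 * Nat.card (uniIn D F p I) := by
  classical
  set PI := (D.parabolicSubgroup F I).subgroupOf (D.group F)
  set PJ := (D.parabolicSubgroup F J).subgroupOf (D.group F)
  let S := {x : ↥(D.group F) ⧸ PI // x.out ∈ PJ}
  have hS : parCnt D F I J 1 = Nat.card S :=
    Nat.card_congr (Equiv.subtypeEquivRight fun x => ⟨fun h => h.2, fun h => ⟨one_smul _ _, h⟩⟩)
  have hconj : ∀ (a : ↥(D.group F)), a ∈ PJ → ∀ g, (a * g * a⁻¹ ∈ uniIn D F p J ↔ g ∈ uniIn D F p J) := by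
    intro a ha g
    have ho : orderOf (a * g * a⁻¹) = orderOf g := MulEquiv.orderOf_eq (MulAut.conj a) g
    unfold uniIn
    simp only [Set.mem_ofPred_eq, ho, Subgroup.coe_mul, InvMemClass.coe_inv]
    refine and_congr_left fun _ => ?_
    rw [Subgroup.mul_mem_cancel_right _ (Subgroup.inv_mem _ (Subgroup.mem_subgroupOf.1 ha)),
      Subgroup.mul_mem_cancel_left _ (Subgroup.mem_subgroupOf.1 ha)]
  let f : {q : ↥(D.group F) × S // q.1 ∈ uniIn D F p J ∧ q.1 • q.2.val = q.2.val} →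
      S × ↥(uniIn D F p I) := fun q =>
    (q.val.2, ⟨q.val.2.val.out⁻¹ * q.val.1 * q.val.2.val.out, by
      have hfix := q.2.2
      rw [← QuotientGroup.out_eq' q.val.2.val, smul_mk_eq_iff] at hfix
      refine ⟨Subgroup.mem_subgroupOf.1 hfix, ?_⟩
      obtain ⟨k, hk⟩ := q.2.1.2
      exact ⟨k, hk ▸ by
        simpa using MulEquiv.orderOf_eq (MulAut.conj q.val.2.val.out⁻¹) q.val.1⟩⟩)
  have hf : Function.Bijective f := by
    constructor
    · rintro ⟨⟨g, x⟩, h⟩ ⟨⟨g', x'⟩, h'⟩ e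
      obtain rfl : x = x' := congrArg Prod.fst e
      have e2 := congrArg Prod.snd e
      have e3 := congrArg Subtype.val e2
      obtain rfl : g = g' := mul_left_cancel (mul_right_cancel e3)
      rfl
    · rintro ⟨x, ⟨u, hu, k, hk⟩⟩
      refine ⟨⟨(x.val.out * u * x.val.out⁻¹, x), ?_, ?_⟩, ?_⟩
      · exact (hconj _ x.2 u).2 ⟨hIJ hu, k, hk⟩
      · show (x.val.out * u * x.val.out⁻¹) • x.val = x.val
        have h' := (smul_mk_eq_iff (H := PI) (x.val.out * u * x.val.out⁻¹) x.val.out).2 (by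
          rw [show x.val.out⁻¹ * (x.val.out * u * x.val.out⁻¹) * x.val.out = u by group]
          exact Subgroup.mem_subgroupOf.2 hu)
        rwa [QuotientGroup.out_eq'] at h' 
      · refine Prod.ext rfl (Subtype.ext ?_)
        show x.val.out⁻¹ * (x.val.out * u * x.val.out⁻¹) * x.val.out = u
        group
  rw [hS, ← Nat.card_prod, ← Nat.card_congr (Equiv.ofBijective f hf)]
  rw [Finset.sum_subtype (p := (· ∈ uniIn D F p J)) (Finset.univ.filter (· ∈ uniIn D F p J))
    (by simp) (fun g => parCnt D F I J g)]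
  unfold parCnt
  rw [← Nat.card_sigma]
  exact Nat.card_congr
    { toFun := fun y => ⟨(y.1.val, ⟨y.2.val, y.2.2.2⟩), y.1.2, y.2.2.1⟩
      invFun := fun q => ⟨⟨q.val.1, q.2.1⟩, ⟨q.val.2.val, q.2.2, q.val.2.2⟩⟩
      left_inv := fun y => rfl
      right_inv := fun q => rfl }

theorem card_uniIn (hC : Comb K D) : ∀ (n : ℕ) (R : Finset ℕ), R.card = n → (∀ i ∈ R, i < D.rank) →
    (Nat.card (uniIn D F p (↑R : Set ℕ)) : ℤ) =
      (Fintype.card F : ℤ) ^ (D.nroots / 2 + (subPos K D (↑R : Set ℕ)).ncard) := by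
  classical
  haveI : Fintype ↥(D.group F) := Fintype.ofFinite _
  intro n
  induction n using Nat.strong_induction_on with
  | _ n ih =>
    intro R hn hR
    set q : ℤ := (Fintype.card F : ℤ) with hq
    set N := D.nroots / 2 with hN
    set c : Finset ℕ → ℤ := fun I => (parCnt D F (↑I : Set ℕ) (↑R : Set ℕ) 1 : ℤ) with hc
    have hsum : ∑ I ∈ R.powerset, (-1 : ℤ) ^ I.card * (c I * (Nat.card (uniIn D F p (↑I : Set ℕ)) : ℤ)) =
        q ^ N := by
      have h1 : ∀ I ∈ R.powerset, (-1 : ℤ) ^ I.card * (c I * (Nat.card (uniIn D F p (↑I : Set ℕ)) : ℤ)) =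
          ∑ g ∈ Finset.univ.filter (· ∈ uniIn D F p (↑R : Set ℕ)),
            (-1 : ℤ) ^ I.card * (parCnt D F (↑I : Set ℕ) (↑R : Set ℕ) g : ℤ) := fun I hI => by
        rw [← Finset.mul_sum, ← Nat.cast_sum,
          hC.sum_parCnt p (hC.parabolic_mono (Finset.coe_subset.2 (Finset.mem_powerset.1 hI))),
          Nat.cast_mul]
      rw [Finset.sum_congr rfl h1, Finset.sum_comm]
      have h2 : ∀ g ∈ Finset.univ.filter (· ∈ uniIn D F p (↑R : Set ℕ)),
          ∑ I ∈ R.powerset, (-1 : ℤ) ^ I.card * (parCnt D F (↑I : Set ℕ) (↑R : Set ℕ) g : ℤ) =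
            (if (g : GL D.Idx F) ∈ D.unipotentRadical F (↑R : Set ℕ)
              then q ^ (subPos K D (↑R : Set ℕ)).ncard else 0) := fun g hg => by
        obtain ⟨a, b⟩ := hC.chi_unipotent p hR g (Finset.mem_filter.1 hg).2
        split_ifs with h
        · exact a h
        · exact b h
      rw [Finset.sum_congr rfl h2]
      rw [← Finset.sum_filter, Finset.sum_const, nsmul_eq_mul]
      have hcard : ((Finset.univ.filter (· ∈ uniIn D F p (↑R : Set ℕ))).filter
          (fun g : ↥(D.group F) => (g : GL D.Idx F) ∈ D.unipotentRadical F (↑R : Set ℕ))).card =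
            Fintype.card F ^ (outSet K D (↑R : Set ℕ)).ncard := by
        rw [Finset.filter_filter, Finset.filter_congr (fun g _ => ⟨fun h => h.2,
          fun h => ⟨hC.radical_le_uni p _ g h, h⟩⟩), ← Fintype.card_subtype, ← Nat.card_eq_fintype_card]
        rw [← Nat.card_coe_set_eq, ← hC.fine.card_genU (F := F) (hC.closedPos_outSet _),
          ← hC.unipotentRadical_eq]
        have hle : D.unipotentRadical F (↑R : Set ℕ) ≤ D.group F := by
          rw [hC.unipotentRadical_eq]; exact hC.fine.genU_le_group _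
        exact Nat.card_congr (Subgroup.subgroupOfEquivOfLe hle).toEquiv
      rw [hcard, Nat.cast_pow, ← pow_add, add_comm, hC.ncard_subPos_add]
    have halt : ∑ I ∈ R.powerset, (-1 : ℤ) ^ I.card * (c I * q ^ (N + (subPos K D (↑I : Set ℕ)).ncard)) =
        q ^ N := by
      have h := congrArg (fun z => q ^ N * z) (hC.alt_index (F := F) hR)
      simp only [Finset.mul_sum, mul_one] at h
      refine Eq.trans (Finset.sum_congr rfl fun I _ => ?_) h
      rw [pow_add, hc, hq]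
      ring
    have hR1 : c R = 1 := by
      have e : (hC.subW (↑R : Set ℕ)).filter (fun τ => R ⊆ ascSet hC.fine τ.val R) = {1} := by
        ext τ
        rw [Finset.mem_filter, hC.mem_subW, Finset.mem_singleton,
          hC.ascSet_minRep (Finset.Subset.refl R) hR]
        refine ⟨fun h => Subtype.ext ?_, fun h => h ▸ ⟨Subgroup.one_mem _,
          fun i _ => hC.fine.toGood.npos_le_p i.isLt⟩⟩
        exact hC.minRep_unique (Subgroup.one_mem _)
          (fun i _ => hC.fine.toGood.npos_le_p i.isLt) h.2 h.1 (one_mul _).symm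
      simp only [hc]
      rw [hC.parCnt_one (Finset.Subset.refl R) hR, e, Finset.sum_singleton,
        show invSet K D ((1 : weylGrp hC.fine) : Equiv.Perm (Fin D.nroots)) = ∅ from
          (hC.fine.invSet_eq_empty_iff (Subgroup.one_mem _)).2 rfl, Set.ncard_empty, pow_zero,
        Nat.cast_one]
    have hRmem : R ∈ R.powerset := Finset.mem_powerset_self R
    rw [← Finset.add_sum_erase _ _ hRmem] at hsum halt
    have hrest : ∀ I ∈ R.powerset.erase R,
        (-1 : ℤ) ^ I.card * (c I * (Nat.card (uniIn D F p (↑I : Set ℕ)) : ℤ)) =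
          (-1 : ℤ) ^ I.card * (c I * q ^ (N + (subPos K D (↑I : Set ℕ)).ncard)) := fun I hI => by
      obtain ⟨hne, hsub⟩ := Finset.mem_erase.1 hI
      rw [Finset.mem_powerset] at hsub
      rw [ih I.card (hn ▸ Finset.card_lt_card (Finset.ssubset_iff_subset_ne.2 ⟨hsub, hne⟩)) I rfl
        (fun i hi => hR i (hsub hi))]
    rw [Finset.sum_congr rfl hrest, ← halt, add_left_inj, hR1, one_mul, one_mul] at hsum
    exact mul_left_cancel₀ (pow_ne_zero _ (by norm_num)) hsum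

theorem card_unipotent (hC : Comb K D) :
    Nat.card {g : ↥(D.group F) // ∃ k : ℕ, orderOf g = p ^ k} =
      Fintype.card F ^ (2 * (D.nroots / 2)) := by
  classical
  have h := hC.card_uniIn (F := F) p _ (Finset.range D.rank) rfl (fun i hi => Finset.mem_range.1 hi)
  rw [hC.subPos_univ (fun i => Finset.mem_coe.2 (Finset.mem_range.2 i.isLt)), ← two_mul] at h
  have e : {g : ↥(D.group F) | ∃ k : ℕ, orderOf g = p ^ k} =
      uniIn D F p (↑(Finset.range D.rank) : Set ℕ) := by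
    ext g
    refine ⟨fun hg => ⟨?_, hg⟩, fun hg => hg.2⟩
    obtain ⟨τ, u, h1, h2, h3⟩ := hC.cell_exists (↑(Finset.range D.rank) : Set ℕ) g.2
    have hn : nOf hC.fine F τ ∈ D.parabolicSubgroup F (↑(Finset.range D.rank) : Set ℕ) :=
      (hC.nOf_mem_parabolic_iff _ τ).2 (by
        rw [hC.weylSub_top fun i => Finset.mem_coe.2 (Finset.mem_range.2 i.isLt)]; exact τ.2)
    have := Subgroup.mul_mem _ (Subgroup.mul_mem _
      (hC.pos_le_parabolic (↑(Finset.range D.rank) : Set ℕ) (hC.fine.invSet_le_pos _ h2)) hn) h3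
    rwa [mul_inv_cancel_left] at this
  have h' : Nat.card (uniIn D F p (↑(Finset.range D.rank) : Set ℕ)) =
      Fintype.card F ^ (2 * (D.nroots / 2)) := by exact_mod_cast h
  rw [← h', ← e]
  rfl

end PGroup

end Comb

end CfsgLib.Chev
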