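import Cfsg.Agent.Chev.Steinberg
import Cfsg.Agent.Char.Perm
import Cfsg.Agent.Char.Orth

/-!
The Steinberg character has norm one: parabolic orbits on parabolic cosets correspond to double coset
representatives of minimal length.
-/

set_option autoImplicit false

namespace CfsgLib.Chev

open Cfsg.Lie
open scoped ComplexConjugate

variable {K : Data} {D : ChevalleyDatum} {F : Type*} [Field F]

/-- minimal in a double coset of the Weyl groups of `J` and `I` -/
def DblRep (hK : Fine K D) (J I : Set ℕ) (σ : Equiv.Perm (Fin D.nroots)) : Prop :=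
  MinRep hK J σ⁻¹ ∧ MinRep hK I σ

namespace Comb

theorem exists_cFun_perm (hC : Comb K D) : ∀ (L : List (Fin D.rank)) (c : Fin D.rank → ℤ),
    ∃ c' : Fin D.rank → ℤ, ∀ v, v < D.nroots →
      cFun K c (permNat (wPerm hC.fine L) v) = cFun K c' v := by
  intro L
  induction L with
  | nil => exact fun c => ⟨c, fun v hv => by simp [wPerm, permNat, hv]⟩
  | cons i L ih =>
    intro c
    obtain ⟨c', hc'⟩ := ih (fun k => c k - if k = i then cFun K c (K.p i.val) else 0)
    refine ⟨c', fun v hv => ?_⟩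
    rw [hC.fine.wPerm_cons, permNat_comp _ _ hv,
      show permNat (sPerm hC.fine i) (permNat (wPerm hC.fine L) v) =
        (sPerm hC.fine i ⟨permNat (wPerm hC.fine L) v, permNat_lt hv⟩).val from permNat_fin _ ⟨_, permNat_lt hv⟩,
      sPerm_val, hC.cFun_w c i.isLt (permNat_lt hv), ← hc' v hv]
    unfold cFun
    simp only [sub_mul, ite_mul, zero_mul, Finset.sum_sub_distrib, Finset.sum_ite_eq', Finset.mem_univ,
      if_true]
    ring

/-- the orbit of a functional meets the dominant cone once -/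
theorem dominant_unique (hC : Comb K D) {J : Set ℕ} {c : Fin D.rank → ℤ}
    (hd : ∀ i : Fin D.rank, i.val ∈ J → 0 ≤ cFun K c (K.p i.val)) {d : Fin D.rank → ℤ}
    (hd' : ∀ i : Fin D.rank, i.val ∈ J → 0 ≤ cFun K d (K.p i.val)) :
    ∀ (n : ℕ) (a : Equiv.Perm (Fin D.nroots)), a ∈ weylSub hC.fine J → (invSet K D a).ncard = n →
      (∀ v, v < D.nroots → cFun K c (permNat a v) = cFun K d v) →
        ∀ v, v < D.nroots → cFun K c v = cFun K d v := by
  intro n
  induction n using Nat.strong_induction_on with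
  | _ n ih =>
    intro a ha hn heq v hv
    have haW := hC.weylSub_le J ha
    by_cases h1 : a = 1
    · have := heq v hv
      rwa [h1, show permNat (1 : Equiv.Perm (Fin D.nroots)) v = v by simp [permNat, hv]] at this
    obtain ⟨L, rfl⟩ := hC.fine.mem_weylGrp_iff.1 haW
    obtain ⟨j, hj⟩ := hC.fine.exists_descent L.length L le_rfl h1
    have hjJ : j.val ∈ J := hC.descent_mem (hC.weylSub_outSet ha) hj
    set w := wPerm hC.fine L (pFin hC.fine j)
    have hin : D.InRootSub J w.val :=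
      (hC.weylSub_inRootSub ha (pFin hC.fine j)).2 ((hC.inRootSub_p j.isLt).2 hjJ)
    have hneg : ∀ r, r ∈ subPos K D J → 0 ≤ cFun K c r := by
      intro r
      induction r using Nat.strong_induction_on with
      | _ r ihr =>
        rintro ⟨⟨r1, r2⟩, rJ⟩
        obtain ⟨i, hi, e | ⟨w1, w2, hCi, k, -, hlin⟩⟩ := hC.fine.comb_step hC.comb r1 r2
        · exact e ▸ hd ⟨i, hi⟩ ((hC.inRootSub_p hi).1 (e ▸ rJ))
        · have hiJ : i ∈ J := by
            by_contra hiJ
            exact hCi.ne' ((hC.inRootSub_iff r2).1 rJ i hi hiJ)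
          have p1 := hd ⟨i, hi⟩ hiJ
          have p2 := ihr _ w2 ⟨⟨w1, hC.fine.toGood.w_lt hi r2⟩, (hC.inRootSub_w hi hiJ r2).2 rJ⟩
          rw [hlin _ (hC.isLin_cFun c), nsmul_eq_mul]
          positivity
    have hpj : pFin hC.fine j = pFin hC.fine j := rfl
    have e0 := heq (K.p j.val) (hC.fine.toGood.p_lt j.isLt)
    rw [show K.p j.val = ((pFin hC.fine j : Fin D.nroots) : ℕ) from rfl, permNat_fin] at e0
    have h2 := hneg (K.neg w.val) ⟨⟨(hC.neg_lt_iff w.isLt).2.2 hj, hC.fine.toGood.Kneg_lt w.isLt⟩,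
      (hC.inRootSub_neg w.isLt).2 hin⟩
    rw [(hC.isLin_cFun c).neg _ w.isLt] at h2
    have hz : cFun K d (K.p j.val) = 0 := by
      have h3 := hd' j hjJ
      change cFun K c w.val = cFun K d (K.p j.val) at e0
      omega
    have hs := hC.sPerm_mem_weylSub (J := J) hjJ
    refine ih _ (hn ▸ hC.invSet_mul_sPerm_lt haW hj) (wPerm hC.fine L * sPerm hC.fine j)
      (Subgroup.mul_mem _ ha hs) rfl (fun u hu => ?_) v hv
    rw [permNat_comp _ _ hu, show permNat (sPerm hC.fine j) u = (sPerm hC.fine j ⟨u, hu⟩).val from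
      permNat_fin _ ⟨u, hu⟩, sPerm_val, heq _ (hC.fine.toGood.w_lt j.isLt hu),
      hC.cFun_w d j.isLt hu, hz, mul_zero, sub_zero]

theorem dblRep_unique (hC : Comb K D) {J I : Set ℕ} {σ τ a b : Equiv.Perm (Fin D.nroots)}
    (hσ : σ ∈ weylGrp hC.fine) (hτ : τ ∈ weylGrp hC.fine) (h1 : DblRep hC.fine J I σ)
    (h2 : DblRep hC.fine J I τ) (ha : a ∈ weylSub hC.fine J) (hb : b ∈ weylSub hC.fine I)
    (e : τ = a * σ * b) : τ = σ := by
  obtain ⟨c, hc⟩ := hC.exists_coweight I
  obtain ⟨L, hL⟩ := hC.fine.mem_weylGrp_iff.1 (Subgroup.inv_mem _ hσ)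
  obtain ⟨M, hM⟩ := hC.fine.mem_weylGrp_iff.1 (Subgroup.inv_mem _ hτ)
  obtain ⟨cσ, hcσ⟩ := hC.exists_cFun_perm L c
  obtain ⟨cτ, hcτ⟩ := hC.exists_cFun_perm M c
  rw [hL] at hcσ
  rw [hM] at hcτ
  have hnn : ∀ {ρ : Equiv.Perm (Fin D.nroots)}, MinRep hC.fine J ρ → ∀ (cρ : Fin D.rank → ℤ),
      (∀ v, v < D.nroots → cFun K c (permNat ρ v) = cFun K cρ v) →
        ∀ i : Fin D.rank, i.val ∈ J → 0 ≤ cFun K cρ (K.p i.val) := by
    intro ρ h cρ hcρ i hi
    rw [← hcρ _ (hC.fine.toGood.p_lt i.isLt)]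
    refine (hC.cow_pos hc _ ?_ (permNat_lt (hC.fine.toGood.p_lt i.isLt))).1
    rw [show K.p i.val = ((pFin hC.fine i : Fin D.nroots) : ℕ) from rfl, permNat_fin]
    exact h i hi
  -- `b` fixes the coweight
  have hbfix : ∀ v, v < D.nroots → cFun K c (permNat b v) = cFun K c v := by
    clear e
    induction hb using Subgroup.closure_induction_left with
    | one => intro v hv; simp [permNat, hv]
    | mul_left x hx y _ hy =>
      obtain ⟨i, hi, rfl⟩ := hx
      intro v hv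
      rw [permNat_comp _ _ hv, show permNat (sPerm hC.fine i) (permNat y v) =
        (sPerm hC.fine i ⟨permNat y v, permNat_lt hv⟩).val from permNat_fin _ ⟨_, permNat_lt hv⟩,
        sPerm_val, hC.cFun_w c i.isLt (permNat_lt hv), (hc i).1 hi, mul_zero, sub_zero, hy v hv]
    | inv_mul_cancel x hx y _ hy =>
      obtain ⟨i, hi, rfl⟩ := hx
      intro v hv
      rw [hC.fine.sPerm_inv, permNat_comp _ _ hv, show permNat (sPerm hC.fine i) (permNat y v) =
        (sPerm hC.fine i ⟨permNat y v, permNat_lt hv⟩).val from permNat_fin _ ⟨_, permNat_lt hv⟩,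
        sPerm_val, hC.cFun_w c i.isLt (permNat_lt hv), (hc i).1 hi, mul_zero, sub_zero, hy v hv]
  have hrel : ∀ v, v < D.nroots → cFun K cτ (permNat a v) = cFun K cσ v := by
    intro v hv
    rw [← hcσ v hv, ← hcτ _ (permNat_lt hv)]
    have : σ⁻¹ = b * (τ⁻¹ * a) := by rw [e]; group
    rw [this, permNat_comp b _ hv, hbfix _ (permNat_lt hv), permNat_comp _ _ hv]
  have heq := hC.dominant_unique (hnn h2.1 cτ hcτ) (hnn h1.1 cσ hcσ) _ a ha rfl hrel
  have hw : σ⁻¹ * τ ∈ weylGrp hC.fine := Subgroup.mul_mem _ (Subgroup.inv_mem _ hσ) hτ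
  obtain ⟨N, hN⟩ := hC.fine.mem_weylGrp_iff.1 hw
  have hfix : ∀ r ∈ outSet K D I, permNat (wPerm hC.fine N) r ∈ outSet K D I := by
    intro r hr
    rw [hN]
    refine (hC.cow_zero_iff hc (permNat_lt hr.1.2)).2.1 ?_
    rw [permNat_comp _ _ hr.1.2, hcσ _ (permNat_lt hr.1.2), ← heq _ (permNat_lt hr.1.2),
      ← hcτ _ (permNat_lt hr.1.2), ← permNat_comp _ _ hr.1.2, inv_mul_cancel,
      show permNat (1 : Equiv.Perm (Fin D.nroots)) r = r by simp [permNat, hr.1.2]]
    exact (hC.cow_zero_iff hc hr.1.2).2.2 hr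
  have hmem := (hC.stab_outSet (F := ZMod 2) N.length N le_rfl hfix).2
  rw [hN] at hmem
  exact hC.minRep_unique hσ h1.2 h2.2 hmem (mul_inv_cancel_left σ τ).symm

theorem exists_dblRep (hC : Comb K D) (J I : Set ℕ) : ∀ (n : ℕ) (τ : Equiv.Perm (Fin D.nroots)),
    τ ∈ weylGrp hC.fine → (invSet K D τ).ncard = n →
      ∃ σ a b, σ ∈ weylGrp hC.fine ∧ DblRep hC.fine J I σ ∧ a ∈ weylSub hC.fine J ∧
        b ∈ weylSub hC.fine I ∧ τ = a * σ * b := by
  intro n
  induction n using Nat.strong_induction_on with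
  | _ n ih =>
    intro τ hτ hn
    by_cases h : DblRep hC.fine J I τ
    · exact ⟨τ, 1, 1, hτ, h, Subgroup.one_mem _, Subgroup.one_mem _, by simp⟩
    by_cases hr : MinRep hC.fine I τ
    · have hl : ¬ MinRep hC.fine J τ⁻¹ := fun h' => h ⟨h', hr⟩
      simp only [MinRep, not_forall, not_le] at hl
      obtain ⟨j, hjJ, hj⟩ := hl
      have hs := hC.sPerm_mem_weylSub (J := J) hjJ
      have hs' := hC.weylSub_le J hs
      have hlt := hC.invSet_mul_sPerm_lt (Subgroup.inv_mem _ hτ) hj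
      rw [show τ⁻¹ * sPerm hC.fine j = (sPerm hC.fine j * τ)⁻¹ by rw [mul_inv_rev, hC.fine.sPerm_inv],
        hC.ncard_invSet_inv (Subgroup.mul_mem _ hs' hτ), hC.ncard_invSet_inv hτ] at hlt
      obtain ⟨σ, a, b, h1, h2, h3, h4, h5⟩ := ih _ (hn ▸ hlt) _ (Subgroup.mul_mem _ hs' hτ) rfl
      refine ⟨σ, (sPerm hC.fine j)⁻¹ * a, b, h1, h2, Subgroup.mul_mem _ (Subgroup.inv_mem _ hs) h3, h4, ?_⟩
      rw [mul_assoc, mul_assoc, ← mul_assoc a, ← h5, inv_mul_cancel_left]
    · simp only [MinRep, not_forall, not_le] at hr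
      obtain ⟨j, hjI, hj⟩ := hr
      have hs := hC.sPerm_mem_weylSub (J := I) hjI
      obtain ⟨σ, a, b, h1, h2, h3, h4, h5⟩ := ih _ (hn ▸ hC.invSet_mul_sPerm_lt hτ hj) _
        (Subgroup.mul_mem _ hτ (hC.weylSub_le I hs)) rfl
      refine ⟨σ, a, b * (sPerm hC.fine j)⁻¹, h1, h2, h3, Subgroup.mul_mem _ h4 (Subgroup.inv_mem _ hs), ?_⟩
      rw [← mul_assoc, ← h5, mul_inv_cancel_right]

theorem sU_mem_group (hC : Comb K D) (i : Fin D.rank) : (sU hC.fine i.val : GL D.Idx F) ∈ D.group F :=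
  hC.fine.monomial_le_group (hC.fine.sU_mem_monomial i.isLt)

/-- the left action of a parabolic on a coset meets only the expected cells -/
theorem parabolic_smul_cell (hC : Comb K D) (J I : Set ℕ) {y : GL D.Idx F}
    (hy : y ∈ D.parabolicSubgroup F J) (L : List (Fin D.rank)) :
    ∃ M : List (Fin D.rank), (∃ a ∈ weylSub hC.fine J, wPerm hC.fine M = a * wPerm hC.fine L) ∧
      ∃ b ∈ D.borelSubgroup F, ∃ p ∈ D.parabolicSubgroup F I,
        y * sWord hC.fine F L = b * sWord hC.fine F M * p := by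
  have hK := hC.fine
  let X : GL D.Idx F → Prop := fun x => ∃ M : List (Fin D.rank),
    (∃ a ∈ weylSub hC.fine J, wPerm hC.fine M = a * wPerm hC.fine L) ∧
      ∃ b ∈ D.borelSubgroup F, ∃ p ∈ D.parabolicSubgroup F I, x = b * sWord hC.fine F M * p
  have hB : ∀ c ∈ D.borelSubgroup F, ∀ x, X x → X (c * x) := by
    rintro c hc x ⟨M, hM, b, hb, p, hp, rfl⟩
    exact ⟨M, hM, c * b, Subgroup.mul_mem _ hc hb, p, hp, by group⟩
  have hS : ∀ j : Fin D.rank, j.val ∈ J → ∀ x, X x → X (sU hC.fine j.val * x) := by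
    rintro j hj x ⟨M, ⟨a, ha, hM⟩, b, hb, p, hp, rfl⟩
    rcases hK.bn_axiom j.isLt (hK.sWord_mem_monomial (F := F) M) hb with h | h
    · obtain ⟨b', hb', c, hc, e⟩ := DoubleCoset.mem_doubleCoset.1 h
      refine ⟨j :: M, ⟨sPerm hC.fine j * a, Subgroup.mul_mem _ (hC.sPerm_mem_weylSub hj) ha, by
        rw [hK.wPerm_cons, hM, mul_assoc]⟩, b', hb', c * p,
        Subgroup.mul_mem _ (Subgroup.mem_sup_left hc) hp, ?_⟩
      rw [hK.sWord_cons]
      calc sU hC.fine j.val * (b * sWord hC.fine F M * p) = sU hC.fine j.val * b * sWord hC.fine F M * p := by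
            group
        _ = _ := by rw [e]; group
    · obtain ⟨b', hb', c, hc, e⟩ := DoubleCoset.mem_doubleCoset.1 h
      refine ⟨M, ⟨a, ha, hM⟩, b', hb', c * p, Subgroup.mul_mem _ (Subgroup.mem_sup_left hc) hp, ?_⟩
      calc sU hC.fine j.val * (b * sWord hC.fine F M * p) = sU hC.fine j.val * b * sWord hC.fine F M * p := by
            group
        _ = _ := by rw [e]; group
  have hy' : y ∈ Subgroup.closure ((D.borelSubgroup F : Set (GL D.Idx F)) ∪
      {g | ∃ j ∈ J, j < D.rank ∧ (g : Matrix D.Idx D.Idx F) = D.nMat F (D.simple j) 1}) := by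
    rw [Subgroup.closure_union, Subgroup.closure_eq]
    exact hy
  have hX : ∀ x, X x → X (y * x) := by
    clear hy
    induction hy' using Subgroup.closure_induction_left with
    | one => exact fun x hx => by rwa [one_mul]
    | mul_left g hg z _ hz =>
      intro x hx
      rw [mul_assoc]
      rcases hg with hg | ⟨j, hjJ, hj, hg⟩
      · exact hB g hg _ (hz x hx)
      · rw [show g = sU hK j from Units.ext (hg.trans (coe_sU hK j).symm)]
        exact hS ⟨j, hj⟩ hjJ _ (hz x hx)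
    | inv_mul_cancel g hg z _ hz =>
      intro x hx
      rw [mul_assoc]
      rcases hg with hg | ⟨j, hjJ, hj, hg⟩
      · exact hB _ (Subgroup.inv_mem _ hg) _ (hz x hx)
      · rw [show g = sU hK j from Units.ext (hg.trans (coe_sU hK j).symm)]
        have hh : ((sU hK j : GL D.Idx F) * sU hK j)⁻¹ ∈ D.borelSubgroup F :=
          Subgroup.inv_mem _ (Subgroup.mem_sup_right (hK.sU_sq_mem ⟨j, hj⟩))
        have := hB _ hh _ (hS ⟨j, hj⟩ hjJ _ (hz x hx))
        rwa [← mul_assoc, show ((sU hK j : GL D.Idx F) * sU hK j)⁻¹ * sU hK j = (sU hK j)⁻¹ by group] at this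
  exact hX _ ⟨L, ⟨1, Subgroup.one_mem _, (one_mul _).symm⟩, 1, Subgroup.one_mem _, 1,
    Subgroup.one_mem _, by group⟩

theorem sWord_coset (hC : Comb K D) {L M : List (Fin D.rank)}
    (h : wPerm hC.fine L = wPerm hC.fine M) :
    (sWord hC.fine F L)⁻¹ * sWord hC.fine F M ∈ D.diagonalSubgroup F := by
  refine hC.fine.mem_diagonal_of_moves_one (Subgroup.mul_mem _
    (Subgroup.inv_mem _ (hC.fine.sWord_mem_monomial L)) (hC.fine.sWord_mem_monomial M)) ?_
  have := hC.fine.moves_mul (hC.fine.moves_inv (hC.fine.moves_sWord (F := F) L)) (hC.fine.moves_sWord M)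
  rwa [h, inv_mul_cancel] at this

theorem dbl_orbit_unique (hC : Comb K D) {J I : Set ℕ} (σ τ : weylGrp hC.fine)
    (h1 : DblRep hC.fine J I σ.val) (h2 : DblRep hC.fine J I τ.val) {y : GL D.Idx F}
    (hy : y ∈ D.parabolicSubgroup F J)
    (h : (y * nOf hC.fine F σ)⁻¹ * nOf hC.fine F τ ∈ D.parabolicSubgroup F I) : τ = σ := by
  have hK := hC.fine
  obtain ⟨M, ⟨a, ha, hM⟩, b, hb, p, hp, e⟩ :=
    hC.parabolic_smul_cell (F := F) J I hy (hC.fine.wordOf σ)
  rw [hK.wPerm_wordOf] at hM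
  obtain ⟨τ₀, v, hτ₀, hmin, hv, ev⟩ :=
    hC.exists_minRep I _ (hK.mem_weylGrp_iff.2 ⟨M, rfl⟩ : wPerm hC.fine M ∈ _) rfl
  let t₀ : weylGrp hC.fine := ⟨τ₀, hτ₀⟩
  set n₀ := nOf hC.fine F t₀
  obtain ⟨x, hx, d, hd, rfl⟩ := hK.mem_borel_iff.1 hb
  obtain ⟨m, hm, q, hq, rfl⟩ := hC.factor_inv_keep (Subgroup.inv_mem _ hτ₀) hx
  have hd' : n₀⁻¹ * d * n₀ ∈ D.parabolicSubgroup F I := by
    have := (Subgroup.mem_normalizer_iff.1
      (hK.monomial_le_normalizer_diagonal (Subgroup.inv_mem _ (hC.nOf_mem (F := F) t₀))) d).1 hd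
    rw [inv_inv] at this
    exact hC.diagonal_le_parabolic I this
  have hnM : n₀⁻¹ * sWord hC.fine F M ∈ D.parabolicSubgroup F I := by
    obtain ⟨N, hN⟩ := hK.mem_weylGrp_iff.1 (hC.weylSub_le I hv)
    have hh : (sWord hC.fine F (hK.wordOf t₀ ++ N))⁻¹ * sWord hC.fine F M ∈ D.diagonalSubgroup F :=
      hC.sWord_coset (by rw [hK.wPerm_append, hK.wPerm_wordOf, hN, ← ev])
    have := Subgroup.mul_mem _ ((hC.sWord_mem_parabolic_iff (F := F) I N).2 (hN ▸ hv))
      (hC.diagonal_le_parabolic I hh)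
    rw [hK.sWord_append] at this
    convert this using 1
    show (sWord hC.fine F (hK.wordOf t₀))⁻¹ * _ = _
    group
  have hcell : (m * n₀)⁻¹ * (1 * nOf hC.fine F τ) ∈ D.parabolicSubgroup F I := by
    have e' : (m * n₀)⁻¹ * (1 * nOf hC.fine F τ) = (n₀⁻¹ * q * n₀) * (n₀⁻¹ * d * n₀) *
        (n₀⁻¹ * sWord hC.fine F M) * p * ((y * nOf hC.fine F σ)⁻¹ * nOf hC.fine F τ) := by
      rw [show y * nOf hC.fine F σ = m * q * d * sWord hC.fine F M * p from e]
      group
    rw [e']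
    exact Subgroup.mul_mem _ (Subgroup.mul_mem _ (Subgroup.mul_mem _ (Subgroup.mul_mem _
      (hC.pos_le_parabolic I (hC.conj_keep_mem t₀ hq)) hd') hnM) hp) h
  obtain ⟨e1, -⟩ := hC.cell_unique t₀ τ hmin h2.2 hm (Subgroup.one_mem _) hcell
  refine Subtype.ext (hC.dblRep_unique σ.2 τ.2 h1 h2 ha (Subgroup.inv_mem _ hv) ?_)
  rw [← hM, ev, mul_inv_cancel_right, ← congrArg Subtype.val e1]

section Finite

variable [Fintype F]

/-- parabolic orbits on parabolic cosets -/
theorem card_orbits (hC : Comb K D) (J I : Set ℕ) :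
    Nat.card (MulAction.orbitRel.Quotient ↥((D.parabolicSubgroup F J).subgroupOf (D.group F))
      (↥(D.group F) ⧸ (D.parabolicSubgroup F I).subgroupOf (D.group F))) =
      Nat.card {σ : weylGrp hC.fine // DblRep hC.fine J I σ.val} := by
  symm
  refine Nat.card_congr (Equiv.ofBijective (fun σ => Quotient.mk''
    (QuotientGroup.mk ⟨nOf hC.fine F σ.val, hC.nOf_mem_group σ.val⟩)) ⟨?_, ?_⟩)
  · rintro ⟨σ, h1⟩ ⟨τ, h2⟩ e
    obtain ⟨⟨y, hy⟩, hyx⟩ := Quotient.eq''.1 e.symm
    refine Subtype.ext ?_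
    refine (hC.dbl_orbit_unique σ τ h1 h2 (Subgroup.mem_subgroupOf.1 hy) ?_).symm
    exact Subgroup.mem_subgroupOf.1 (QuotientGroup.eq.1 hyx)
  · intro o
    obtain ⟨x, rfl⟩ := Quotient.exists_rep o
    obtain ⟨⟨⟨τ, hmin⟩, u⟩, rfl⟩ := (hC.cellMap_bijective (F := F) I).2 x
    obtain ⟨σ, a, b, hσ, hd, ha, hb, e⟩ := hC.exists_dblRep J I _ τ.val τ.2 rfl
    let s₀ : weylGrp hC.fine := ⟨σ, hσ⟩
    refine ⟨⟨s₀, hd⟩, Quotient.sound' ?_⟩
    obtain ⟨La, hLa⟩ := hC.fine.mem_weylGrp_iff.1 (hC.weylSub_le J ha)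
    obtain ⟨Lb, hLb⟩ := hC.fine.mem_weylGrp_iff.1 (hC.weylSub_le I hb)
    have hyP : u.val * sWord hC.fine F La ∈ D.parabolicSubgroup F J :=
      Subgroup.mul_mem _ (hC.pos_le_parabolic J (hC.fine.invSet_le_pos _ u.2))
        ((hC.sWord_mem_parabolic_iff J La).2 (hLa ▸ ha))
    let y : ↥((D.parabolicSubgroup F J).subgroupOf (D.group F)) :=
      ⟨⟨_, hC.parabolic_le_group J hyP⟩, Subgroup.mem_subgroupOf.2 hyP⟩
    refine MulAction.orbitRel_apply.2 ⟨y⁻¹, ?_⟩
    show y⁻¹ • _ = _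
    rw [inv_smul_eq_iff]
    refine QuotientGroup.eq.2 (Subgroup.mem_subgroupOf.2 ?_)
    have hh : (sWord hC.fine F (La ++ hC.fine.wordOf s₀ ++ Lb))⁻¹ *
        sWord hC.fine F (hC.fine.wordOf τ) ∈ D.diagonalSubgroup F :=
      hC.sWord_coset (by rw [hC.fine.wPerm_append, hC.fine.wPerm_append, hC.fine.wPerm_wordOf,
        hC.fine.wPerm_wordOf, hLa, hLb, e])
    have hm := Subgroup.inv_mem _ (Subgroup.mul_mem _
      ((hC.sWord_mem_parabolic_iff (F := F) I Lb).2 (hLb ▸ hb)) (hC.diagonal_le_parabolic I hh))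
    convert hm using 1
    rw [hC.fine.sWord_append, hC.fine.sWord_append]
    show (u.val * sWord hC.fine F (hC.fine.wordOf τ))⁻¹ *
      (u.val * sWord hC.fine F La * sWord hC.fine F (hC.fine.wordOf s₀)) = _
    group

theorem steinberg_sum_parabolic (hC : Comb K D) [Fintype ↥(D.group F)] (J : Finset ℕ)
    (hJ : J ⊆ Finset.range D.rank) (hne : J.Nonempty)
    [Fintype ↥((D.parabolicSubgroup F (↑J : Set ℕ)).subgroupOf (D.group F))] :
    ∑ y : ↥((D.parabolicSubgroup F (↑J : Set ℕ)).subgroupOf (D.group F)),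
      D.steinbergCharacter F y.val = 0 := by
  classical
  have hburn : ∀ I : Finset ℕ, ∑ y : ↥((D.parabolicSubgroup F (↑J : Set ℕ)).subgroupOf (D.group F)), Cfsg.fixedPointCharacter (D.parabolicIn F I) y.val =
      (Fintype.card ↥((D.parabolicSubgroup F (↑J : Set ℕ)).subgroupOf (D.group F)) : ℂ) * (((Finset.univ.filter fun σ : weylGrp hC.fine =>
        DblRep hC.fine (↑J : Set ℕ) (↑I : Set ℕ) σ.val).card : ℕ) : ℂ) := by
    intro I
    let Ω := ↥(D.group F) ⧸ (D.parabolicSubgroup F (↑I : Set ℕ)).subgroupOf (D.group F)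
    haveI : Fintype Ω := Fintype.ofFinite _
    haveI : Fintype (MulAction.orbitRel.Quotient ↥((D.parabolicSubgroup F (↑J : Set ℕ)).subgroupOf (D.group F)) Ω) := Fintype.ofFinite _
    have hb := MulAction.sum_card_fixedBy_eq_card_orbits_mul_card_group ↥((D.parabolicSubgroup F (↑J : Set ℕ)).subgroupOf (D.group F)) Ω
    have ho : Fintype.card (MulAction.orbitRel.Quotient ↥((D.parabolicSubgroup F (↑J : Set ℕ)).subgroupOf (D.group F)) Ω) = (Finset.univ.filter
        fun σ : weylGrp hC.fine => DblRep hC.fine (↑J : Set ℕ) (↑I : Set ℕ) σ.val).card := by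
      rw [← Nat.card_eq_fintype_card, hC.card_orbits, Nat.card_eq_fintype_card, Fintype.card_subtype]
    unfold Cfsg.fixedPointCharacter ChevalleyDatum.parabolicIn
    rw [← Nat.cast_sum, ← Nat.cast_mul, mul_comm, ← ho, ← hb]
    congr 1
    exact Finset.sum_congr rfl fun y _ => Nat.card_eq_fintype_card
  unfold ChevalleyDatum.steinbergCharacter
  rw [Finset.sum_comm, Finset.sum_congr rfl fun I _ => by rw [← Finset.mul_sum, hburn I]]
  have hR : ∀ i ∈ Finset.range D.rank, i < D.rank := fun i hi => Finset.mem_range.1 hi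
  let s : Finset (weylGrp hC.fine) :=
    Finset.univ.filter fun σ => MinRep hC.fine (↑J : Set ℕ) σ.val⁻¹
  have e : ∀ I ∈ (Finset.range D.rank).powerset, (-1 : ℂ) ^ I.card * ((Fintype.card ↥((D.parabolicSubgroup F (↑J : Set ℕ)).subgroupOf (D.group F)) : ℂ) *
      (((Finset.univ.filter fun σ : weylGrp hC.fine =>
        DblRep hC.fine (↑J : Set ℕ) (↑I : Set ℕ) σ.val).card : ℕ) : ℂ)) =
      (Fintype.card ↥((D.parabolicSubgroup F (↑J : Set ℕ)).subgroupOf (D.group F)) : ℂ) * ((-1 : ℂ) ^ I.card *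
        ∑ σ ∈ s.filter (fun σ => I ⊆ ascSet hC.fine σ.val (Finset.range D.rank)), (1 : ℂ)) := by
    intro I hI
    rw [show (Finset.univ.filter fun σ : weylGrp hC.fine =>
        DblRep hC.fine (↑J : Set ℕ) (↑I : Set ℕ) σ.val) =
        s.filter (fun σ => I ⊆ ascSet hC.fine σ.val (Finset.range D.rank)) by
      ext σ
      rw [Finset.mem_filter, Finset.mem_filter, hC.ascSet_minRep (Finset.mem_powerset.1 hI) hR]
      exact ⟨fun h => ⟨Finset.mem_filter.2 ⟨Finset.mem_univ _, h.2.1⟩, h.2.2⟩,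
        fun h => ⟨Finset.mem_univ _, (Finset.mem_filter.1 h.1).2, h.2⟩⟩]
    rw [Finset.sum_const, nsmul_eq_mul, mul_one, mul_left_comm]
  rw [Finset.sum_congr rfl e, ← Finset.mul_sum, alt_sum_subsets s
    (fun σ => ascSet hC.fine σ.val (Finset.range D.rank)) (Finset.range D.rank)
    (fun _ _ => Finset.filter_subset _ _) (fun _ => (1 : ℂ))]
  refine mul_eq_zero_of_right _ (Finset.sum_eq_zero fun σ hσ => ?_)
  exfalso
  simp only [s, Finset.mem_filter, Finset.mem_univ, true_and, hC.ascSet_maxRep hR] at hσ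
  obtain ⟨j, hj⟩ := hne
  have hjr := Finset.mem_range.1 (hJ hj)
  have hmax : MaxRep hC.fine (↑(Finset.range D.rank) : Set ℕ) σ.val := hσ.2
  have hw : σ.val ∈ weylSub hC.fine (↑(Finset.range D.rank) : Set ℕ) := by
    rw [hC.weylSub_top fun i => Finset.mem_coe.2 (Finset.mem_range.2 i.isLt)]; exact σ.2
  have hp : K.p j ∈ subPos K D (↑(Finset.range D.rank) : Set ℕ) :=
    ⟨⟨hC.fine.toGood.npos_le_p hjr, hC.fine.toGood.p_lt hjr⟩, (hC.inRootSub_p hjr).2 (hJ hj)⟩
  have h1 := ((hC.invSet_maxRep_inv hw hmax).1.ge hp).2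
  have h2 := hσ.1 ⟨j, hjr⟩ hj
  rw [show K.p j = ((pFin hC.fine ⟨j, hjr⟩ : Fin D.nroots) : ℕ) from rfl, permNat_fin] at h1
  omega

theorem steinberg_sum_borel (hC : Comb K D) [Fintype ↥(D.group F)]
    [Fintype ↥((D.parabolicSubgroup F (↑(∅ : Finset ℕ) : Set ℕ)).subgroupOf (D.group F))] :
    ∑ y : ↥((D.parabolicSubgroup F (↑(∅ : Finset ℕ) : Set ℕ)).subgroupOf (D.group F)),
      D.steinbergCharacter F y.val =
      (Nat.card ↥((D.parabolicSubgroup F (↑(∅ : Finset ℕ) : Set ℕ)).subgroupOf (D.group F)) : ℂ) := by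
  classical
  have hP : (D.parabolicSubgroup F (↑(∅ : Finset ℕ) : Set ℕ)).subgroupOf (D.group F) =
      (D.borelSubgroup F).subgroupOf (D.group F) := by
    congr 1
    refine le_antisymm (sup_le le_rfl ((Subgroup.closure_le _).2 ?_)) le_sup_left
    rintro g ⟨j, hj, -⟩
    simp at hj
  set B := (D.borelSubgroup F).subgroupOf (D.group F)
  haveI : Fintype B := Fintype.ofFinite _
  let eq : ↥((D.parabolicSubgroup F (↑(∅ : Finset ℕ) : Set ℕ)).subgroupOf (D.group F)) ≃ B :=
    (MulEquiv.subgroupCongr hP).toEquiv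
  rw [← Equiv.sum_comp eq.symm, Nat.card_congr eq]
  set H : Subgroup B := ((D.diagonalSubgroup F).subgroupOf (D.group F)).subgroupOf B
  haveI : Fintype (B ⧸ H) := Fintype.ofFinite _
  haveI : Fintype (MulAction.orbitRel.Quotient B (B ⧸ H)) := Fintype.ofFinite _
  have e : ∀ b : B, D.steinbergCharacter F ((eq.symm b).val) =
      (Fintype.card (MulAction.fixedBy (B ⧸ H) b) : ℂ) := fun b => by
    refine (hC.steinberg_restrict_borel b).trans ?_
    unfold Cfsg.fixedPointCharacter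
    rw [Nat.card_eq_fintype_card]
  rw [Finset.sum_congr rfl fun b _ => e b, ← Nat.cast_sum,
    MulAction.sum_card_fixedBy_eq_card_orbits_mul_card_group, Nat.card_eq_fintype_card]
  haveI : Subsingleton (MulAction.orbitRel.Quotient B (B ⧸ H)) :=
    MulAction.pretransitive_iff_subsingleton_quotient B (B ⧸ H) |>.1 inferInstance
  rw [Fintype.card_eq_one_iff.2 ⟨Quotient.mk'' (QuotientGroup.mk 1), fun y => Subsingleton.elim _ _⟩,
    one_mul]

theorem steinberg_isIrr (hC : Comb K D) : Cfsg.IsIrrCharacter ↥(D.group F) (D.steinbergCharacter F) := by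
  classical
  haveI : Fintype ↥(D.group F) := Fintype.ofFinite _
  have hind : ∀ I : Finset ℕ, Cfsg.fixedPointCharacter (D.parabolicIn F I) =
      Cfsg.indFun (D.parabolicIn F I) (fun _ => (1 : ℂ)) := fun I =>
    funext fun g => (CfsgLib.Char.indFun_coset _ g).symm
  have hst : D.steinbergCharacter F = ∑ I ∈ (Finset.range D.rank).powerset,
      (-1 : ℂ) ^ I.card • Cfsg.indFun (D.parabolicIn F I) (fun _ => (1 : ℂ)) := by
    funext g
    rw [Finset.sum_apply]
    exact Finset.sum_congr rfl fun I _ => by rw [← hind I]; rfl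
  have hclass : Cfsg.IsClassFunction ↥(D.group F) (D.steinbergCharacter F) := by
    intro g h
    simp only [hst, Finset.sum_apply, Pi.smul_apply]
    exact Finset.sum_congr rfl fun I _ => by rw [CfsgLib.Char.indFun_classFun _ _ g h]
  have hgen : Cfsg.IsGeneralizedCharacter ↥(D.group F) (D.steinbergCharacter F) := by
    rw [CfsgLib.Char.isGeneralized_iff]
    refine ⟨hclass, fun χ => ?_⟩
    have hint : ∀ I : Finset ℕ, ∃ n : ℤ, Cfsg.classInner
        ((-1 : ℂ) ^ I.card • Cfsg.indFun (D.parabolicIn F I) (fun _ => (1 : ℂ)))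
        (χ : ↥(D.group F) → ℂ) = n := fun I => by
      obtain ⟨n, hn⟩ := (CfsgLib.Char.isGeneralized_iff.1 (CfsgLib.Char.gen_indFun (D.parabolicIn F I)
        (θ := fun _ => (1 : ℂ)) ⟨fun _ => 1, 0, CfsgLib.Char.isCharacter_one,
          CfsgLib.Char.isCharacter_zero, (sub_zero _).symm⟩)).2 χ
      exact ⟨(-1) ^ I.card * n, by rw [CfsgLib.Char.classInner_smul_left, hn]; push_cast; ring⟩
    choose n hn using hint
    refine ⟨∑ I ∈ (Finset.range D.rank).powerset, n I, ?_⟩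
    rw [hst, CfsgLib.Char.classInner_sum_left, Finset.sum_congr rfl fun I _ => hn I]
    push_cast
    rfl
  have hnorm : Cfsg.classInner (D.steinbergCharacter F) (D.steinbergCharacter F) = 1 := by
    have key : ∀ I ∈ (Finset.range D.rank).powerset, Cfsg.classInner
        ((-1 : ℂ) ^ I.card • Cfsg.indFun (D.parabolicIn F I) (fun _ => (1 : ℂ)))
        (D.steinbergCharacter F) = if I = ∅ then 1 else 0 := by
      intro I hI
      haveI hft : Fintype ↥(D.parabolicIn F I) := Fintype.ofFinite _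
      letI : Fintype ↥((D.parabolicSubgroup F (↑I : Set ℕ)).subgroupOf (D.group F)) := hft
      rw [CfsgLib.Char.classInner_smul_left, CfsgLib.Char.frobenius _ _ hclass,
        CfsgLib.Char.classInner_def]
      simp only [one_mul]
      rw [← map_sum (starRingEnd ℂ)]
      by_cases h : I = ∅
      · subst h
        rw [Finset.card_empty, pow_zero, one_mul, if_pos rfl]
        have hs := hC.steinberg_sum_borel (F := F)
        rw [show (∑ x : ↥(D.parabolicIn F ∅), D.steinbergCharacter F x.val) =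
          (Nat.card ↥(D.parabolicIn F ∅) : ℂ) from hs, map_natCast, inv_mul_cancel₀]
        exact Nat.cast_ne_zero.2 Nat.card_pos.ne'
      · rw [if_neg h]
        have hs := hC.steinberg_sum_parabolic (F := F) I (Finset.mem_powerset.1 hI)
          (Finset.nonempty_iff_ne_empty.2 h)
        rw [show (∑ x : ↥(D.parabolicIn F I), D.steinbergCharacter F x.val) = 0 from hs, map_zero, mul_zero,
          mul_zero]
    conv_lhs => arg 1; rw [hst]
    rw [CfsgLib.Char.classInner_sum_left, Finset.sum_congr rfl key]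
    simp
  rcases CfsgLib.Char.isIrr_or_neg_of_norm hgen hnorm with h | h
  · exact h
  · exfalso
    have h1 := CfsgLib.Char.irr_one_eq h
    simp only [Pi.neg_apply, hC.steinberg_one] at h1
    have h2 := congrArg Complex.re h1
    simp only [Complex.neg_re, Complex.natCast_re] at h2
    rw [show ((Fintype.card F : ℂ) ^ (D.nroots / 2)) = ((Fintype.card F ^ (D.nroots / 2) : ℕ) : ℂ) by
      push_cast; rfl, Complex.natCast_re] at h2
    have hpos : (0 : ℝ) < ((Fintype.card F ^ (D.nroots / 2) : ℕ) : ℝ) :=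
      Nat.cast_pos.2 (pow_pos Fintype.card_pos _)
    have hnn : (0 : ℝ) ≤ (Cfsg.charDegree (-D.steinbergCharacter F) : ℝ) := Nat.cast_nonneg _
    linarith

end Finite

end Comb

end CfsgLib.Chev
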