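import Cfsg.Agent.Chev.SteinbergIrr
import Cfsg.Agent.S0914
import Cfsg.Agent.Blk.Pair.FirstMain

/-!
An irreducible character of defect zero vanishes on singular elements; the Steinberg character.
-/

set_option autoImplicit false

namespace CfsgLib.Chev

open Cfsg.Lie

/-- vanishing of an irreducible character of full degree on singular elements -/
theorem irr_vanish_of_not_dvd {G : Type*} [Group G] [Finite G] (p : ℕ) [Fact p.Prime]
    (χ : Cfsg.IrrCharacter G) (h : ¬ p ∣ Nat.card G / Cfsg.charDegree (χ : G → ℂ)) {g : G}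
    (hg : p ∣ orderOf g) : (χ : G → ℂ) g = 0 := by
  classical
  haveI := Fintype.ofFinite G
  obtain ⟨M, hM⟩ := CfsgLib.Blk.exists_isPModular (q := p) (Fact.out : p.Prime)
  haveI := CfsgLib.Blk.IsPModular.isPrime hM
  have hB := CfsgLib.Blk.blockOf_isPBlock (M := M) χ
  have hs := (Cfsg.Agent.S0914.result p M hM χ).1 h
  have h0 := CfsgLib.Blk.blockCoeff_eq_zero_of_singular hM hB hg
  rw [hs, Cfsg.blockCoeff, finsum_mem_singleton, mul_eq_zero, mul_eq_zero] at h0
  rcases h0 with h0 | h0 | h0
  · exact absurd h0 (inv_ne_zero (Nat.cast_ne_zero.2 Nat.card_pos.ne'))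
  · exact absurd h0 (CfsgLib.Char.irr_one_ne_zero χ.2)
  · simpa using h0

variable {K : Data} {D : ChevalleyDatum} {F : Type*} [Field F] [Fintype F]

theorem Comb.steinberg_vanish (hC : Comb K D) (p : ℕ) [Fact p.Prime] [CharP F p] (g : ↥(D.group F))
    (hg : p ∣ orderOf g) : D.steinbergCharacter F g = 0 := by
  classical
  let χ : Cfsg.IrrCharacter ↥(D.group F) := ⟨D.steinbergCharacter F, hC.steinberg_isIrr⟩
  have hdeg : Cfsg.charDegree (χ : ↥(D.group F) → ℂ) = Fintype.card F ^ (D.nroots / 2) := by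
    have h1 := (CfsgLib.Char.irr_one_eq χ.2).symm.trans (hC.steinberg_one (F := F))
    exact_mod_cast h1
  refine irr_vanish_of_not_dvd p χ ?_ hg
  rw [hdeg, ← Subgroup.card_mul_index ((D.posUnipotent F).subgroupOf (D.group F)),
    hC.fine.card_posUnipotent_subgroupOf, Nat.mul_div_cancel_left _ (pow_pos Fintype.card_pos _)]
  exact hC.fine.not_dvd_index_pos p

end CfsgLib.Chev
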