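import Cfsg.Agent.Chev.Parabolic
import Cfsg.Agent.Chev.SubfieldGroup

/-!
Conjugacy in the diagonal subgroup and the core of the Borel subgroup.
-/

set_option autoImplicit false

namespace CfsgLib.Chev

open Cfsg.Lie

variable {K : Data} {D : ChevalleyDatum} {F : Type*} [Field F]

namespace Fine

theorem diagonal_conj_by_monomial (hK : Fine K D) {h₁ h₂ g : GL D.Idx F}
    (h1 : h₁ ∈ D.diagonalSubgroup F) (h2 : h₂ ∈ D.diagonalSubgroup F) (hg : g ∈ D.group F)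
    (hc : g * h₁ * g⁻¹ = h₂) : ∃ n ∈ D.monomialSubgroup F, n * h₁ * n⁻¹ = h₂ := by
  obtain ⟨b, hb, L, u, hu, rfl⟩ := hK.normal_form_exists hg
  set n := sWord hK F L
  have hnN : n ∈ D.monomialSubgroup F := hK.sWord_mem_monomial L
  have h1' : n * h₁ * n⁻¹ ∈ D.diagonalSubgroup F :=
    (Subgroup.mem_normalizer_iff.1 (hK.monomial_le_normalizer_diagonal hnN) h₁).1 h1
  have hu' : h₁⁻¹ * u * h₁ ∈ genU hK F (invSet K D (wPerm hK L)) := by
    have := (Subgroup.mem_normalizer_iff.1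
      (hK.diagonal_le_normalizer_genU _ (Subgroup.inv_mem _ h1)) u).1 hu
    rwa [inv_inv] at this
  have e : b * (n * h₁ * n⁻¹) * n * (h₁⁻¹ * u * h₁) = h₂ * b * n * u := by
    rw [← hc]; group
  obtain ⟨e1, -⟩ := hK.normal_form_factors (hK.moves_sWord L)
    (Subgroup.mul_mem _ hb (Subgroup.mem_sup_right h1'))
    (Subgroup.mul_mem _ (Subgroup.mem_sup_right h2) hb) hu' hu e
  obtain ⟨v, hv, d, hd, rfl⟩ := hK.mem_borel_iff.1 hb
  refine ⟨d * n, Subgroup.mul_mem _ ((le_sup_left : D.diagonalSubgroup F ≤ D.monomialSubgroup F) hd) hnN, ?_⟩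
  have hH : v⁻¹ * (h₂ * v * h₂⁻¹) ∈ D.posUnipotent F ⊓ D.diagonalSubgroup F := by
    refine ⟨Subgroup.mul_mem _ (Subgroup.inv_mem _ hv)
      ((Subgroup.mem_normalizer_iff.1 (hK.diagonal_le_normalizer_pos h2) v).1 hv), ?_⟩
    have : v⁻¹ * (h₂ * v * h₂⁻¹) = d * (n * h₁ * n⁻¹) * d⁻¹ * h₂⁻¹ := by
      calc v⁻¹ * (h₂ * v * h₂⁻¹) = v⁻¹ * (h₂ * (v * d)) * d⁻¹ * h₂⁻¹ := by group
        _ = _ := by rw [← e1]; group
    rw [SetLike.mem_coe, this]
    exact Subgroup.mul_mem _ (Subgroup.mul_mem _ (Subgroup.mul_mem _ hd h1') (Subgroup.inv_mem _ hd))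
      (Subgroup.inv_mem _ h2)
  rw [hK.pos_inf_diagonal, Subgroup.mem_bot] at hH
  have e2 : h₂ * v = v * h₂ := by
    calc h₂ * v = v * (v⁻¹ * (h₂ * v * h₂⁻¹)) * h₂ := by group
      _ = _ := by rw [hH]; group
  calc d * n * h₁ * (d * n)⁻¹ = v⁻¹ * (v * d * (n * h₁ * n⁻¹)) * d⁻¹ := by group
    _ = v⁻¹ * (h₂ * (v * d)) * d⁻¹ := by rw [e1]
    _ = v⁻¹ * (v * h₂) := by rw [← mul_assoc h₂ v d, e2]; group
    _ = h₂ := by group

theorem borel_normalCore (hK : Fine K D) (hc : K.combOK = true) :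
    ((D.borelSubgroup F).subgroupOf (D.group F)).normalCore = ⊥ := by
  have hG := hK.toGood
  set B := (D.borelSubgroup F).subgroupOf (D.group F)
  obtain ⟨L, hL⟩ := hK.exists_longest hc
  set n := sWord hK F L
  have hnG : n ∈ D.group F := hK.monomial_le_group (hK.sWord_mem_monomial L)
  have hH : ∀ c ∈ B.normalCore, (c : GL D.Idx F) ∈ D.diagonalSubgroup F := by
    intro c hc'
    obtain ⟨v, hv, d, hd, e⟩ := hK.mem_borel_iff.1
      (Subgroup.mem_subgroupOf.1 (Subgroup.normalCore_le B hc'))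
    have hconj : n * (c : GL D.Idx F) * n⁻¹ ∈ D.borelSubgroup F :=
      Subgroup.mem_subgroupOf.1 (Subgroup.normalCore_le B
        ((Subgroup.normalCore_normal B).conj_mem c hc' ⟨n, hnG⟩))
    have hd' : n * d * n⁻¹ ∈ D.borelSubgroup F := Subgroup.mem_sup_right
      ((Subgroup.mem_normalizer_iff.1
        (hK.monomial_le_normalizer_diagonal (hK.sWord_mem_monomial L)) d).1 hd)
    have h1 : n * v * n⁻¹ ∈ D.borelSubgroup F ⊓ D.negUnipotent F := by
      refine ⟨?_, ?_⟩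
      · have := Subgroup.mul_mem _ hconj (Subgroup.inv_mem _ hd')
        rw [e] at this
        rwa [show n * (v * d) * n⁻¹ * (n * d * n⁻¹)⁻¹ = n * v * n⁻¹ by group] at this
      · rw [hK.posUnipotent_eq] at hv
        rw [SetLike.mem_coe, hK.negUnipotent_eq]
        exact hK.conj_genU_le (hK.moves_sWord L) (fun r hr => ⟨hr.2, hL r hr.1 hr.2⟩) hv
    rw [hK.borel_inf_neg, Subgroup.mem_bot] at h1
    have hv1 : v = 1 := by
      calc v = n⁻¹ * (n * v * n⁻¹) * n := by group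
        _ = 1 := by rw [h1]; group
    rw [e, hv1, one_mul]
    exact hd
  rw [Subgroup.eq_bot_iff_forall]
  intro c hc'
  refine Subtype.ext (hK.eq_one_of_commute hc (RingHom.id F) c.2 fun r hr t _ => ?_)
  set x : ↥(D.group F) := ⟨xU hK r t, hK.xU_mem_group r t⟩
  have hmem : c * x * c⁻¹ * x⁻¹ ∈ B.normalCore := by
    have h1 := (Subgroup.normalCore_normal B).conj_mem _ (Subgroup.inv_mem _ hc') x
    have h2 := Subgroup.mul_mem _ hc' h1
    convert h2 using 1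
    group
  have hh := hH _ hmem
  have hcom : ((c * x * c⁻¹ * x⁻¹ : ↥(D.group F)) : GL D.Idx F) = 1 := by
    rw [← Subgroup.mem_bot]
    rcases Nat.lt_or_ge r K.npos with hlt | hge
    · rw [← hK.borel_inf_neg]
      refine ⟨Subgroup.mem_sup_right hh, ?_⟩
      show (c : GL D.Idx F) * xU hK r t * (c : GL D.Idx F)⁻¹ * (xU hK r t)⁻¹ ∈ _
      rw [hK.negUnipotent_eq]
      exact Subgroup.mul_mem _ ((Subgroup.mem_normalizer_iff.1
        (hK.diagonal_le_normalizer_genU _ (hH c hc')) _).1 (hK.mem_genU (T := {r | r < K.npos}) hlt t))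
        (Subgroup.inv_mem _ (hK.mem_genU (T := {r | r < K.npos}) hlt t))
    · rw [← hK.pos_inf_diagonal]
      refine ⟨?_, hh⟩
      show (c : GL D.Idx F) * xU hK r t * (c : GL D.Idx F)⁻¹ * (xU hK r t)⁻¹ ∈ _
      rw [hK.posUnipotent_eq]
      exact Subgroup.mul_mem _ ((Subgroup.mem_normalizer_iff.1
        (hK.diagonal_le_normalizer_genU _ (hH c hc')) _).1
          (hK.mem_genU (T := {r | K.npos ≤ r ∧ r < D.nroots}) ⟨hge, hr⟩ t))
        (Subgroup.inv_mem _ (hK.mem_genU (T := {r | K.npos ≤ r ∧ r < D.nroots}) ⟨hge, hr⟩ t))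
  have h3 : (c : GL D.Idx F) * xU hK r t * (c : GL D.Idx F)⁻¹ * (xU hK r t)⁻¹ = 1 := hcom
  calc (c : GL D.Idx F) * xU hK r t
      = (c : GL D.Idx F) * xU hK r t * (c : GL D.Idx F)⁻¹ * (xU hK r t)⁻¹ * (xU hK r t * c) := by group
    _ = xU hK r t * c := by rw [h3, one_mul]

end Fine

end CfsgLib.Chev
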