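import Cfsg.Agent.Chev.TwistCommon
import Cfsg.Agent.Chev.GraphAll
import Cfsg.Agent.Chev.Run.Twist
import Cfsg.Agent.Chev.All

/-!
The twisted group of type ³D₄.
-/

set_option autoImplicit false
set_option maxRecDepth 100000

namespace CfsgLib.Chev.TwD4

open Cfsg.Lie CfsgLib.Chev Fine

/-- the symmetry of the fundamental roots -/
def pi : Equiv.Perm (Fin chevD4.rank) :=
  show Equiv.Perm (Fin 4) from ⟨![2, 1, 3, 0], ![3, 1, 0, 2], by decide, by decide⟩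

theorem pi_list : ∀ i : Fin chevD4.rank, ([2, 1, 3, 0] : List ℕ).getD i.val 0 = (pi i).val := by
  decide +kernel

theorem p_vals : D4.data.p 0 = 18 ∧ D4.data.p 1 = 14 ∧ D4.data.p 2 = 13 ∧ D4.data.p 3 = 12 ∧
    D4.data.neg 18 = 5 ∧ D4.data.neg 14 = 9 ∧ D4.data.neg 13 = 10 ∧ D4.data.neg 12 = 11 ∧
    D4.data.npos = 12 ∧ chevD4.nroots = 24 ∧ chevD4.rank = 4 := by
  decide +kernel

theorem names : d4p1 = 18 ∧ d4p2 = 14 ∧ d4p3 = 13 ∧ d4p4 = 12 ∧ d4m1 = 5 ∧ d4m2 = 9 ∧ d4m3 = 10 ∧ d4m4 = 11 :=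
  ⟨rfl, rfl, rfl, rfl, rfl, rfl, rfl, rfl⟩

theorem images : ([18, 14, 13, 12, 5, 9, 10, 11] : List ℕ).map (fun r => (graphD4a.im r, graphD4a.sg r, graphD4a.ex r)) =
    [(13, 1, 1), (14, 1, 1), (12, 1, 1), (18, 1, 1), (10, 1, 1), (9, 1, 1), (11, 1, 1), (5, 1, 1)] := by
  decide +kernel

theorem comm_facts : ∀ r ∈ ([18, 13, 12, 5, 10, 11] : List ℕ), ∀ s ∈ ([18, 13, 12, 5, 10, 11] : List ℕ),
    s ≠ r → s ≠ D4.data.neg r → D4.data.comm r s = [] := by decide +kernel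

theorem lists : D4.data.subPosL [1] = [14] ∧ D4.data.subPosL [0, 2, 3] = [12, 13, 18] ∧
    D4.data.negSubL [1] = [9] ∧ D4.data.negSubL [0, 2, 3] = [5, 10, 11] := by decide +kernel

theorem cartan_vals : ∀ k j : Fin chevD4.rank, D4.data.tab.A k.val (D4.data.p j.val) =
    (([[2, -1, 0, 0], [-1, 2, -1, -1], [0, -1, 2, 0], [0, -1, 0, 2]] : List (List ℤ)).getD k.val []).getD j.val 0 := by
  decide +kernel

theorem comm_long : D4.data.appW [1, 0, 2, 3] 14 = 23 ∧ D4.data.appW [0, 2, 3] 9 = 1 ∧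
    D4.data.comm 23 1 = [(14, 1, 1, 1)] ∧ D4.data.neg 23 = 0 := by decide +kernel

variable {F : Type*} [Field F]

theorem tab : TwistTab D4.data chevD4 F graphD4a 0 pi :=
  ⟨⟨liftD4, graphD4a_ok⟩, ExpOK.zero_case F, _, twD4_sym, pi_list⟩

/-- the twist -/
noncomputable def T (ψ : F →+* F) : Twist D4.data chevD4 F := (tab (F := F)).toTwist ψ

theorem hK : Fine D4.data chevD4 := D4.fine

theorem lt24 {r : ℕ} (h : r < 24) : r < chevD4.nroots := by rw [p_vals.2.2.2.2.2.2.2.2.2.1]; exact h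

theorem app_eq (ψ : F →+* F) {r : ℕ} {v : ℕ × ℤ × ℕ} (hr : r < 24)
    (h : (graphD4a.im r, graphD4a.sg r, graphD4a.ex r) = v) (t : F) :
    (T ψ).app (xU hK r t) = xU hK v.1 (ψ ((v.2.1 : F) * t ^ v.2.2)) := by
  subst h
  exact (tab (F := F)).toTwist_app ψ (lt24 hr) t

theorem phi_eq (ψ : F →+* F) (i : Fin chevD4.rank) (t : F) : (T ψ).φ i t = ψ t := by
  show ψ (t ^ graphD4a.ex (D4.data.p i.val)) = ψ t
  have h : ∀ i : Fin chevD4.rank, graphD4a.ex (D4.data.p i.val) = 1 := by decide +kernel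
  rw [h i, pow_one]

theorem app_vals (ψ : F →+* F) (t : F) :
    (T ψ).app (xU hK 18 t) = xU hK 13 (ψ t) ∧ (T ψ).app (xU hK 14 t) = xU hK 14 (ψ t) ∧
    (T ψ).app (xU hK 13 t) = xU hK 12 (ψ t) ∧ (T ψ).app (xU hK 12 t) = xU hK 18 (ψ t) ∧
    (T ψ).app (xU hK 5 t) = xU hK 10 (ψ t) ∧ (T ψ).app (xU hK 9 t) = xU hK 9 (ψ t) ∧
    (T ψ).app (xU hK 10 t) = xU hK 11 (ψ t) ∧ (T ψ).app (xU hK 11 t) = xU hK 5 (ψ t) := by
  have h := images
  simp only [List.map_cons, List.map_nil, List.cons.injEq, and_true] at h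
  obtain ⟨h1, h2, h3, h4, h5, h6, h7, h8⟩ := h
  refine ⟨?_, ?_, ?_, ?_, ?_, ?_, ?_, ?_⟩
  · rw [app_eq ψ (by norm_num) h1]; simp
  · rw [app_eq ψ (by norm_num) h2]; simp
  · rw [app_eq ψ (by norm_num) h3]; simp
  · rw [app_eq ψ (by norm_num) h4]; simp
  · rw [app_eq ψ (by norm_num) h5]; simp
  · rw [app_eq ψ (by norm_num) h6]; simp
  · rw [app_eq ψ (by norm_num) h7]; simp
  · rw [app_eq ψ (by norm_num) h8]; simp

theorem commute {r s : ℕ} (hr : r ∈ ([18, 13, 12, 5, 10, 11] : List ℕ))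
    (hs : s ∈ ([18, 13, 12, 5, 10, 11] : List ℕ)) (hsr : s ≠ r) (hn : s ≠ D4.data.neg r) (t u : F) :
    Commute (xU hK r t) (xU hK s u) := by
  have hb : ∀ x ∈ ([18, 13, 12, 5, 10, 11] : List ℕ), x < 24 := by decide
  exact hK.xU_commute (lt24 (hb r hr)) (lt24 (hb s hs)) hsr hn (comm_facts r hr s hs hsr hn) t u

/-- the product over the triple -/
noncomputable def tri (a b c : ℕ) (t u z : F) : GL chevD4.Idx F := xU hK a t * (xU hK b u * xU hK c z)

theorem tri_rot {a b c : ℕ} (hab : ∀ t u : F, Commute (xU hK a t) (xU hK b u))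
    (hac : ∀ t u : F, Commute (xU hK a t) (xU hK c u)) (t u z : F) :
    xU hK b u * (xU hK c z * xU hK a t) = tri a b c t u z := by
  rw [tri, ← mul_assoc, ((hab t u).mul_right (hac t z)).eq]

theorem pos_commutes : (∀ t u : F, Commute (xU hK 18 t) (xU hK 13 u)) ∧ (∀ t u : F, Commute (xU hK 18 t) (xU hK 12 u)) ∧
    (∀ t u : F, Commute (xU hK 13 t) (xU hK 12 u)) := by
  refine ⟨?_, ?_, ?_⟩ <;>
    exact commute (by decide) (by decide) (by decide) (by decide +kernel)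

theorem neg_commutes : (∀ t u : F, Commute (xU hK 5 t) (xU hK 10 u)) ∧ (∀ t u : F, Commute (xU hK 5 t) (xU hK 11 u)) ∧
    (∀ t u : F, Commute (xU hK 10 t) (xU hK 11 u)) := by
  refine ⟨?_, ?_, ?_⟩ <;>
    exact commute (by decide) (by decide) (by decide) (by decide +kernel)

theorem app_tri (ψ : F →+* F) (t u z : F) :
    (T ψ).app (tri 18 13 12 t u z) = tri 18 13 12 (ψ z) (ψ t) (ψ u) ∧
    (T ψ).app (tri 5 10 11 t u z) = tri 5 10 11 (ψ z) (ψ t) (ψ u) := by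
  constructor
  · rw [tri, (T ψ).app_mul (hK.xU_mem_group _ _) (mul_mem (hK.xU_mem_group _ _) (hK.xU_mem_group _ _)),
      (T ψ).app_mul (hK.xU_mem_group _ _) (hK.xU_mem_group _ _), (app_vals ψ t).1, (app_vals ψ u).2.2.1,
      (app_vals ψ z).2.2.2.1]
    exact tri_rot pos_commutes.1 pos_commutes.2.1 _ _ _
  · rw [tri, (T ψ).app_mul (hK.xU_mem_group _ _) (mul_mem (hK.xU_mem_group _ _) (hK.xU_mem_group _ _)),
      (T ψ).app_mul (hK.xU_mem_group _ _) (hK.xU_mem_group _ _), (app_vals ψ t).2.2.2.2.1,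
      (app_vals ψ u).2.2.2.2.2.2.1, (app_vals ψ z).2.2.2.2.2.2.2]
    exact tri_rot neg_commutes.1 neg_commutes.2.1 _ _ _

theorem wordU_tri (a b c : ℕ) (t u z : F) : wordU hK [(a, t), (b, u), (c, z)] = tri a b c t u z := by
  simp [wordU, tri]

theorem wordU_one (a : ℕ) (t : F) : wordU hK [(a, t)] = xU hK a t := by simp [wordU]

theorem tri_inj {t u z t' u' z' : F} (h : tri 18 13 12 t u z = tri 18 13 12 t' u' z') :
    t = t' ∧ u = u' ∧ z = z' := by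
  obtain ⟨h1, h2, h3⟩ := pos_commutes (F := F)
  have e : ∀ t u z : F, tri 18 13 12 t u z = wordU hK ([12, 13, 18].zip [z, u, t]) := by
    intro t u z
    rw [tri, ((h1 t u).mul_right (h2 t z)).eq, (h3 u z).eq]
    simp [wordU, mul_assoc]
  rw [e, e] at h
  have h2 := wordU_sorted_inj hK (R := [12, 13, 18]) (v := [z, u, t]) (v' := [z', u', t']) (by decide)
    (by rw [p_vals.2.2.2.2.2.2.2.2.1, p_vals.2.2.2.2.2.2.2.2.2.1]; decide) rfl rfl h
  simp only [List.cons.injEq, and_true] at h2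
  exact ⟨h2.2.2, h2.2.1, h2.1⟩

theorem tri_genU_pos (t u z : F) : tri 18 13 12 t u z ∈ genU hK F ({18, 13, 12} : Set ℕ) :=
  mul_mem (hK.mem_genU (Or.inl rfl) t) (mul_mem (hK.mem_genU (Or.inr (Or.inl rfl)) u)
    (hK.mem_genU (Or.inr (Or.inr rfl)) z))

theorem tri_genU_neg (t u z : F) : tri 5 10 11 t u z ∈ genU hK F ({5, 10, 11} : Set ℕ) :=
  mul_mem (hK.mem_genU (Or.inl rfl) t) (mul_mem (hK.mem_genU (Or.inr (Or.inl rfl)) u)
    (hK.mem_genU (Or.inr (Or.inr rfl)) z))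

theorem tri_neg_ne (ψ : F →+* F) : tri 5 10 11 (1 : F) (ψ 1) (ψ (ψ 1)) ≠ 1 := by
  intro h
  rw [map_one, map_one] at h
  have e : xU hK 5 (-1 : F) = xU hK 10 1 * xU hK 11 1 := by
    rw [← xU_inv]; exact inv_eq_of_mul_eq_one_right h
  have hc : Commute (xU hK 18 (1 : F)) (xU hK 5 (-1 : F)) := by
    rw [e]
    exact (commute (by decide) (by decide) (by decide) (by decide +kernel) _ _).mul_right
      (commute (by decide) (by decide) (by decide) (by decide +kernel) _ _)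
  exact not_commute_opposite hK ⟨0, by rw [p_vals.2.2.2.2.2.2.2.2.2.2]; norm_num⟩
    (by rw [p_vals.1, p_vals.2.2.2.2.1]; exact hc)

theorem mem_fix_iff (ψ : F →+* F) {g : GL chevD4.Idx F} (hg : g ∈ chevD4.group F) :
    g ∈ (T ψ).fix ↔ (T ψ).app g = g :=
  ⟨fun h => h.2, fun h => ⟨hg, h⟩⟩

theorem xU14_fix_iff (ψ : F →+* F) (t : F) : xU hK 14 t ∈ (T ψ).fix ↔ ψ t = t := by
  rw [mem_fix_iff ψ (hK.xU_mem_group _ _), (app_vals ψ t).2.1]
  exact ⟨hK.xU_param_inj (lt24 (by norm_num)), fun h => by rw [h]⟩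

theorem xU9_fix (ψ : F →+* F) {t : F} (h : ψ t = t) : xU hK 9 t ∈ (T ψ).fix :=
  (mem_fix_iff ψ (hK.xU_mem_group _ _)).2 (by rw [(app_vals ψ t).2.2.2.2.2.1, h])

theorem tri_group (a b c : ℕ) (t u z : F) : tri a b c t u z ∈ chevD4.group F :=
  mul_mem (hK.xU_mem_group _ _) (mul_mem (hK.xU_mem_group _ _) (hK.xU_mem_group _ _))

section Finite

variable (F) [Fintype F]

/-- hypotheses on the field -/
structure Setup (q : ℕ) where
  ψ : F →+* F
  ψ_eq : ∀ x, ψ x = x ^ q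
  card : Fintype.card F = q ^ 3
  two_le : 2 ≤ q

variable {F}

theorem exists_setup {q : ℕ} (hq : IsPrimePow q) (h : Fintype.card F = q ^ 3) : Nonempty (Setup F q) := by
  obtain ⟨p, e, hp, -, -, ψ, hψ⟩ := exists_powHom_of_card hq (by norm_num) h
  exact ⟨⟨ψ, hψ, h, hq.two_le⟩⟩

variable {q : ℕ} (A : Setup F q)

namespace Setup

theorem psi3 (t : F) : A.ψ (A.ψ (A.ψ t)) = t := by
  rw [A.ψ_eq, A.ψ_eq, A.ψ_eq, ← pow_mul, ← pow_mul, show q * (q * q) = q ^ 3 by ring, ← A.card]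
  exact FiniteField.pow_card t

theorem tri_fix (t : F) : tri 18 13 12 t (A.ψ t) (A.ψ (A.ψ t)) ∈ (T A.ψ).fix ∧
    tri 5 10 11 t (A.ψ t) (A.ψ (A.ψ t)) ∈ (T A.ψ).fix :=
  ⟨(mem_fix_iff A.ψ (tri_group _ _ _ _ _ _)).2 (by rw [(app_tri A.ψ _ _ _).1, A.psi3]),
    (mem_fix_iff A.ψ (tri_group _ _ _ _ _ _)).2 (by rw [(app_tri A.ψ _ _ _).2, A.psi3])⟩

/-- orbits -/
def orb (j : Fin 2) : Set ℕ := {i | i ∈ twD4Os.getD j.val []}

theorem subPos_orb (j : Fin 2) : subPos D4.data chevD4 (orb j) =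
    if j = 0 then ({14} : Set ℕ) else {18, 13, 12} := by
  rw [orb, subPos_eq (liftD4.comb)]
  fin_cases j <;> ext r <;> simp [twD4Os, lists.1, lists.2.1] <;> tauto

theorem negSub_orb (j : Fin 2) : negSub D4.data chevD4 (orb j) =
    if j = 0 then ({9} : Set ℕ) else {5, 10, 11} := by
  rw [orb, negSub_eq (liftD4.comb)]
  fin_cases j <;> ext r <;> simp [twD4Os, lists.2.2.1, lists.2.2.2]

theorem X0 {g : GL chevD4.Idx F} (hg : g ∈ (T A.ψ).fix)
    (h : g ∈ genU hK F ({14} : Set ℕ)) : ∃ t : F, t ^ q = t ∧ g = xU hK 14 t := by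
  obtain ⟨t, rfl⟩ := hK.mem_genU_single h
  exact ⟨t, (A.ψ_eq t).symm.trans ((xU14_fix_iff A.ψ t).1 hg), rfl⟩

theorem X1 {g : GL chevD4.Idx F} (hg : g ∈ (T A.ψ).fix)
    (h : g ∈ genU hK F ({18, 13, 12} : Set ℕ)) : ∃ t : F, g = tri 18 13 12 t (A.ψ t) (A.ψ (A.ψ t)) := by
  obtain ⟨h1, h2, h3⟩ := pos_commutes (F := F)
  obtain ⟨t, u, z, rfl⟩ := hK.mem_genU_triple h1 h2 h3 h
  have e := hg.2
  change (T A.ψ).app (tri 18 13 12 t u z) = tri 18 13 12 t u z at e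
  rw [(app_tri A.ψ t u z).1] at e
  obtain ⟨-, e2, e3⟩ := tri_inj e
  exact ⟨t, by subst e2; subst e3; rfl⟩

theorem wordU_mem {w : List (ℕ × F)} (h : w ∈ d4Words F q) : wordU hK w ∈ twistedD4 F q := by
  rw [twistedD4, genSubgroup_eq hK]
  exact Subgroup.subset_closure ⟨w, h, rfl⟩

theorem tri_mem (t : F) : tri 18 13 12 t (A.ψ t) (A.ψ (A.ψ t)) ∈ twistedD4 F q ∧
    tri 5 10 11 t (A.ψ t) (A.ψ (A.ψ t)) ∈ twistedD4 F q := by
  have e : A.ψ (A.ψ t) = t ^ q ^ 2 := by rw [A.ψ_eq, A.ψ_eq, ← pow_mul, sq]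
  rw [e, A.ψ_eq t, ← wordU_tri, ← wordU_tri]
  exact ⟨wordU_mem (Or.inr ⟨t, (18, 13, 12), by simp [names], by simp [names]⟩),
    wordU_mem (Or.inr ⟨t, (5, 10, 11), by simp [names], by simp [names]⟩)⟩

theorem single_mem {t : F} (ht : t ^ q = t) :
    xU hK 14 t ∈ twistedD4 F q ∧ xU hK 9 t ∈ twistedD4 F q := by
  rw [← wordU_one, ← wordU_one]
  exact ⟨wordU_mem (Or.inl ⟨t, ht, 14, by simp [names], rfl⟩),
    wordU_mem (Or.inl ⟨t, ht, 9, by simp [names], rfl⟩)⟩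

/-- the group with its orbits -/
noncomputable def grp : TwistGrp (T A.ψ) 2 where
  G1 := twistedD4 F q
  orb := orb
  orb_lt := by
    intro j i hi
    rw [p_vals.2.2.2.2.2.2.2.2.2.2]
    fin_cases j <;> simp [orb, twD4Os] at hi <;> omega
  orb_cover := by
    intro i
    have h : ∀ i : Fin chevD4.rank, i.val ∈ ([1] : List ℕ) ∨ i.val ∈ ([0, 2, 3] : List ℕ) := by decide +kernel
    rcases h i with h | h
    · exact ⟨0, h⟩
    · exact ⟨1, h⟩
  orb_inj := by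
    intro j j' i h h'
    fin_cases j <;> fin_cases j' <;> simp [orb, twD4Os] at h h' ⊢ <;> omega
  orb_π := by
    have h : ∀ j : Fin 2, ∀ i : Fin chevD4.rank, i.val ∈ twD4Os.getD j.val [] →
        (pi i).val ∈ twD4Os.getD j.val [] := by decide +kernel
    exact h
  orb_trans := by
    have h : ∀ j : Fin 2, ∀ i i' : Fin chevD4.rank, i.val ∈ twD4Os.getD j.val [] →
        i'.val ∈ twD4Os.getD j.val [] → ∃ m : Fin 3, (pi ^ m.val) i = i' := by decide +kernel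
    intro j i i' hi hi'
    obtain ⟨m, hm⟩ := h j i i' hi hi'
    exact ⟨m.val, hm⟩
  orb_ne := by
    have h : ∀ j : Fin 2, ∃ i : Fin chevD4.rank, i.val ∈ twD4Os.getD j.val [] := by decide +kernel
    exact h
  gen := by
    rw [twistedD4, genSubgroup_eq hK]
    refine Subgroup.closure_mono ?_
    rintro _ ⟨w, hw, rfl⟩
    rcases hw with ⟨t, ht, r, hr, rfl⟩ | ⟨t, rs, hrs, rfl⟩
    · simp only [names, List.mem_cons, List.not_mem_nil, or_false] at hr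
      have ht' : A.ψ t = t := (A.ψ_eq t).trans ht
      rcases hr with rfl | rfl <;> rw [wordU_one]
      · refine ⟨(xU14_fix_iff A.ψ t).2 ht', 0, Or.inl ?_⟩
        rw [subPos_orb, if_pos rfl]; exact hK.mem_genU (T := ({14} : Set ℕ)) rfl t
      · refine ⟨xU9_fix A.ψ ht', 0, Or.inr ?_⟩
        rw [negSub_orb, if_pos rfl]; exact hK.mem_genU (T := ({9} : Set ℕ)) rfl t
    · simp only [names, List.mem_cons, List.not_mem_nil, or_false] at hrs
      have e : t ^ q ^ 2 = A.ψ (A.ψ t) := by rw [A.ψ_eq, A.ψ_eq, ← pow_mul, sq]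
      rcases hrs with rfl | rfl <;> simp only [] <;> rw [wordU_tri, e, ← A.ψ_eq t]
      · refine ⟨(A.tri_fix t).1, 1, Or.inl ?_⟩
        rw [subPos_orb, if_neg (by decide)]
        exact tri_genU_pos _ _ _
      · refine ⟨(A.tri_fix t).2, 1, Or.inr ?_⟩
        rw [negSub_orb, if_neg (by decide)]
        exact tri_genU_neg _ _ _
  posX := by
    intro j g hg
    obtain ⟨hf, hu⟩ := hg
    rw [SetLike.mem_coe, subPos_orb] at hu
    by_cases hj : j = 0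
    · rw [if_pos hj] at hu
      obtain ⟨t, ht, rfl⟩ := A.X0 hf hu
      exact (single_mem ht).1
    · rw [if_neg hj] at hu
      obtain ⟨t, rfl⟩ := A.X1 hf hu
      exact (A.tri_mem t).1
  negX := by
    intro j
    rw [negSub_orb]
    by_cases hj : j = 0
    · rw [if_pos hj]
      exact ⟨xU hK 9 1, (single_mem (one_pow q)).2,
        fun h => one_ne_zero ((hK.xU_eq_one_iff (lt24 (by norm_num)) (1 : F)).1 h),
        hK.mem_genU (T := ({9} : Set ℕ)) rfl 1⟩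
    · rw [if_neg hj]
      exact ⟨_, (A.tri_mem 1).2, tri_neg_ne (F := F) A.ψ, tri_genU_neg _ _ _⟩

end Setup

end Finite

end CfsgLib.Chev.TwD4
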