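import Cfsg.Agent.Chev.TwD4

/-!
Orders, (B,N)-pair, Weyl group and simplicity of ³D₄.
-/

set_option autoImplicit false
set_option maxRecDepth 100000

namespace CfsgLib.Chev.TwD4

open Cfsg.Lie CfsgLib.Chev Fine

/-- indices of the fundamental roots -/
def i0 : Fin chevD4.rank := ⟨0, by decide +kernel⟩
/-- indices of the fundamental roots -/
def i1 : Fin chevD4.rank := ⟨1, by decide +kernel⟩
/-- indices of the fundamental roots -/
def i2 : Fin chevD4.rank := ⟨2, by decide +kernel⟩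
/-- indices of the fundamental roots -/
def i3 : Fin chevD4.rank := ⟨3, by decide +kernel⟩

theorem fin_cases4 : ∀ i : Fin chevD4.rank, i = i0 ∨ i = i1 ∨ i = i2 ∨ i = i3 := by decide +kernel

theorem ne4 : i0 ≠ i1 ∧ i0 ≠ i2 ∧ i0 ≠ i3 ∧ i1 ≠ i2 ∧ i1 ≠ i3 ∧ i2 ≠ i3 := by decide +kernel

theorem pi_vals : pi i0 = i2 ∧ pi i1 = i1 ∧ pi i2 = i3 ∧ pi i3 = i0 := by decide +kernel

theorem univ4 : (Finset.univ : Finset (Fin chevD4.rank)) = {i0, i1, i2, i3} := by decide +kernel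

theorem prod4 {G : Type*} [CommMonoid G] (f : Fin chevD4.rank → G) :
    ∏ k, f k = f i0 * (f i1 * (f i2 * f i3)) := by
  obtain ⟨h1, h2, h3, h4, h5, h6⟩ := ne4
  rw [univ4, Finset.prod_insert (by simp [h1, h2, h3]), Finset.prod_insert (by simp [h4, h5]),
    Finset.prod_insert (by simp [h6]), Finset.prod_singleton]

theorem chi_vals : ([i0, i1, i2, i3].map fun j : Fin chevD4.rank => [i0, i1, i2, i3].map fun k : Fin chevD4.rank =>
    D4.data.tab.A k.val (D4.data.p j.val)) = [[2, -1, 0, 0], [-1, 2, -1, -1], [0, -1, 2, 0], [0, -1, 0, 2]] := by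
  decide +kernel

variable {F : Type*} [Field F]

theorem chi_eq (c : Fin chevD4.rank → Fˣ) :
    (∏ k, c k ^ D4.data.tab.A k.val (D4.data.p i0.val)) = c i0 ^ 2 * (c i1)⁻¹ ∧
    (∏ k, c k ^ D4.data.tab.A k.val (D4.data.p i1.val)) = (c i0)⁻¹ * (c i1 ^ 2 * ((c i2)⁻¹ * (c i3)⁻¹)) ∧
    (∏ k, c k ^ D4.data.tab.A k.val (D4.data.p i2.val)) = (c i1)⁻¹ * c i2 ^ 2 ∧
    (∏ k, c k ^ D4.data.tab.A k.val (D4.data.p i3.val)) = (c i1)⁻¹ * c i3 ^ 2 := by
  have h := chi_vals
  simp only [List.map_cons, List.map_nil, List.cons.injEq, and_true] at h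
  obtain ⟨⟨a, b, c', d⟩, ⟨e, f, g, h'⟩, ⟨i, j, k, l⟩, ⟨m, n, o, p⟩⟩ := h
  refine ⟨?_, ?_, ?_, ?_⟩ <;> rw [prod4]
  · rw [a, b, c', d]; simp [zpow_ofNat]
  · rw [e, f, g, h']; simp [zpow_ofNat]
  · rw [i, j, k, l]; simp [zpow_ofNat]
  · rw [m, n, o, p]; simp [zpow_ofNat]

theorem chi_of_one {c : Fin chevD4.rank → Fˣ} (h : tFin D4.data chevD4 F c = 1) (j : Fin chevD4.rank) :
    (∏ k, c k ^ D4.data.tab.A k.val (D4.data.p j.val)) = 1 := by
  have hp := D4.fine.toGood.p_lt j.isLt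
  have e := tFin_conj_xU D4.fine c hp (1 : F)
  rw [h, one_mul, inv_one, mul_one, mul_one] at e
  exact Units.ext (D4.fine.xU_param_inj hp e).symm

/-- fixed parameters built from two units -/
noncomputable def par (q : ℕ) (a b : Fˣ) : Fin chevD4.rank → Fˣ :=
  fun i => if i = i0 then a else if i = i1 then b else if i = i2 then a ^ q else (a ^ q) ^ q

theorem par_vals (q : ℕ) (a b : Fˣ) :
    par q a b i0 = a ∧ par q a b i1 = b ∧ par q a b i2 = a ^ q ∧ par q a b i3 = (a ^ q) ^ q := by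
  obtain ⟨h1, h2, h3, h4, h5, h6⟩ := ne4
  simp [par, h1.symm, h2.symm, h3.symm, h4.symm, h5.symm, h6.symm]

namespace Setup

variable [Fintype F] {q : ℕ} (A : Setup F q)

theorem psi_fix_iff {t : F} : A.ψ t = t ↔ t ^ q = t := by rw [A.ψ_eq]

theorem torFix_iff (c : Fin chevD4.rank → Fˣ) :
    c ∈ (T A.ψ).torFix ↔ c i2 = c i0 ^ q ∧ c i1 = c i1 ^ q ∧ c i3 = c i2 ^ q ∧ c i0 = c i3 ^ q := by
  rw [Twist.mem_torFix]
  have e : ∀ i j : Fin chevD4.rank, ((c j : F) = (T A.ψ).φ i (c i : F)) ↔ c j = c i ^ q := fun i j => by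
    rw [phi_eq, A.ψ_eq, ← Units.val_pow_eq_pow_val, Units.val_inj]
  obtain ⟨p0, p1, p2, p3⟩ := pi_vals
  constructor
  · intro h
    refine ⟨?_, ?_, ?_, ?_⟩
    · exact (e i0 i2).1 (p0 ▸ h i0)
    · exact (e i1 i1).1 (by have := h i1; rwa [show (T A.ψ).π i1 = i1 from p1] at this)
    · exact (e i2 i3).1 (p2 ▸ h i2)
    · exact (e i3 i0).1 (p3 ▸ h i3)
  · rintro ⟨h0, h1, h2, h3⟩ i
    show (c (pi i) : F) = _
    rcases fin_cases4 i with rfl | rfl | rfl | rfl
    · rw [p0]; exact (e i0 i2).2 h0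
    · rw [p1]; exact (e i1 i1).2 h1
    · rw [p2]; exact (e i2 i3).2 h2
    · rw [p3]; exact (e i3 i0).2 h3

include A in
theorem units_psi3 (a : Fˣ) : ((a ^ q) ^ q) ^ q = a := by
  refine Units.ext ?_
  simp only [Units.val_pow_eq_pow_val]
  rw [← A.ψ_eq, ← A.ψ_eq, ← A.ψ_eq, A.psi3]

theorem par_mem (a : Fˣ) {b : Fˣ} (hb : b ^ q = b) : par q a b ∈ (T A.ψ).torFix := by
  obtain ⟨v0, v1, v2, v3⟩ := par_vals q a b
  rw [A.torFix_iff, v0, v1, v2, v3]
  exact ⟨rfl, hb.symm, rfl, (A.units_psi3 a).symm⟩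

theorem card_torFix : Nat.card (T A.ψ).torFix = (q - 1) ^ 2 * (q ^ 2 + q + 1) := by
  classical
  let f : Fˣ × {b : Fˣ // b ^ q = b} → (T A.ψ).torFix := fun p => ⟨par q p.1 p.2.1, A.par_mem p.1 p.2.2⟩
  have hf : Function.Bijective f := by
    constructor
    · rintro ⟨a, b⟩ ⟨a', b'⟩ h
      have h' : par q a b.1 = par q a' b'.1 := congrArg Subtype.val h
      have e0 := congrFun h' i0
      have e1 := congrFun h' i1
      rw [(par_vals q _ _).1, (par_vals q _ _).1] at e0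
      rw [(par_vals q _ _).2.1, (par_vals q _ _).2.1] at e1
      exact Prod.ext e0 (Subtype.ext e1)
    · rintro ⟨c, hc⟩
      obtain ⟨h0, h1, h2, -⟩ := (A.torFix_iff c).1 hc
      refine ⟨(c i0, ⟨c i1, h1.symm⟩), Subtype.ext (funext fun i => ?_)⟩
      obtain ⟨v0, v1, v2, v3⟩ := par_vals q (c i0) (c i1)
      show par q (c i0) (c i1) i = c i
      rcases fin_cases4 i with rfl | rfl | rfl | rfl
      · exact v0
      · exact v1
      · rw [v2, h0]
      · rw [v3, h2, h0]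
  rw [← Nat.card_eq_of_bijective f hf, Nat.card_prod, card_units_fixed (by have := A.two_le; omega) A.card,
    Nat.card_eq_fintype_card, Fintype.card_units, A.card]
  obtain ⟨a, rfl⟩ : ∃ a, q = a + 1 := ⟨q - 1, by have := A.two_le; omega⟩
  rw [show (a + 1) ^ 3 - 1 = a * ((a + 1) ^ 2 + (a + 1) + 1) from Nat.sub_eq_of_eq_add (by ring),
    Nat.add_sub_cancel]
  ring

theorem tFin_ker_trivial : ∀ c ∈ (T A.ψ).torFix, tFin D4.data chevD4 F c = 1 → c = 1 := by
  intro c hc h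
  obtain ⟨h0, -, h2, -⟩ := (A.torFix_iff c).1 hc
  obtain ⟨e0, e1, e2, e3⟩ := chi_eq c
  have k0 := chi_of_one h i0
  have k1 := chi_of_one h i1
  have k2 := chi_of_one h i2
  have k3 := chi_of_one h i3
  rw [e0, mul_inv_eq_one] at k0
  rw [e1] at k1
  rw [e2, inv_mul_eq_one] at k2
  rw [e3, inv_mul_eq_one] at k3
  have k1' : c i1 ^ 2 = c i0 * (c i2 * c i3) := by
    rw [inv_mul_eq_one, ← mul_inv, eq_mul_inv_iff_mul_eq] at k1
    exact k1.symm
  have h6 : c i0 ^ 3 = c i2 * c i3 := by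
    refine mul_left_cancel (a := c i0) ?_
    rw [← pow_succ', ← k1', ← k0, ← pow_mul]
  have hsq : c i0 ^ 2 = 1 := by
    have : (c i0 ^ 3) ^ 2 = c i0 ^ 2 * c i0 ^ 2 := by
      rw [h6, mul_pow, ← k2, ← k3, ← k0]
    refine mul_left_cancel (a := c i0 ^ 2 * c i0 ^ 2) ?_
    rw [mul_one]
    calc c i0 ^ 2 * c i0 ^ 2 * c i0 ^ 2 = (c i0 ^ 3) ^ 2 := by
          rw [← pow_add, ← pow_add, ← pow_mul]
      _ = _ := this
  have hpsi : c i0 ^ q = c i0 := by
    refine Units.ext ?_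
    rw [Units.val_pow_eq_pow_val, ← A.ψ_eq]
    have hh : (c i0 : F) * (c i0 : F) = 1 := by rw [← Units.val_mul, ← sq, hsq, Units.val_one]
    rcases mul_self_eq_one_iff.1 hh with e | e <;> rw [e] <;> simp
  have e2' : c i2 = c i0 := h0.trans hpsi
  have e3' : c i3 = c i0 := by rw [h2, e2', hpsi]
  have hone : c i0 = 1 := by
    have : c i0 ^ 3 = c i0 ^ 2 := by rw [h6, e2', e3', sq]
    rw [pow_succ, hsq, one_mul] at this
    exact this
  funext i
  rcases fin_cases4 i with rfl | rfl | rfl | rfl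
  · exact hone
  · rw [← k0, hsq]; rfl
  · rw [e2', hone]; rfl
  · rw [e3', hone]; rfl

theorem nU_tri_mem (a : F) :
    nU hK (D4.data.p i0.val) a * (nU hK (D4.data.p i2.val) (A.ψ a) * nU hK (D4.data.p i3.val) (A.ψ (A.ψ a))) ∈
      A.grp.G1 := by
  obtain ⟨p1, p2, p3, p4, n1, n2, n3, n4, -⟩ := p_vals
  rw [nU_expand, nU_expand, nU_expand, show D4.data.p i0.val = 18 from p1, show D4.data.p i2.val = 13 from p3,
    show D4.data.p i3.val = 12 from p4, n1, n3, n4]
  have cm : ∀ {r s : ℕ}, r ∈ ([18, 13, 12, 5, 10, 11] : List ℕ) → s ∈ ([18, 13, 12, 5, 10, 11] : List ℕ) →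
      s ≠ r → s ≠ D4.data.neg r → ∀ t u : F, Commute (xU hK r t) (xU hK s u) := fun hr hs h1 h2 => commute hr hs h1 h2
  rw [merge_pnp (cm (r := 13) (s := 12) (by decide) (by decide) (by decide) (by decide +kernel) _ _)
      (cm (r := 10) (s := 12) (by decide) (by decide) (by decide) (by decide +kernel) _ _)
      (cm (r := 13) (s := 11) (by decide) (by decide) (by decide) (by decide +kernel) _ _),
    merge_pnp
      ((cm (r := 18) (s := 13) (by decide) (by decide) (by decide) (by decide +kernel) _ _).mul_right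
        (cm (r := 18) (s := 12) (by decide) (by decide) (by decide) (by decide +kernel) _ _))
      ((cm (r := 5) (s := 13) (by decide) (by decide) (by decide) (by decide +kernel) _ _).mul_right
        (cm (r := 5) (s := 12) (by decide) (by decide) (by decide) (by decide +kernel) _ _))
      ((cm (r := 18) (s := 10) (by decide) (by decide) (by decide) (by decide +kernel) _ _).mul_right
        (cm (r := 18) (s := 11) (by decide) (by decide) (by decide) (by decide +kernel) _ _))]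
  have hP : tri 18 13 12 a (A.ψ a) (A.ψ (A.ψ a)) ∈ A.grp.G1 := (A.tri_mem a).1
  have hN : tri 5 10 11 (-a⁻¹) (-(A.ψ a)⁻¹) (-(A.ψ (A.ψ a))⁻¹) ∈ A.grp.G1 := by
    have := (A.tri_mem (-a⁻¹)).2
    rwa [map_neg, map_inv₀, map_neg, map_inv₀] at this
  exact mul_mem (mul_mem hP hN) hP

theorem nU_one_mem {a : F} (ha : a ^ q = a) : nU hK (D4.data.p i1.val) a ∈ A.grp.G1 := by
  obtain ⟨p1, p2, p3, p4, n1, n2, -⟩ := p_vals
  have ha' : (-a⁻¹) ^ q = -a⁻¹ := by
    rw [← A.ψ_eq, map_neg, map_inv₀, A.ψ_eq, ha]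
  refine A.grp.nU_mem i1 ?_ ?_
  · rw [show D4.data.p i1.val = 14 from p2]; exact (single_mem ha).1
  · rw [show D4.data.p i1.val = 14 from p2, n2]; exact (single_mem ha').2

theorem tFin_mem : ∀ c ∈ (T A.ψ).torFix, tFin D4.data chevD4 F c ∈ A.grp.G1 := by
  intro c hc
  obtain ⟨h0, h1, h2, -⟩ := (A.torFix_iff c).1 hc
  obtain ⟨n01, n02, n03, n12, n13, n23⟩ := ne4
  have hc' : c = Pi.mulSingle i1 (c i1) * (Pi.mulSingle i0 (c i0) * (Pi.mulSingle i2 (c i2) * Pi.mulSingle i3 (c i3))) := by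
    funext i
    rcases fin_cases4 i with rfl | rfl | rfl | rfl <;>
      simp [n01, n02, n03, n12, n13, n23, n01.symm, n02.symm, n03.symm, n12.symm, n13.symm, n23.symm]
  rw [hc', map_mul, map_mul, map_mul]
  have hv1 : ((c i1 : F)) ^ q = c i1 := by rw [← Units.val_pow_eq_pow_val, ← h1]
  have hm1 : (-1 : F) ^ q = -1 := by rw [← A.ψ_eq, map_neg, map_one]
  refine mul_mem ?_ ?_
  · rw [tFin_single_eq hK]
    exact mul_mem (A.nU_one_mem hv1) (A.nU_one_mem hm1)
  rw [tFin_single_eq hK, tFin_single_eq hK, tFin_single_eq hK]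
  have v2 : (c i2 : F) = A.ψ (c i0 : F) := by rw [A.ψ_eq, h0, Units.val_pow_eq_pow_val]
  have v3 : (c i3 : F) = A.ψ (A.ψ (c i0 : F)) := by rw [← v2, A.ψ_eq, h2, Units.val_pow_eq_pow_val]
  have m2 : (-1 : F) = A.ψ (-1) := by rw [map_neg, map_one]
  have m3 : (-1 : F) = A.ψ (A.ψ (-1)) := by rw [← m2, ← m2]
  have key : ∀ i j : Fin chevD4.rank, i ≠ j → i ≠ i1 → j ≠ i1 → ∀ a b : F,
      Commute (nU hK (D4.data.p i.val) a) (nU hK (D4.data.p j.val) b) := by
    intro i j hij hi hj a b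
    have hmem : ∀ i : Fin chevD4.rank, i ≠ i1 → D4.data.p i.val ∈ ([18, 13, 12, 5, 10, 11] : List ℕ) ∧
        D4.data.neg (D4.data.p i.val) ∈ ([18, 13, 12, 5, 10, 11] : List ℕ) := by decide +kernel
    have hne : ∀ i j : Fin chevD4.rank, i ≠ j →
        D4.data.p j.val ≠ D4.data.p i.val ∧ D4.data.p j.val ≠ D4.data.neg (D4.data.p i.val) ∧
        D4.data.neg (D4.data.p j.val) ≠ D4.data.p i.val ∧
        D4.data.neg (D4.data.p j.val) ≠ D4.data.neg (D4.data.p i.val) ∧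
        D4.data.p j.val ≠ D4.data.neg (D4.data.neg (D4.data.p i.val)) ∧
        D4.data.neg (D4.data.p j.val) ≠ D4.data.neg (D4.data.neg (D4.data.p i.val)) := by decide +kernel
    obtain ⟨a1, a2⟩ := hmem i hi
    obtain ⟨b1, b2⟩ := hmem j hj
    obtain ⟨q1, q2, q3, q4, q5, q6⟩ := hne i j hij
    rw [nU_expand, nU_expand]
    have pp : ∀ x y : F, Commute (xU hK (D4.data.p i.val) x) (xU hK (D4.data.p j.val) y) :=
      commute a1 b1 q1 q2
    have pn : ∀ x y : F, Commute (xU hK (D4.data.p i.val) x) (xU hK (D4.data.neg (D4.data.p j.val)) y) :=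
      commute a1 b2 q3 q4
    have np : ∀ x y : F, Commute (xU hK (D4.data.neg (D4.data.p i.val)) x) (xU hK (D4.data.p j.val) y) :=
      commute a2 b1 q2 q5
    have nn : ∀ x y : F, Commute (xU hK (D4.data.neg (D4.data.p i.val)) x) (xU hK (D4.data.neg (D4.data.p j.val)) y) :=
      commute a2 b2 q4 q6
    have r1 : ∀ x : F, Commute (xU hK (D4.data.p i.val) x)
        (xU hK (D4.data.p j.val) b * xU hK (D4.data.neg (D4.data.p j.val)) (-b⁻¹) * xU hK (D4.data.p j.val) b) :=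
      fun x => ((pp x b).mul_right (pn x _)).mul_right (pp x b)
    have r2 : ∀ x : F, Commute (xU hK (D4.data.neg (D4.data.p i.val)) x)
        (xU hK (D4.data.p j.val) b * xU hK (D4.data.neg (D4.data.p j.val)) (-b⁻¹) * xU hK (D4.data.p j.val) b) :=
      fun x => ((np x b).mul_right (nn x _)).mul_right (np x b)
    exact ((r1 a).mul_left (r2 _)).mul_left (r1 a)
  have e : ∀ P P' Q Q' R R' : GL chevD4.Idx F, Commute P' Q → Commute P' R → Commute Q' R →
      P * P' * (Q * Q' * (R * R')) = P * (Q * R) * (P' * (Q' * R')) := fun P P' Q Q' R R' a b c => by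
    calc P * P' * (Q * Q' * (R * R')) = P * (P' * Q) * (Q' * R) * R' := by group
      _ = P * (Q * P') * (R * Q') * R' := by rw [a.eq, c.eq]
      _ = P * Q * (P' * R) * Q' * R' := by group
      _ = P * Q * (R * P') * Q' * R' := by rw [b.eq]
      _ = _ := by group
  rw [e _ _ _ _ _ _ (key i0 i2 n02 n01 n12.symm _ _) (key i0 i3 n03 n01 n13.symm _ _)
    (key i2 i3 n23 n12.symm n13.symm _ _), v2, v3]
  refine mul_mem (A.nU_tri_mem _) ?_
  nth_rewrite 2 [m2]
  nth_rewrite 3 [m3]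
  exact A.nU_tri_mem (-1)

theorem card_diagonal :
    Nat.card ↥(chevD4.diagonalSubgroup F ⊓ A.grp.G1) = (q - 1) ^ 2 * (q ^ 2 + q + 1) := by
  rw [A.grp.card_diagonal_of A.tFin_ker_trivial A.tFin_mem, A.card_torFix]

theorem orb_zero : A.grp.orb 0 = orb 0 ∧ A.grp.orb 1 = orb 1 := ⟨rfl, rfl⟩

theorem card_XJ (j : Fin 2) :
    Nat.card ((T A.ψ).X (A.grp.wJ j)) ^ 3 = (q ^ 3) ^ (invSet D4.data chevD4 (A.grp.wJ j)).ncard := by
  classical
  rw [A.grp.X_wJ, A.grp.invSet_wJ, show A.grp.orb j = orb j from rfl, subPos_orb]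
  by_cases hj : j = 0
  · rw [if_pos hj, Set.ncard_singleton]
    let f : {t : F // t ^ q = t} → ↥((T A.ψ).fix ⊓ genU hK F ({14} : Set ℕ)) := fun t =>
      ⟨xU hK 14 t.1, (xU14_fix_iff A.ψ t.1).2 (A.psi_fix_iff.2 t.2), hK.mem_genU (T := ({14} : Set ℕ)) rfl _⟩
    have hf : Function.Bijective f := by
      refine ⟨fun a b h => Subtype.ext (hK.xU_param_inj (lt24 (by norm_num)) (congrArg Subtype.val h)), ?_⟩
      rintro ⟨g, hg, hu⟩
      obtain ⟨t, ht, rfl⟩ := A.X0 hg hu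
      exact ⟨⟨t, ht⟩, rfl⟩
    erw [← Nat.card_eq_of_bijective f hf, card_field_fixed A.two_le A.card]
    rw [pow_one]
  · rw [if_neg hj]
    let f : F → ↥((T A.ψ).fix ⊓ genU hK F ({18, 13, 12} : Set ℕ)) := fun t =>
      ⟨_, (A.tri_fix t).1, tri_genU_pos _ _ _⟩
    have hf : Function.Bijective f := by
      refine ⟨fun a b h => (tri_inj (congrArg Subtype.val h)).1, ?_⟩
      rintro ⟨g, hg, hu⟩
      obtain ⟨t, rfl⟩ := A.X1 hg hu
      exact ⟨t, rfl⟩
    have hn : ({18, 13, 12} : Set ℕ).ncard = 3 := by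
      rw [show ({18, 13, 12} : Set ℕ) = ↑({18, 13, 12} : Finset ℕ) by simp, Set.ncard_coe_finset]
      rfl
    erw [← Nat.card_eq_of_bijective f hf, Nat.card_eq_fintype_card, A.card]
    rw [hn]

theorem card_pos : Nat.card ↥(chevD4.posUnipotent F ⊓ A.grp.G1) = q ^ 12 := by
  have h := A.grp.card_pos (Q := q ^ 3) (k := 3) A.card_XJ
  have e24 : chevD4.nroots - 12 = 12 := by decide +kernel
  rw [p_vals.2.2.2.2.2.2.2.2.1, e24, ← pow_mul, mul_comm 3 12, pow_mul] at h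
  exact Nat.pow_left_injective (by norm_num) h

theorem lists : A.grp.Lists twD4Os twD4Ws := ⟨rfl, fun _ => rfl, twD4_max⟩

theorem card_group :
    Nat.card ↥A.grp.G1 = q ^ 12 * (q ^ 2 - 1) * (q ^ 6 - 1) * (q ^ 8 + q ^ 4 + 1) := by
  classical
  have hX : ∀ w ∈ (T A.ψ).weylFix, Nat.card ((T A.ψ).X w) = q ^ Nat.card (invSet D4.data chevD4 w) := by
    intro w hw
    have h := A.grp.card_X (Q := q ^ 3) (k := 3) A.card_XJ hw
    rw [← pow_mul, mul_comm 3, pow_mul] at h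
    rw [Nat.card_coe_set_eq]
    exact Nat.pow_left_injective (by norm_num) h
  rw [A.grp.card_G1_sum, A.card_pos, A.card_diagonal, TwistGrp.sum_X (T := T A.ψ) hX]
  show _ * lenSum D4.data chevD4 (T A.ψ).weylFix q = _
  rw [← A.grp.fixFirst_all, A.lists.lenSum_level (k := 1) (by norm_num) twD4_level1 twD4_keys1 twD4_lens1,
    A.lists.lenSum_level (k := 0) (by norm_num) twD4_level0 twD4_keys0 twD4_lens0, TwistGrp.lenSum_bot]
  simp only [List.map_cons, List.map_nil, List.sum_cons, List.sum_nil]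
  have h2 := A.two_le
  have := Nat.one_le_pow 2 q (by omega)
  have := Nat.one_le_pow 6 q (by omega)
  have : 1 ≤ q := by omega
  zify [*]
  ring

theorem wJ_ne : A.grp.wJ 0 * A.grp.wJ 1 ≠ A.grp.wJ 1 * A.grp.wJ 0 := by
  intro h
  have e : orderOf (A.grp.wJ 0 * A.grp.wJ 1) = 6 := A.lists.orderOf_pair 0 1 (by norm_num) (by
    have := twD4_ords
    simp only [List.all_eq_true, List.mem_range] at this
    exact this 0 (by norm_num) 1 (by norm_num))
  have h2 : (A.grp.wJ 0 * A.grp.wJ 1) ^ 2 = 1 := by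
    rw [sq, mul_assoc, ← mul_assoc (A.grp.wJ 1), ← h, mul_assoc (A.grp.wJ 0), A.grp.wJ_sq, mul_one,
      A.grp.wJ_sq]
  have := orderOf_dvd_of_pow_eq_one h2
  rw [e] at this
  exact absurd (Nat.le_of_dvd (by norm_num) this) (by norm_num)

theorem exists_weylQuot :
    ∃ φ : ↥(chevD4.monomialSubgroup F ⊓ A.grp.G1) →* (CoxeterMatrix.G₂).Group, Function.Surjective φ ∧
      φ.ker = (chevD4.diagonalSubgroup F ⊓ A.grp.G1).subgroupOf (chevD4.monomialSubgroup F ⊓ A.grp.G1) := by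
  obtain ⟨ψ', hinj, hr⟩ := A.grp.exists_coxeter CoxeterMatrix.G₂ (fun i j => by
    have hv : ∀ i j : Fin 2, CoxeterMatrix.G₂ i j = (([[1, 6], [6, 1]] : List (List ℕ)).getD i.val []).getD j.val 0 ∧
        0 < CoxeterMatrix.G₂ i j := by
      intro i j
      fin_cases i <;> fin_cases j <;> simp [CoxeterMatrix.G₂]
    obtain ⟨h1, h2⟩ := hv i j
    refine ⟨h2, A.lists.orderOf_pair i j h2 ?_⟩
    have h3 := twD4_ords
    simp only [List.all_eq_true, List.mem_range] at h3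
    rw [h1]
    exact h3 i.val i.isLt j.val j.isLt)
  exact A.grp.exists_weylQuot ψ' hinj hr

theorem normalCore :
    ((chevD4.borelSubgroup F ⊓ A.grp.G1).subgroupOf A.grp.G1).normalCore = ⊥ := by
  refine A.grp.normalCore_eq_bot fun j i hi => ?_
  obtain ⟨p1, p2, p3, p4, -, -, -, -, hn, hr, -⟩ := p_vals
  have hi' : i.val ∈ twD4Os.getD j.val [] := hi
  fin_cases j
  · obtain ⟨t, -, ht, e⟩ := exists_ordProd_sorted hK [(14, (1 : F))] D4.data.npos
      (by rw [hn, hr]; simp) (by simp)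
    refine ⟨t, ?_, ?_⟩
    · simp [twD4Os] at hi'
      rw [hi', p2, ht (14, 1) (by simp)]
      exact one_ne_zero
    · erw [e, wordU_one]
      exact (xU14_fix_iff A.ψ 1).2 (map_one _)
  · obtain ⟨t, -, ht, e⟩ := exists_ordProd_sorted hK [(12, (1 : F)), (13, 1), (18, 1)] D4.data.npos
      (by rw [hn, hr]; simp) (by simp)
    refine ⟨t, ?_, ?_⟩
    · simp [twD4Os] at hi'
      rcases hi' with h | h | h <;> rw [h]
      · rw [p1, ht (18, 1) (by simp)]; exact one_ne_zero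
      · rw [p3, ht (13, 1) (by simp)]; exact one_ne_zero
      · rw [p4, ht (12, 1) (by simp)]; exact one_ne_zero
    · obtain ⟨h1, h2, h3⟩ := pos_commutes (F := F)
      have h0 := (A.tri_fix 1).1
      rw [map_one, map_one, tri, ((h1 (1 : F) 1).mul_right (h2 1 1)).eq, (h3 (1 : F) 1).eq] at h0
      erw [e]
      simpa [wordU, mul_assoc] using h0

theorem long_perms :
    (A.grp.wJ 0 * A.grp.wJ 1) ⟨14, lt24 (by norm_num)⟩ = ⟨23, lt24 (by norm_num)⟩ ∧
    A.grp.wJ 1 ⟨9, lt24 (by norm_num)⟩ = ⟨1, lt24 (by norm_num)⟩ := by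
  have e1 : A.grp.wJ 0 * A.grp.wJ 1 = A.grp.twPerm [0, 1] := by simp [TwistGrp.twPerm]
  have e2 : A.grp.wJ 1 = A.grp.twPerm [1] := by simp [TwistGrp.twPerm]
  obtain ⟨c1, c2, -, -⟩ := comm_long
  constructor
  · refine Fin.ext ?_
    rw [e1, A.lists.twPerm_eq (by simp), A.lists.app_eq (by simp)]
    exact c1
  · refine Fin.ext ?_
    rw [e2, A.lists.twPerm_eq (by simp), A.lists.app_eq (by simp)]
    exact c2

theorem perfect : commutator ↥A.grp.G1 = ⊤ := by
  refine A.grp.perfect_of fun j => ?_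
  by_cases hj : j = 0
  · subst hj
    intro g hg
    obtain ⟨hf, hu⟩ := hg
    rw [SetLike.mem_coe, show A.grp.orb 0 = orb 0 from rfl, subPos_orb, if_pos rfl] at hu
    obtain ⟨t, -, rfl⟩ := A.X0 hf hu
    obtain ⟨-, -, c3, c4⟩ := comm_long
    obtain ⟨hp, hq'⟩ := A.long_perms
    exact A.grp.derived_single (p := 14) (r := 23) (s := 1) (s0 := 9) (z := 1) (lt24 (by norm_num))
      (lt24 (by norm_num)) (lt24 (by norm_num)) (lt24 (by norm_num)) (by norm_num) (by rw [c4]; norm_num) c3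
      (Or.inl rfl) (mul_mem (A.grp.nu_mem 0) (A.grp.nu_mem 1))
      (hK.moves_mul (A.grp.nu_moves 0) (A.grp.nu_moves 1)) (congrArg Fin.val hp) (A.grp.nu_mem 1)
      (A.grp.nu_moves 1) (congrArg Fin.val hq') (single_mem (one_pow q)).2
      (fun u hu => (single_mem (A.psi_fix_iff.1 ((xU14_fix_iff A.ψ u).1 hu))).1) t hf
  · obtain ⟨a, ha⟩ : ∃ a : Fˣ, a ^ 2 ≠ 1 := by
      obtain ⟨g, hg⟩ := IsCyclic.exists_generator (α := Fˣ)
      refine ⟨g, fun h => ?_⟩
      have h3 := orderOf_eq_card_of_forall_mem_zpowers hg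
      have h4 := Nat.le_of_dvd (by norm_num) (orderOf_dvd_of_pow_eq_one h)
      classical
      rw [h3, Nat.card_eq_fintype_card, Fintype.card_units, A.card] at h4
      have := Nat.pow_le_pow_left A.two_le 3
      omega
    have hmem := A.par_mem a (one_pow q)
    refine A.grp.derived_of_fpf (A.tFin_mem _ hmem) (Twist.tFin_mem hK _) j fun g hg hfix => ?_
    rw [A.grp.X_wJ, show A.grp.orb j = orb j from rfl, subPos_orb, if_neg hj] at hg
    obtain ⟨t, rfl⟩ := A.X1 hg.1 hg.2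
    have hchi := (chi_eq (par q a 1)).1
    rw [(par_vals q a 1).1, (par_vals q a 1).2.1, inv_one, mul_one,
      show D4.data.p i0.val = 18 from p_vals.1] at hchi
    set h := tFin D4.data chevD4 F (par q a 1) with hh
    have hfix' : h * tri 18 13 12 t (A.ψ t) (A.ψ (A.ψ t)) * h⁻¹ = tri 18 13 12 t (A.ψ t) (A.ψ (A.ψ t)) := hfix
    have e : h * tri 18 13 12 t (A.ψ t) (A.ψ (A.ψ t)) * h⁻¹ =
        h * xU hK 18 t * h⁻¹ * ((h * xU hK 13 (A.ψ t) * h⁻¹) * (h * xU hK 12 (A.ψ (A.ψ t)) * h⁻¹)) := by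
      rw [tri]; group
    rw [e, hh, tFin_conj_xU hK (par q a 1) (lt24 (r := 18) (by norm_num)),
      tFin_conj_xU hK (par q a 1) (lt24 (r := 13) (by norm_num)),
      tFin_conj_xU hK (par q a 1) (lt24 (r := 12) (by norm_num)), hchi] at hfix'
    have ht := (tri_inj hfix').1
    have ht0 : t = 0 := by
      by_contra hne
      exact ha (Units.ext (mul_right_cancel₀ hne (ht.trans (one_mul t).symm)))
    simp [ht0, tri, xU_zero]

theorem simple : IsSimpleGroup ↥A.grp.G1 ∧ ¬ IsMulCommutative ↥A.grp.G1 := by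
  refine A.grp.isSimple_of (by norm_num) (fun B ⟨j, hj⟩ ⟨j', hj'⟩ => ⟨j, j', hj, hj', ?_⟩) A.normalCore A.perfect
  fin_cases j <;> fin_cases j'
  · exact absurd (hj.symm.trans hj') (by decide)
  · exact A.wJ_ne
  · exact fun h => A.wJ_ne h.symm
  · exact absurd (hj.symm.trans hj') (by decide)

end Setup

end CfsgLib.Chev.TwD4
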