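import Cfsg.Agent.Chev.TwistCommon
import Cfsg.Agent.Chev.GraphAll
import Cfsg.Agent.Chev.Run.Twist
import Cfsg.Agent.Chev.All

/-!
The twisted group of type ²E₆: generators, rank one, the monomial part.
-/

set_option autoImplicit false
set_option maxRecDepth 100000
set_option linter.unusedSectionVars false
set_option linter.style.haveILetI false
set_option linter.unusedSimpArgs false

namespace CfsgLib.Chev

open Cfsg.Lie Fine

variable {K : Data} {D : ChevalleyDatum} {F : Type*} [Field F]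

theorem cartan_neg (hK : Fine K D) (k : Fin D.rank) {r : ℕ} (hr : r < D.nroots) :
    K.tab.A k.val (K.neg r) = -K.tab.A k.val r := (hK.isLin_cartan k.isLt).neg r hr

/-- conjugation of `n_i(a)` by a torus element -/
theorem tFin_conj_nU (hK : Fine K D) (c : Fin D.rank → Fˣ) (i : Fin D.rank) (a : F) :
    tFin K D F c * nU hK (K.p i.val) a * (tFin K D F c)⁻¹ =
      nU hK (K.p i.val) (((∏ k : Fin D.rank, c k ^ K.tab.A k.val (K.p i.val) : Fˣ) : F) * a) := by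
  have hp := hK.toGood.p_lt i.isLt
  rw [nU_expand hK, nU_expand hK,
    show ∀ h P N : GL D.Idx F, h * (P * N * P) * h⁻¹ = h * P * h⁻¹ * (h * N * h⁻¹) * (h * P * h⁻¹) from
      fun h P N => by group,
    tFin_conj_xU hK c hp, tFin_conj_xU hK c (hK.toGood.Kneg_lt hp)]
  congr 3
  have e : (∏ k : Fin D.rank, c k ^ K.tab.A k.val (K.neg (K.p i.val))) =
      (∏ k : Fin D.rank, c k ^ K.tab.A k.val (K.p i.val))⁻¹ := by
    rw [← Finset.prod_inv_distrib]
    exact Finset.prod_congr rfl fun k _ => by rw [cartan_neg hK k hp, _root_.zpow_neg]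
  rw [e, Units.val_inv_eq_inv_val, mul_inv, mul_neg]

theorem neg_eq_pnp (hK : Fine K D) (i : Fin D.rank) (t : F) :
    xU hK (K.neg (K.p i.val)) t =
      xU hK (K.p i.val) t⁻¹ * nU hK (K.p i.val) (-t⁻¹) * xU hK (K.p i.val) t⁻¹ := by
  rw [nU_expand hK, inv_neg, neg_neg, inv_inv, ← xU_inv]
  group

theorem nU_eq_tFin (hK : Fine K D) (i : Fin D.rank) (a : Fˣ) :
    nU hK (K.p i.val) (a : F) = tFin K D F (Pi.mulSingle i a) * sU hK i.val := by
  rw [Twist.tFin_single hK, hK.nU_eq (hK.toGood.p_lt i.isLt), sU, hK.toGood.simple_eq i.isLt]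

theorem diagonal_comm (hK : Fine K D) {a b : GL D.Idx F} (ha : a ∈ D.diagonalSubgroup F)
    (hb : b ∈ D.diagonalSubgroup F) : a * b = b * a := by
  obtain ⟨c, rfl⟩ := hK.mem_diagonal_iff.1 ha
  obtain ⟨d, rfl⟩ := hK.mem_diagonal_iff.1 hb
  rw [← tU_mul, ← tU_mul, mul_comm]

/-- the characters of fixed parameters are fixed -/
theorem Twist.chi_fix (T : Twist K D F) {c : Fin D.rank → Fˣ} (hc : c ∈ T.torFix) (i : Fin D.rank) :
    ((∏ k : Fin D.rank, c k ^ K.tab.A k.val (K.p (T.π i).val) : Fˣ) : F) =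
      T.φ i ((∏ k : Fin D.rank, c k ^ K.tab.A k.val (K.p i.val) : Fˣ) : F) := by
  have hK := T.hC.fine
  have h := tFin_conj_xU hK c (hK.toGood.p_lt i.isLt) (1 : F)
  rw [mul_one] at h
  have h2 := congrArg T.app h
  have hf := T.tFin_fix hc
  rw [T.app_mul (mul_mem hf.1 (hK.xU_mem_group _ _)) (inv_mem hf.1), T.app_mul hf.1 (hK.xU_mem_group _ _),
    T.app_inv hf.1, hf.2, T.app_p, T.app_p, map_one, tFin_conj_xU hK c (hK.toGood.p_lt (T.π i).isLt),
    mul_one] at h2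
  exact hK.xU_param_inj (hK.toGood.p_lt (T.π i).isLt) h2

namespace TwE6

/-- indices of the fundamental roots -/
def i0 : Fin chevE6.rank := ⟨0, by decide +kernel⟩
/-- indices of the fundamental roots -/
def i1 : Fin chevE6.rank := ⟨1, by decide +kernel⟩
/-- indices of the fundamental roots -/
def i2 : Fin chevE6.rank := ⟨2, by decide +kernel⟩
/-- indices of the fundamental roots -/
def i3 : Fin chevE6.rank := ⟨3, by decide +kernel⟩
/-- indices of the fundamental roots -/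
def i4 : Fin chevE6.rank := ⟨4, by decide +kernel⟩
/-- indices of the fundamental roots -/
def i5 : Fin chevE6.rank := ⟨5, by decide +kernel⟩

/-- the symmetry of the fundamental roots -/
def pi : Equiv.Perm (Fin chevE6.rank) :=
  show Equiv.Perm (Fin 6) from ⟨![5, 1, 4, 3, 2, 0], ![5, 1, 4, 3, 2, 0], by decide, by decide⟩

theorem pi_list : ∀ i : Fin chevE6.rank, ([5, 1, 4, 3, 2, 0] : List ℕ).getD i.val 0 = (pi i).val := by
  decide +kernel

theorem pi_vals : pi i0 = i5 ∧ pi i1 = i1 ∧ pi i2 = i4 ∧ pi i3 = i3 ∧ pi i4 = i2 ∧ pi i5 = i0 := by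
  decide +kernel

theorem p_vals : E6.data.p i0.val = 56 ∧ E6.data.p i1.val = 46 ∧ E6.data.p i2.val = 42 ∧ E6.data.p i3.val = 39 ∧
    E6.data.p i4.val = 37 ∧ E6.data.p i5.val = 36 := by decide +kernel

theorem neg_vals : E6.data.neg 56 = 15 ∧ E6.data.neg 46 = 25 ∧ E6.data.neg 42 = 29 ∧ E6.data.neg 39 = 32 ∧
    E6.data.neg 37 = 34 ∧ E6.data.neg 36 = 35 := by decide +kernel

theorem sizes : E6.data.npos = 36 ∧ chevE6.nroots = 72 ∧ chevE6.rank = 6 := by decide +kernel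

theorem names : e6p1 = 56 ∧ e6p2 = 46 ∧ e6p3 = 42 ∧ e6p4 = 39 ∧ e6p5 = 37 ∧ e6p6 = 36 ∧
    e6m1 = 15 ∧ e6m2 = 25 ∧ e6m3 = 29 ∧ e6m4 = 32 ∧ e6m5 = 34 ∧ e6m6 = 35 :=
  ⟨rfl, rfl, rfl, rfl, rfl, rfl, rfl, rfl, rfl, rfl, rfl, rfl⟩

theorem image_check : ([(56, 36), (36, 56), (42, 37), (37, 42), (46, 46), (39, 39), (15, 35), (35, 15), (29, 34),
    (34, 29), (25, 25), (32, 32)] : List (ℕ × ℕ)).all (fun p => Nat.beq (graphE6.im p.1) p.2 &&
      intEq (graphE6.sg p.1) 1 && Nat.beq (graphE6.ex p.1) 1) = true := by decide +kernel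

theorem comm_check : ([(56, 36), (56, 35), (15, 36), (15, 35), (42, 37), (42, 34), (29, 37), (29, 34)] :
    List (ℕ × ℕ)).all (fun p => (E6.data.comm p.1 p.2).isEmpty && !(Nat.beq p.2 p.1) &&
      !(Nat.beq p.2 (E6.data.neg p.1))) = true := by decide +kernel

theorem lists : E6.data.subPosL [1] = [46] ∧ E6.data.subPosL [3] = [39] ∧ E6.data.subPosL [2, 4] = [37, 42] ∧
    E6.data.subPosL [0, 5] = [36, 56] ∧ E6.data.negSubL [1] = [25] ∧ E6.data.negSubL [3] = [32] ∧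
    E6.data.negSubL [2, 4] = [29, 34] ∧ E6.data.negSubL [0, 5] = [15, 35] := by decide +kernel

variable {F : Type*} [Field F]

theorem tab : TwistTab E6.data chevE6 F graphE6 0 pi :=
  ⟨graphE6_data, ExpOK.zero_case F, _, twE6_sym, pi_list⟩

/-- the twist -/
noncomputable def T (ψ : F →+* F) : Twist E6.data chevE6 F := (tab (F := F)).toTwist ψ

theorem hK : Fine E6.data chevE6 := E6.fine

theorem lt72 {r : ℕ} (h : r < 72) : r < chevE6.nroots := by rw [sizes.2.1]; exact h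

theorem app_root (ψ : F →+* F) {r r' : ℕ}
    (h : (r, r') ∈ ([(56, 36), (36, 56), (42, 37), (37, 42), (46, 46), (39, 39), (15, 35), (35, 15), (29, 34),
      (34, 29), (25, 25), (32, 32)] : List (ℕ × ℕ))) (t : F) :
    (T ψ).app (xU hK r t) = xU hK r' (ψ t) := by
  have hlt : ∀ p ∈ ([(56, 36), (36, 56), (42, 37), (37, 42), (46, 46), (39, 39), (15, 35), (35, 15), (29, 34),
      (34, 29), (25, 25), (32, 32)] : List (ℕ × ℕ)), p.1 < 72 := by decide
  have hc := image_check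
  simp only [List.all_eq_true, Bool.and_eq_true, intEq_iff] at hc
  obtain ⟨⟨h1, h2⟩, h3⟩ := hc _ h
  have e := (tab (F := F)).toTwist_app ψ (lt72 (hlt _ h)) t
  rw [Nat.eq_of_beq_eq_true h1, h2, Nat.eq_of_beq_eq_true h3, Int.cast_one, one_mul, pow_one] at e
  exact e

theorem phi_eq (ψ : F →+* F) (i : Fin chevE6.rank) (t : F) : (T ψ).φ i t = ψ t := by
  show ψ (t ^ graphE6.ex (E6.data.p i.val)) = ψ t
  have h : ∀ i : Fin chevE6.rank, graphE6.ex (E6.data.p i.val) = 1 := by decide +kernel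
  rw [h i, pow_one]

theorem commute {r s : ℕ}
    (h : (r, s) ∈ ([(56, 36), (56, 35), (15, 36), (15, 35), (42, 37), (42, 34), (29, 37), (29, 34)] : List (ℕ × ℕ)))
    (t u : F) : Commute (xU hK r t) (xU hK s u) := by
  have hlt : ∀ p ∈ ([(56, 36), (56, 35), (15, 36), (15, 35), (42, 37), (42, 34), (29, 37), (29, 34)] :
      List (ℕ × ℕ)), p.1 < 72 ∧ p.2 < 72 := by decide
  have hc := comm_check
  simp only [List.all_eq_true, Bool.and_eq_true, Bool.not_eq_true', List.isEmpty_iff] at hc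
  obtain ⟨⟨h1, h2⟩, h3⟩ := hc _ h
  refine hK.xU_commute (lt72 (hlt _ h).1) (lt72 (hlt _ h).2) (fun e => ?_) (fun e => ?_) h1 t u
  · rw [e, Nat.beq_refl] at h2; exact Bool.noConfusion h2
  · rw [e, Nat.beq_refl] at h3; exact Bool.noConfusion h3

/-- data of a pair orbit: two fundamental roots with their root indices -/
structure Pair where
  a : Fin chevE6.rank
  b : Fin chevE6.rank
  r : ℕ
  s : ℕ
  r' : ℕ
  s' : ℕ
  hr : E6.data.p a.val = r
  hs : E6.data.p b.val = s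
  hr' : E6.data.neg r = r'
  hs' : E6.data.neg s = s'
  ne : a ≠ b
  pab : pi a = b ∧ pi b = a
  im : (r, s) ∈ ([(56, 36), (36, 56), (42, 37), (37, 42), (46, 46), (39, 39), (15, 35), (35, 15), (29, 34),
      (34, 29), (25, 25), (32, 32)] : List (ℕ × ℕ)) ∧ (s, r) ∈ ([(56, 36), (36, 56), (42, 37), (37, 42), (46, 46),
      (39, 39), (15, 35), (35, 15), (29, 34), (34, 29), (25, 25), (32, 32)] : List (ℕ × ℕ)) ∧
      (r', s') ∈ ([(56, 36), (36, 56), (42, 37), (37, 42), (46, 46), (39, 39), (15, 35), (35, 15), (29, 34),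
      (34, 29), (25, 25), (32, 32)] : List (ℕ × ℕ)) ∧ (s', r') ∈ ([(56, 36), (36, 56), (42, 37), (37, 42), (46, 46),
      (39, 39), (15, 35), (35, 15), (29, 34), (34, 29), (25, 25), (32, 32)] : List (ℕ × ℕ))
  com : (r, s) ∈ ([(56, 36), (56, 35), (15, 36), (15, 35), (42, 37), (42, 34), (29, 37), (29, 34)] : List (ℕ × ℕ)) ∧
      (r, s') ∈ ([(56, 36), (56, 35), (15, 36), (15, 35), (42, 37), (42, 34), (29, 37), (29, 34)] : List (ℕ × ℕ)) ∧
      (r', s) ∈ ([(56, 36), (56, 35), (15, 36), (15, 35), (42, 37), (42, 34), (29, 37), (29, 34)] : List (ℕ × ℕ)) ∧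
      (r', s') ∈ ([(56, 36), (56, 35), (15, 36), (15, 35), (42, 37), (42, 34), (29, 37), (29, 34)] : List (ℕ × ℕ))
  rs : r < 72 ∧ s < 72 ∧ r ≠ s ∧ r' < 72 ∧ s' < 72 ∧ r' ≠ s'

/-- the orbit of `p₃`, `p₅` -/
def pair2 : Pair where
  a := i2
  b := i4
  r := 42
  s := 37
  r' := 29
  s' := 34
  hr := p_vals.2.2.1
  hs := p_vals.2.2.2.2.1
  hr' := neg_vals.2.2.1
  hs' := neg_vals.2.2.2.2.1
  ne := by decide
  pab := ⟨pi_vals.2.2.1, pi_vals.2.2.2.2.1⟩
  im := by decide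
  com := by decide
  rs := by decide

/-- the orbit of `p₁`, `p₆` -/
def pair3 : Pair where
  a := i0
  b := i5
  r := 56
  s := 36
  r' := 15
  s' := 35
  hr := p_vals.1
  hs := p_vals.2.2.2.2.2
  hr' := neg_vals.1
  hs' := neg_vals.2.2.2.2.2
  ne := by decide
  pab := ⟨pi_vals.1, pi_vals.2.2.2.2.2⟩
  im := by decide
  com := by decide
  rs := by decide

section Finite

variable (F) [Fintype F]

/-- hypotheses on the field -/
structure Setup (q : ℕ) where
  ψ : F →+* F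
  ψ_eq : ∀ x, ψ x = x ^ q
  card : Fintype.card F = q ^ 2
  two_le : 2 ≤ q

variable {F}

theorem exists_setup {q : ℕ} (hq : IsPrimePow q) (h : Fintype.card F = q ^ 2) : Nonempty (Setup F q) := by
  obtain ⟨p, e, hp, -, -, ψ, hψ⟩ := exists_powHom_of_card hq (by norm_num) h
  exact ⟨⟨ψ, hψ, h, hq.two_le⟩⟩

variable {q : ℕ} (A : Setup F q)

namespace Setup

theorem psi2 (t : F) : A.ψ (A.ψ t) = t := by
  rw [A.ψ_eq, A.ψ_eq, ← pow_mul, ← sq, ← A.card]
  exact FiniteField.pow_card t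

theorem fix_iff {g : GL chevE6.Idx F} (hg : g ∈ chevE6.group F) :
    g ∈ (T A.ψ).fix ↔ (T A.ψ).app g = g :=
  ⟨fun h => h.2, fun h => ⟨hg, h⟩⟩

theorem single_fix_iff {r : ℕ} (hr : r = 46 ∨ r = 39 ∨ r = 25 ∨ r = 32) (t : F) :
    xU hK r t ∈ (T A.ψ).fix ↔ t ^ q = t := by
  rw [A.fix_iff (hK.xU_mem_group _ _), app_root A.ψ (r' := r) (by rcases hr with rfl | rfl | rfl | rfl <;> decide) t,
    ← A.ψ_eq]
  exact ⟨hK.xU_param_inj (lt72 (by omega)), fun h => by rw [h]⟩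

theorem pair_app (P : Pair) (t u : F) :
    (T A.ψ).app (xU hK P.r t * xU hK P.s u) = xU hK P.r (A.ψ u) * xU hK P.s (A.ψ t) ∧
    (T A.ψ).app (xU hK P.r' t * xU hK P.s' u) = xU hK P.r' (A.ψ u) * xU hK P.s' (A.ψ t) := by
  obtain ⟨a1, a2, a3, a4⟩ := P.im
  constructor
  · rw [(T A.ψ).app_mul (hK.xU_mem_group _ _) (hK.xU_mem_group _ _), app_root A.ψ a1, app_root A.ψ a2,
      (commute P.com.1 _ _).eq]
  · rw [(T A.ψ).app_mul (hK.xU_mem_group _ _) (hK.xU_mem_group _ _), app_root A.ψ a3, app_root A.ψ a4,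
      (commute P.com.2.2.2 _ _).eq]

theorem pair_fix (P : Pair) (t : F) :
    xU hK P.r t * xU hK P.s (A.ψ t) ∈ (T A.ψ).fix ∧ xU hK P.r' t * xU hK P.s' (A.ψ t) ∈ (T A.ψ).fix :=
  ⟨(A.fix_iff (mul_mem (hK.xU_mem_group _ _) (hK.xU_mem_group _ _))).2 (by rw [(A.pair_app P _ _).1, A.psi2]),
    (A.fix_iff (mul_mem (hK.xU_mem_group _ _) (hK.xU_mem_group _ _))).2 (by rw [(A.pair_app P _ _).2, A.psi2])⟩

theorem pair_genU (P : Pair) (t u : F) :
    xU hK P.r t * xU hK P.s u ∈ genU hK F ({P.r, P.s} : Set ℕ) ∧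
    xU hK P.r' t * xU hK P.s' u ∈ genU hK F ({P.r', P.s'} : Set ℕ) :=
  ⟨mul_mem (hK.mem_genU (T := ({P.r, P.s} : Set ℕ)) (Or.inl rfl) t)
      (hK.mem_genU (T := ({P.r, P.s} : Set ℕ)) (Or.inr rfl) u),
    mul_mem (hK.mem_genU (T := ({P.r', P.s'} : Set ℕ)) (Or.inl rfl) t)
      (hK.mem_genU (T := ({P.r', P.s'} : Set ℕ)) (Or.inr rfl) u)⟩

theorem pair_X (P : Pair) {g : GL chevE6.Idx F} (hg : g ∈ (T A.ψ).fix) :
    (g ∈ genU hK F ({P.r, P.s} : Set ℕ) → ∃ t : F, g = xU hK P.r t * xU hK P.s (A.ψ t)) ∧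
    (g ∈ genU hK F ({P.r', P.s'} : Set ℕ) → ∃ t : F, g = xU hK P.r' t * xU hK P.s' (A.ψ t)) := by
  obtain ⟨h1, h2, h3, h4, h5, h6⟩ := P.rs
  constructor
  · intro h
    obtain ⟨t, u, rfl⟩ := hK.mem_genU_pair (commute P.com.1) h
    have e := hg.2
    rw [(A.pair_app P t u).1] at e
    exact ⟨t, by rw [(hK.xU_pair_inj (lt72 h1) (lt72 h2) h3 e).2]⟩
  · intro h
    obtain ⟨t, u, rfl⟩ := hK.mem_genU_pair (commute P.com.2.2.2) h
    have e := hg.2
    rw [(A.pair_app P t u).2] at e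
    exact ⟨t, by rw [(hK.xU_pair_inj (lt72 h4) (lt72 h5) h6 e).2]⟩

theorem wordU_mem {w : List (ℕ × F)} (h : w ∈ e6Words F q) : wordU hK w ∈ twistedE6 F q := by
  rw [twistedE6, genSubgroup_eq hK]
  exact Subgroup.subset_closure ⟨w, h, rfl⟩

theorem single_mem {r : ℕ} (hr : r = 46 ∨ r = 39 ∨ r = 25 ∨ r = 32) {t : F} (ht : t ^ q = t) :
    xU hK r t ∈ twistedE6 F q := by
  rw [show xU hK r t = wordU hK [(r, t)] by simp [wordU]]
  exact wordU_mem (Or.inl ⟨t, ht, r, by simp [names]; omega, rfl⟩)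

theorem pair_word {rs : ℕ × ℕ} (h : rs ∈ ([(56, 36), (15, 35), (42, 37), (29, 34)] : List (ℕ × ℕ))) (t : F) :
    xU hK rs.1 t * xU hK rs.2 (A.ψ t) ∈ twistedE6 F q := by
  rw [show xU hK rs.1 t * xU hK rs.2 (A.ψ t) = wordU hK [(rs.1, t), (rs.2, t ^ q)] by simp [wordU, A.ψ_eq]]
  exact wordU_mem (Or.inr ⟨t, rs, by simpa [names] using h, rfl⟩)

/-- orbits -/
def orb (j : Fin 4) : Set ℕ := {i | i ∈ twE6Os.getD j.val []}

theorem subPos_orb : subPos E6.data chevE6 (orb 0) = {46} ∧ subPos E6.data chevE6 (orb 1) = {39} ∧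
    subPos E6.data chevE6 (orb 2) = {pair2.r, pair2.s} ∧ subPos E6.data chevE6 (orb 3) = {pair3.r, pair3.s} := by
  refine ⟨?_, ?_, ?_, ?_⟩ <;> rw [orb, subPos_eq graphE6_data.lift.comb] <;> ext r <;>
    simp [twE6Os, lists.1, lists.2.1, lists.2.2.1, lists.2.2.2.1, pair2, pair3] <;> tauto

theorem negSub_orb : negSub E6.data chevE6 (orb 0) = {25} ∧ negSub E6.data chevE6 (orb 1) = {32} ∧
    negSub E6.data chevE6 (orb 2) = {pair2.r', pair2.s'} ∧
    negSub E6.data chevE6 (orb 3) = {pair3.r', pair3.s'} := by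
  refine ⟨?_, ?_, ?_, ?_⟩ <;> rw [orb, negSub_eq graphE6_data.lift.comb] <;> ext r <;>
    simp [twE6Os, lists.2.2.2.2.1, lists.2.2.2.2.2.1, lists.2.2.2.2.2.2.1, lists.2.2.2.2.2.2.2, pair2, pair3]

theorem fin4 : ∀ j : Fin 4, j = 0 ∨ j = 1 ∨ j = 2 ∨ j = 3 := by decide

theorem pos_mem (j : Fin 4) {g : GL chevE6.Idx F} (hf : g ∈ (T A.ψ).fix)
    (hu : g ∈ genU hK F (subPos E6.data chevE6 (orb j))) : g ∈ twistedE6 F q := by
  obtain ⟨s0, s1, s2, s3⟩ := subPos_orb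
  rcases fin4 j with rfl | rfl | rfl | rfl
  · rw [s0] at hu
    obtain ⟨t, rfl⟩ := hK.mem_genU_single hu
    exact single_mem (Or.inl rfl) ((A.single_fix_iff (Or.inl rfl) t).1 hf)
  · rw [s1] at hu
    obtain ⟨t, rfl⟩ := hK.mem_genU_single hu
    exact single_mem (Or.inr (Or.inl rfl)) ((A.single_fix_iff (Or.inr (Or.inl rfl)) t).1 hf)
  · rw [s2] at hu
    obtain ⟨t, rfl⟩ := (A.pair_X pair2 hf).1 hu
    exact A.pair_word (rs := (42, 37)) (by simp) t
  · rw [s3] at hu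
    obtain ⟨t, rfl⟩ := (A.pair_X pair3 hf).1 hu
    exact A.pair_word (rs := (56, 36)) (by simp) t

theorem pair_ne (P : Pair) : xU hK P.r' (1 : F) * xU hK P.s' (A.ψ 1) ≠ 1 := by
  intro h
  have e := hK.xU_pair_inj (lt72 P.rs.2.2.2.1) (lt72 P.rs.2.2.2.2.1) P.rs.2.2.2.2.2
    (t' := (0 : F)) (u' := 0) (by rw [h, xU_zero, xU_zero, one_mul])
  exact one_ne_zero e.1

/-- the group with its orbits -/
noncomputable def grp : TwistGrp (T A.ψ) 4 where
  G1 := twistedE6 F q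
  orb := orb
  orb_lt := by
    intro j i hi
    rw [sizes.2.2]
    fin_cases j <;> simp [orb, twE6Os] at hi <;> omega
  orb_cover := by
    have h : ∀ i : Fin chevE6.rank, ∃ j : Fin 4, i.val ∈ twE6Os.getD j.val [] := by decide +kernel
    exact h
  orb_inj := by
    intro j j' i h h'
    fin_cases j <;> fin_cases j' <;> simp [orb, twE6Os] at h h' ⊢ <;> omega
  orb_π := by
    have h : ∀ j : Fin 4, ∀ i : Fin chevE6.rank, i.val ∈ twE6Os.getD j.val [] →
        (pi i).val ∈ twE6Os.getD j.val [] := by decide +kernel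
    exact h
  orb_trans := by
    have h : ∀ j : Fin 4, ∀ i i' : Fin chevE6.rank, i.val ∈ twE6Os.getD j.val [] →
        i'.val ∈ twE6Os.getD j.val [] → ∃ m : Fin 2, (pi ^ m.val) i = i' := by decide +kernel
    intro j i i' hi hi'
    obtain ⟨m, hm⟩ := h j i i' hi hi'
    exact ⟨m.val, hm⟩
  orb_ne := by
    have h : ∀ j : Fin 4, ∃ i : Fin chevE6.rank, i.val ∈ twE6Os.getD j.val [] := by decide +kernel
    exact h
  gen := by
    obtain ⟨s0, s1, s2, s3⟩ := subPos_orb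
    obtain ⟨n0, n1, n2, n3⟩ := negSub_orb
    rw [twistedE6, genSubgroup_eq hK]
    refine Subgroup.closure_mono ?_
    rintro _ ⟨w, hw, rfl⟩
    rcases hw with ⟨t, ht, r, hr, rfl⟩ | ⟨t, rs, hrs, rfl⟩
    · simp only [names, List.mem_cons, List.not_mem_nil, or_false] at hr
      rw [show wordU hK [(r, t)] = xU hK r t by simp [wordU]]
      refine ⟨(A.single_fix_iff (by omega) t).2 ht, ?_⟩
      rcases hr with rfl | rfl | rfl | rfl
      · exact ⟨0, Or.inl (by rw [s0]; exact hK.mem_genU (T := ({46} : Set ℕ)) rfl t)⟩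
      · exact ⟨0, Or.inr (by rw [n0]; exact hK.mem_genU (T := ({25} : Set ℕ)) rfl t)⟩
      · exact ⟨1, Or.inl (by rw [s1]; exact hK.mem_genU (T := ({39} : Set ℕ)) rfl t)⟩
      · exact ⟨1, Or.inr (by rw [n1]; exact hK.mem_genU (T := ({32} : Set ℕ)) rfl t)⟩
    · simp only [names, List.mem_cons, List.not_mem_nil, or_false] at hrs
      rw [show wordU hK [(rs.1, t), (rs.2, t ^ q)] = xU hK rs.1 t * xU hK rs.2 (A.ψ t) by simp [wordU, A.ψ_eq]]
      rcases hrs with rfl | rfl | rfl | rfl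
      · exact ⟨(A.pair_fix pair3 t).1, 3, Or.inl (by rw [s3]; exact (pair_genU pair3 _ _).1)⟩
      · exact ⟨(A.pair_fix pair3 t).2, 3, Or.inr (by rw [n3]; exact (pair_genU pair3 _ _).2)⟩
      · exact ⟨(A.pair_fix pair2 t).1, 2, Or.inl (by rw [s2]; exact (pair_genU pair2 _ _).1)⟩
      · exact ⟨(A.pair_fix pair2 t).2, 2, Or.inr (by rw [n2]; exact (pair_genU pair2 _ _).2)⟩
  posX := fun j g hg => A.pos_mem j hg.1 hg.2
  negX := by
    intro j
    obtain ⟨n0, n1, n2, n3⟩ := negSub_orb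
    rcases fin4 j with rfl | rfl | rfl | rfl
    · exact ⟨xU hK 25 1, single_mem (by omega) (one_pow q),
        fun h => one_ne_zero ((hK.xU_eq_one_iff (lt72 (by norm_num)) (1 : F)).1 h),
        by rw [n0]; exact hK.mem_genU (T := ({25} : Set ℕ)) rfl 1⟩
    · exact ⟨xU hK 32 1, single_mem (by omega) (one_pow q),
        fun h => one_ne_zero ((hK.xU_eq_one_iff (lt72 (by norm_num)) (1 : F)).1 h),
        by rw [n1]; exact hK.mem_genU (T := ({32} : Set ℕ)) rfl 1⟩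
    · exact ⟨_, A.pair_word (rs := (29, 34)) (by simp) 1, A.pair_ne pair2,
        by rw [n2]; exact (pair_genU pair2 _ _).2⟩
    · exact ⟨_, A.pair_word (rs := (15, 35)) (by simp) 1, A.pair_ne pair3,
        by rw [n3]; exact (pair_genU pair3 _ _).2⟩

/-! ### The monomial part -/

/-- images of fixed parameters -/
noncomputable def torIm : Subgroup (GL chevE6.Idx F) :=
  ((T A.ψ).torFix).map (tFin E6.data chevE6 F)

/-- representatives without parameters -/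
noncomputable def rep0 (j : Fin 4) : GL chevE6.Idx F :=
  match j with
  | 0 => sU hK i1.val
  | 1 => sU hK i3.val
  | 2 => sU hK i2.val * sU hK i4.val
  | 3 => sU hK i0.val * sU hK i5.val

/-- the candidate monomial group -/
noncomputable def monN : Subgroup (GL chevE6.Idx F) :=
  A.torIm ⊔ Subgroup.closure (Set.range (rep0 (F := F)))

theorem torIm_le : A.torIm ≤ (T A.ψ).fix ⊓ chevE6.diagonalSubgroup F := by
  rintro _ ⟨c, hc, rfl⟩
  exact ⟨(T A.ψ).tFin_fix hc, Twist.tFin_mem hK c⟩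

theorem rep0_fix (j : Fin 4) :
    rep0 (F := F) j ∈ (T A.ψ).fix ⊓ chevE6.monomialSubgroup F := by
  have hs : ∀ i : Fin chevE6.rank, sU hK i.val ∈ chevE6.monomialSubgroup F := fun i => hK.sU_mem_monomial i.isLt
  have e : ∀ i : Fin chevE6.rank, (T A.ψ).app (sU hK i.val) = sU hK (pi i).val := fun i => (T A.ψ).app_sU i
  have hg : ∀ i : Fin chevE6.rank, sU hK i.val ∈ chevE6.group F := fun i => hK.monomial_le_group (hs i)
  obtain ⟨p0, p1, p2, p3, p4, p5⟩ := pi_vals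
  have hcomm : ∀ P : Pair, Commute (sU hK P.a.val : GL chevE6.Idx F) (sU hK P.b.val) := by
    intro P
    rw [sU, sU, hK.toGood.simple_eq P.a.isLt, hK.toGood.simple_eq P.b.isLt, nU_expand hK, nU_expand hK,
      P.hr, P.hs, P.hr', P.hs']
    have r1 : ∀ x : F, Commute (xU hK P.r x) (xU hK P.s 1 * xU hK P.s' (-1⁻¹) * xU hK P.s 1) := fun x =>
      ((commute P.com.1 x 1).mul_right (commute P.com.2.1 x _)).mul_right (commute P.com.1 x 1)
    have r2 : ∀ x : F, Commute (xU hK P.r' x) (xU hK P.s 1 * xU hK P.s' (-1⁻¹) * xU hK P.s 1) := fun x =>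
      ((commute P.com.2.2.1 x 1).mul_right (commute P.com.2.2.2 x _)).mul_right (commute P.com.2.2.1 x 1)
    exact ((r1 1).mul_left (r2 _)).mul_left (r1 1)
  rcases fin4 j with rfl | rfl | rfl | rfl
  · exact ⟨⟨hg _, by show (T A.ψ).app (sU hK i1.val) = _; rw [e, p1]; rfl⟩, hs _⟩
  · exact ⟨⟨hg _, by show (T A.ψ).app (sU hK i3.val) = _; rw [e, p3]; rfl⟩, hs _⟩
  · refine ⟨⟨mul_mem (hg _) (hg _), ?_⟩, mul_mem (hs _) (hs _)⟩
    show (T A.ψ).app (sU hK i2.val * sU hK i4.val) = _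
    rw [(T A.ψ).app_mul (hg _) (hg _), e, e, p2, p4]
    exact (hcomm pair2).symm.eq
  · refine ⟨⟨mul_mem (hg _) (hg _), ?_⟩, mul_mem (hs _) (hs _)⟩
    show (T A.ψ).app (sU hK i0.val * sU hK i5.val) = _
    rw [(T A.ψ).app_mul (hg _) (hg _), e, e, p0, p5]
    exact (hcomm pair3).symm.eq

theorem nU_pair_commute (P : Pair) (a b : F) :
    Commute (nU hK (E6.data.p P.a.val) a) (nU hK (E6.data.p P.b.val) b) := by
  rw [nU_expand hK, nU_expand hK, P.hr, P.hs, P.hr', P.hs']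
  have r1 : ∀ x : F, Commute (xU hK P.r x) (xU hK P.s b * xU hK P.s' (-b⁻¹) * xU hK P.s b) := fun x =>
    ((commute P.com.1 x b).mul_right (commute P.com.2.1 x _)).mul_right (commute P.com.1 x b)
  have r2 : ∀ x : F, Commute (xU hK P.r' x) (xU hK P.s b * xU hK P.s' (-b⁻¹) * xU hK P.s b) := fun x =>
    ((commute P.com.2.2.1 x b).mul_right (commute P.com.2.2.2 x _)).mul_right (commute P.com.2.2.1 x b)
  exact ((r1 a).mul_left (r2 _)).mul_left (r1 a)

theorem nU_pair_eq (P : Pair) (a b : Fˣ) :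
    nU hK (E6.data.p P.a.val) (a : F) * nU hK (E6.data.p P.b.val) (b : F) =
      tFin E6.data chevE6 F (Pi.mulSingle P.a a * Pi.mulSingle P.b b) * (sU hK P.a.val * sU hK P.b.val) := by
  have hc : Commute (sU hK P.a.val) (tFin E6.data chevE6 F (Pi.mulSingle P.b b)) := by
    rw [sU, hK.toGood.simple_eq P.a.isLt, tFin_single_eq hK]
    exact (nU_pair_commute P 1 _).mul_right (nU_pair_commute P 1 _)
  rw [nU_eq_tFin hK, nU_eq_tFin hK, map_mul]
  simp only [mul_assoc]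
  rw [← mul_assoc (sU hK P.a.val), hc.eq, mul_assoc]

theorem single_torFix {i : Fin chevE6.rank} (hi : i = i1 ∨ i = i3) {a : Fˣ} (ha : (a : F) ^ q = a) :
    Pi.mulSingle i a ∈ (T A.ψ).torFix := by
  rw [Twist.mem_torFix]
  intro k
  rw [phi_eq, A.ψ_eq]
  have hπ : pi i = i := by
    obtain ⟨-, p1, -, p3, -, -⟩ := pi_vals
    rcases hi with rfl | rfl <;> assumption
  by_cases hk : k = i
  · subst hk
    show ((Pi.mulSingle k a : Fin chevE6.rank → Fˣ) (pi k) : F) = _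
    rw [hπ, Pi.mulSingle_eq_same, ha]
  · show ((Pi.mulSingle i a : Fin chevE6.rank → Fˣ) (pi k) : F) = _
    rw [Pi.mulSingle_eq_of_ne (fun e => hk (pi.injective (e.trans hπ.symm))), Pi.mulSingle_eq_of_ne hk]
    simp

theorem pair_torFix (P : Pair) {a b : Fˣ} (hb : (b : F) = A.ψ (a : F)) :
    Pi.mulSingle P.a a * Pi.mulSingle P.b b ∈ (T A.ψ).torFix := by
  rw [Twist.mem_torFix]
  intro k
  rw [phi_eq]
  show ((Pi.mulSingle P.a a * Pi.mulSingle P.b b : Fin chevE6.rank → Fˣ) (pi k) : F) = _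
  simp only [Pi.mul_apply]
  by_cases hka : k = P.a
  · subst hka
    rw [P.pab.1, Pi.mulSingle_eq_of_ne P.ne.symm, Pi.mulSingle_eq_same, one_mul, Pi.mulSingle_eq_same,
      Pi.mulSingle_eq_of_ne P.ne, mul_one, hb]
  by_cases hkb : k = P.b
  · subst hkb
    rw [P.pab.2, Pi.mulSingle_eq_same, Pi.mulSingle_eq_of_ne P.ne, mul_one, Pi.mulSingle_eq_of_ne P.ne.symm,
      Pi.mulSingle_eq_same, one_mul, hb, A.psi2]
  · rw [Pi.mulSingle_eq_of_ne (fun e => hkb (pi.injective (e.trans P.pab.2.symm))),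
      Pi.mulSingle_eq_of_ne (fun e => hka (pi.injective (e.trans P.pab.1.symm))),
      Pi.mulSingle_eq_of_ne hka, Pi.mulSingle_eq_of_ne hkb]
    simp

theorem nU_single_mem {i : Fin chevE6.rank} (hi : i = i1 ∨ i = i3) {a : F} (ha0 : a ≠ 0) (ha : a ^ q = a) :
    nU hK (E6.data.p i.val) a ∈ A.monN := by
  rw [show a = ((Units.mk0 a ha0 : Fˣ) : F) from rfl, nU_eq_tFin hK]
  refine mul_mem (Subgroup.mem_sup_left ⟨_, A.single_torFix hi (by simpa using ha), rfl⟩)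
    (Subgroup.mem_sup_right (Subgroup.subset_closure ?_))
  rcases hi with rfl | rfl
  · exact ⟨0, rfl⟩
  · exact ⟨1, rfl⟩

theorem nU_pair_mem (P : Pair) (hP : P = pair2 ∨ P = pair3) {a : F} (ha : a ≠ 0) :
    nU hK (E6.data.p P.a.val) a * nU hK (E6.data.p P.b.val) (A.ψ a) ∈ A.monN := by
  have hb : A.ψ a ≠ 0 := (map_ne_zero A.ψ).2 ha
  rw [show a = ((Units.mk0 a ha : Fˣ) : F) from rfl,
    show A.ψ ((Units.mk0 a ha : Fˣ) : F) = ((Units.mk0 _ hb : Fˣ) : F) from rfl, nU_pair_eq]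
  refine mul_mem (Subgroup.mem_sup_left ⟨_, A.pair_torFix P rfl, rfl⟩)
    (Subgroup.mem_sup_right (Subgroup.subset_closure ?_))
  rcases hP with rfl | rfl
  · exact ⟨2, rfl⟩
  · exact ⟨3, rfl⟩

theorem rankOne : A.grp.RankOne A.monN := by
  refine ⟨sup_le (le_trans A.torIm_le (inf_le_inf_left _ le_sup_left))
    ((Subgroup.closure_le _).2 ?_), ?_⟩
  · rintro _ ⟨j, rfl⟩; exact A.rep0_fix j
  intro j x hx hxn hne
  obtain ⟨n0, n1, n2, n3⟩ := negSub_orb
  change x ∈ genU hK F (negSub E6.data chevE6 (orb j)) at hxn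
  rw [A.grp.X_wJ]
  show ∃ v ∈ (T A.ψ).fix ⊓ chevE6.posUnipotent F, ∃ g ∈ A.monN,
    ∃ m ∈ (T A.ψ).fix ⊓ genU hK F (subPos E6.data chevE6 (orb j)), x = v * g * m
  obtain ⟨s0, s1, s2, s3⟩ := subPos_orb
  have hpos : ∀ {S : Set ℕ}, (∀ r ∈ S, 36 ≤ r ∧ r < 72) → ∀ {y : GL chevE6.Idx F}, y ∈ genU hK F S →
      y ∈ chevE6.posUnipotent F := fun hS y hy => by
    rw [hK.posUnipotent_eq]
    exact hK.genU_mono (fun r hr => by rw [sizes.1, sizes.2.1]; exact hS r hr) hy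
  have single : ∀ (i : Fin chevE6.rank), (i = i1 ∨ i = i3) → ∀ r, (r = 46 ∨ r = 39) → E6.data.p i.val = r →
      ∀ r', (r' = 25 ∨ r' = 32) → E6.data.neg r = r' → x ∈ genU hK F ({r'} : Set ℕ) →
      ∃ v ∈ (T A.ψ).fix ⊓ chevE6.posUnipotent F, ∃ g ∈ A.monN,
        ∃ m ∈ (T A.ψ).fix ⊓ genU hK F ({r} : Set ℕ), x = v * g * m := by
    intro i hi r hr hp r' hr' hn hxm
    obtain ⟨t, rfl⟩ := hK.mem_genU_single hxm
    have ht := (A.single_fix_iff (by omega) t).1 hx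
    have ht0 : t ≠ 0 := fun h => hne (by rw [h, xU_zero])
    have hf : xU hK r t⁻¹ ∈ (T A.ψ).fix := (A.single_fix_iff (by omega) _).2 (by rw [inv_pow, ht])
    have hm : xU hK r t⁻¹ ∈ genU hK F ({r} : Set ℕ) := hK.mem_genU (T := ({r} : Set ℕ)) rfl _
    refine ⟨_, ⟨hf, hpos (by intro s hs; rw [Set.mem_singleton_iff] at hs; omega) hm⟩, _,
      A.nU_single_mem hi (a := -t⁻¹) (neg_ne_zero.2 (inv_ne_zero ht0)) (by
        rw [← A.ψ_eq, map_neg, map_inv₀, A.ψ_eq, ht]), _, ⟨hf, hm⟩, ?_⟩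
    rw [← hn, ← hp]
    exact neg_eq_pnp hK i t
  have pair : ∀ P : Pair, (P = pair2 ∨ P = pair3) → x ∈ genU hK F ({P.r', P.s'} : Set ℕ) →
      ∃ v ∈ (T A.ψ).fix ⊓ chevE6.posUnipotent F, ∃ g ∈ A.monN,
        ∃ m ∈ (T A.ψ).fix ⊓ genU hK F ({P.r, P.s} : Set ℕ), x = v * g * m := by
    intro P hP hxm
    obtain ⟨t, rfl⟩ := (A.pair_X P hx).2 hxm
    have ht0 : t ≠ 0 := fun h => hne (by rw [h, map_zero, xU_zero, xU_zero, one_mul])
    have hf := (A.pair_fix P t⁻¹).1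
    have hm := (pair_genU P t⁻¹ (A.ψ t⁻¹)).1
    have hb : 36 ≤ P.r ∧ P.r < 72 ∧ 36 ≤ P.s ∧ P.s < 72 := by rcases hP with rfl | rfl <;> decide
    refine ⟨_, ⟨hf, hpos (by rintro s (rfl | rfl) <;> omega) hm⟩, _,
      A.nU_pair_mem P hP (a := -t⁻¹) (neg_ne_zero.2 (inv_ne_zero ht0)), _, ⟨hf, hm⟩, ?_⟩
    rw [← P.hr', ← P.hs', ← P.hr, ← P.hs, neg_eq_pnp hK, neg_eq_pnp hK, map_neg, map_inv₀, P.hr, P.hs]
    refine merge_pnp (commute P.com.1 _ _) ?_ ?_
    · have h := ((commute P.com.1 (-t⁻¹) (A.ψ t)⁻¹).mul_left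
        (commute P.com.2.2.1 (-(-t⁻¹)⁻¹) (A.ψ t)⁻¹)).mul_left (commute P.com.1 (-t⁻¹) (A.ψ t)⁻¹)
      rw [← P.hr, nU_expand hK, P.hr, P.hr']
      exact h
    · have h := ((commute P.com.1 t⁻¹ (-(A.ψ t)⁻¹)).mul_right
        (commute P.com.2.1 t⁻¹ (-(-(A.ψ t)⁻¹)⁻¹))).mul_right (commute P.com.1 t⁻¹ (-(A.ψ t)⁻¹))
      rw [← P.hs, nU_expand hK, P.hs, P.hs']
      exact h
  rcases fin4 j with rfl | rfl | rfl | rfl
  · rw [s0]; rw [n0] at hxn
    exact single i1 (Or.inl rfl) 46 (Or.inl rfl) p_vals.2.1 25 (Or.inl rfl) neg_vals.2.1 hxn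
  · rw [s1]; rw [n1] at hxn
    exact single i3 (Or.inr rfl) 39 (Or.inr rfl) p_vals.2.2.2.1 32 (Or.inr rfl) neg_vals.2.2.2.1 hxn
  · rw [s2]; rw [n2] at hxn; exact pair pair2 (Or.inl rfl) hxn
  · rw [s3]; rw [n3] at hxn; exact pair pair3 (Or.inr rfl) hxn

theorem torIm_normalized (j : Fin 4) {h : GL chevE6.Idx F} (hh : h ∈ A.torIm) :
    rep0 (F := F) j * h * (rep0 (F := F) j)⁻¹ ∈ A.torIm := by
  obtain ⟨c, hc, rfl⟩ := hh
  set h := tFin E6.data chevE6 F c
  suffices key : ∃ d ∈ (T A.ψ).torFix, h * rep0 (F := F) j * h⁻¹ = tFin E6.data chevE6 F d * rep0 (F := F) j by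
    obtain ⟨d, hd, e⟩ := key
    have e2 : rep0 (F := F) j * h * (rep0 (F := F) j)⁻¹ = (h⁻¹ * tFin E6.data chevE6 F d)⁻¹ := by
      rw [show h⁻¹ * tFin E6.data chevE6 F d = h⁻¹ * (tFin E6.data chevE6 F d * rep0 (F := F) j) * (rep0 (F := F) j)⁻¹
        by group, ← e]
      group
    rw [e2]
    exact inv_mem (mul_mem (inv_mem ⟨c, hc, rfl⟩) ⟨d, hd, rfl⟩)
  obtain ⟨p0, p1, p2, p3, p4, p5⟩ := pi_vals
  have hs : ∀ i : Fin chevE6.rank, sU hK i.val = nU hK (E6.data.p i.val) (1 : F) := fun i => by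
    rw [sU, hK.toGood.simple_eq i.isLt]
  have hchi : ∀ i : Fin chevE6.rank,
      ((∏ k : Fin chevE6.rank, c k ^ E6.data.tab.A k.val (E6.data.p (pi i).val) : Fˣ) : F) =
        A.ψ ((∏ k : Fin chevE6.rank, c k ^ E6.data.tab.A k.val (E6.data.p i.val) : Fˣ) : F) := fun i => by
    have := (T A.ψ).chi_fix hc i
    rwa [phi_eq] at this
  have single : ∀ i : Fin chevE6.rank, (i = i1 ∨ i = i3) →
      ∃ d ∈ (T A.ψ).torFix, h * sU hK i.val * h⁻¹ = tFin E6.data chevE6 F d * sU hK i.val := by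
    intro i hi
    have hπ : pi i = i := by rcases hi with rfl | rfl <;> assumption
    refine ⟨_, A.single_torFix hi (a := ∏ k : Fin chevE6.rank, c k ^ E6.data.tab.A k.val (E6.data.p i.val)) ?_, ?_⟩
    · have := hchi i
      rw [hπ, A.ψ_eq] at this
      exact this.symm
    · rw [hs, tFin_conj_nU hK, mul_one, nU_eq_tFin hK, hs]
  have pair : ∀ P : Pair, ∃ d ∈ (T A.ψ).torFix,
      h * (sU hK P.a.val * sU hK P.b.val) * h⁻¹ = tFin E6.data chevE6 F d * (sU hK P.a.val * sU hK P.b.val) := by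
    intro P
    refine ⟨_, A.pair_torFix P (a := ∏ k : Fin chevE6.rank, c k ^ E6.data.tab.A k.val (E6.data.p P.a.val))
      (b := ∏ k : Fin chevE6.rank, c k ^ E6.data.tab.A k.val (E6.data.p P.b.val)) ?_, ?_⟩
    · have := hchi P.a
      rwa [P.pab.1] at this
    · rw [← nU_pair_eq, show h * (sU hK P.a.val * sU hK P.b.val) * h⁻¹ =
        h * sU hK P.a.val * h⁻¹ * (h * sU hK P.b.val * h⁻¹) by group, hs, hs, tFin_conj_nU hK, tFin_conj_nU hK,
        mul_one, mul_one]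
  rcases fin4 j with rfl | rfl | rfl | rfl
  · exact single i1 (Or.inl rfl)
  · exact single i3 (Or.inr rfl)
  · exact pair pair2
  · exact pair pair3

theorem rep0_sq (j : Fin 4) : rep0 (F := F) j * rep0 (F := F) j ∈ chevE6.diagonalSubgroup F := by
  have hq : ∀ i : Fin chevE6.rank, sU hK i.val * sU hK i.val ∈ chevE6.diagonalSubgroup F := fun i => hK.sU_sq_mem i
  have pair : ∀ P : Pair, sU hK P.a.val * sU hK P.b.val * (sU hK P.a.val * sU hK P.b.val) ∈
      chevE6.diagonalSubgroup F := fun P => by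
    have hc : Commute (sU hK P.a.val : GL chevE6.Idx F) (sU hK P.b.val) := by
      rw [sU, sU, hK.toGood.simple_eq P.a.isLt, hK.toGood.simple_eq P.b.isLt]
      exact nU_pair_commute P 1 1
    rw [hc.symm.mul_mul_mul_comm]
    exact mul_mem (hq _) (hq _)
  rcases fin4 j with rfl | rfl | rfl | rfl
  · exact hq i1
  · exact hq i3
  · exact pair pair2
  · exact pair pair3

theorem monN_split {g : GL chevE6.Idx F} (hg : g ∈ A.monN) :
    ∃ h ∈ A.torIm, ∃ k ∈ Subgroup.closure (Set.range (rep0 (F := F))), g = h * k := by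
  have hle : Subgroup.closure (Set.range (rep0 (F := F))) ≤
      Subgroup.normalizer (A.torIm : Set (GL chevE6.Idx F)) := by
    refine (Subgroup.closure_le _).2 ?_
    rintro _ ⟨j, rfl⟩
    refine Subgroup.mem_normalizer_iff.2 fun h => ⟨A.torIm_normalized j, fun hh => ?_⟩
    have h2 := A.torIm_normalized j hh
    set r := rep0 (F := F) j
    have hh' : r * h * r⁻¹ ∈ chevE6.diagonalSubgroup F := (A.torIm_le hh).2
    have hd : h ∈ chevE6.diagonalSubgroup F := by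
      have hn := Subgroup.mem_normalizer_iff.1
        (hK.monomial_le_normalizer_diagonal (A.rep0_fix j).2) h
      exact hn.2 hh'
    rwa [show r * (r * h * r⁻¹) * r⁻¹ = r * r * h * (r * r)⁻¹ by group, diagonal_comm hK (rep0_sq j) hd,
      mul_inv_cancel_right] at h2
  have hg' : g ∈ ((A.torIm ⊔ Subgroup.closure (Set.range (rep0 (F := F))) : Subgroup _) :
      Set (GL chevE6.Idx F)) := hg
  rw [Subgroup.coe_mul_of_right_le_normalizer_left _ _ hle] at hg'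
  obtain ⟨h, hh, k, hk, rfl⟩ := hg'
  exact ⟨h, hh, k, hk, rfl⟩

theorem cartan_inverse :
    cartanMat E6.data 6 * (!![4, 3, 5, 6, 4, 2; 3, 6, 6, 9, 6, 3; 5, 6, 10, 12, 8, 4; 6, 9, 12, 18, 12, 6;
      4, 6, 8, 12, 10, 5; 2, 3, 4, 6, 5, 4] : Matrix (Fin 6) (Fin 6) ℤ) = Matrix.diagonal fun _ => 3 := by
  decide +kernel

theorem ker_cube {c : Fin chevE6.rank → Fˣ} (h : tFin E6.data chevE6 F c = 1) : ∀ i, c i ^ 3 = 1 := by
  have hk : c ∈ (powMat (G := Fˣ) (cartanMat E6.data chevE6.rank)).ker := by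
    rw [← hK.tFin_ker]; exact h
  intro i
  obtain ⟨B, hB⟩ : ∃ B : Matrix (Fin chevE6.rank) (Fin chevE6.rank) ℤ,
      cartanMat E6.data chevE6.rank * B = Matrix.diagonal fun _ => 3 :=
    ⟨_, cartan_inverse⟩
  have e := powMat_mul (cartanMat E6.data chevE6.rank) B c
  rw [hB, MonoidHom.mem_ker.1 hk, map_one] at e
  have e' := congrFun e i
  rw [powMat_apply, Finset.prod_eq_single i (fun b _ hb => by simp [Matrix.diagonal_apply, hb])
    (fun hx => absurd (Finset.mem_univ i) hx)] at e'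
  simpa using e'

theorem diag_inf_monN {g : GL chevE6.Idx F} (hg : g ∈ A.monN) (hd : g ∈ chevE6.diagonalSubgroup F) :
    g ∈ A.torIm := by
  obtain ⟨h, hh, k, hk, rfl⟩ := A.monN_split hg
  refine mul_mem hh ?_
  have hkd : k ∈ chevE6.diagonalSubgroup F :=
    (Subgroup.mul_mem_cancel_left _ (A.torIm_le hh).2).1 hd
  have hkf : k ∈ (T A.ψ).fix :=
    ((Subgroup.closure_le _).2 (by rintro _ ⟨j, rfl⟩; exact A.rep0_fix j) hk :
      k ∈ (T A.ψ).fix ⊓ chevE6.monomialSubgroup F).1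
  obtain ⟨p, hp⟩ := CharP.exists F
  obtain ⟨m, hpp, -⟩ := FiniteField.card F p
  haveI : Fact p.Prime := ⟨hpp⟩
  haveI := hp
  let ι : ZMod p →+* F := ZMod.castHom dvd_rfl F
  -- the element is defined over the prime field
  have hmem : k ∈ (chevE6.monomialSubgroup (ZMod p)).map (fieldMap chevE6 ι) := by
    refine (Subgroup.closure_le _).2 ?_ hk
    rintro _ ⟨j, rfl⟩
    have hs : ∀ i : Fin chevE6.rank, sU hK i.val ∈ (chevE6.monomialSubgroup (ZMod p)).map (fieldMap chevE6 ι) :=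
      fun i => ⟨sU hK i.val, hK.sU_mem_monomial i.isLt, hK.fieldMap_sU ι i.val⟩
    rcases fin4 j with rfl | rfl | rfl | rfl
    · exact hs _
    · exact hs _
    · exact mul_mem (hs _) (hs _)
    · exact mul_mem (hs _) (hs _)
  obtain ⟨k0, hk0, rfl⟩ := hmem
  obtain ⟨L, h0, hh0, e0⟩ := hK.exists_sWord hk0
  have hperm : wPerm hK L = 1 := by
    refine (hK.moves_unique (hK.moves_diagonal hkd) ?_).symm
    rw [e0, map_mul, hK.fieldMap_sWord]
    simpa using hK.moves_mul (hK.moves_diagonal (hK.fieldMap_mem_diagonal ι hh0)) (hK.moves_sWord L)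
  have hk0d : k0 ∈ chevE6.diagonalSubgroup (ZMod p) := by
    rw [e0]; exact mul_mem hh0 (hK.sWord_mem_diagonal L.length L le_rfl hperm)
  rw [← hK.tFin_range] at hk0d
  obtain ⟨c0, rfl⟩ := hk0d
  let c : Fin chevE6.rank → Fˣ := fun i => Units.map ι.toMonoidHom (c0 i)
  have hc : fieldMap chevE6 ι (tFin E6.data chevE6 (ZMod p) c0) = tFin E6.data chevE6 F c := by
    show fieldMap chevE6 ι (tU E6.data chevE6 (extC c0)) = tU E6.data chevE6 (extC c)
    rw [hK.fieldMap_tU]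
    congr 1
    funext i
    by_cases hi : i < chevE6.rank <;> simp [extC, hi, c]
  rw [hc] at hkf ⊢
  have hψ : A.ψ.comp ι = ι := RingHom.ext_zmod _ _
  have hact : ∀ i, (T A.ψ).act c i = c (pi.symm i) := by
    intro i
    obtain ⟨k, rfl⟩ := pi.surjective i
    refine Units.ext ?_
    rw [show pi k = (T A.ψ).π k from rfl, (T A.ψ).act_apply, phi_eq]
    rw [show ((T A.ψ).π k) = pi k from rfl, Equiv.symm_apply_apply]
    exact DFunLike.congr_fun hψ (c0 k : ZMod p)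
  set z := c⁻¹ * (T A.ψ).act c with hz
  have hzk : tFin E6.data chevE6 F z = 1 := by
    rw [hz, map_mul, map_inv, ← (T A.ψ).app_tFin, hkf.2, inv_mul_cancel]
  have hcube : ∀ i, z i ^ 3 = 1 := ker_cube hzk
  have hinv : (T A.ψ).act z = z⁻¹ := by
    have hsym : ∀ i : Fin chevE6.rank, pi.symm (pi.symm i) = i := by decide +kernel
    have hact2 : ∀ i, (T A.ψ).act ((T A.ψ).act c) i = c i := by
      intro i
      obtain ⟨k, rfl⟩ := pi.surjective i
      refine Units.ext ?_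
      rw [show pi k = (T A.ψ).π k from rfl, (T A.ψ).act_apply, phi_eq, hact]
      rw [show ((T A.ψ).π k) = pi k from rfl]
      rw [show pi k = pi.symm k by rw [← hsym (pi k), Equiv.symm_apply_apply]]
      exact DFunLike.congr_fun hψ (c0 (pi.symm k) : ZMod p)
    rw [hz, map_mul, map_inv, funext hact2, mul_inv_rev, inv_inv, mul_comm]
  refine ⟨c * z ^ 2, ?_, by rw [map_mul, map_pow, hzk, one_pow, mul_one]⟩
  show (T A.ψ).act (c * z ^ 2) = c * z ^ 2
  rw [map_mul, map_pow, hinv, show (T A.ψ).act c = c * z by rw [hz, mul_inv_cancel_left]]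
  have h3 : z ^ 3 = 1 := funext fun i => hcube i
  rw [mul_assoc, inv_pow]
  congr 1
  rw [mul_inv_eq_iff_eq_mul, ← pow_add, show 2 + 2 = 3 + 1 from rfl, pow_succ, h3, one_mul]

end Setup

end Finite

end TwE6

end CfsgLib.Chev
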