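import Cfsg.Agent.Chev.TwE6

/-!
Orders, (B,N)-pair, Weyl group and simplicity of ²E₆.
-/

set_option autoImplicit false
set_option maxRecDepth 100000
set_option linter.unusedSectionVars false
set_option linter.unusedSimpArgs false

namespace CfsgLib.Chev.TwE6

open Cfsg.Lie CfsgLib.Chev Fine

theorem fin_cases6 : ∀ i : Fin chevE6.rank, i = i0 ∨ i = i1 ∨ i = i2 ∨ i = i3 ∨ i = i4 ∨ i = i5 := by
  decide +kernel

theorem univ6 : (Finset.univ : Finset (Fin chevE6.rank)) = {i0, i1, i2, i3, i4, i5} := by decide +kernel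

theorem ne6 : ([i0, i1, i2, i3, i4, i5] : List (Fin chevE6.rank)).Nodup := by decide +kernel

theorem prod6 {G : Type*} [CommMonoid G] (f : Fin chevE6.rank → G) :
    ∏ k, f k = f i0 * (f i1 * (f i2 * (f i3 * (f i4 * f i5)))) := by
  rw [show (Finset.univ : Finset (Fin chevE6.rank)) = ([i0, i1, i2, i3, i4, i5] : List (Fin chevE6.rank)).toFinset
      by rw [univ6]; decide +kernel, List.prod_toFinset _ ne6]
  simp

theorem chi_vals : ([i0, i1, i2, i3, i4, i5].map fun j : Fin chevE6.rank =>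
    [i0, i1, i2, i3, i4, i5].map fun k : Fin chevE6.rank => E6.data.tab.A k.val (E6.data.p j.val)) =
    [[2, 0, -1, 0, 0, 0], [0, 2, 0, -1, 0, 0], [-1, 0, 2, -1, 0, 0], [0, -1, -1, 2, -1, 0],
      [0, 0, 0, -1, 2, -1], [0, 0, 0, 0, -1, 2]] := by
  decide +kernel

variable {F : Type*} [Field F]

theorem chi_eq (c : Fin chevE6.rank → Fˣ) :
    (∏ k, c k ^ E6.data.tab.A k.val (E6.data.p i0.val)) = c i0 ^ 2 * (c i2)⁻¹ ∧
    (∏ k, c k ^ E6.data.tab.A k.val (E6.data.p i1.val)) = c i1 ^ 2 * (c i3)⁻¹ ∧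
    (∏ k, c k ^ E6.data.tab.A k.val (E6.data.p i2.val)) = (c i0)⁻¹ * (c i2 ^ 2 * (c i3)⁻¹) ∧
    (∏ k, c k ^ E6.data.tab.A k.val (E6.data.p i3.val)) = (c i1)⁻¹ * ((c i2)⁻¹ * (c i3 ^ 2 * (c i4)⁻¹)) ∧
    (∏ k, c k ^ E6.data.tab.A k.val (E6.data.p i4.val)) = (c i3)⁻¹ * (c i4 ^ 2 * (c i5)⁻¹) ∧
    (∏ k, c k ^ E6.data.tab.A k.val (E6.data.p i5.val)) = (c i4)⁻¹ * c i5 ^ 2 := by
  have h := chi_vals
  simp only [List.map_cons, List.map_nil, List.cons.injEq, and_true] at h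
  obtain ⟨h0, h1, h2, h3, h4, h5⟩ := h
  refine ⟨?_, ?_, ?_, ?_, ?_, ?_⟩ <;> rw [prod6]
  · obtain ⟨a, b, c', d, e, f⟩ := h0; rw [a, b, c', d, e, f]; simp [zpow_ofNat]
  · obtain ⟨a, b, c', d, e, f⟩ := h1; rw [a, b, c', d, e, f]; simp [zpow_ofNat]
  · obtain ⟨a, b, c', d, e, f⟩ := h2; rw [a, b, c', d, e, f]; simp [zpow_ofNat]
  · obtain ⟨a, b, c', d, e, f⟩ := h3; rw [a, b, c', d, e, f]; simp [zpow_ofNat]
  · obtain ⟨a, b, c', d, e, f⟩ := h4; rw [a, b, c', d, e, f]; simp [zpow_ofNat]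
  · obtain ⟨a, b, c', d, e, f⟩ := h5; rw [a, b, c', d, e, f]; simp [zpow_ofNat]

theorem chi_of_one {c : Fin chevE6.rank → Fˣ} (h : tFin E6.data chevE6 F c = 1) (j : Fin chevE6.rank) :
    (∏ k, c k ^ E6.data.tab.A k.val (E6.data.p j.val)) = 1 := by
  have hp := E6.fine.toGood.p_lt j.isLt
  have e := tFin_conj_xU E6.fine c hp (1 : F)
  rw [h, one_mul, inv_one, mul_one, mul_one] at e
  exact Units.ext (E6.fine.xU_param_inj hp e).symm

/-- fixed parameters built from four units -/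
noncomputable def par (q : ℕ) (a b x y : Fˣ) : Fin chevE6.rank → Fˣ :=
  fun i => if i = i0 then a else if i = i1 then x else if i = i2 then b else if i = i3 then y
    else if i = i4 then b ^ q else a ^ q

theorem par_vals (q : ℕ) (a b x y : Fˣ) :
    par q a b x y i0 = a ∧ par q a b x y i1 = x ∧ par q a b x y i2 = b ∧ par q a b x y i3 = y ∧
      par q a b x y i4 = b ^ q ∧ par q a b x y i5 = a ^ q := by
  have h := ne6
  simp only [List.nodup_cons, List.mem_cons, List.not_mem_nil, or_false, not_or, not_false_eq_true,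
    List.nodup_nil, and_true] at h
  obtain ⟨⟨a1, a2, a3, a4, a5⟩, ⟨b1, b2, b3, b4⟩, ⟨c1, c2, c3⟩, ⟨d1, d2⟩, e1⟩ := h
  simp [par, Ne.symm a1, Ne.symm a2, Ne.symm a3, Ne.symm a4, Ne.symm a5, Ne.symm b1, Ne.symm b2, Ne.symm b3,
    Ne.symm b4, Ne.symm c1, Ne.symm c2, Ne.symm c3, Ne.symm d1, Ne.symm d2, Ne.symm e1]

theorem mid_swap {G : Type*} [Group G] {P P' Q Q' : G} (h : Commute P' Q) :
    P * P' * (Q * Q') = P * Q * (P' * Q') := by
  calc P * P' * (Q * Q') = P * (P' * Q) * Q' := by group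
    _ = _ := by rw [h.eq]; group

namespace Setup

variable [Fintype F] {q : ℕ} (A : Setup F q)

theorem torFix_iff (c : Fin chevE6.rank → Fˣ) :
    c ∈ (T A.ψ).torFix ↔ c i5 = c i0 ^ q ∧ c i4 = c i2 ^ q ∧ c i1 = c i1 ^ q ∧ c i3 = c i3 ^ q ∧
      c i0 = c i5 ^ q ∧ c i2 = c i4 ^ q := by
  rw [Twist.mem_torFix]
  have e : ∀ i j : Fin chevE6.rank, ((c j : F) = (T A.ψ).φ i (c i : F)) ↔ c j = c i ^ q := fun i j => by
    rw [phi_eq, A.ψ_eq, ← Units.val_pow_eq_pow_val, Units.val_inj]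
  obtain ⟨p0, p1, p2, p3, p4, p5⟩ := pi_vals
  constructor
  · intro h
    exact ⟨(e i0 i5).1 (p0 ▸ h i0), (e i2 i4).1 (p2 ▸ h i2),
      (e i1 i1).1 (by have := h i1; rwa [show (T A.ψ).π i1 = i1 from p1] at this),
      (e i3 i3).1 (by have := h i3; rwa [show (T A.ψ).π i3 = i3 from p3] at this),
      (e i5 i0).1 (p5 ▸ h i5), (e i4 i2).1 (p4 ▸ h i4)⟩
  · rintro ⟨h5, h4, h1, h3, h0, h2⟩ i
    show (c (pi i) : F) = _
    rcases fin_cases6 i with rfl | rfl | rfl | rfl | rfl | rfl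
    · rw [p0]; exact (e i0 i5).2 h5
    · rw [p1]; exact (e i1 i1).2 h1
    · rw [p2]; exact (e i2 i4).2 h4
    · rw [p3]; exact (e i3 i3).2 h3
    · rw [p4]; exact (e i4 i2).2 h2
    · rw [p5]; exact (e i5 i0).2 h0

include A in
theorem units_psi2 (a : Fˣ) : (a ^ q) ^ q = a := by
  refine Units.ext ?_
  simp only [Units.val_pow_eq_pow_val]
  rw [← A.ψ_eq, ← A.ψ_eq, A.psi2]

theorem par_mem (a b : Fˣ) {x y : Fˣ} (hx : x ^ q = x) (hy : y ^ q = y) : par q a b x y ∈ (T A.ψ).torFix := by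
  obtain ⟨v0, v1, v2, v3, v4, v5⟩ := par_vals q a b x y
  rw [A.torFix_iff, v0, v1, v2, v3, v4, v5]
  exact ⟨rfl, rfl, hx.symm, hy.symm, (A.units_psi2 a).symm, (A.units_psi2 b).symm⟩

theorem card_torFix : Nat.card (T A.ψ).torFix = (q ^ 2 - 1) ^ 2 * (q - 1) ^ 2 := by
  classical
  let f : (Fˣ × Fˣ) × ({b : Fˣ // b ^ q = b} × {b : Fˣ // b ^ q = b}) → (T A.ψ).torFix :=
    fun p => ⟨par q p.1.1 p.1.2 p.2.1.1 p.2.2.1, A.par_mem p.1.1 p.1.2 p.2.1.2 p.2.2.2⟩
  have hf : Function.Bijective f := by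
    constructor
    · rintro ⟨⟨a, b⟩, x, y⟩ ⟨⟨a', b'⟩, x', y'⟩ h
      have h' : par q a b x.1 y.1 = par q a' b' x'.1 y'.1 := congrArg Subtype.val h
      obtain ⟨v0, v1, v2, v3, -, -⟩ := par_vals q a b x.1 y.1
      obtain ⟨w0, w1, w2, w3, -, -⟩ := par_vals q a' b' x'.1 y'.1
      have e0 := congrFun h' i0
      have e1 := congrFun h' i1
      have e2 := congrFun h' i2
      have e3 := congrFun h' i3
      rw [v0, w0] at e0
      rw [v1, w1] at e1
      rw [v2, w2] at e2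
      rw [v3, w3] at e3
      exact Prod.ext (Prod.ext e0 e2) (Prod.ext (Subtype.ext e1) (Subtype.ext e3))
    · rintro ⟨c, hc⟩
      obtain ⟨h5, h4, h1, h3, -, -⟩ := (A.torFix_iff c).1 hc
      refine ⟨((c i0, c i2), (⟨c i1, h1.symm⟩, ⟨c i3, h3.symm⟩)), Subtype.ext (funext fun i => ?_)⟩
      obtain ⟨v0, v1, v2, v3, v4, v5⟩ := par_vals q (c i0) (c i2) (c i1) (c i3)
      show par q (c i0) (c i2) (c i1) (c i3) i = c i
      rcases fin_cases6 i with rfl | rfl | rfl | rfl | rfl | rfl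
      · exact v0
      · exact v1
      · exact v2
      · exact v3
      · rw [v4, h4]
      · rw [v5, h5]
  rw [← Nat.card_eq_of_bijective f hf, Nat.card_prod, Nat.card_prod, Nat.card_prod,
    card_units_fixed (by have := A.two_le; omega) A.card, Nat.card_eq_fintype_card, Fintype.card_units, A.card]
  ring

theorem ker_iff {c : Fin chevE6.rank → Fˣ} (hc : c ∈ (T A.ψ).torFix) :
    tFin E6.data chevE6 F c = 1 ↔
      c i0 ^ 3 = 1 ∧ c i0 ^ (q + 1) = 1 ∧ c = par q (c i0) (c i0 ^ 2) 1 1 := by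
  obtain ⟨h5, h4, h1, h3, -, -⟩ := (A.torFix_iff c).1 hc
  constructor
  · intro h
    have hcube := ker_cube h
    obtain ⟨e0, e1, e2, e3, e4, e5⟩ := chi_eq c
    have k0 := chi_of_one h i0
    have k1 := chi_of_one h i1
    have k2 := chi_of_one h i2
    have k4 := chi_of_one h i4
    have k5 := chi_of_one h i5
    rw [e0, mul_inv_eq_one] at k0
    rw [e1, mul_inv_eq_one] at k1
    rw [e2, inv_mul_eq_one, eq_mul_inv_iff_mul_eq, ← k0, ← pow_mul] at k2
    rw [e4, inv_mul_eq_one, eq_mul_inv_iff_mul_eq] at k4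
    rw [e5, inv_mul_eq_one] at k5
    have c3 : c i3 = 1 := by
      have : c i0 * c i3 = c i0 * c i0 ^ 3 := by rw [k2, ← pow_succ']
      rw [mul_left_cancel this, hcube]
    have c1 : c i1 = 1 := by
      have h2 : c i1 ^ 2 = 1 := k1.trans c3
      have h3' := hcube i1
      rw [pow_succ, h2, one_mul] at h3'
      exact h3'
    rw [c3, one_mul] at k4
    have e54 : c i5 = c i4 ^ 2 := k4
    have hc4 : c i4 = (c i0 ^ q) ^ 2 := by rw [k5, h5]
    have hq : (c i0) ^ (q + 1) = 1 := by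
      have h24 : c i4 = (c i0 ^ q) ^ 2 := hc4
      obtain ⟨e0', e1', e2', e3', -, -⟩ := chi_eq c
      have k3 := chi_of_one h i3
      rw [e3', c1, c3, inv_one, one_mul, one_pow, one_mul, ← mul_inv, inv_eq_one, ← k0, h24, ← pow_mul] at k3
      have hcb : c i0 ^ 3 = 1 := hcube i0
      calc c i0 ^ (q + 1) = c i0 ^ (q + 1) * (c i0 ^ 3) ^ 0 := by rw [pow_zero, mul_one]
        _ = (c i0 ^ (2 + q * 2)) ^ 2 * ((c i0 ^ 3) ^ (q + 1))⁻¹ := by
            rw [← pow_mul, ← pow_mul, ← pow_mul, eq_mul_inv_iff_mul_eq, ← pow_add, ← pow_add]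
            congr 1
            ring
        _ = 1 := by rw [pow_add, k3, hcb, one_pow, one_pow, inv_one, mul_one]
    refine ⟨hcube i0, hq, funext fun i => ?_⟩
    obtain ⟨v0, v1, v2, v3, v4, v5⟩ := par_vals q (c i0) (c i0 ^ 2) (1 : Fˣ) 1
    rcases fin_cases6 i with rfl | rfl | rfl | rfl | rfl | rfl
    · rw [v0]
    · rw [v1, c1]
    · rw [v2, k0]
    · rw [v3, c3]
    · rw [v4, h4, k0]
    · rw [v5, h5]
  · rintro ⟨hcb, hq, hc'⟩
    have hk : c ∈ (powMat (G := Fˣ) (cartanMat E6.data chevE6.rank)).ker := by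
      rw [MonoidHom.mem_ker]
      funext j
      rw [powMat_apply, Pi.one_apply]
      show (∏ k, c k ^ E6.data.tab.A k.val (E6.data.p j.val)) = 1
      obtain ⟨v0, v1, v2, v3, v4, v5⟩ := par_vals q (c i0) (c i0 ^ 2) (1 : Fˣ) 1
      rw [← hc'] at v1 v2 v3 v4 v5
      have hinv : c i0 ^ q = c i0 ^ 2 := by
        refine mul_right_cancel (b := c i0) ?_
        rw [← pow_succ, hq, ← pow_succ, hcb]
      have w4 : c i4 = c i0 := by
        rw [v4, ← pow_mul, mul_comm, pow_mul, hinv, ← pow_mul, show 2 * 2 = 3 + 1 from rfl, pow_succ, hcb, one_mul]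
      have w5 : c i5 = c i0 ^ 2 := by rw [v5, hinv]
      have hcb' : c i0 * c i0 ^ 2 = 1 := by rw [← pow_succ', hcb]
      obtain ⟨e0, e1, e2, e3, e4, e5⟩ := chi_eq c
      rcases fin_cases6 j with rfl | rfl | rfl | rfl | rfl | rfl
      · rw [e0, v2, mul_inv_cancel]
      · rw [e1, v1, v3, one_pow, inv_one, mul_one]
      · rw [e2, v2, v3, inv_one, mul_one, inv_mul_eq_one, ← pow_mul, show 2 * 2 = 3 + 1 from rfl, pow_succ, hcb,
          one_mul]
      · rw [e3, v1, v3, v2, w4, inv_one, one_mul, one_pow, one_mul, ← mul_inv, inv_eq_one, mul_comm, hcb']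
      · rw [e4, v3, w4, w5, inv_one, one_mul, mul_inv_cancel]
      · rw [e5, w4, w5, inv_mul_eq_one, ← pow_mul, show 2 * 2 = 3 + 1 from rfl, pow_succ, hcb, one_mul]
    rw [← hK.tFin_ker] at hk
    exact hk

theorem card_ker : Nat.card ↥(((tFin E6.data chevE6 F).comp (T A.ψ).torFix.subtype).ker) = Nat.gcd 3 (q + 1) := by
  classical
  set d := Nat.gcd 3 (q + 1)
  let f : ↥(powMonoidHom d : Fˣ →* Fˣ).ker → ↥(((tFin E6.data chevE6 F).comp (T A.ψ).torFix.subtype).ker) :=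
    fun a => by
      refine ⟨⟨par q a.1 (a.1 ^ 2) 1 1, A.par_mem _ _ (one_pow q) (one_pow q)⟩, ?_⟩
      have ha : a.1 ^ d = 1 := a.2
      obtain ⟨u, hu⟩ := Nat.gcd_dvd_left 3 (q + 1)
      obtain ⟨v, hv⟩ := Nat.gcd_dvd_right 3 (q + 1)
      refine (A.ker_iff (A.par_mem _ _ (one_pow q) (one_pow q))).2 ⟨?_, ?_, ?_⟩ <;>
        rw [(par_vals q a.1 (a.1 ^ 2) (1 : Fˣ) 1).1]
      · rw [hu, pow_mul, ha, one_pow]
      · rw [hv, pow_mul, ha, one_pow]
  have hf : Function.Bijective f := by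
    constructor
    · intro a b h
      have h' : par q a.1 (a.1 ^ 2) (1 : Fˣ) 1 = par q b.1 (b.1 ^ 2) 1 1 :=
        congrArg Subtype.val (congrArg Subtype.val h)
      have := congrFun h' i0
      rw [(par_vals q _ _ _ _).1, (par_vals q _ _ _ _).1] at this
      exact Subtype.ext this
    · rintro ⟨⟨c, hc⟩, hk⟩
      obtain ⟨h3, hq, he⟩ := (A.ker_iff hc).1 hk
      exact ⟨⟨c i0, pow_gcd_eq_one.2 ⟨h3, hq⟩⟩, Subtype.ext (Subtype.ext he.symm)⟩
  rw [← Nat.card_eq_of_bijective f hf, IsCyclic.card_powMonoidHom_ker, Nat.card_eq_fintype_card,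
    Fintype.card_units, A.card, Nat.gcd_eq_right]
  refine dvd_trans (Nat.gcd_dvd_right 3 (q + 1)) ⟨q - 1, ?_⟩
  obtain ⟨a, rfl⟩ : ∃ a, q = a + 1 := ⟨q - 1, by have := A.two_le; omega⟩
  exact Nat.sub_eq_of_eq_add (by rw [Nat.add_sub_cancel]; ring)

theorem nU_pair_G1 (P : Pair) (hP : P = pair2 ∨ P = pair3) (a : F) :
    nU hK (E6.data.p P.a.val) a * nU hK (E6.data.p P.b.val) (A.ψ a) ∈ A.grp.G1 := by
  have h12 : ∀ t : F, xU hK P.r t * xU hK P.s (A.ψ t) ∈ A.grp.G1 ∧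
      xU hK P.r' t * xU hK P.s' (A.ψ t) ∈ A.grp.G1 := by
    intro t
    rcases hP with rfl | rfl
    · exact ⟨A.pair_word (rs := (42, 37)) (by simp) t, A.pair_word (rs := (29, 34)) (by simp) t⟩
    · exact ⟨A.pair_word (rs := (56, 36)) (by simp) t, A.pair_word (rs := (15, 35)) (by simp) t⟩
  rw [nU_expand hK, nU_expand hK, P.hr, P.hs, P.hr', P.hs',
    merge_pnp (commute P.com.1 _ _) (commute P.com.2.2.1 _ _) (commute P.com.2.1 _ _)]
  have hN : xU hK P.r' (-a⁻¹) * xU hK P.s' (-(A.ψ a)⁻¹) ∈ A.grp.G1 := by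
    have := (h12 (-a⁻¹)).2
    rwa [map_neg, map_inv₀] at this
  exact mul_mem (mul_mem (h12 a).1 hN) (h12 a).1

theorem nU_single_G1 {i : Fin chevE6.rank} (hi : i = i1 ∨ i = i3) {a : F} (ha : a ^ q = a) :
    nU hK (E6.data.p i.val) a ∈ A.grp.G1 := by
  have ha' : (-a⁻¹) ^ q = -a⁻¹ := by rw [← A.ψ_eq, map_neg, map_inv₀, A.ψ_eq, ha]
  obtain ⟨-, p1, -, p3, -, -⟩ := p_vals
  obtain ⟨-, n1, -, n3, -, -⟩ := neg_vals
  rcases hi with rfl | rfl
  · exact A.grp.nU_mem i1 (by rw [p1]; exact single_mem (Or.inl rfl) ha)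
      (by rw [p1, n1]; exact single_mem (by omega) ha')
  · exact A.grp.nU_mem i3 (by rw [p3]; exact single_mem (by omega) ha)
      (by rw [p3, n3]; exact single_mem (by omega) ha')

theorem pair_tFin_mem (P : Pair) (hP : P = pair2 ∨ P = pair3) (a : Fˣ) :
    tFin E6.data chevE6 F (Pi.mulSingle P.a a * Pi.mulSingle P.b (a ^ q)) ∈ A.grp.G1 := by
  rw [map_mul, tFin_single_eq hK, tFin_single_eq hK, mid_swap (nU_pair_commute P _ _),
    Units.val_pow_eq_pow_val, ← A.ψ_eq]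
  refine mul_mem (A.nU_pair_G1 P hP _) ?_
  have h := A.nU_pair_G1 P hP (-1)
  rwa [map_neg, map_one] at h

theorem tFin_mem : ∀ c ∈ (T A.ψ).torFix, tFin E6.data chevE6 F c ∈ A.grp.G1 := by
  intro c hc
  obtain ⟨h5, h4, h1, h3, -, -⟩ := (A.torFix_iff c).1 hc
  have hc' : c = Pi.mulSingle i1 (c i1) * (Pi.mulSingle i3 (c i3) *
      ((Pi.mulSingle pair2.a (c i2) * Pi.mulSingle pair2.b (c i2 ^ q)) *
        (Pi.mulSingle pair3.a (c i0) * Pi.mulSingle pair3.b (c i0 ^ q)))) := by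
    have h := ne6
    simp only [List.nodup_cons, List.mem_cons, List.not_mem_nil, or_false, not_or, not_false_eq_true,
      List.nodup_nil, and_true] at h
    obtain ⟨⟨a1, a2, a3, a4, a5⟩, ⟨b1, b2, b3, b4⟩, ⟨c1, c2, c3⟩, ⟨d1, d2⟩, e1⟩ := h
    funext i
    rw [show pair2.a = i2 from rfl, show pair2.b = i4 from rfl, show pair3.a = i0 from rfl,
      show pair3.b = i5 from rfl]
    rcases fin_cases6 i with rfl | rfl | rfl | rfl | rfl | rfl <;>
      simp [a1, a2, a3, a4, a5, b1, b2, b3, b4, c1, c2, c3, d1, d2, e1, Ne.symm a1, Ne.symm a2, Ne.symm a3,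
        Ne.symm a4, Ne.symm a5, Ne.symm b1, Ne.symm b2, Ne.symm b3, Ne.symm b4, Ne.symm c1, Ne.symm c2,
        Ne.symm c3, Ne.symm d1, Ne.symm d2, Ne.symm e1, ← h4, ← h5]
  rw [hc', map_mul, map_mul, map_mul (tFin E6.data chevE6 F) (Pi.mulSingle pair2.a _ * _)]
  have single : ∀ i : Fin chevE6.rank, (i = i1 ∨ i = i3) → c i = c i ^ q →
      tFin E6.data chevE6 F (Pi.mulSingle i (c i)) ∈ A.grp.G1 := fun i hi he => by
    rw [tFin_single_eq hK]
    exact mul_mem (A.nU_single_G1 hi (by rw [← Units.val_pow_eq_pow_val, ← he]))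
      (A.nU_single_G1 hi (by rw [← A.ψ_eq, map_neg, map_one]))
  exact mul_mem (single i1 (Or.inl rfl) h1) (mul_mem (single i3 (Or.inr rfl) h3)
    (mul_mem (A.pair_tFin_mem pair2 (Or.inl rfl) _) (A.pair_tFin_mem pair3 (Or.inr rfl) _)))

theorem diagonal_eq : chevE6.diagonalSubgroup F ⊓ A.grp.G1 = A.torIm := by
  refine le_antisymm (fun g hg => ?_) ?_
  · obtain ⟨hd, hG⟩ := hg
    exact A.diag_inf_monN (A.grp.mon_le A.rankOne ⟨hG, Subgroup.mem_sup_left hd⟩) hd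
  · rintro _ ⟨c, hc, rfl⟩
    exact ⟨Twist.tFin_mem hK c, A.tFin_mem c hc⟩

theorem card_diagonal :
    Nat.gcd 3 (q + 1) * Nat.card ↥(chevE6.diagonalSubgroup F ⊓ A.grp.G1) = (q - 1) ^ 4 * (q + 1) ^ 2 := by
  set f := (tFin E6.data chevE6 F).comp (T A.ψ).torFix.subtype
  have hr : f.range = A.torIm := by rw [MonoidHom.range_comp, Subgroup.range_subtype]; rfl
  rw [A.diagonal_eq, ← hr, ← A.card_ker, ← Subgroup.index_ker, Subgroup.card_mul_index, A.card_torFix]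
  obtain ⟨a, rfl⟩ : ∃ a, q = a + 1 := ⟨q - 1, by have := A.two_le; omega⟩
  rw [show (a + 1) ^ 2 - 1 = a * (a + 2) from Nat.sub_eq_of_eq_add (by ring), Nat.add_sub_cancel]
  ring

theorem orbs : A.grp.orb = orb := rfl

theorem card_XJ (j : Fin 4) :
    Nat.card ((T A.ψ).X (A.grp.wJ j)) ^ 2 = (q ^ 2) ^ (invSet E6.data chevE6 (A.grp.wJ j)).ncard := by
  classical
  rw [A.grp.X_wJ, A.grp.invSet_wJ, show A.grp.orb j = orb j from rfl]
  obtain ⟨s0, s1, s2, s3⟩ := subPos_orb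
  have single : ∀ r, r = 46 ∨ r = 39 →
      Nat.card ↥((T A.ψ).fix ⊓ genU hK F ({r} : Set ℕ)) ^ 2 = (q ^ 2) ^ ({r} : Set ℕ).ncard := by
    intro r hr
    let f : {t : F // t ^ q = t} → ↥((T A.ψ).fix ⊓ genU hK F ({r} : Set ℕ)) := fun t =>
      ⟨xU hK r t.1, (A.single_fix_iff (by omega) t.1).2 t.2, hK.mem_genU (T := ({r} : Set ℕ)) rfl _⟩
    have hf : Function.Bijective f := by
      refine ⟨fun a b h => Subtype.ext (hK.xU_param_inj (lt72 (by omega)) (congrArg Subtype.val h)), ?_⟩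
      rintro ⟨g, hg, hu⟩
      obtain ⟨t, rfl⟩ := hK.mem_genU_single hu
      exact ⟨⟨t, (A.single_fix_iff (by omega) t).1 hg⟩, rfl⟩
    rw [← Nat.card_eq_of_bijective f hf, card_field_fixed A.two_le A.card, Set.ncard_singleton, pow_one]
  have pair : ∀ P : Pair,
      Nat.card ↥((T A.ψ).fix ⊓ genU hK F ({P.r, P.s} : Set ℕ)) ^ 2 = (q ^ 2) ^ ({P.r, P.s} : Set ℕ).ncard := by
    intro P
    let f : F → ↥((T A.ψ).fix ⊓ genU hK F ({P.r, P.s} : Set ℕ)) := fun t =>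
      ⟨_, (A.pair_fix P t).1, (pair_genU P _ _).1⟩
    have hf : Function.Bijective f := by
      refine ⟨fun a b h => (hK.xU_pair_inj (lt72 P.rs.1) (lt72 P.rs.2.1) P.rs.2.2.1 (congrArg Subtype.val h)).1, ?_⟩
      rintro ⟨g, hg, hu⟩
      obtain ⟨t, rfl⟩ := (A.pair_X P hg).1 hu
      exact ⟨t, rfl⟩
    rw [← Nat.card_eq_of_bijective f hf, Nat.card_eq_fintype_card, A.card, Set.ncard_pair P.rs.2.2.1]
  rcases fin4 j with rfl | rfl | rfl | rfl
  · rw [s0]; exact single 46 (Or.inl rfl)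
  · rw [s1]; exact single 39 (Or.inr rfl)
  · rw [s2]; exact pair pair2
  · rw [s3]; exact pair pair3

theorem card_pos : Nat.card ↥(chevE6.posUnipotent F ⊓ A.grp.G1) = q ^ 36 := by
  have h := A.grp.card_pos (Q := q ^ 2) (k := 2) A.card_XJ
  have e : chevE6.nroots - E6.data.npos = 36 := by decide +kernel
  rw [e, ← pow_mul, mul_comm 2 36, pow_mul] at h
  exact Nat.pow_left_injective (by norm_num) h

theorem lists : A.grp.Lists twE6Os twE6Ws := ⟨rfl, fun _ => rfl, twE6_max⟩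

theorem card_group :
    Nat.gcd 3 (q + 1) * Nat.card ↥A.grp.G1 =
      q ^ 36 * (q ^ 2 - 1) * (q ^ 5 + 1) * (q ^ 6 - 1) * (q ^ 8 - 1) * (q ^ 9 + 1) * (q ^ 12 - 1) := by
  classical
  have hX : ∀ w ∈ (T A.ψ).weylFix, Nat.card ((T A.ψ).X w) = q ^ Nat.card (invSet E6.data chevE6 w) := by
    intro w hw
    have h := A.grp.card_X (Q := q ^ 2) (k := 2) A.card_XJ hw
    rw [← pow_mul, mul_comm 2, pow_mul] at h
    rw [Nat.card_coe_set_eq]
    exact Nat.pow_left_injective (by norm_num) h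
  rw [A.grp.card_G1_sum, A.card_pos, TwistGrp.sum_X (T := T A.ψ) hX]
  rw [show ∀ g U H S : ℕ, g * (U * H * S) = U * (g * H) * S from fun g U H S => by ring, A.card_diagonal]
  show _ * lenSum E6.data chevE6 (T A.ψ).weylFix q = _
  rw [← A.grp.fixFirst_all, A.lists.lenSum_level (k := 3) (by norm_num) twE6_level3 twE6_keys3 twE6_lens3,
    A.lists.lenSum_level (k := 2) (by norm_num) twE6_level2 twE6_keys2 twE6_lens2,
    A.lists.lenSum_level (k := 1) (by norm_num) twE6_level1 twE6_keys1 twE6_lens1,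
    A.lists.lenSum_level (k := 0) (by norm_num) twE6_level0 twE6_keys0 twE6_lens0, TwistGrp.lenSum_bot]
  simp only [List.map_cons, List.map_nil, List.sum_cons, List.sum_nil]
  have h2 := A.two_le
  have := Nat.one_le_pow 2 q (by omega)
  have := Nat.one_le_pow 6 q (by omega)
  have := Nat.one_le_pow 8 q (by omega)
  have := Nat.one_le_pow 12 q (by omega)
  have : 1 ≤ q := by omega
  zify [*]
  ring

theorem orderOf_wJ (i j : Fin 4) :
    orderOf (A.grp.wJ i * A.grp.wJ j) =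
      (([[1, 3, 2, 2], [3, 1, 4, 2], [2, 4, 1, 3], [2, 2, 3, 1]] : List (List ℕ)).getD i.val []).getD j.val 0 := by
  refine A.lists.orderOf_pair i j ?_ ?_
  · revert i j; decide
  · have h3 := twE6_ords
    simp only [List.all_eq_true, List.mem_range] at h3
    exact h3 i.val i.isLt j.val j.isLt

theorem exists_weylQuot :
    ∃ φ : ↥(chevE6.monomialSubgroup F ⊓ A.grp.G1) →* (CoxeterMatrix.F₄).Group, Function.Surjective φ ∧
      φ.ker = (chevE6.diagonalSubgroup F ⊓ A.grp.G1).subgroupOf (chevE6.monomialSubgroup F ⊓ A.grp.G1) := by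
  obtain ⟨ψ', hinj, hr⟩ := A.grp.exists_coxeter CoxeterMatrix.F₄ (fun i j => by
    have hv : ∀ i j : Fin 4, CoxeterMatrix.F₄ i j =
        (([[1, 3, 2, 2], [3, 1, 4, 2], [2, 4, 1, 3], [2, 2, 3, 1]] : List (List ℕ)).getD i.val []).getD j.val 0 ∧
        0 < CoxeterMatrix.F₄ i j := by
      intro i j
      fin_cases i <;> fin_cases j <;> simp [CoxeterMatrix.F₄]
    exact ⟨(hv i j).2, (A.orderOf_wJ i j).trans (hv i j).1.symm⟩)
  exact A.grp.exists_weylQuot ψ' hinj hr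

theorem wJ_ne {i j : Fin 4} (h : i.val + 1 = j.val ∨ j.val + 1 = i.val) :
    A.grp.wJ i * A.grp.wJ j ≠ A.grp.wJ j * A.grp.wJ i := by
  intro e
  have h2 : (A.grp.wJ i * A.grp.wJ j) ^ 2 = 1 := by
    rw [sq, mul_assoc, ← mul_assoc (A.grp.wJ j), ← e, mul_assoc (A.grp.wJ i), A.grp.wJ_sq, mul_one,
      A.grp.wJ_sq]
  have hd := orderOf_dvd_of_pow_eq_one h2
  rw [A.orderOf_wJ i j] at hd
  have key : ∀ i j : Fin 4, (i.val + 1 = j.val ∨ j.val + 1 = i.val) →
      ¬ (([[1, 3, 2, 2], [3, 1, 4, 2], [2, 4, 1, 3], [2, 2, 3, 1]] : List (List ℕ)).getD i.val []).getD j.val 0 ∣ 2 := by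
    decide
  exact key i j h hd

theorem normalCore :
    ((chevE6.borelSubgroup F ⊓ A.grp.G1).subgroupOf A.grp.G1).normalCore = ⊥ := by
  refine A.grp.normalCore_eq_bot fun j i hi => ?_
  obtain ⟨p0, p1, p2, p3, p4, p5⟩ := p_vals
  have hi' : i.val ∈ twE6Os.getD j.val [] := hi
  have hn := sizes.1
  have hr := sizes.2.1
  have single : ∀ r, r = 46 ∨ r = 39 → E6.data.p i.val = r →
      ∃ t : ℕ → F, t (E6.data.p i.val) ≠ 0 ∧ ordProd hK E6.data.npos t ∈ (T A.ψ).fix := by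
    intro r hr' hp
    obtain ⟨t, -, ht, e⟩ := exists_ordProd_sorted hK [(r, (1 : F))] E6.data.npos
      (by rw [hn, hr]; intro p hp; simp at hp; subst hp; omega) (by simp)
    refine ⟨t, by rw [hp, ht (r, 1) (by simp)]; exact one_ne_zero, ?_⟩
    erw [e]
    rw [show wordU hK [(r, (1 : F))] = xU hK r 1 by simp [wordU]]
    exact (A.single_fix_iff (by omega) 1).2 (one_pow q)
  have pair : ∀ P : Pair, (P = pair2 ∨ P = pair3) → (i = P.a ∨ i = P.b) →
      ∃ t : ℕ → F, t (E6.data.p i.val) ≠ 0 ∧ ordProd hK E6.data.npos t ∈ (T A.ψ).fix := by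
    intro P hP hab
    have hb : P.s < P.r ∧ P.r < 72 ∧ 36 ≤ P.s := by rcases hP with rfl | rfl <;> decide
    obtain ⟨t, -, ht, e⟩ := exists_ordProd_sorted hK [(P.s, (1 : F)), (P.r, 1)] E6.data.npos
      (by rw [hn, hr]; intro p hp; simp at hp; rcases hp with rfl | rfl <;> simp <;> omega)
      (by simp [hb.1])
    refine ⟨t, ?_, ?_⟩
    · rcases hab with rfl | rfl
      · rw [P.hr, ht (P.r, 1) (by simp)]; exact one_ne_zero
      · rw [P.hs, ht (P.s, 1) (by simp)]; exact one_ne_zero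
    · have h0 := (A.pair_fix P 1).1
      rw [map_one, (commute P.com.1 (1 : F) 1).eq] at h0
      erw [e]
      simpa [wordU] using h0
  rcases fin4 j with rfl | rfl | rfl | rfl <;> simp [twE6Os] at hi'
  · exact single 46 (Or.inl rfl) (by rw [hi']; exact p1)
  · exact single 39 (Or.inr rfl) (by rw [hi']; exact p3)
  · exact pair pair2 (Or.inl rfl) (hi'.imp (fun h => Fin.ext h) (fun h => Fin.ext h))
  · exact pair pair3 (Or.inr rfl) (hi'.imp (fun h => Fin.ext h) (fun h => Fin.ext h))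

theorem long_checks : E6.data.comm 47 32 = [(46, -1, 1, 1)] ∧ E6.data.comm 47 25 = [(39, 1, 1, 1)] ∧
    E6.data.neg 47 = 24 ∧ E6.data.appW (Data.twWord twE6Ws [1]) 46 = 47 ∧
    E6.data.appW (Data.twWord twE6Ws [0]) 39 = 47 := by
  decide +kernel

theorem long_perms :
    A.grp.wJ 1 ⟨46, lt72 (by norm_num)⟩ = ⟨47, lt72 (by norm_num)⟩ ∧
    A.grp.wJ 0 ⟨39, lt72 (by norm_num)⟩ = ⟨47, lt72 (by norm_num)⟩ := by
  have e1 : A.grp.wJ 1 = A.grp.twPerm [1] := by simp [TwistGrp.twPerm]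
  have e0 : A.grp.wJ 0 = A.grp.twPerm [0] := by simp [TwistGrp.twPerm]
  obtain ⟨-, -, -, c1, c2⟩ := long_checks
  constructor
  · refine Fin.ext ?_
    rw [e1, A.lists.twPerm_eq (by simp), A.lists.app_eq (by simp)]
    exact c1
  · refine Fin.ext ?_
    rw [e0, A.lists.twPerm_eq (by simp), A.lists.app_eq (by simp)]
    exact c2

theorem pair_derived (P : Pair) (j : Fin 4) (hj : subPos E6.data chevE6 (orb j) = ({P.r, P.s} : Set ℕ))
    {a : Fˣ} (ha : a ≠ 1) {c : Fin chevE6.rank → Fˣ} (hc : c ∈ (T A.ψ).torFix)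
    (hchi : (∏ k, c k ^ E6.data.tab.A k.val P.r) = a⁻¹) :
    ∀ g ∈ (T A.ψ).fix ⊓ genU hK F (subPos E6.data chevE6 (A.grp.orb j)), g ∈ ⁅A.grp.G1, A.grp.G1⁆ := by
  refine A.grp.derived_of_fpf (A.tFin_mem _ hc) (Twist.tFin_mem hK _) j fun g hg hfix => ?_
  rw [A.grp.X_wJ, show A.grp.orb j = orb j from rfl, hj] at hg
  obtain ⟨t, rfl⟩ := (A.pair_X P hg.1).1 hg.2
  set h := tFin E6.data chevE6 F c with hh
  have e : h * (xU hK P.r t * xU hK P.s (A.ψ t)) * h⁻¹ =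
      (h * xU hK P.r t * h⁻¹) * (h * xU hK P.s (A.ψ t) * h⁻¹) := by group
  rw [e, hh, tFin_conj_xU hK c (lt72 P.rs.1), tFin_conj_xU hK c (lt72 P.rs.2.1), hchi] at hfix
  have ht := (hK.xU_pair_inj (lt72 P.rs.1) (lt72 P.rs.2.1) P.rs.2.2.1 hfix).1
  have ht0 : t = 0 := by
    by_contra hne
    exact ha (inv_eq_one.1 (Units.ext (mul_right_cancel₀ hne (ht.trans (one_mul t).symm))))
  simp [ht0, xU_zero]

theorem perfect : commutator ↥A.grp.G1 = ⊤ := by
  refine A.grp.perfect_of fun j => ?_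
  obtain ⟨s0, s1, s2, s3⟩ := subPos_orb
  obtain ⟨c1, c2, c3, -, -⟩ := long_checks
  obtain ⟨w1, w0⟩ := A.long_perms
  obtain ⟨a, ha⟩ := exists_unit_ne_one (F := F) (by
    rw [A.card]
    have := Nat.pow_le_pow_left A.two_le 2
    omega)
  have one_moves : Moves (T A.ψ).hC.fine (1 : GL chevE6.Idx F) 1 :=
    hK.moves_diagonal (one_mem _)
  rcases fin4 j with rfl | rfl | rfl | rfl
  · intro g hg
    obtain ⟨hf, hu⟩ := hg
    rw [SetLike.mem_coe, show A.grp.orb 0 = orb 0 from rfl, s0] at hu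
    obtain ⟨t, rfl⟩ := hK.mem_genU_single hu
    exact A.grp.derived_single (p := 46) (r := 47) (s := 32) (s0 := 32) (z := -1) (lt72 (by norm_num))
      (lt72 (by norm_num)) (lt72 (by norm_num)) (lt72 (by norm_num)) (by norm_num) (by rw [c3]; norm_num) c1
      (Or.inr rfl) (A.grp.nu_mem 1) (A.grp.nu_moves 1) (congrArg Fin.val w1) (one_mem _) one_moves rfl
      (single_mem (by omega) (one_pow q))
      (fun u hu => single_mem (Or.inl rfl) ((A.single_fix_iff (Or.inl rfl) u).1 hu)) t hf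
  · intro g hg
    obtain ⟨hf, hu⟩ := hg
    rw [SetLike.mem_coe, show A.grp.orb 1 = orb 1 from rfl, s1] at hu
    obtain ⟨t, rfl⟩ := hK.mem_genU_single hu
    exact A.grp.derived_single (p := 39) (r := 47) (s := 25) (s0 := 25) (z := 1) (lt72 (by norm_num))
      (lt72 (by norm_num)) (lt72 (by norm_num)) (lt72 (by norm_num)) (by norm_num) (by rw [c3]; norm_num) c2
      (Or.inl rfl) (A.grp.nu_mem 0) (A.grp.nu_moves 0) (congrArg Fin.val w0) (one_mem _) one_moves rfl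
      (single_mem (by omega) (one_pow q))
      (fun u hu => single_mem (by omega) ((A.single_fix_iff (by omega) u).1 hu)) t hf
  · refine A.pair_derived pair2 2 s2 ha (A.par_mem a 1 (one_pow q) (one_pow q)) ?_
    rw [show pair2.r = E6.data.p i2.val from p_vals.2.2.1.symm, (chi_eq _).2.2.1]
    obtain ⟨v0, v1, v2, v3, v4, v5⟩ := par_vals q a (1 : Fˣ) 1 1
    simp [v0, v2, v3]
  · refine A.pair_derived pair3 3 s3 ha (A.par_mem 1 a (one_pow q) (one_pow q)) ?_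
    rw [show pair3.r = E6.data.p i0.val from p_vals.1.symm, (chi_eq _).1]
    obtain ⟨v0, v1, v2, v3, v4, v5⟩ := par_vals q (1 : Fˣ) a 1 1
    simp [v0, v2]

theorem simple : IsSimpleGroup ↥A.grp.G1 ∧ ¬ IsMulCommutative ↥A.grp.G1 := by
  refine A.grp.isSimple_of (by norm_num) (fun B hB hB' => ?_) A.normalCore A.perfect
  have key : ∀ B : Fin 4 → Bool, (∃ j, B j = true) → (∃ j, B j = false) →
      ∃ j j', B j = true ∧ B j' = false ∧ (j.val + 1 = j'.val ∨ j'.val + 1 = j.val) := by decide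
  obtain ⟨j, j', hj, hj', hn⟩ := key B hB hB'
  exact ⟨j, j', hj, hj', A.wJ_ne hn⟩

end Setup

end CfsgLib.Chev.TwE6
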