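import Cfsg.Agent.Chev.TwistWord
import Cfsg.Agent.Chev.GraphAll
import Cfsg.Agent.Chev.Run.Twist
import Cfsg.Agent.Chev.FieldFixed
import Cfsg.Agent.Chev.All

/-!
The twisted group of type ²F₄ over the field with `2^(2m+1)` elements: generators and root groups.
-/

set_option autoImplicit false
set_option maxRecDepth 100000
set_option linter.unusedSectionVars false
set_option linter.unusedSimpArgs false
set_option linter.style.haveILetI false

namespace CfsgLib.Chev.TwF4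

open Cfsg.Lie CfsgLib.Chev Fine

/-- indices of the fundamental roots -/
def i0 : Fin chevF4.rank := ⟨0, by decide +kernel⟩
/-- indices of the fundamental roots -/
def i1 : Fin chevF4.rank := ⟨1, by decide +kernel⟩
/-- indices of the fundamental roots -/
def i2 : Fin chevF4.rank := ⟨2, by decide +kernel⟩
/-- indices of the fundamental roots -/
def i3 : Fin chevF4.rank := ⟨3, by decide +kernel⟩

/-- the symmetry of the fundamental roots -/
def pi : Equiv.Perm (Fin chevF4.rank) :=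
  show Equiv.Perm (Fin 4) from ⟨![3, 2, 1, 0], ![3, 2, 1, 0], by decide, by decide⟩

theorem pi_list : ∀ i : Fin chevF4.rank, ([3, 2, 1, 0] : List ℕ).getD i.val 0 = (pi i).val := by decide +kernel

theorem pi_vals : pi i0 = i3 ∧ pi i1 = i2 ∧ pi i2 = i1 ∧ pi i3 = i0 := by decide +kernel

theorem p_vals : F4.data.p i0.val = 33 ∧ F4.data.p i1.val = 27 ∧ F4.data.p i2.val = 25 ∧ F4.data.p i3.val = 24 ∧
    F4.data.neg 33 = 14 ∧ F4.data.neg 27 = 20 ∧ F4.data.neg 25 = 22 ∧ F4.data.neg 24 = 23 := by decide +kernel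

theorem sizes : F4.data.npos = 24 ∧ chevF4.nroots = 48 ∧ chevF4.rank = 4 := by decide +kernel

theorem names : f4p1 = 33 ∧ f4p4 = 24 ∧ f4m1 = 14 ∧ f4m4 = 23 ∧ f4a = 27 ∧ f4b = 25 ∧ f4ab = 28 ∧ f4aab = 30 ∧
    f4ma = 20 ∧ f4mb = 22 ∧ f4mab = 19 ∧ f4maab = 17 :=
  ⟨rfl, rfl, rfl, rfl, rfl, rfl, rfl, rfl, rfl, rfl, rfl, rfl⟩

theorem image_check : ([(33, 24, 2), (24, 33, 1), (27, 25, 2), (25, 27, 1), (28, 30, 2), (30, 28, 1), (14, 23, 2),
    (23, 14, 1), (20, 22, 2), (22, 20, 1), (19, 17, 2), (17, 19, 1)] : List (ℕ × ℕ × ℕ)).all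
      (fun p => Nat.beq (graphF4.im p.1) p.2.1 && Nat.beq (graphF4.ex p.1) p.2.2 && intEq (graphF4.sg p.1) 1) =
      true := by decide +kernel

theorem comm_check : ([(33, 24), (33, 23), (14, 24), (14, 23), (25, 28), (25, 30), (27, 30), (28, 30), (22, 19),
    (22, 17), (20, 17), (19, 17)] : List (ℕ × ℕ)).all (fun p => (F4.data.comm p.1 p.2).isEmpty &&
      !(Nat.beq p.2 p.1) && !(Nat.beq p.2 (F4.data.neg p.1))) = true := by decide +kernel

theorem class_check : F4.data.comm 25 27 = [(28, 1, 1, 1), (30, -1, 1, 2)] ∧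
    F4.data.comm 22 20 = [(19, -1, 1, 1), (17, -1, 1, 2)] := by decide +kernel

theorem closed_check : ∀ r ∈ ([25, 27, 28, 30] : List ℕ), ∀ s ∈ ([25, 27, 28, 30] : List ℕ),
    ∀ c ∈ F4.data.comm r s, c.1 ∈ ([25, 27, 28, 30] : List ℕ) := by
  decide +kernel

theorem lists : F4.data.subPosL [0, 3] = [24, 33] ∧ F4.data.subPosL [1, 2] = [25, 27, 28, 30] ∧
    F4.data.negSubL [0, 3] = [14, 23] ∧ F4.data.negSubL [1, 2] = [17, 19, 20, 22] := by decide +kernel

variable {F : Type*} [Field F]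

theorem hK : Fine F4.data chevF4 := F4.fine

theorem lt48 {r : ℕ} (h : r < 48) : r < chevF4.nroots := by rw [sizes.2.1]; exact h

theorem tFin_inj : Function.Injective (tFin F4.data chevF4 F) := by
  obtain ⟨B, hB⟩ : ∃ B : Matrix (Fin chevF4.rank) (Fin chevF4.rank) ℤ,
      cartanMat F4.data chevF4.rank * B = 1 := by
    have h : cartanMat F4.data 4 * (!![2, 3, 4, 2; 3, 6, 8, 4; 2, 4, 6, 3; 1, 2, 3, 2] :
        Matrix (Fin 4) (Fin 4) ℤ) = 1 := by decide +kernel
    exact ⟨_, h⟩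
  exact hK.tFin_injective B hB

/-- hypotheses on the field -/
structure Setup (F : Type*) [Field F] [Fintype F] (m : ℕ) where
  ψ : F →+* F
  ψ_eq : ∀ x, ψ x = x ^ 2 ^ m
  card : Fintype.card F = 2 ^ (2 * m + 1)
  char2 : CharP F 2

variable [Fintype F] {m : ℕ}

theorem exists_setup (h : Fintype.card F = 2 ^ (2 * m + 1)) : Nonempty (Setup F m) := by
  haveI : Fact (Nat.Prime 2) := ⟨Nat.prime_two⟩
  haveI : CharP F 2 := by
    refine CharTwo.of_one_ne_zero_of_two_eq_zero one_ne_zero ?_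
    have := Nat.cast_card_eq_zero F
    rw [h] at this
    push_cast at this
    exact eq_zero_of_pow_eq_zero this
  exact ⟨⟨iterateFrobenius F 2 m, fun x => iterateFrobenius_def 2 m x, h, inferInstance⟩⟩

namespace Setup

variable (A : Setup F m)

include A in
theorem two_zero : (2 : F) = 0 := by haveI := A.char2; exact CharTwo.two_eq_zero

include A in
theorem neg_self (x : F) : -x = x := by haveI := A.char2; exact CharTwo.neg_eq x

include A in
theorem expOK : ExpOK F 2 := by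
  haveI := A.char2
  haveI : Fact (Nat.Prime 2) := ⟨Nat.prime_two⟩
  refine ExpOK.of_prime F 2 fun x => ?_
  exact (Finite.injective_iff_surjective.1 (frobenius_inj F 2)) x

include A in
theorem tab : TwistTab F4.data chevF4 F graphF4 2 pi :=
  ⟨graphF4_data, A.expOK, _, twF4_sym, pi_list⟩

/-- the twist -/
noncomputable def T : Twist F4.data chevF4 F := A.tab.toTwist A.ψ

theorem psi_sq (t : F) : A.ψ t ^ 2 = t ^ (2 * 2 ^ m) := by rw [A.ψ_eq, ← pow_mul, mul_comm]

theorem theta (t : F) : A.ψ (A.ψ t ^ 2) = t := by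
  rw [A.ψ_eq, A.ψ_eq, ← pow_mul, ← pow_mul, show 2 ^ m * (2 * 2 ^ m) = 2 ^ (2 * m + 1) by ring, ← A.card]
  exact FiniteField.pow_card t

theorem theta' (t : F) : A.ψ (A.ψ t) ^ 2 = t := by rw [← map_pow, A.theta]

theorem app_root {r r' k : ℕ}
    (h : (r, r', k) ∈ ([(33, 24, 2), (24, 33, 1), (27, 25, 2), (25, 27, 1), (28, 30, 2), (30, 28, 1), (14, 23, 2),
      (23, 14, 1), (20, 22, 2), (22, 20, 1), (19, 17, 2), (17, 19, 1)] : List (ℕ × ℕ × ℕ))) (t : F) :
    A.T.app (xU hK r t) = xU hK r' (A.ψ (t ^ k)) := by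
  have hlt : ∀ p ∈ ([(33, 24, 2), (24, 33, 1), (27, 25, 2), (25, 27, 1), (28, 30, 2), (30, 28, 1), (14, 23, 2),
      (23, 14, 1), (20, 22, 2), (22, 20, 1), (19, 17, 2), (17, 19, 1)] : List (ℕ × ℕ × ℕ)), p.1 < 48 := by decide
  have hc := image_check
  simp only [List.all_eq_true, Bool.and_eq_true, intEq_iff] at hc
  obtain ⟨⟨h1, h2⟩, h3⟩ := hc _ h
  have e := A.tab.toTwist_app A.ψ (lt48 (hlt _ h)) t
  rw [Nat.eq_of_beq_eq_true h1, Nat.eq_of_beq_eq_true h2, h3, Int.cast_one, one_mul] at e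
  exact e

theorem phi_eq : (∀ t, A.T.φ i0 t = A.ψ (t ^ 2)) ∧ (∀ t, A.T.φ i1 t = A.ψ (t ^ 2)) ∧
    (∀ t, A.T.φ i2 t = A.ψ t) ∧ ∀ t, A.T.φ i3 t = A.ψ t := by
  have h : graphF4.ex (F4.data.p i0.val) = 2 ∧ graphF4.ex (F4.data.p i1.val) = 2 ∧
      graphF4.ex (F4.data.p i2.val) = 1 ∧ graphF4.ex (F4.data.p i3.val) = 1 := by decide +kernel
  refine ⟨fun t => ?_, fun t => ?_, fun t => ?_, fun t => ?_⟩
  · show A.ψ (t ^ graphF4.ex (F4.data.p i0.val)) = _; rw [h.1]
  · show A.ψ (t ^ graphF4.ex (F4.data.p i1.val)) = _; rw [h.2.1]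
  · show A.ψ (t ^ graphF4.ex (F4.data.p i2.val)) = _; rw [h.2.2.1, pow_one]
  · show A.ψ (t ^ graphF4.ex (F4.data.p i3.val)) = _; rw [h.2.2.2, pow_one]

theorem fix_iff {g : GL chevF4.Idx F} (hg : g ∈ chevF4.group F) : g ∈ A.T.fix ↔ A.T.app g = g :=
  ⟨fun h => h.2, fun h => ⟨hg, h⟩⟩

end Setup

theorem commute {r s : ℕ}
    (h : (r, s) ∈ ([(33, 24), (33, 23), (14, 24), (14, 23), (25, 28), (25, 30), (27, 30), (28, 30), (22, 19),
      (22, 17), (20, 17), (19, 17)] : List (ℕ × ℕ))) (t u : F) :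
    Commute (xU hK r t) (xU hK s u) := by
  have hlt : ∀ p ∈ ([(33, 24), (33, 23), (14, 24), (14, 23), (25, 28), (25, 30), (27, 30), (28, 30), (22, 19),
      (22, 17), (20, 17), (19, 17)] : List (ℕ × ℕ)), p.1 < 48 ∧ p.2 < 48 := by decide
  have hc := comm_check
  simp only [List.all_eq_true, Bool.and_eq_true, Bool.not_eq_true', List.isEmpty_iff] at hc
  obtain ⟨⟨h1, h2⟩, h3⟩ := hc _ h
  refine hK.xU_commute (lt48 (hlt _ h).1) (lt48 (hlt _ h).2) (fun e => ?_) (fun e => ?_) h1 t u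
  · rw [e, Nat.beq_refl] at h2; exact Bool.noConfusion h2
  · rw [e, Nat.beq_refl] at h3; exact Bool.noConfusion h3

/-- a class of type B₂: short `a`, long `b`, and their sums -/
structure Cls where
  a : ℕ
  b : ℕ
  ab : ℕ
  aab : ℕ
  sel : (a, b, ab, aab) = (27, 25, 28, 30) ∨ (a, b, ab, aab) = (20, 22, 19, 17)

/-- the positive class -/
def cpos : Cls := ⟨27, 25, 28, 30, Or.inl rfl⟩
/-- the negative class -/
def cneg : Cls := ⟨20, 22, 19, 17, Or.inr rfl⟩

theorem Cls.cases (C : Cls) : C = cpos ∨ C = cneg := by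
  obtain ⟨a, b, ab, aab, h | h⟩ := C <;> simp only [Prod.mk.injEq] at h <;> obtain ⟨rfl, rfl, rfl, rfl⟩ := h
  · exact Or.inl rfl
  · exact Or.inr rfl

namespace Setup

variable (A : Setup F m)

include A in
theorem cls_swap (C : Cls) (x y : F) :
    xU hK C.a x * xU hK C.b y = xU hK C.b y * (xU hK C.a x * (xU hK C.ab (x * y) * xU hK C.aab (x ^ 2 * y))) := by
  obtain ⟨c1, c2⟩ := class_check
  rcases C.cases with rfl | rfl
  · show xU hK 27 x * xU hK 25 y = _
    rw [hK.xU_swap (r := 25) (s := 27) (lt48 (by norm_num)) (lt48 (by norm_num)) (by norm_num)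
      (by decide +kernel), c1]
    simp only [List.map_cons, List.map_nil, wordU, List.prod_cons, List.prod_nil, mul_one, pow_one]
    push_cast
    simp only [A.neg_self, one_mul]
    rw [mul_comm y x, mul_comm y (x ^ 2)]
    rfl
  · show xU hK 20 x * xU hK 22 y = _
    rw [hK.xU_swap (r := 22) (s := 20) (lt48 (by norm_num)) (lt48 (by norm_num)) (by norm_num)
      (by decide +kernel), c2]
    simp only [List.map_cons, List.map_nil, wordU, List.prod_cons, List.prod_nil, mul_one, pow_one]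
    push_cast
    simp only [A.neg_self, one_mul]
    rw [mul_comm y x, mul_comm y (x ^ 2)]
    rfl

theorem cls_images (C : Cls) (t : F) :
    A.T.app (xU hK C.a t) = xU hK C.b (A.ψ t ^ 2) ∧ A.T.app (xU hK C.b t) = xU hK C.a (A.ψ t) ∧
    A.T.app (xU hK C.ab t) = xU hK C.aab (A.ψ t ^ 2) ∧ A.T.app (xU hK C.aab t) = xU hK C.ab (A.ψ t) := by
  have two : ∀ {r r' : ℕ}, (r, r', 2) ∈ ([(27, 25, 2), (28, 30, 2), (20, 22, 2), (19, 17, 2)] :
      List (ℕ × ℕ × ℕ)) → A.T.app (xU hK r t) = xU hK r' (A.ψ t ^ 2) := fun {r r'} h => by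
    rw [A.app_root (r' := r') (k := 2) (by simp at h ⊢; tauto), map_pow]
  have one : ∀ {r r' : ℕ}, (r, r', 1) ∈ ([(25, 27, 1), (30, 28, 1), (22, 20, 1), (17, 19, 1)] :
      List (ℕ × ℕ × ℕ)) → A.T.app (xU hK r t) = xU hK r' (A.ψ t) := fun {r r'} h => by
    rw [A.app_root (r' := r') (k := 1) (by simp at h ⊢; tauto), pow_one]
  rcases C.cases with rfl | rfl <;>
    exact ⟨two (by simp [cpos, cneg]), one (by simp [cpos, cneg]), two (by simp [cpos, cneg]),
      one (by simp [cpos, cneg])⟩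

include A in
theorem cls_commute (C : Cls) (t u : F) : Commute (xU hK C.ab t) (xU hK C.aab u) := by
  rcases C.cases with rfl | rfl <;> exact commute (by decide) t u

/-- fixed elements of a class in normal form -/
noncomputable def cw (C : Cls) (t u : F) : GL chevF4.Idx F :=
  xU hK C.b t * (xU hK C.a (A.ψ t) * (xU hK C.ab u * xU hK C.aab (A.ψ t ^ 2 * t + A.ψ u ^ 2)))

theorem word_cw (C : Cls) (t u : F) :
    xU hK C.a (A.ψ t) * xU hK C.b t * (xU hK C.ab (A.ψ t * t + u) * xU hK C.aab (A.ψ u ^ 2)) = A.cw C t u := by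
  rw [A.cls_swap C, cw]
  have e : ∀ B a c d f g : GL chevF4.Idx F, Commute d f → B * (a * (c * d)) * (f * g) = B * (a * (c * f * (d * g))) :=
    fun B a c d f g h => by rw [← mul_assoc (c * f), mul_assoc c f d, ← h.eq]; group
  rw [e _ _ _ _ _ _ (A.cls_commute C _ _).symm, xU_mul, xU_mul, ← add_assoc]
  haveI := A.char2
  rw [CharTwo.add_self_eq_zero, zero_add]

theorem cw_app (C : Cls) (t u : F) : A.T.app (A.cw C t u) = A.cw C t u := by
  have hg : ∀ r (v : F), xU hK r v ∈ chevF4.group F := fun r v => hK.xU_mem_group r v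
  rw [cw, A.T.app_mul (hg _ _) (mul_mem (hg _ _) (mul_mem (hg _ _) (hg _ _))),
    A.T.app_mul (hg _ _) (mul_mem (hg _ _) (hg _ _)), A.T.app_mul (hg _ _) (hg _ _),
    (A.cls_images C _).2.1, (A.cls_images C _).1, (A.cls_images C _).2.2.1, (A.cls_images C _).2.2.2, A.theta',
    (A.cls_commute C _ _).symm.eq]
  have e : A.ψ (A.ψ t ^ 2 * t + A.ψ u ^ 2) = A.ψ t * t + u := by
    rw [map_add, map_mul, A.theta, A.theta, mul_comm]
  rw [e, ← mul_assoc, A.word_cw C t u, cw]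

theorem cw_fix (C : Cls) (t u : F) : A.cw C t u ∈ A.T.fix :=
  (A.fix_iff (mul_mem (hK.xU_mem_group _ _) (mul_mem (hK.xU_mem_group _ _)
    (mul_mem (hK.xU_mem_group _ _) (hK.xU_mem_group _ _))))).2 (A.cw_app C t u)

/-- fixed elements on an orthogonal pair -/
noncomputable def pw (neg : Bool) (t : F) : GL chevF4.Idx F :=
  if neg then xU hK 14 (A.ψ t) * xU hK 23 t else xU hK 33 (A.ψ t) * xU hK 24 t

theorem pw_fix (b : Bool) (t : F) : A.pw b t ∈ A.T.fix := by
  cases b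
  · refine (A.fix_iff (mul_mem (hK.xU_mem_group _ _) (hK.xU_mem_group _ _))).2 ?_
    show A.T.app (xU hK 33 (A.ψ t) * xU hK 24 t) = xU hK 33 (A.ψ t) * xU hK 24 t
    rw [A.T.app_mul (hK.xU_mem_group _ _) (hK.xU_mem_group _ _), A.app_root (r' := 24) (k := 2) (by decide),
      A.app_root (r' := 33) (k := 1) (by decide), pow_one, A.theta, ← (commute (by decide) (A.ψ t) t).eq]
  · refine (A.fix_iff (mul_mem (hK.xU_mem_group _ _) (hK.xU_mem_group _ _))).2 ?_
    show A.T.app (xU hK 14 (A.ψ t) * xU hK 23 t) = xU hK 14 (A.ψ t) * xU hK 23 t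
    rw [A.T.app_mul (hK.xU_mem_group _ _) (hK.xU_mem_group _ _), A.app_root (r' := 23) (k := 2) (by decide),
      A.app_root (r' := 14) (k := 1) (by decide), pow_one, A.theta, ← (commute (by decide) (A.ψ t) t).eq]

theorem wordU_mem {w : List (ℕ × F)} (h : w ∈ f4Words F (2 ^ m)) : wordU hK w ∈ twistedF4 F (2 ^ m) := by
  rw [twistedF4, genSubgroup_eq hK]
  exact Subgroup.subset_closure ⟨w, h, rfl⟩

theorem pw_word (b : Bool) (t : F) : A.pw b t =
    wordU hK (if b then f4PairWord (2 ^ m) f4m1 f4m4 t else f4PairWord (2 ^ m) f4p1 f4p4 t) := by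
  cases b <;> simp [pw, f4PairWord, names, wordU, A.ψ_eq]

theorem cw_word (C : Cls) (t u : F) : A.cw C t u = wordU hK (b2ClassWord (2 ^ m) C.a C.b C.ab C.aab t u) := by
  rw [← A.word_cw C t u]
  simp only [b2ClassWord, wordU, List.map_cons, List.map_nil, List.prod_cons, List.prod_nil, mul_one,
    A.ψ_eq, mul_assoc]
  rw [← pow_succ, ← pow_mul, mul_comm (2 ^ m) 2]

theorem pw_mem (b : Bool) (t : F) : A.pw b t ∈ twistedF4 F (2 ^ m) := by
  rw [A.pw_word]
  refine wordU_mem (Or.inl ⟨t, ?_⟩)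
  cases b
  · exact Or.inl rfl
  · exact Or.inr rfl

theorem cw_mem (C : Cls) (t u : F) : A.cw C t u ∈ twistedF4 F (2 ^ m) := by
  rw [A.cw_word]
  refine wordU_mem (Or.inr ⟨t, u, ?_⟩)
  rcases C.cases with rfl | rfl
  · exact Or.inl rfl
  · exact Or.inr rfl

theorem pw_genU (t : F) : A.pw false t ∈ genU hK F {r | r ∈ ([24, 33] : List ℕ)} ∧
    A.pw true t ∈ genU hK F {r | r ∈ ([14, 23] : List ℕ)} :=
  ⟨mul_mem (hK.mem_genU (T := {r | r ∈ ([24, 33] : List ℕ)}) (by simp) _)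
      (hK.mem_genU (T := {r | r ∈ ([24, 33] : List ℕ)}) (by simp) _),
    mul_mem (hK.mem_genU (T := {r | r ∈ ([14, 23] : List ℕ)}) (by simp) _)
      (hK.mem_genU (T := {r | r ∈ ([14, 23] : List ℕ)}) (by simp) _)⟩

theorem cw_genU (t u : F) : A.cw cpos t u ∈ genU hK F {r | r ∈ ([25, 27, 28, 30] : List ℕ)} ∧
    A.cw cneg t u ∈ genU hK F {r | r ∈ ([17, 19, 20, 22] : List ℕ)} := by
  constructor <;>
  exact mul_mem (hK.mem_genU (T := {r | r ∈ _}) (by simp [cpos, cneg]) _)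
    (mul_mem (hK.mem_genU (T := {r | r ∈ _}) (by simp [cpos, cneg]) _)
      (mul_mem (hK.mem_genU (T := {r | r ∈ _}) (by simp [cpos, cneg]) _)
        (hK.mem_genU (T := {r | r ∈ _}) (by simp [cpos, cneg]) _)))

theorem pw_inj {t t' : F} (h : A.pw false t = A.pw false t') : t = t' :=
  (hK.xU_pair_inj (lt48 (by norm_num)) (lt48 (by norm_num)) (by norm_num) (h :
    xU hK 33 (A.ψ t) * xU hK 24 t = xU hK 33 (A.ψ t') * xU hK 24 t')).2

theorem quad_inj {b a c d b' a' c' d' : F}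
    (h : xU hK 25 b * (xU hK 27 a * (xU hK 28 c * xU hK 30 d)) =
      xU hK 25 b' * (xU hK 27 a' * (xU hK 28 c' * xU hK 30 d'))) : b = b' ∧ a = a' ∧ c = c' ∧ d = d' := by
  have e := wordU_sorted_inj hK (R := [25, 27, 28, 30]) (v := [b, a, c, d]) (v' := [b', a', c', d'])
    (by simp) (by intro r hr; rw [sizes.1, sizes.2.1]; simp at hr; omega) rfl rfl
    (by simpa [wordU] using h)
  simpa using e

theorem cw_inj {t u t' u' : F} (h : A.cw cpos t u = A.cw cpos t' u') : t = t' ∧ u = u' :=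
  have e := quad_inj (h : xU hK 25 t * _ = xU hK 25 t' * _)
  ⟨e.1, e.2.2.1⟩

theorem X0 {g : GL chevF4.Idx F} (hg : g ∈ A.T.fix) (hu : g ∈ genU hK F {r | r ∈ ([24, 33] : List ℕ)}) :
    ∃ t, g = A.pw false t := by
  have hu' : g ∈ genU hK F ({33, 24} : Set ℕ) :=
    hK.genU_mono (fun r hr => by simp at hr ⊢; omega) hu
  obtain ⟨a, b, rfl⟩ := hK.mem_genU_pair (commute (by decide)) hu'
  have e := hg.2
  rw [A.T.app_mul (hK.xU_mem_group _ _) (hK.xU_mem_group _ _), A.app_root (r' := 24) (k := 2) (by decide),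
    A.app_root (r' := 33) (k := 1) (by decide), pow_one, ← (commute (by decide) (A.ψ b) (A.ψ (a ^ 2))).eq] at e
  refine ⟨b, ?_⟩
  show _ = xU hK 33 (A.ψ b) * xU hK 24 b
  rw [(hK.xU_pair_inj (lt48 (by norm_num)) (lt48 (by norm_num)) (by norm_num) e).1]

theorem X1 {g : GL chevF4.Idx F} (hg : g ∈ A.T.fix)
    (hu : g ∈ genU hK F {r | r ∈ ([25, 27, 28, 30] : List ℕ)}) : ∃ t u, g = A.cw cpos t u := by
  obtain ⟨v, rfl⟩ := hK.genU_sorted (R := [25, 27, 28, 30]) (by simp)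
    ⟨fun r hr => by rw [sizes.1, sizes.2.1]; simp at hr; omega, closed_check⟩ hu
  simp only [List.map_cons, List.map_nil, wordU, List.prod_cons, List.prod_nil, mul_one] at hg ⊢
  generalize v 25 = b, v 27 = a, v 28 = c, v 30 = d at hg ⊢
  have hgm : ∀ r (x : F), xU hK r x ∈ chevF4.group F := fun r x => hK.xU_mem_group r x
  have e := hg.2
  have i1 := A.cls_images cpos b
  have i2 := A.cls_images cpos a
  have i3 := A.cls_images cpos c
  have i4 := A.cls_images cpos d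
  simp only [cpos] at i1 i2 i3 i4
  rw [A.T.app_mul (hgm _ _) (mul_mem (hgm _ _) (mul_mem (hgm _ _) (hgm _ _))),
    A.T.app_mul (hgm _ _) (mul_mem (hgm _ _) (hgm _ _)), A.T.app_mul (hgm _ _) (hgm _ _), i1.2.1, i2.1, i3.2.2.1,
    i4.2.2.2, ← mul_assoc (xU hK 27 (A.ψ b))] at e
  have hs := A.cls_swap cpos (A.ψ b) (A.ψ a ^ 2)
  simp only [cpos] at hs
  have e2 : ∀ B a c d f g : GL chevF4.Idx F, Commute d f → Commute d g → Commute f g →
      B * (a * (c * d)) * (f * g) = B * (a * (c * g * (d * f))) := fun B a c d f g h1 h2 h3 => by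
    rw [← mul_assoc (c * g), mul_assoc c g d, ← h2.eq, ← mul_assoc c d g, mul_assoc (c * d) g f, ← h3.eq]
    group
  rw [hs, e2 _ _ _ _ _ _ (by rw [commute_iff_eq, xU_mul, xU_mul, add_comm]) (commute (r := 28) (s := 30) (by decide) _ _).symm
    (commute (r := 28) (s := 30) (by decide) _ _).symm, xU_mul, xU_mul] at e
  obtain ⟨h1, h2, h3, h4⟩ := quad_inj e
  refine ⟨b, c, ?_⟩
  show _ = xU hK 25 b * (xU hK 27 (A.ψ b) * (xU hK 28 c * xU hK 30 (A.ψ b ^ 2 * b + A.ψ c ^ 2)))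
  rw [← h4, ← h2, A.theta']

end Setup

end CfsgLib.Chev.TwF4
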