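import Cfsg.Agent.Chev.TwF4
import Cfsg.Agent.Chev.TwE6

/-!
Orders, (B,N)-pair, Weyl group and simplicity of ²F₄.
-/

set_option autoImplicit false
set_option maxRecDepth 100000
set_option linter.unusedSectionVars false
set_option linter.unusedSimpArgs false
set_option linter.style.haveILetI false

namespace CfsgLib.Chev.TwF4

open Cfsg.Lie CfsgLib.Chev Fine

theorem fin_cases4 : ∀ i : Fin chevF4.rank, i = i0 ∨ i = i1 ∨ i = i2 ∨ i = i3 := by decide +kernel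

theorem ne4 : i0 ≠ i1 ∧ i0 ≠ i2 ∧ i0 ≠ i3 ∧ i1 ≠ i2 ∧ i1 ≠ i3 ∧ i2 ≠ i3 := by decide +kernel

theorem univ4 : (Finset.univ : Finset (Fin chevF4.rank)) = {i0, i1, i2, i3} := by decide +kernel

theorem prod4 {G : Type*} [CommMonoid G] (f : Fin chevF4.rank → G) :
    ∏ k, f k = f i0 * (f i1 * (f i2 * f i3)) := by
  obtain ⟨h1, h2, h3, h4, h5, h6⟩ := ne4
  rw [univ4, Finset.prod_insert (by simp [h1, h2, h3]), Finset.prod_insert (by simp [h4, h5]),
    Finset.prod_insert (by simp [h6]), Finset.prod_singleton]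

theorem chi_vals : ([i0, i1, i2, i3].map fun j : Fin chevF4.rank => [i0, i1, i2, i3].map fun k : Fin chevF4.rank =>
    F4.data.tab.A k.val (F4.data.p j.val)) = [[2, -1, 0, 0], [-1, 2, -1, 0], [0, -2, 2, -1], [0, 0, -1, 2]] := by
  decide +kernel

theorem char28 : ∀ k : Fin chevF4.rank,
    F4.data.tab.A k.val 28 = F4.data.tab.A k.val (F4.data.p i1.val) + F4.data.tab.A k.val (F4.data.p i2.val) := by
  decide +kernel

variable {F : Type*} [Field F]

theorem chi_eq (c : Fin chevF4.rank → Fˣ) :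
    (∏ k, c k ^ F4.data.tab.A k.val (F4.data.p i0.val)) = c i0 ^ 2 * (c i1)⁻¹ ∧
    (∏ k, c k ^ F4.data.tab.A k.val (F4.data.p i1.val)) = (c i0)⁻¹ * (c i1 ^ 2 * (c i2)⁻¹) ∧
    (∏ k, c k ^ F4.data.tab.A k.val (F4.data.p i2.val)) = (c i1 ^ 2)⁻¹ * (c i2 ^ 2 * (c i3)⁻¹) ∧
    (∏ k, c k ^ F4.data.tab.A k.val (F4.data.p i3.val)) = (c i2)⁻¹ * c i3 ^ 2 := by
  have h := chi_vals
  simp only [List.map_cons, List.map_nil, List.cons.injEq, and_true] at h
  obtain ⟨⟨a, b, c', d⟩, ⟨e, f, g, h'⟩, ⟨i, j, k, l⟩, ⟨m, n, o, p⟩⟩ := h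
  refine ⟨?_, ?_, ?_, ?_⟩ <;> rw [prod4]
  · rw [a, b, c', d]; simp [zpow_ofNat]
  · rw [e, f, g, h']; simp [zpow_ofNat]
  · rw [i, j, k, l]; simp [zpow_ofNat, zpow_neg]
  · rw [m, n, o, p]; simp [zpow_ofNat]

/-- four parameters -/
noncomputable def vec (a x y d : Fˣ) : Fin chevF4.rank → Fˣ :=
  fun i => if i = i0 then a else if i = i1 then x else if i = i2 then y else d

theorem vec_vals (a x y d : Fˣ) :
    vec a x y d i0 = a ∧ vec a x y d i1 = x ∧ vec a x y d i2 = y ∧ vec a x y d i3 = d := by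
  obtain ⟨h1, h2, h3, h4, h5, h6⟩ := ne4
  simp [vec, h1.symm, h2.symm, h3.symm, h4.symm, h5.symm, h6.symm]

theorem sU_conj_tFin (c : Fin chevF4.rank → Fˣ) (i : Fin chevF4.rank) :
    sU hK i.val * tFin F4.data chevF4 F c * (sU hK i.val)⁻¹ =
      tFin F4.data chevF4 F
        (c * (Pi.mulSingle i (∏ k : Fin chevF4.rank, c k ^ F4.data.tab.A k.val (F4.data.p i.val)))⁻¹) := by
  have hs : sU hK i.val = nU hK (F4.data.p i.val) (1 : F) := by rw [sU, hK.toGood.simple_eq i.isLt]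
  set χ := ∏ k : Fin chevF4.rank, c k ^ F4.data.tab.A k.val (F4.data.p i.val)
  have e : tFin F4.data chevF4 F c * sU hK i.val * (tFin F4.data chevF4 F c)⁻¹ =
      tFin F4.data chevF4 F (Pi.mulSingle i χ) * sU hK i.val := by
    rw [hs, tFin_conj_nU hK, mul_one, nU_eq_tFin hK, hs]
  rw [show sU hK i.val * tFin F4.data chevF4 F c * (sU hK i.val)⁻¹ =
      ((tFin F4.data chevF4 F c)⁻¹ * (tFin F4.data chevF4 F c * sU hK i.val * (tFin F4.data chevF4 F c)⁻¹) *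
        (sU hK i.val)⁻¹)⁻¹ by group, e, mul_comm c, map_mul, map_inv]
  group

theorem refl1 (a x y d : Fˣ) :
    sU hK i1.val * tFin F4.data chevF4 F (vec a x y d) * (sU hK i1.val)⁻¹ =
      tFin F4.data chevF4 F (vec a (a * y * x⁻¹) y d) := by
  obtain ⟨v0, v1, v2, v3⟩ := vec_vals a x y d
  obtain ⟨h1, h2, h3, h4, h5, h6⟩ := ne4
  rw [sU_conj_tFin, (chi_eq _).2.1, v0, v1, v2]
  congr 1
  funext i
  rw [Pi.mul_apply, Pi.inv_apply, Pi.mulSingle_apply]
  rcases fin_cases4 i with rfl | rfl | rfl | rfl <;>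
    simp [vec, h1, h1.symm, h2, h2.symm, h3, h3.symm, h4, h4.symm, h5, h5.symm, h6, h6.symm]
  refine Units.ext ?_
  simp only [Units.val_mul, Units.val_inv_eq_inv_val, Units.val_pow_eq_pow_val]
  field_simp

theorem refl2 (a x y d : Fˣ) :
    sU hK i2.val * tFin F4.data chevF4 F (vec a x y d) * (sU hK i2.val)⁻¹ =
      tFin F4.data chevF4 F (vec a x (x ^ 2 * d * y⁻¹) d) := by
  obtain ⟨v0, v1, v2, v3⟩ := vec_vals a x y d
  obtain ⟨h1, h2, h3, h4, h5, h6⟩ := ne4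
  rw [sU_conj_tFin, (chi_eq _).2.2.1, v1, v2, v3]
  congr 1
  funext i
  rw [Pi.mul_apply, Pi.inv_apply, Pi.mulSingle_apply]
  rcases fin_cases4 i with rfl | rfl | rfl | rfl <;>
    simp [vec, h1, h1.symm, h2, h2.symm, h3, h3.symm, h4, h4.symm, h5, h5.symm, h6, h6.symm]
  refine Units.ext ?_
  simp only [Units.val_mul, Units.val_inv_eq_inv_val, Units.val_pow_eq_pow_val]
  field_simp

namespace Setup

variable [Fintype F] {m : ℕ} (A : Setup F m)

/-- orbits -/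
def orb (j : Fin 2) : Set ℕ := {i | i ∈ twF4Os.getD j.val []}

theorem subPos_orb : subPos F4.data chevF4 (orb 0) = {r | r ∈ ([24, 33] : List ℕ)} ∧
    subPos F4.data chevF4 (orb 1) = {r | r ∈ ([25, 27, 28, 30] : List ℕ)} ∧
    negSub F4.data chevF4 (orb 0) = {r | r ∈ ([14, 23] : List ℕ)} ∧
    negSub F4.data chevF4 (orb 1) = {r | r ∈ ([17, 19, 20, 22] : List ℕ)} := by
  obtain ⟨l1, l2, l3, l4⟩ := lists
  refine ⟨?_, ?_, ?_, ?_⟩
  · rw [← l1]; exact subPos_eq graphF4_data.lift.comb [0, 3]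
  · rw [← l2]; exact subPos_eq graphF4_data.lift.comb [1, 2]
  · rw [← l3]; exact negSub_eq graphF4_data.lift.comb [0, 3]
  · rw [← l4]; exact negSub_eq graphF4_data.lift.comb [1, 2]

theorem fin2 : ∀ j : Fin 2, j = 0 ∨ j = 1 := by decide

/-- the group with its orbits -/
noncomputable def grp : TwistGrp A.T 2 where
  G1 := twistedF4 F (2 ^ m)
  orb := orb
  orb_lt := by
    intro j i hi
    rw [sizes.2.2]
    fin_cases j <;> simp [orb, twF4Os] at hi <;> omega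
  orb_cover := by
    have h : ∀ i : Fin chevF4.rank, ∃ j : Fin 2, i.val ∈ twF4Os.getD j.val [] := by decide +kernel
    exact h
  orb_inj := by
    intro j j' i h h'
    fin_cases j <;> fin_cases j' <;> simp [orb, twF4Os] at h h' ⊢ <;> omega
  orb_π := by
    have h : ∀ j : Fin 2, ∀ i : Fin chevF4.rank, i.val ∈ twF4Os.getD j.val [] →
        (pi i).val ∈ twF4Os.getD j.val [] := by decide +kernel
    exact h
  orb_trans := by
    have h : ∀ j : Fin 2, ∀ i i' : Fin chevF4.rank, i.val ∈ twF4Os.getD j.val [] →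
        i'.val ∈ twF4Os.getD j.val [] → ∃ k : Fin 2, (pi ^ k.val) i = i' := by decide +kernel
    intro j i i' hi hi'
    obtain ⟨k, hk⟩ := h j i i' hi hi'
    exact ⟨k.val, hk⟩
  orb_ne := by
    have h : ∀ j : Fin 2, ∃ i : Fin chevF4.rank, i.val ∈ twF4Os.getD j.val [] := by decide +kernel
    exact h
  gen := by
    obtain ⟨s0, s1, n0, n1⟩ := subPos_orb
    rw [twistedF4, genSubgroup_eq hK]
    refine Subgroup.closure_mono ?_
    rintro _ ⟨w, hw, rfl⟩
    rcases hw with ⟨t, rfl | rfl⟩ | ⟨t, u, rfl | rfl⟩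
    · rw [← show A.pw false t = wordU hK (f4PairWord (2 ^ m) f4p1 f4p4 t) from A.pw_word false t]
      exact ⟨A.pw_fix _ t, 0, Or.inl (by rw [s0]; exact (A.pw_genU t).1)⟩
    · rw [← show A.pw true t = wordU hK (f4PairWord (2 ^ m) f4m1 f4m4 t) from A.pw_word true t]
      exact ⟨A.pw_fix _ t, 0, Or.inr (by rw [n0]; exact (A.pw_genU t).2)⟩
    · rw [← show A.cw cpos t u = wordU hK (b2ClassWord (2 ^ m) f4a f4b f4ab f4aab t u) from A.cw_word cpos t u]
      exact ⟨A.cw_fix _ t u, 1, Or.inl (by rw [s1]; exact (A.cw_genU t u).1)⟩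
    · rw [← show A.cw cneg t u = wordU hK (b2ClassWord (2 ^ m) f4ma f4mb f4mab f4maab t u) from A.cw_word cneg t u]
      exact ⟨A.cw_fix _ t u, 1, Or.inr (by rw [n1]; exact (A.cw_genU t u).2)⟩
  posX := by
    intro j g hg
    obtain ⟨hf, hu⟩ := hg
    obtain ⟨s0, s1, -, -⟩ := subPos_orb
    rcases fin2 j with rfl | rfl
    · rw [SetLike.mem_coe, s0] at hu
      obtain ⟨t, rfl⟩ := A.X0 hf hu
      exact A.pw_mem _ t
    · rw [SetLike.mem_coe, s1] at hu
      obtain ⟨t, u, rfl⟩ := A.X1 hf hu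
      exact A.cw_mem _ t u
  negX := by
    intro j
    obtain ⟨-, -, n0, n1⟩ := subPos_orb
    rcases fin2 j with rfl | rfl
    · refine ⟨_, A.pw_mem true 1, fun h => ?_, by rw [n0]; exact (A.pw_genU 1).2⟩
      have h' : xU hK 14 (A.ψ 1) * xU hK 23 1 = xU hK 14 (0 : F) * xU hK 23 0 := by
        rw [xU_zero, xU_zero, one_mul]; exact h
      exact one_ne_zero (hK.xU_pair_inj (lt48 (by norm_num)) (lt48 (by norm_num)) (by norm_num) h').2
    · refine ⟨_, A.cw_mem cneg 0 1, fun h => ?_, by rw [n1]; exact (A.cw_genU 0 1).2⟩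
      have h' : xU hK 19 (1 : F) * xU hK 17 1 = xU hK 19 (0 : F) * xU hK 17 0 := by
        rw [xU_zero, xU_zero, one_mul, ← h]
        simp [cw, cneg, xU_zero]
      exact one_ne_zero (hK.xU_pair_inj (lt48 (by norm_num)) (lt48 (by norm_num)) (by norm_num) h').1

/-! ### The torus -/

include A in
theorem units_theta (a : Fˣ) : (a ^ (2 * 2 ^ m)) ^ 2 ^ m = a := by
  refine Units.ext ?_
  rw [Units.val_pow_eq_pow_val, Units.val_pow_eq_pow_val, ← A.psi_sq, ← A.ψ_eq, A.theta]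

theorem torFix_iff (c : Fin chevF4.rank → Fˣ) :
    c ∈ A.T.torFix ↔ c i3 = c i0 ^ (2 * 2 ^ m) ∧ c i2 = c i1 ^ (2 * 2 ^ m) := by
  rw [Twist.mem_torFix]
  obtain ⟨f0, f1, f2, f3⟩ := A.phi_eq
  obtain ⟨p0, p1, p2, p3⟩ := pi_vals
  constructor
  · intro h
    constructor
    · have := h i0
      rw [show A.T.π i0 = i3 from p0, f0, map_pow, A.psi_sq, ← Units.val_pow_eq_pow_val, Units.val_inj] at this
      exact this
    · have := h i1
      rw [show A.T.π i1 = i2 from p1, f1, map_pow, A.psi_sq, ← Units.val_pow_eq_pow_val, Units.val_inj] at this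
      exact this
  · rintro ⟨h3, h2⟩ i
    show (c (pi i) : F) = _
    rcases fin_cases4 i with rfl | rfl | rfl | rfl
    · rw [p0, f0, h3, map_pow, A.psi_sq, Units.val_pow_eq_pow_val]
    · rw [p1, f1, h2, map_pow, A.psi_sq, Units.val_pow_eq_pow_val]
    · rw [p2, f2, A.ψ_eq, ← Units.val_pow_eq_pow_val, h2, A.units_theta]
    · rw [p3, f3, A.ψ_eq, ← Units.val_pow_eq_pow_val, h3, A.units_theta]

/-- fixed parameters built from two units -/
noncomputable def par (m : ℕ) (a x : Fˣ) : Fin chevF4.rank → Fˣ :=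
  vec a x (x ^ (2 * 2 ^ m)) (a ^ (2 * 2 ^ m))

theorem par_mem (a x : Fˣ) : par m a x ∈ A.T.torFix := by
  obtain ⟨v0, v1, v2, v3⟩ := vec_vals a x (x ^ (2 * 2 ^ m)) (a ^ (2 * 2 ^ m))
  rw [A.torFix_iff, par, v0, v1, v2, v3]
  exact ⟨rfl, rfl⟩

theorem par_of_mem {c : Fin chevF4.rank → Fˣ} (hc : c ∈ A.T.torFix) : c = par m (c i0) (c i1) := by
  obtain ⟨h3, h2⟩ := (A.torFix_iff c).1 hc
  obtain ⟨v0, v1, v2, v3⟩ := vec_vals (c i0) (c i1) (c i1 ^ (2 * 2 ^ m)) (c i0 ^ (2 * 2 ^ m))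
  funext i
  rcases fin_cases4 i with rfl | rfl | rfl | rfl
  · exact v0.symm
  · exact v1.symm
  · rw [par, v2, h2]
  · rw [par, v3, h3]

theorem card_torFix : Nat.card A.T.torFix = (2 ^ (2 * m + 1) - 1) ^ 2 := by
  classical
  let f : Fˣ × Fˣ → A.T.torFix := fun p => ⟨par m p.1 p.2, A.par_mem p.1 p.2⟩
  have hf : Function.Bijective f := by
    constructor
    · rintro ⟨a, x⟩ ⟨a', x'⟩ h
      have h' : par m a x = par m a' x' := congrArg Subtype.val h
      have e0 := congrFun h' i0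
      have e1 := congrFun h' i1
      rw [par, par, (vec_vals _ _ _ _).1, (vec_vals _ _ _ _).1] at e0
      rw [par, par, (vec_vals _ _ _ _).2.1, (vec_vals _ _ _ _).2.1] at e1
      exact Prod.ext e0 e1
    · rintro ⟨c, hc⟩
      exact ⟨(c i0, c i1), Subtype.ext (A.par_of_mem hc).symm⟩
  rw [← Nat.card_eq_of_bijective f hf, Nat.card_prod, Nat.card_eq_fintype_card, Fintype.card_units, A.card, sq]

theorem nU03_commute (a b : F) :
    Commute (nU hK (F4.data.p i0.val) a) (nU hK (F4.data.p i3.val) b) := by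
  obtain ⟨p0, -, -, p3, n0, -, -, n3⟩ := p_vals
  rw [nU_expand hK, nU_expand hK, p0, p3, n0, n3]
  have r1 : ∀ x : F, Commute (xU hK 33 x) (xU hK 24 b * xU hK 23 (-b⁻¹) * xU hK 24 b) := fun x =>
    ((commute (by decide) x b).mul_right (commute (by decide) x _)).mul_right (commute (by decide) x b)
  have r2 : ∀ x : F, Commute (xU hK 14 x) (xU hK 24 b * xU hK 23 (-b⁻¹) * xU hK 24 b) := fun x =>
    ((commute (by decide) x b).mul_right (commute (by decide) x _)).mul_right (commute (by decide) x b)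
  exact ((r1 a).mul_left (r2 _)).mul_left (r1 a)

theorem nU03_mem (a : F) :
    nU hK (F4.data.p i0.val) a * nU hK (F4.data.p i3.val) (A.ψ a ^ 2) ∈ A.grp.G1 := by
  obtain ⟨p0, -, -, p3, n0, -, -, n3⟩ := p_vals
  rw [nU_expand hK, nU_expand hK, p0, p3, n0, n3,
    merge_pnp (commute (by decide) _ _) (commute (by decide) _ _) (commute (by decide) _ _)]
  have h1 : xU hK 33 a * xU hK 24 (A.ψ a ^ 2) ∈ A.grp.G1 := by
    have h : xU hK 33 (A.ψ (A.ψ a ^ 2)) * xU hK 24 (A.ψ a ^ 2) ∈ A.grp.G1 := A.pw_mem false _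
    rwa [A.theta] at h
  have h2 : xU hK 14 (-a⁻¹) * xU hK 23 (-(A.ψ a ^ 2)⁻¹) ∈ A.grp.G1 := by
    have h : xU hK 14 (A.ψ (A.ψ a ^ 2)⁻¹) * xU hK 23 (A.ψ a ^ 2)⁻¹ ∈ A.grp.G1 := A.pw_mem true _
    rw [map_inv₀, A.theta] at h
    rwa [A.neg_self, A.neg_self]
  exact mul_mem (mul_mem h1 h2) h1

theorem tFin03_mem (a : Fˣ) : tFin F4.data chevF4 F (par m a 1) ∈ A.grp.G1 := by
  have e : par m a 1 = Pi.mulSingle i0 a * Pi.mulSingle i3 (a ^ (2 * 2 ^ m)) := by
    obtain ⟨v0, v1, v2, v3⟩ := vec_vals a 1 ((1 : Fˣ) ^ (2 * 2 ^ m)) (a ^ (2 * 2 ^ m))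
    obtain ⟨h1, h2, h3, h4, h5, h6⟩ := ne4
    funext i
    rcases fin_cases4 i with rfl | rfl | rfl | rfl <;>
      simp [par, vec, h1, h1.symm, h2.symm, h3, h3.symm, h4, h4.symm, h5, h5.symm, h6, h6.symm]
  rw [e, map_mul, tFin_single_eq hK, tFin_single_eq hK]
  have sw : ∀ P P' Q Q' : GL chevF4.Idx F, Commute P' Q → P * P' * (Q * Q') = P * Q * (P' * Q') :=
    fun P P' Q Q' h => by
      calc P * P' * (Q * Q') = P * (P' * Q) * Q' := by group
        _ = _ := by rw [h.eq]; group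
  rw [sw _ _ _ _ (nU03_commute _ _), Units.val_pow_eq_pow_val, ← A.psi_sq]
  refine mul_mem (A.nU03_mem _) ?_
  have h := A.nU03_mem (-1)
  rw [map_neg, map_one, neg_one_sq] at h
  nth_rewrite 2 [A.neg_self (1 : F)]
  exact h

theorem lists' : A.grp.Lists twF4Os twF4Ws := ⟨rfl, fun _ => rfl, twF4_max⟩

theorem tFin12_mem (a : Fˣ) :
    tFin F4.data chevF4 F (par m a 1 *
      (vec a (a ^ 2 * a ^ (2 * 2 ^ m)) (a ^ 2 * (a ^ (2 * 2 ^ m)) ^ 2) (a ^ (2 * 2 ^ m)))⁻¹) ∈ A.grp.G1 := by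
  set b := a ^ (2 * 2 ^ m) with hb
  set s := sWord hK F [i1, i2, i1, i2] with hs
  have hfw : finWord chevF4 (Data.twWord twF4Ws [1]) = [i1, i2, i1, i2] := by decide +kernel
  have hw : wPerm hK [i1, i2, i1, i2] = A.grp.wJ 1 := by
    rw [← hfw]; exact A.lists'.wPerm_eq (1 : Fin 2)
  set k := A.grp.nu 1 * s⁻¹ with hk'
  have hkd : k ∈ chevF4.diagonalSubgroup F := by
    refine hK.mem_diagonal_of_moves_one (mul_mem (A.grp.nu_mon 1) (inv_mem (hK.sWord_mem_monomial _))) ?_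
    have h := hK.moves_mul (A.grp.nu_moves 1) (hK.moves_inv (hK.moves_sWord (F := F) [i1, i2, i1, i2]))
    rwa [hw, mul_inv_cancel] at h
  set h := tFin F4.data chevF4 F (par m a 1) with hh'
  have hc : s * h * s⁻¹ = tFin F4.data chevF4 F (vec a (a ^ 2 * b) (a ^ 2 * b ^ 2) b) := by
    rw [hh', par, one_pow, ← hb, hs]
    simp only [sWord, List.map_cons, List.map_nil, List.prod_cons, List.prod_nil, mul_one]
    rw [show ∀ p q X : GL chevF4.Idx F, (p * (q * (p * q))) * X * (p * (q * (p * q)))⁻¹ =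
      p * (q * (p * (q * X * q⁻¹) * p⁻¹) * q⁻¹) * p⁻¹ from fun p q X => by group, refl2, refl1, refl2, refl1]
    congr 1
    have e : (a * (1 ^ 2 * b * 1⁻¹) * 1⁻¹) ^ 2 * b * (1 ^ 2 * b * 1⁻¹)⁻¹ = a ^ 2 * b ^ 2 := by
      simp [mul_pow, mul_assoc]
    have e' : a * (a ^ 2 * b ^ 2) * (a * (1 ^ 2 * b * 1⁻¹) * 1⁻¹)⁻¹ = a ^ 2 * b := by
      simp [sq, mul_comm, mul_left_comm, mul_assoc]
    rw [e, e']
  have hcomm : k * (h * (s * h⁻¹ * s⁻¹)) * k⁻¹ = h * (s * h⁻¹ * s⁻¹) := by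
    have hd : h * (s * h⁻¹ * s⁻¹) ∈ chevF4.diagonalSubgroup F := by
      rw [show s * h⁻¹ * s⁻¹ = (s * h * s⁻¹)⁻¹ by group, hc]
      exact mul_mem (Twist.tFin_mem hK _) (inv_mem (Twist.tFin_mem hK _))
    rw [diagonal_comm hK hkd hd, mul_inv_cancel_right]
  have hkh : h * k = k * h := diagonal_comm hK (Twist.tFin_mem hK _) hkd
  have key : h * A.grp.nu 1 * h⁻¹ * (A.grp.nu 1)⁻¹ =
      tFin F4.data chevF4 F (par m a 1 * (vec a (a ^ 2 * b) (a ^ 2 * b ^ 2) b)⁻¹) := by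
    rw [show A.grp.nu 1 = k * s by rw [hk', inv_mul_cancel_right],
      show h * (k * s) * h⁻¹ * (k * s)⁻¹ = (h * k) * (s * h⁻¹ * s⁻¹) * k⁻¹ by group, hkh,
      show k * h * (s * h⁻¹ * s⁻¹) * k⁻¹ = k * (h * (s * h⁻¹ * s⁻¹)) * k⁻¹ by group, hcomm,
      show s * h⁻¹ * s⁻¹ = (s * h * s⁻¹)⁻¹ by group, hc, map_mul, map_inv]
  rw [← key]
  exact mul_mem (mul_mem (mul_mem (A.tFin03_mem a) (A.grp.nu_mem 1)) (inv_mem (A.tFin03_mem a)))
    (inv_mem (A.grp.nu_mem 1))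

include A in
theorem pow_inj_aux {x : Fˣ} (h : x ^ 2 * x ^ (2 * 2 ^ m) = 1) : x = 1 := by
  haveI := A.char2
  have h1 : x * x ^ 2 ^ m = 1 := by
    refine Units.ext ?_
    have h' : ((x * x ^ 2 ^ m : Fˣ) : F) ^ 2 = 1 ^ 2 := by
      rw [← Units.val_pow_eq_pow_val, mul_pow, ← pow_mul x (2 ^ m), mul_comm (2 ^ m) 2, h, Units.val_one, one_pow]
    rw [Units.val_one]
    exact CharTwo.sq_injective h'
  have h2 : x ^ (2 * 2 ^ m) * x = 1 := by
    have := congrArg (fun y : Fˣ => y ^ (2 * 2 ^ m)) h1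
    simp only [mul_pow, one_pow] at this
    rwa [← pow_mul x (2 ^ m), mul_comm (2 ^ m) (2 * 2 ^ m), pow_mul x (2 * 2 ^ m), A.units_theta] at this
  have h3 : x ^ 2 * x ^ (2 * 2 ^ m) = x * (x ^ (2 * 2 ^ m) * x) := by rw [sq]; simp [mul_comm, mul_left_comm, mul_assoc]
  rw [h3, h2, mul_one] at h
  exact h

theorem tFin_mem : ∀ c ∈ A.T.torFix, tFin F4.data chevF4 F c ∈ A.grp.G1 := by
  intro c hc
  let f : Fˣ →* Fˣ :=
    { toFun := fun a => a ^ 2 * a ^ (2 * 2 ^ m)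
      map_one' := by simp
      map_mul' := fun a b => by rw [mul_pow, mul_pow, mul_mul_mul_comm] }
  have hf : Function.Surjective f := Finite.injective_iff_surjective.1
    ((injective_iff_map_eq_one f).2 fun a ha => A.pow_inj_aux ha)
  obtain ⟨a, ha⟩ := hf (c i1)⁻¹
  have ha' : a ^ 2 * a ^ (2 * 2 ^ m) = (c i1)⁻¹ := ha
  have hd := A.tFin12_mem a
  set d := par m a 1 * (vec a (a ^ 2 * a ^ (2 * 2 ^ m)) (a ^ 2 * (a ^ (2 * 2 ^ m)) ^ 2) (a ^ (2 * 2 ^ m)))⁻¹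
  have hdf : d ∈ A.T.torFix := by
    show A.T.act d = d
    refine tFin_inj ?_
    rw [← A.T.app_tFin, (A.grp.le_fix hd).2]
  have d0 : d i0 = 1 := by
    simp [d, par, (vec_vals _ _ _ _).1]
  have d1 : d i1 = c i1 := by
    simp only [d, par, Pi.mul_apply, Pi.inv_apply, (vec_vals _ _ _ _).2.1, ha', inv_inv, one_mul]
  have e : c = par m (c i0) 1 * d := by
    refine (A.par_of_mem hc).trans (Eq.symm ((A.par_of_mem (mul_mem (A.par_mem _ _) hdf)).trans ?_))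
    rw [Pi.mul_apply, Pi.mul_apply, d0, d1]
    simp only [par, (vec_vals _ _ _ _).1, (vec_vals _ _ _ _).2.1, mul_one, one_mul]
  rw [e, map_mul]
  exact mul_mem (A.tFin03_mem _) hd

theorem ker_trivial : ∀ c ∈ A.T.torFix, tFin F4.data chevF4 F c = 1 → c = 1 :=
  fun c _ h => tFin_inj (h.trans (map_one _).symm)

theorem card_diagonal :
    Nat.card ↥(chevF4.diagonalSubgroup F ⊓ A.grp.G1) = (2 ^ (2 * m + 1) - 1) ^ 2 := by
  rw [A.grp.card_diagonal_of A.ker_trivial A.tFin_mem, A.card_torFix]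

theorem card_XJ (j : Fin 2) :
    Nat.card (A.T.X (A.grp.wJ j)) ^ 2 = (2 ^ (2 * m + 1)) ^ (invSet F4.data chevF4 (A.grp.wJ j)).ncard := by
  classical
  rw [A.grp.X_wJ, A.grp.invSet_wJ, show A.grp.orb j = orb j from rfl]
  obtain ⟨s0, s1, -, -⟩ := subPos_orb
  rcases fin2 j with rfl | rfl
  · rw [s0]
    let f : F → ↥(A.T.fix ⊓ genU hK F {r | r ∈ ([24, 33] : List ℕ)}) := fun t =>
      ⟨_, A.pw_fix false t, (A.pw_genU t).1⟩
    have hf : Function.Bijective f := by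
      refine ⟨fun a b h => A.pw_inj (congrArg Subtype.val h), ?_⟩
      rintro ⟨g, hg, hu⟩
      obtain ⟨t, rfl⟩ := A.X0 hg hu
      exact ⟨t, rfl⟩
    have hn : ({r | r ∈ ([24, 33] : List ℕ)} : Set ℕ).ncard = 2 := by
      rw [show ({r | r ∈ ([24, 33] : List ℕ)} : Set ℕ) = ↑([24, 33] : List ℕ).toFinset by ext; simp,
        Set.ncard_coe_finset]
      rfl
    erw [← Nat.card_eq_of_bijective f hf, Nat.card_eq_fintype_card, A.card]
    rw [hn]
  · rw [s1]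
    let f : F × F → ↥(A.T.fix ⊓ genU hK F {r | r ∈ ([25, 27, 28, 30] : List ℕ)}) := fun p =>
      ⟨_, A.cw_fix cpos p.1 p.2, (A.cw_genU p.1 p.2).1⟩
    have hf : Function.Bijective f := by
      refine ⟨fun a b h => ?_, ?_⟩
      · have := A.cw_inj (congrArg Subtype.val h)
        exact Prod.ext this.1 this.2
      rintro ⟨g, hg, hu⟩
      obtain ⟨t, u, rfl⟩ := A.X1 hg hu
      exact ⟨(t, u), rfl⟩
    have hn : ({r | r ∈ ([25, 27, 28, 30] : List ℕ)} : Set ℕ).ncard = 4 := by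
      rw [show ({r | r ∈ ([25, 27, 28, 30] : List ℕ)} : Set ℕ) = ↑([25, 27, 28, 30] : List ℕ).toFinset by ext; simp,
        Set.ncard_coe_finset]
      rfl
    erw [← Nat.card_eq_of_bijective f hf, Nat.card_prod, Nat.card_eq_fintype_card, A.card]
    rw [hn]
    ring

theorem card_pos : Nat.card ↥(chevF4.posUnipotent F ⊓ A.grp.G1) = (2 ^ (2 * m + 1)) ^ 12 := by
  have h := A.grp.card_pos (Q := 2 ^ (2 * m + 1)) (k := 2) A.card_XJ
  have e : chevF4.nroots - F4.data.npos = 24 := by decide +kernel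
  rw [e] at h
  exact (eq_pow_half Nat.prime_two h).2

theorem card_group :
    Nat.card ↥A.grp.G1 = (2 ^ (2 * m + 1)) ^ 12 * (2 ^ (2 * m + 1) - 1) * ((2 ^ (2 * m + 1)) ^ 3 + 1) *
      ((2 ^ (2 * m + 1)) ^ 4 - 1) * ((2 ^ (2 * m + 1)) ^ 6 + 1) := by
  classical
  have hX : ∀ w ∈ A.T.weylFix, 2 ∣ (invSet F4.data chevF4 w).ncard ∧
      Nat.card (A.T.X w) = (2 ^ (2 * m + 1)) ^ ((invSet F4.data chevF4 w).ncard / 2) := fun w hw =>
    eq_pow_half Nat.prime_two (A.grp.card_X (Q := 2 ^ (2 * m + 1)) (k := 2) A.card_XJ hw)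
  set q : ℕ := 2 ^ (2 * m + 1) with hq
  set x : ℝ := Real.sqrt q with hx
  have hx2 : x ^ 2 = (q : ℝ) := Real.sq_sqrt (Nat.cast_nonneg q)
  have hsum : ((∑ᶠ w : A.T.weylFix, Nat.card (A.T.X w.val) : ℕ) : ℝ) =
      lenSum F4.data chevF4 A.T.weylFix x := by
    rw [TwistGrp.sum_X (T := A.T) fun w hw => (hX w hw).2, lenSum, finsum_eq_sum_of_fintype,
      finsum_eq_sum_of_fintype, Nat.cast_sum]
    refine Finset.sum_congr rfl fun w _ => ?_
    rw [Nat.cast_pow, ← hx2, ← pow_mul, Nat.mul_div_cancel' (hX w.1 w.2).1, Nat.card_coe_set_eq]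
  rw [A.grp.card_G1_sum, A.card_pos, A.card_diagonal]
  have h1 : 1 ≤ q := Nat.one_le_two_pow
  have h4 : 1 ≤ q ^ 4 := Nat.one_le_pow _ _ h1
  have key : ((q ^ 12 * (q - 1) ^ 2 * ∑ᶠ w : A.T.weylFix, Nat.card (A.T.X w.val) : ℕ) : ℝ) =
      ((q ^ 12 * (q - 1) * (q ^ 3 + 1) * (q ^ 4 - 1) * (q ^ 6 + 1) : ℕ) : ℝ) := by
    rw [Nat.cast_mul, hsum, ← A.grp.fixFirst_all,
      A.lists'.lenSum_level (k := 1) (by norm_num) twF4_level1 twF4_keys1 twF4_lens1,
      A.lists'.lenSum_level (k := 0) (by norm_num) twF4_level0 twF4_keys0 twF4_lens0, TwistGrp.lenSum_bot]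
    simp only [List.map_cons, List.map_nil, List.sum_cons, List.sum_nil]
    push_cast [Nat.cast_sub h1, Nat.cast_sub h4]
    rw [show x ^ 4 = (x ^ 2) ^ 2 by ring, show x ^ 6 = (x ^ 2) ^ 3 by ring, show x ^ 10 = (x ^ 2) ^ 5 by ring,
      show x ^ 12 = (x ^ 2) ^ 6 by ring, show x ^ 16 = (x ^ 2) ^ 8 by ring, show x ^ 18 = (x ^ 2) ^ 9 by ring,
      show x ^ 22 = (x ^ 2) ^ 11 by ring, hx2]
    ring
  exact_mod_cast key

theorem orderOf_wJ : orderOf (A.grp.wJ 0 * A.grp.wJ 1) = 8 :=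
  A.lists'.orderOf_pair 0 1 (by norm_num) (by
    have := twF4_ords
    simp only [List.all_eq_true, List.mem_range] at this
    exact this 0 (by norm_num) 1 (by norm_num))

theorem wJ_ne : A.grp.wJ 0 * A.grp.wJ 1 ≠ A.grp.wJ 1 * A.grp.wJ 0 := by
  intro h
  have h2 : (A.grp.wJ 0 * A.grp.wJ 1) ^ 2 = 1 := by
    rw [sq, mul_assoc, ← mul_assoc (A.grp.wJ 1), ← h, mul_assoc (A.grp.wJ 0), A.grp.wJ_sq, mul_one,
      A.grp.wJ_sq]
  have := orderOf_dvd_of_pow_eq_one h2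
  rw [A.orderOf_wJ] at this
  exact absurd (Nat.le_of_dvd (by norm_num) this) (by norm_num)

theorem exists_weylQuot :
    ∃ φ : ↥(chevF4.monomialSubgroup F ⊓ A.grp.G1) →* DihedralGroup 8, Function.Surjective φ ∧
      φ.ker = (chevF4.diagonalSubgroup F ⊓ A.grp.G1).subgroupOf (chevF4.monomialSubgroup F ⊓ A.grp.G1) := by
  obtain ⟨f, hinj, hr⟩ := exists_dihedral_hom (n := 8) (by norm_num) (A.grp.wJ_sq 0) (A.grp.wJ_sq 1) A.orderOf_wJ
  refine A.grp.exists_weylQuot f hinj ?_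
  rw [hr, A.grp.weylFix_eq]
  congr 1
  ext g
  simp only [Set.mem_insert_iff, Set.mem_singleton_iff, Set.mem_range]
  constructor
  · rintro (rfl | rfl) <;> exact ⟨_, rfl⟩
  · rintro ⟨j, rfl⟩
    rcases fin2 j with rfl | rfl
    · exact Or.inl rfl
    · exact Or.inr rfl

theorem normalCore :
    ((chevF4.borelSubgroup F ⊓ A.grp.G1).subgroupOf A.grp.G1).normalCore = ⊥ := by
  refine A.grp.normalCore_eq_bot fun j i hi => ?_
  obtain ⟨p0, p1, p2, p3, -⟩ := p_vals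
  have hi' : i.val ∈ twF4Os.getD j.val [] := hi
  rcases fin2 j with rfl | rfl
  · obtain ⟨t, -, ht, e⟩ := exists_ordProd_sorted hK [(24, (1 : F)), (33, 1)] F4.data.npos
      (by rw [sizes.1, sizes.2.1]; simp) (by simp)
    refine ⟨t, ?_, ?_⟩
    · simp [twF4Os] at hi'
      rcases hi' with h | h <;> rw [h]
      · rw [show F4.data.p 0 = 33 from p0, ht (33, 1) (by simp)]; exact one_ne_zero
      · rw [show F4.data.p 3 = 24 from p3, ht (24, 1) (by simp)]; exact one_ne_zero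
    · have h0 : xU hK 33 (A.ψ 1) * xU hK 24 1 ∈ A.T.fix := A.pw_fix false 1
      rw [map_one, (commute (r := 33) (s := 24) (by decide) (1 : F) 1).eq] at h0
      erw [e]
      simpa [wordU] using h0
  · obtain ⟨t, -, ht, e⟩ := exists_ordProd_sorted hK [(25, (1 : F)), (27, 1), (28, 0), (30, 1)] F4.data.npos
      (by rw [sizes.1, sizes.2.1]; simp) (by simp)
    refine ⟨t, ?_, ?_⟩
    · simp [twF4Os] at hi'
      rcases hi' with h | h <;> rw [h]
      · rw [show F4.data.p 1 = 27 from p1, ht (27, 1) (by simp)]; exact one_ne_zero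
      · rw [show F4.data.p 2 = 25 from p2, ht (25, 1) (by simp)]; exact one_ne_zero
    · have h0 := A.cw_fix cpos 1 0
      erw [e]
      simpa [cw, cpos, wordU, mul_assoc] using h0

include A in
theorem exists_ne_one (hm : 1 ≤ m) : ∃ a : Fˣ, a ≠ 1 := exists_unit_ne_one (by
  rw [A.card]
  calc 2 < 2 ^ 3 := by norm_num
    _ ≤ _ := Nat.pow_le_pow_right (by norm_num) (by omega))

theorem perfect (hm : 1 ≤ m) : commutator ↥A.grp.G1 = ⊤ := by
  refine A.grp.perfect_of fun j => ?_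
  obtain ⟨a, ha⟩ := A.exists_ne_one hm
  obtain ⟨p0, p1, p2, p3, -⟩ := p_vals
  obtain ⟨s0, s1, -, -⟩ := subPos_orb
  have hb : a ^ (2 * 2 ^ m) ≠ 1 := fun h => ha (by rw [← A.units_theta a, h, one_pow])
  have cancel : ∀ {u : Fˣ} {t : F}, (u : F) * t = t → u ≠ 1 → t = 0 := fun {u t} h hu => by
    by_contra hne
    exact hu (Units.ext (mul_right_cancel₀ hne (h.trans (one_mul t).symm)))
  rcases fin2 j with rfl | rfl
  · refine A.grp.derived_of_fpf (A.tFin_mem _ (A.par_mem 1 a)) (Twist.tFin_mem hK _) 0 fun g hg hfix => ?_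
    rw [A.grp.X_wJ, show A.grp.orb 0 = orb 0 from rfl, s0] at hg
    obtain ⟨t, rfl⟩ := A.X0 hg.1 hg.2
    set h := tFin F4.data chevF4 F (par m 1 a) with hh
    have e : h * A.pw false t * h⁻¹ = (h * xU hK 33 (A.ψ t) * h⁻¹) * (h * xU hK 24 t * h⁻¹) := by
      show h * (xU hK 33 (A.ψ t) * xU hK 24 t) * h⁻¹ = _
      group
    rw [e, hh, tFin_conj_xU hK _ (lt48 (by norm_num)), tFin_conj_xU hK _ (lt48 (by norm_num))] at hfix
    have h2 := (hK.xU_pair_inj (lt48 (by norm_num)) (lt48 (by norm_num)) (by norm_num) (hfix : _ =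
      xU hK 33 (A.ψ t) * xU hK 24 t)).2
    rw [← p3, (chi_eq _).2.2.2] at h2
    have ht0 := cancel h2 (by
      obtain ⟨-, -, v2, v3⟩ := vec_vals (1 : Fˣ) a (a ^ (2 * 2 ^ m)) ((1 : Fˣ) ^ (2 * 2 ^ m))
      rw [par, v2, v3, one_pow, one_pow, mul_one, Ne, inv_eq_one]
      exact hb)
    simp [ht0, pw, xU_zero]
  · refine A.grp.derived_of_fpf (A.tFin_mem _ (A.par_mem a 1)) (Twist.tFin_mem hK _) 1 fun g hg hfix => ?_
    rw [A.grp.X_wJ, show A.grp.orb 1 = orb 1 from rfl, s1] at hg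
    obtain ⟨t, u, rfl⟩ := A.X1 hg.1 hg.2
    set h := tFin F4.data chevF4 F (par m a 1) with hh
    have e : ∀ B C D E : GL chevF4.Idx F, h * (B * (C * (D * E))) * h⁻¹ =
        (h * B * h⁻¹) * ((h * C * h⁻¹) * ((h * D * h⁻¹) * (h * E * h⁻¹))) := fun B C D E => by group
    simp only [cw, cpos] at hfix
    rw [e, hh, tFin_conj_xU hK _ (lt48 (by norm_num)), tFin_conj_xU hK _ (lt48 (by norm_num)),
      tFin_conj_xU hK _ (lt48 (by norm_num)), tFin_conj_xU hK _ (lt48 (by norm_num))] at hfix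
    obtain ⟨h1, -, h3, -⟩ := quad_inj hfix
    obtain ⟨v0, v1, v2, v3⟩ := vec_vals a 1 ((1 : Fˣ) ^ (2 * 2 ^ m)) (a ^ (2 * 2 ^ m))
    have e28 : (∏ k : Fin chevF4.rank, par m a 1 k ^ F4.data.tab.A k.val 28) =
        (a * a ^ (2 * 2 ^ m))⁻¹ := by
      rw [Finset.prod_congr rfl fun k _ => by rw [char28 k, _root_.zpow_add], Finset.prod_mul_distrib,
        (chi_eq _).2.1, (chi_eq _).2.2.1]
      rw [par, v0, v1, v2, v3]
      simp [mul_comm]
    rw [← p2, (chi_eq _).2.2.1] at h1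
    rw [e28] at h3
    have ht0 := cancel h1 (by
      rw [par, v1, v2, v3]
      simpa using hb)
    have hu0 := cancel h3 (by
      rw [Ne, inv_eq_one]
      intro h4
      refine ha (A.pow_inj_aux ?_)
      rw [sq, mul_assoc, h4, mul_one]
      have := congrArg (fun y : Fˣ => y ^ 2 ^ m) h4
      simp only [mul_pow, one_pow, A.units_theta] at this
      calc a = a * (a ^ 2 ^ m * a) ^ 2 * ((a ^ (2 * 2 ^ m) * a) * a)⁻¹ * 1 := by
            rw [mul_pow, ← pow_mul, mul_comm (2 ^ m) 2, mul_one]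
            simp [sq, mul_comm, mul_left_comm, mul_assoc]
        _ = 1 := by
            rw [this, one_pow, mul_comm (a ^ (2 * 2 ^ m)) a, h4, one_mul, mul_one, mul_one, mul_inv_cancel])
    simp [ht0, hu0, cw, xU_zero]

theorem simple (hm : 1 ≤ m) : IsSimpleGroup ↥A.grp.G1 ∧ ¬ IsMulCommutative ↥A.grp.G1 := by
  refine A.grp.isSimple_of (by norm_num) (fun B ⟨j, hj⟩ ⟨j', hj'⟩ => ⟨j, j', hj, hj', ?_⟩) A.normalCore
    (A.perfect hm)
  fin_cases j <;> fin_cases j'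
  · exact absurd (hj.symm.trans hj') (by decide)
  · exact A.wJ_ne
  · exact fun h => A.wJ_ne h.symm
  · exact absurd (hj.symm.trans hj') (by decide)

end Setup

end CfsgLib.Chev.TwF4
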