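import Cfsg.Agent.Chev.TwistWord
import Cfsg.Agent.Chev.GraphAll
import Cfsg.Agent.Chev.Run.Twist
import Cfsg.Agent.Chev.FieldFixed
import Cfsg.Agent.Chev.All

/-!
The twisted group of type ²G₂ over the field with `3^(2m+1)` elements: generators and root groups.
-/

set_option autoImplicit false
set_option maxRecDepth 100000
set_option linter.unusedSectionVars false
set_option linter.unusedSimpArgs false
set_option linter.style.haveILetI false

namespace CfsgLib.Chev

/-- two lists of terms agree modulo `p` -/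
noncomputable def sameTermsMod (p : ℕ) (L M : List Term) : Bool :=
  (normTerms (L ++ negTerms M)).all fun e => intEq (e.coef % (p : ℤ)) 0

theorem evalTerms_eq_mod {F : Type*} [Field F] (p : ℕ) [CharP F p] (t u : F) {L M : List Term}
    (h : sameTermsMod p L M = true) (j : ℕ) : evalTerms t u L j = evalTerms t u M j := by
  have hz : evalTerms t u (normTerms (L ++ negTerms M)) j = 0 := by
    refine List.sum_eq_zero fun x hx => ?_
    obtain ⟨e, he, rfl⟩ := List.mem_map.1 hx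
    simp only [sameTermsMod, List.all_eq_true, intEq_iff] at h
    have hc : (e.coef : F) = 0 := (CharP.intCast_eq_zero_iff F p _).2 (Int.dvd_of_emod_eq_zero (h e he))
    simp [Term.val, hc]
  rw [evalTerms_normTerms, evalTerms_append, evalTerms_negTerms, add_neg_eq_zero] at hz
  exact hz

/-- words with integer arguments agree in characteristic `p` when their columns agree modulo `p` -/
theorem wordMat_eq_mod (D : Cfsg.Lie.ChevalleyDatum) {F : Type*} [Field F] (p : ℕ) [CharP F p] {T : Tab}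
    (hT : T.Fits D) {v w : List (ℕ × ℤ)} (hv : ∀ x ∈ v, x.1 < D.nroots) (hw : ∀ x ∈ w, x.1 < D.nroots)
    (h : ∀ j < dim D, sameTermsMod p (wordCol T (v.map fun x => ⟨x.1, x.2, 0, 0⟩) j)
      (wordCol T (w.map fun x => ⟨x.1, x.2, 0, 0⟩) j) = true) :
    D.wordMat F (v.map fun x => (x.1, (x.2 : F))) = D.wordMat F (w.map fun x => (x.1, (x.2 : F))) := by
  have e : ∀ v : List (ℕ × ℤ), evalWord (1 : F) 1 (v.map fun x => (⟨x.1, x.2, 0, 0⟩ : Letter)) =
      v.map fun x => (x.1, (x.2 : F)) := fun v => by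
    simp [evalWord, Letter.arg, Function.comp_def]
  rw [← e v, ← e w]
  ext a b
  rw [← evalTerms_wordCol D hT one_ne_zero one_ne_zero _ (by intro x hx; obtain ⟨a, ha, rfl⟩ := List.mem_map.1 hx; exact hv a ha),
    ← evalTerms_wordCol D hT one_ne_zero one_ne_zero _ (by intro x hx; obtain ⟨a, ha, rfl⟩ := List.mem_map.1 hx; exact hw a ha)]
  exact evalTerms_eq_mod p _ _ (h _ (code_lt D b)) _

theorem tU_eq_tFin {K : Data} {D : Cfsg.Lie.ChevalleyDatum} {F : Type*} [Field F] (hK : Fine K D) (c : ℕ → Fˣ) :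
    (Fine.tU K D c : GL D.Idx F) = tFin K D F fun i => c i.val := by
  refine Units.ext ?_
  show _ = ((Fine.tU K D (extC fun i : Fin D.rank => c i.val) : GL D.Idx F) : Matrix D.Idx D.Idx F)
  rw [Fine.coe_tU, Fine.coe_tU]
  refine dmat_congr fun r hr => ?_
  congr 1
  rw [Fine.torusChar, Fine.torusChar]
  exact Finset.prod_congr rfl fun k hk => by
    rw [Finset.mem_range] at hk
    simp [extC, hk]

namespace TwG2

open Cfsg.Lie CfsgLib.Chev Fine

/-- indices of the fundamental roots -/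
def i0 : Fin chevG2.rank := ⟨0, by decide +kernel⟩
/-- indices of the fundamental roots -/
def i1 : Fin chevG2.rank := ⟨1, by decide +kernel⟩

/-- the symmetry of the fundamental roots -/
def pi : Equiv.Perm (Fin chevG2.rank) :=
  show Equiv.Perm (Fin 2) from ⟨![1, 0], ![1, 0], by decide, by decide⟩

theorem pi_list : ∀ i : Fin chevG2.rank, ([1, 0] : List ℕ).getD i.val 0 = (pi i).val := by decide +kernel

theorem pi_vals : pi i0 = i1 ∧ pi i1 = i0 := by decide +kernel

theorem p_vals : G2.data.p i0.val = 7 ∧ G2.data.p i1.val = 6 ∧ G2.data.neg 7 = 4 ∧ G2.data.neg 6 = 5 := by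
  decide +kernel

theorem sizes : G2.data.npos = 6 ∧ chevG2.nroots = 12 ∧ chevG2.rank = 2 := by decide +kernel

theorem names : g2a = 7 ∧ g2b = 6 ∧ g2ab = 8 ∧ g2aab = 9 ∧ g2aaab = 10 ∧ g2aaabb = 11 :=
  ⟨rfl, rfl, rfl, rfl, rfl, rfl⟩

theorem neg_idx : ∀ r ∈ ([6, 7, 8, 9, 10, 11] : List ℕ), chevG2.negIdx.getD r 0 = 11 - r := by decide +kernel

theorem image_check : ([(6, 7, 1), (7, 6, 3), (8, 10, 3), (9, 11, 3), (10, 8, 1), (11, 9, 1)] :
    List (ℕ × ℕ × ℕ)).all (fun p => Nat.beq (graphG2.im p.1) p.2.1 && Nat.beq (graphG2.ex p.1) p.2.2 &&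
      intEq (graphG2.sg p.1) 1 && Nat.beq (graphG2.im (11 - p.1)) (11 - p.2.1) &&
      Nat.beq (graphG2.ex (11 - p.1)) p.2.2 && intEq (graphG2.sg (11 - p.1)) 1) = true := by decide +kernel

theorem comm_check : ([(8, 9), (8, 10), (8, 11), (9, 10), (9, 11), (10, 11), (3, 2), (3, 1), (3, 0), (2, 1), (2, 0),
    (1, 0), (8, 1), (3, 10)] : List (ℕ × ℕ)).all (fun p =>
      (G2.data.comm p.1 p.2).all (fun c => intEq (c.2.1 % 3) 0) && !(Nat.beq p.2 p.1) &&
      !(Nat.beq p.2 (G2.data.neg p.1))) = true := by decide +kernel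

theorem class_check : G2.data.comm 6 7 = [(8, 1, 1, 1), (9, 1, 1, 2), (10, -1, 1, 3), (11, -2, 2, 3)] ∧
    G2.data.comm 5 4 = [(3, -1, 1, 1), (2, 1, 1, 2), (1, 1, 1, 3), (0, -2, 2, 3)] := by decide +kernel

theorem closed_check : ∀ r ∈ ([6, 7, 8, 9, 10, 11] : List ℕ), ∀ s ∈ ([6, 7, 8, 9, 10, 11] : List ℕ),
    ∀ c ∈ G2.data.comm r s, c.1 ∈ ([6, 7, 8, 9, 10, 11] : List ℕ) := by
  decide +kernel

theorem lists : G2.data.subPosL [0, 1] = [6, 7, 8, 9, 10, 11] ∧ G2.data.negSubL [0, 1] = [0, 1, 2, 3, 4, 5] := by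
  decide +kernel

theorem torus_word : ∀ j < dim chevG2, sameTermsMod 3
    (wordCol G2.data.tab (([(4, -1), (5, -1), (3, -1), (2, -1)] : List (ℕ × ℤ)).map fun x => ⟨x.1, x.2, 0, 0⟩) j)
    (wordCol G2.data.tab (([(7, 1), (6, 1), (8, 1), (9, 1),
      (8, 1), (3, -1), (8, 1), (10, 1), (1, -1), (10, 1),
      (7, -1), (4, 1), (7, -1), (7, -1), (4, 1), (7, -1), (6, -1), (5, 1), (6, -1), (6, -1), (5, 1), (6, -1),
      (7, -1), (6, -1), (8, -1), (9, 1), (10, 1), (11, -1)] : List (ℕ × ℤ)).map fun x => ⟨x.1, x.2, 0, 0⟩) j) =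
      true := by
  decide +kernel

variable {F : Type*} [Field F]

theorem hK : Fine G2.data chevG2 := G2.fine

theorem lt12 {r : ℕ} (h : r < 12) : r < chevG2.nroots := by rw [sizes.2.1]; exact h

theorem tFin_inj : Function.Injective (tFin G2.data chevG2 F) := by
  obtain ⟨B, hB⟩ : ∃ B : Matrix (Fin chevG2.rank) (Fin chevG2.rank) ℤ,
      cartanMat G2.data chevG2.rank * B = 1 := by
    have h : cartanMat G2.data 2 * (!![2, 3; 1, 2] : Matrix (Fin 2) (Fin 2) ℤ) = 1 := by decide +kernel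
    exact ⟨_, h⟩
  exact hK.tFin_injective B hB

/-- a root element of a positive root or of its negative with opposite argument -/
noncomputable def z (b : Bool) (r : ℕ) (t : F) : GL chevG2.Idx F :=
  if b then xU hK (11 - r) (-t) else xU hK r t

theorem z_zero (b : Bool) (r : ℕ) : z b r (0 : F) = 1 := by cases b <;> simp [z, xU_zero]

theorem z_mul (b : Bool) (r : ℕ) (t u : F) : z b r t * z b r u = z b r (t + u) := by
  cases b <;> simp [z, xU_mul, neg_add]
  exact congrArg _ (add_comm _ _)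

theorem z_mem (b : Bool) (r : ℕ) (t : F) : z b r t ∈ chevG2.group F := by
  cases b <;> exact hK.xU_mem_group _ _

/-- the abelian part of a normal form -/
noncomputable def tail (b : Bool) (c d f g : F) : GL chevG2.Idx F := z b 8 c * (z b 9 d * (z b 10 f * z b 11 g))

/-- normal forms -/
noncomputable def nf (b : Bool) (y x c d f g : F) : GL chevG2.Idx F := z b 6 y * (z b 7 x * tail b c d f g)

/-- hypotheses on the field -/
structure Setup (F : Type*) [Field F] [Fintype F] (m : ℕ) where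
  ψ : F →+* F
  ψ_eq : ∀ x, ψ x = x ^ 3 ^ m
  card : Fintype.card F = 3 ^ (2 * m + 1)
  char3 : CharP F 3

variable [Fintype F] {m : ℕ}

theorem exists_setup (h : Fintype.card F = 3 ^ (2 * m + 1)) : Nonempty (Setup F m) := by
  haveI : Fact (Nat.Prime 3) := ⟨Nat.prime_three⟩
  haveI : CharP F 3 := by
    obtain ⟨p, hp⟩ := CharP.exists F
    haveI := hp
    obtain ⟨n, hpp, hn⟩ := FiniteField.card F p
    have hd : p ∣ 3 ^ (2 * m + 1) := by
      rw [← h, hn]
      exact dvd_pow_self p n.ne_zero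
    obtain rfl := (Nat.prime_dvd_prime_iff_eq hpp Nat.prime_three).1 (hpp.dvd_of_dvd_pow hd)
    exact hp
  exact ⟨⟨iterateFrobenius F 3 m, fun x => iterateFrobenius_def 3 m x, h, inferInstance⟩⟩

namespace Setup

variable (A : Setup F m)

include A in
theorem three_zero : (3 : F) = 0 := by haveI := A.char3; exact_mod_cast CharP.cast_eq_zero F 3

include A in
theorem expOK : ExpOK F 3 := by
  haveI := A.char3
  haveI : Fact (Nat.Prime 3) := ⟨Nat.prime_three⟩
  refine ExpOK.of_prime F 3 fun x => ?_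
  exact (Finite.injective_iff_surjective.1 (frobenius_inj F 3)) x

include A in
theorem tab : TwistTab G2.data chevG2 F graphG2 3 pi :=
  ⟨graphG2_data, A.expOK, _, twG2_sym, pi_list⟩

/-- the twist -/
noncomputable def T : Twist G2.data chevG2 F := A.tab.toTwist A.ψ

theorem theta (t : F) : A.ψ (A.ψ t) ^ 3 = t := by
  rw [A.ψ_eq, A.ψ_eq, ← pow_mul, ← pow_mul, show 3 ^ m * (3 ^ m * 3) = 3 ^ (2 * m + 1) by ring, ← A.card]
  exact FiniteField.pow_card t

theorem theta' (t : F) : A.ψ (A.ψ t ^ 3) = t := by rw [map_pow, A.theta]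

theorem app_z (b : Bool) {r r' k : ℕ}
    (h : (r, r', k) ∈ ([(6, 7, 1), (7, 6, 3), (8, 10, 3), (9, 11, 3), (10, 8, 1), (11, 9, 1)] : List (ℕ × ℕ × ℕ)))
    (t : F) : A.T.app (z b r t) = z b r' (A.ψ (t ^ k)) := by
  have hlt : ∀ p ∈ ([(6, 7, 1), (7, 6, 3), (8, 10, 3), (9, 11, 3), (10, 8, 1), (11, 9, 1)] :
      List (ℕ × ℕ × ℕ)), p.1 < 12 ∧ 11 - p.1 < 12 ∧ Odd p.2.2 := by decide
  have hc := image_check
  simp only [List.all_eq_true, Bool.and_eq_true, intEq_iff] at hc
  obtain ⟨⟨⟨⟨⟨h1, h2⟩, h3⟩, h4⟩, h5⟩, h6⟩ := hc _ h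
  cases b
  · have e := A.tab.toTwist_app A.ψ (lt12 (hlt _ h).1) t
    rw [Nat.eq_of_beq_eq_true h1, Nat.eq_of_beq_eq_true h2, h3, Int.cast_one, one_mul] at e
    exact e
  · have e := A.tab.toTwist_app A.ψ (lt12 (hlt _ h).2.1) (-t)
    rw [Nat.eq_of_beq_eq_true h4, Nat.eq_of_beq_eq_true h5, h6, Int.cast_one, one_mul, (hlt _ h).2.2.neg_pow,
      map_neg] at e
    exact e

theorem fix_iff {g : GL chevG2.Idx F} (hg : g ∈ chevG2.group F) : g ∈ A.T.fix ↔ A.T.app g = g :=
  ⟨fun h => h.2, fun h => ⟨hg, h⟩⟩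

include A in
theorem xU_comm3 {r s : ℕ}
    (h : (r, s) ∈ ([(8, 9), (8, 10), (8, 11), (9, 10), (9, 11), (10, 11), (3, 2), (3, 1), (3, 0), (2, 1), (2, 0),
      (1, 0), (8, 1), (3, 10)] : List (ℕ × ℕ))) (t u : F) : Commute (xU hK r t) (xU hK s u) := by
  have hlt : ∀ p ∈ ([(8, 9), (8, 10), (8, 11), (9, 10), (9, 11), (10, 11), (3, 2), (3, 1), (3, 0), (2, 1), (2, 0),
      (1, 0), (8, 1), (3, 10)] : List (ℕ × ℕ)), p.1 < 12 ∧ p.2 < 12 := by decide
  have hc := comm_check
  simp only [List.all_eq_true, Bool.and_eq_true, Bool.not_eq_true', intEq_iff] at hc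
  obtain ⟨⟨h1, h2⟩, h3⟩ := hc _ h
  have e := hK.xU_swap (F := F) (r := r) (s := s) (lt12 (hlt _ h).1) (lt12 (hlt _ h).2)
    (fun e => by rw [e, Nat.beq_refl] at h2; exact Bool.noConfusion h2)
    (fun e => by rw [e, Nat.beq_refl] at h3; exact Bool.noConfusion h3) t u
  have hw : wordU hK ((G2.data.comm r s).map fun c =>
      (c.1, (c.2.1 : F) * (-t) ^ c.2.2.1 * u ^ c.2.2.2)) = 1 := by
    refine List.prod_eq_one fun x hx => ?_
    obtain ⟨p, hp, rfl⟩ := List.mem_map.1 hx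
    obtain ⟨c, hc', rfl⟩ := List.mem_map.1 hp
    haveI := A.char3
    have h0 : ((c.2.1 : ℤ) : F) = 0 :=
      (CharP.intCast_eq_zero_iff F 3 _).2 (Int.dvd_of_emod_eq_zero (h1 c hc'))
    simp only [h0, zero_mul, xU_zero]
  rw [hw, mul_one] at e
  exact e.symm

include A in
theorem z_comm (b : Bool) {r s : ℕ}
    (h : (r, s) ∈ ([(8, 9), (8, 10), (8, 11), (9, 10), (9, 11), (10, 11)] : List (ℕ × ℕ))) (t u : F) :
    Commute (z b r t) (z b s u) := by
  have hh : ∀ p ∈ ([(8, 9), (8, 10), (8, 11), (9, 10), (9, 11), (10, 11)] : List (ℕ × ℕ)),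
      p ∈ ([(8, 9), (8, 10), (8, 11), (9, 10), (9, 11), (10, 11), (3, 2), (3, 1), (3, 0), (2, 1), (2, 0),
        (1, 0), (8, 1), (3, 10)] : List (ℕ × ℕ)) ∧
      (11 - p.1, 11 - p.2) ∈ ([(8, 9), (8, 10), (8, 11), (9, 10), (9, 11), (10, 11), (3, 2), (3, 1), (3, 0), (2, 1),
        (2, 0), (1, 0), (8, 1), (3, 10)] : List (ℕ × ℕ)) := by decide
  cases b
  · exact A.xU_comm3 (hh _ h).1 t u
  · exact A.xU_comm3 (hh _ h).2 (-t) (-u)

include A in
theorem z_swap (b : Bool) (x y : F) :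
    z b 7 x * z b 6 y = z b 6 y * (z b 7 x * tail b (-(x * y)) (-(x ^ 2 * y)) (x ^ 3 * y) (x ^ 3 * y ^ 2)) := by
  obtain ⟨c1, c2⟩ := class_check
  have h3 := A.three_zero
  cases b
  · show xU hK 7 x * xU hK 6 y = _
    rw [hK.xU_swap (r := 6) (s := 7) (lt12 (by norm_num)) (lt12 (by norm_num)) (by norm_num)
      (by decide +kernel), c1]
    simp only [List.map_cons, List.map_nil, wordU, List.prod_cons, List.prod_nil, mul_one, tail, z,
      Bool.false_eq_true, if_false]
    push_cast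
    congr 3
    · congr 1; ring
    congr 1
    · congr 1; ring
    congr 1
    · congr 1; ring
    · congr 1; linear_combination (-(x ^ 3 * y ^ 2)) * h3
  · show xU hK 4 (-x) * xU hK 5 (-y) = _
    rw [hK.xU_swap (r := 5) (s := 4) (lt12 (by norm_num)) (lt12 (by norm_num)) (by norm_num)
      (by decide +kernel), c2]
    simp only [List.map_cons, List.map_nil, wordU, List.prod_cons, List.prod_nil, mul_one, tail, z, if_true]
    push_cast
    congr 3
    · congr 1; ring
    congr 1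
    · congr 1; ring
    congr 1
    · congr 1; ring
    · congr 1; linear_combination (x ^ 3 * y ^ 2) * h3

include A in
theorem tail_mul (b : Bool) (c d f g c' d' f' g' : F) :
    tail b c d f g * tail b c' d' f' g' = tail b (c + c') (d + d') (f + f') (g + g') := by
  have c89 := fun t u => A.z_comm b (r := 8) (s := 9) (by decide) t u
  have c810 := fun t u => A.z_comm b (r := 8) (s := 10) (by decide) t u
  have c811 := fun t u => A.z_comm b (r := 8) (s := 11) (by decide) t u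
  have c910 := fun t u => A.z_comm b (r := 9) (s := 10) (by decide) t u
  have c911 := fun t u => A.z_comm b (r := 9) (s := 11) (by decide) t u
  have c1011 := fun t u => A.z_comm b (r := 10) (s := 11) (by decide) t u
  have e1 : Commute (z b 9 d * (z b 10 f * z b 11 g)) (z b 8 c') :=
    (c89 _ _).symm.mul_left ((c810 _ _).symm.mul_left (c811 _ _).symm)
  have e2 : Commute (z b 10 f * z b 11 g) (z b 9 d') := (c910 _ _).symm.mul_left (c911 _ _).symm
  simp only [tail]
  rw [← z_mul b 8, ← z_mul b 9, ← z_mul b 10, ← z_mul b 11,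
    mul_assoc (z b 8 c), ← mul_assoc (z b 9 d * (z b 10 f * z b 11 g)), e1.eq,
    mul_assoc (z b 8 c'), mul_assoc (z b 9 d), ← mul_assoc (z b 10 f * z b 11 g), e2.eq,
    mul_assoc (z b 9 d'), mul_assoc (z b 10 f), ← mul_assoc (z b 11 g), (c1011 _ _).symm.eq]
  simp only [mul_assoc]

include A in
theorem tail_perm (b : Bool) (c d f g : F) : z b 10 f * (z b 11 g * (z b 8 c * z b 9 d)) = tail b c d f g := by
  have e : z b 10 f * z b 11 g = tail b 0 0 f g := by simp [tail, z_zero]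
  have e' : z b 8 c * z b 9 d = tail b c d 0 0 := by simp [tail, z_zero]
  rw [← mul_assoc, e, e', A.tail_mul]
  simp

theorem app_nf (b : Bool) (y x c d f g : F) :
    A.T.app (nf b y x c d f g) = nf b (A.ψ x ^ 3) (A.ψ y) (-(A.ψ y * A.ψ x ^ 3) + A.ψ f)
      (-(A.ψ y ^ 2 * A.ψ x ^ 3) + A.ψ g) (A.ψ y ^ 3 * A.ψ x ^ 3 + A.ψ c ^ 3)
      (A.ψ y ^ 3 * (A.ψ x ^ 3) ^ 2 + A.ψ d ^ 3) := by
  have hm : ∀ r (v : F), z b r v ∈ chevG2.group F := fun r v => z_mem b r v
  simp only [nf, tail]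
  rw [A.T.app_mul (hm _ _) (mul_mem (hm _ _) (mul_mem (hm _ _) (mul_mem (hm _ _) (mul_mem (hm _ _) (hm _ _))))),
    A.T.app_mul (hm _ _) (mul_mem (hm _ _) (mul_mem (hm _ _) (mul_mem (hm _ _) (hm _ _)))),
    A.T.app_mul (hm _ _) (mul_mem (hm _ _) (mul_mem (hm _ _) (hm _ _))),
    A.T.app_mul (hm _ _) (mul_mem (hm _ _) (hm _ _)), A.T.app_mul (hm _ _) (hm _ _),
    A.app_z b (r := 6) (r' := 7) (k := 1) (by decide), A.app_z b (r := 7) (r' := 6) (k := 3) (by decide),
    A.app_z b (r := 8) (r' := 10) (k := 3) (by decide), A.app_z b (r := 9) (r' := 11) (k := 3) (by decide),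
    A.app_z b (r := 10) (r' := 8) (k := 1) (by decide), A.app_z b (r := 11) (r' := 9) (k := 1) (by decide),
    A.tail_perm, ← mul_assoc, A.z_swap, mul_assoc, mul_assoc, A.tail_mul]
  simp only [pow_one, map_pow]
  rfl

/-- the fixed elements of the positive or negative unipotent group -/
noncomputable def ree (b : Bool) (t u v : F) : GL chevG2.Idx F :=
  nf b t (A.ψ t) (A.ψ u) (A.ψ v) (A.ψ t ^ 3 * t + u) (A.ψ t ^ 3 * t ^ 2 + v)

theorem ree_word_eq (b : Bool) (t u v : F) :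
    z b 7 (A.ψ t) * z b 6 t * tail b (A.ψ t * t + A.ψ u) (A.ψ t ^ 2 * t + A.ψ v) u v = A.ree b t u v := by
  rw [A.z_swap, mul_assoc, mul_assoc, A.tail_mul, ree, nf]
  congr 3 <;> ring

theorem ree_app (b : Bool) (t u v : F) : A.T.app (A.ree b t u v) = A.ree b t u v := by
  rw [ree, A.app_nf]
  simp only [map_add, map_mul, map_pow, A.theta]
  congr 1 <;> ring

theorem nf_mem (b : Bool) (y x c d f g : F) : nf b y x c d f g ∈ chevG2.group F :=
  mul_mem (z_mem _ _ _) (mul_mem (z_mem _ _ _) (mul_mem (z_mem _ _ _) (mul_mem (z_mem _ _ _)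
    (mul_mem (z_mem _ _ _) (z_mem _ _ _)))))

theorem ree_fix (b : Bool) (t u v : F) : A.ree b t u v ∈ A.T.fix :=
  (A.fix_iff (nf_mem b _ _ _ _ _ _)).2 (A.ree_app b t u v)

theorem ree_word (b : Bool) (t u v : F) :
    A.ree b t u v = wordU hK (if b then reeWordV (3 ^ m) t u v else reeWordU (3 ^ m) t u v) := by
  rw [← A.ree_word_eq]
  have hn := neg_idx
  simp only [List.mem_cons, List.not_mem_nil, or_false, forall_eq_or_imp, forall_eq] at hn
  obtain ⟨n6, n7, n8, n9, n10, n11⟩ := hn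
  cases b
  · simp only [Bool.false_eq_true, if_false, reeWordU, names, wordU, List.map_cons, List.map_nil, List.prod_cons,
      List.prod_nil, mul_one, tail, z, A.ψ_eq, mul_assoc]
    congr 3
    · congr 1; ring
    congr 1
    · congr 1; ring
  · simp only [if_true, reeWordV, ChevalleyDatum.negWord, reeWordU, names, wordU, List.map_cons, List.map_nil,
      List.prod_cons, List.prod_nil, mul_one, tail, z, A.ψ_eq, mul_assoc, n6, n7, n8, n9, n10, n11]
    congr 3
    · congr 1; ring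
    congr 1
    · congr 1; ring

theorem ree_mem (b : Bool) (t u v : F) : A.ree b t u v ∈ twistedG2 F (3 ^ m) := by
  rw [A.ree_word, twistedG2, genSubgroup_eq hK]
  refine Subgroup.subset_closure ⟨_, ⟨t, u, v, ?_⟩, rfl⟩
  cases b
  · exact Or.inl rfl
  · exact Or.inr rfl

theorem ree_genU (t u v : F) : A.ree false t u v ∈ genU hK F {r | r ∈ ([6, 7, 8, 9, 10, 11] : List ℕ)} ∧
    A.ree true t u v ∈ genU hK F {r | r ∈ ([0, 1, 2, 3, 4, 5] : List ℕ)} := by
  constructor <;>
  exact mul_mem (hK.mem_genU (T := {r | r ∈ _}) (by simp) _)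
    (mul_mem (hK.mem_genU (T := {r | r ∈ _}) (by simp) _)
      (mul_mem (hK.mem_genU (T := {r | r ∈ _}) (by simp) _)
        (mul_mem (hK.mem_genU (T := {r | r ∈ _}) (by simp) _)
          (mul_mem (hK.mem_genU (T := {r | r ∈ _}) (by simp) _)
            (hK.mem_genU (T := {r | r ∈ _}) (by simp) _)))))

theorem nf_inj {y x c d f g y' x' c' d' f' g' : F} (h : nf false y x c d f g = nf false y' x' c' d' f' g') :
    y = y' ∧ x = x' ∧ c = c' ∧ d = d' ∧ f = f' ∧ g = g' := by
  have e := wordU_sorted_inj hK (R := [6, 7, 8, 9, 10, 11]) (v := [y, x, c, d, f, g])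
    (v' := [y', x', c', d', f', g']) (by simp) (by intro r hr; rw [sizes.1, sizes.2.1]; simp at hr; omega) rfl rfl
    (by simpa [wordU, nf, tail, z] using h)
  simpa using e

theorem ree_inj {t u v t' u' v' : F} (h : A.ree false t u v = A.ree false t' u' v') :
    t = t' ∧ u = u' ∧ v = v' := by
  obtain ⟨h1, -, h3, h4, -, -⟩ := nf_inj h
  exact ⟨h1, A.ψ.injective h3, A.ψ.injective h4⟩

theorem X0 {g : GL chevG2.Idx F} (hg : g ∈ A.T.fix)
    (hu : g ∈ genU hK F {r | r ∈ ([6, 7, 8, 9, 10, 11] : List ℕ)}) : ∃ t u v, g = A.ree false t u v := by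
  obtain ⟨w, rfl⟩ := hK.genU_sorted (R := [6, 7, 8, 9, 10, 11]) (by simp)
    ⟨fun r hr => by rw [sizes.1, sizes.2.1]; simp at hr; omega, closed_check⟩ hu
  have en : wordU hK (([6, 7, 8, 9, 10, 11] : List ℕ).map fun r => (r, w r)) =
      nf false (w 6) (w 7) (w 8) (w 9) (w 10) (w 11) := by simp [wordU, nf, tail, z]
  rw [en] at hg ⊢
  generalize w 6 = y, w 7 = x, w 8 = c, w 9 = d, w 10 = f, w 11 = k at hg ⊢
  have e := hg.2
  rw [A.app_nf] at e
  obtain ⟨h1, h2, h3, h4, -, -⟩ := nf_inj e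
  subst h2
  refine ⟨y, f - A.ψ y ^ 3 * y, k - A.ψ y ^ 3 * y ^ 2, ?_⟩
  rw [ree]
  congr 1
  · rw [← h3]; simp only [map_sub, map_mul, map_pow, A.theta]; ring
  · rw [← h4]; simp only [map_sub, map_mul, map_pow, A.theta]; ring
  · ring
  · ring

end Setup

end TwG2

end CfsgLib.Chev
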