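import Cfsg.Agent.Chev.TwG2
import Cfsg.Agent.Chev.Presented
import Mathlib.NumberTheory.LegendreSymbol.QuadraticChar.Basic

/-!
Orders, (B,N)-pair, Weyl group and simplicity of ²G₂.
-/

set_option autoImplicit false
set_option maxRecDepth 100000
set_option linter.unusedSectionVars false
set_option linter.unusedSimpArgs false
set_option linter.style.haveILetI false

namespace CfsgLib.Chev.TwG2

open Cfsg.Lie CfsgLib.Chev Fine

theorem fin_cases2 : ∀ i : Fin chevG2.rank, i = i0 ∨ i = i1 := by decide +kernel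

theorem ne2 : i0 ≠ i1 := by decide +kernel

theorem univ2 : (Finset.univ : Finset (Fin chevG2.rank)) = {i0, i1} := by decide +kernel

theorem prod2 {G : Type*} [CommMonoid G] (f : Fin chevG2.rank → G) : ∏ k, f k = f i0 * f i1 := by
  rw [univ2, Finset.prod_insert (by simp [ne2]), Finset.prod_singleton]

theorem chi_vals : ([6, 7, 8, 9].map fun r => [G2.data.tab.A i0.val r, G2.data.tab.A i1.val r]) =
    [[-3, 2], [2, -1], [-1, 1], [1, 0]] := by
  decide +kernel

theorem coroot_vals : G2.data.tab.C 8 i0.val = 1 ∧ G2.data.tab.C 8 i1.val = 3 ∧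
    G2.data.tab.C 10 i0.val = 1 ∧ G2.data.tab.C 10 i1.val = 1 := by decide +kernel

theorem neg_8 : G2.data.neg 8 = 3 ∧ G2.data.neg 10 = 1 := by decide +kernel

theorem nWord_root : ∀ r ∈ ([6, 7, 8, 10] : List ℕ), chevG2.neg r = G2.data.neg r := by decide +kernel

variable {F : Type*} [Field F]

theorem nU_root {r : ℕ} (hr : r ∈ ([6, 7, 8, 10] : List ℕ)) (a : F) :
    nU hK r a = xU hK r a * (xU hK (G2.data.neg r) (-a⁻¹) * xU hK r a) := by
  simp [nU, wordU, ChevalleyDatum.nWord, nWord_root r hr]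

/-- parameters from one unit -/
noncomputable def par (m : ℕ) (a : Fˣ) : Fin chevG2.rank → Fˣ :=
  fun i => if i = i0 then a else a ^ (3 * 3 ^ m)

theorem par_vals (m : ℕ) (a : Fˣ) : par m a i0 = a ∧ par m a i1 = a ^ (3 * 3 ^ m) := by
  simp [par, ne2.symm]

namespace Setup

variable [Fintype F] {m : ℕ} (A : Setup F m)

theorem subPos_orb : subPos G2.data chevG2 {i | i ∈ ([0, 1] : List ℕ)} = {r | r ∈ ([6, 7, 8, 9, 10, 11] : List ℕ)} ∧
    negSub G2.data chevG2 {i | i ∈ ([0, 1] : List ℕ)} = {r | r ∈ ([0, 1, 2, 3, 4, 5] : List ℕ)} := by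
  obtain ⟨l1, l2⟩ := lists
  refine ⟨?_, ?_⟩
  · rw [← l1]; exact subPos_eq graphG2_data.lift.comb [0, 1]
  · rw [← l2]; exact negSub_eq graphG2_data.lift.comb [0, 1]

/-- the group with its orbit -/
noncomputable def grp : TwistGrp A.T 1 where
  G1 := twistedG2 F (3 ^ m)
  orb := fun j => {i | i ∈ twG2Os.getD j.val []}
  orb_lt := by
    intro j i hi
    rw [sizes.2.2]
    fin_cases j
    simp [twG2Os] at hi
    omega
  orb_cover := by
    have h : ∀ i : Fin chevG2.rank, ∃ j : Fin 1, i.val ∈ twG2Os.getD j.val [] := by decide +kernel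
    exact h
  orb_inj := fun j j' i _ _ => Subsingleton.elim j j'
  orb_π := by
    have h : ∀ j : Fin 1, ∀ i : Fin chevG2.rank, i.val ∈ twG2Os.getD j.val [] →
        (pi i).val ∈ twG2Os.getD j.val [] := by decide +kernel
    exact h
  orb_trans := by
    have h : ∀ i i' : Fin chevG2.rank, ∃ k : Fin 2, (pi ^ k.val) i = i' := by decide +kernel
    intro j i i' _ _
    obtain ⟨k, hk⟩ := h i i'
    exact ⟨k.val, hk⟩
  orb_ne := by
    have h : ∀ j : Fin 1, ∃ i : Fin chevG2.rank, i.val ∈ twG2Os.getD j.val [] := by decide +kernel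
    exact h
  gen := by
    obtain ⟨s0, n0⟩ := subPos_orb
    rw [twistedG2, genSubgroup_eq hK]
    refine Subgroup.closure_mono ?_
    rintro _ ⟨w, hw, rfl⟩
    rcases hw with ⟨t, u, v, rfl | rfl⟩
    · rw [← show A.ree false t u v = wordU hK (reeWordU (3 ^ m) t u v) from A.ree_word false t u v]
      refine ⟨A.ree_fix _ t u v, 0, Or.inl ?_⟩
      erw [s0]
      exact (A.ree_genU t u v).1
    · rw [← show A.ree true t u v = wordU hK (reeWordV (3 ^ m) t u v) from A.ree_word true t u v]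
      refine ⟨A.ree_fix _ t u v, 0, Or.inr ?_⟩
      erw [n0]
      exact (A.ree_genU t u v).2
  posX := by
    intro j g hg
    obtain rfl : j = 0 := Subsingleton.elim _ _
    obtain ⟨hf, hu⟩ := hg
    obtain ⟨s0, -⟩ := subPos_orb
    erw [s0] at hu
    obtain ⟨t, u, v, rfl⟩ := A.X0 hf hu
    exact A.ree_mem _ t u v
  negX := by
    intro j
    obtain rfl : j = 0 := Subsingleton.elim _ _
    obtain ⟨-, n0⟩ := subPos_orb
    refine ⟨_, A.ree_mem true 0 1 0, fun h => ?_, by erw [n0]; exact (A.ree_genU 0 1 0).2⟩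
    have h' : xU hK 3 (-1 : F) * xU hK 1 (-1) = xU hK 3 (0 : F) * xU hK 1 0 := by
      rw [xU_zero, xU_zero, one_mul, ← h]
      simp [ree, nf, tail, z, xU_zero]
    exact one_ne_zero (neg_eq_zero.1
      (hK.xU_pair_inj (lt12 (by norm_num)) (lt12 (by norm_num)) (by norm_num) h').1)

/-! ### The torus -/

include A in
theorem units_theta (a : Fˣ) : (a ^ (3 * 3 ^ m)) ^ 3 ^ m = a := by
  refine Units.ext ?_
  rw [Units.val_pow_eq_pow_val, Units.val_pow_eq_pow_val, mul_comm 3, pow_mul, ← A.ψ_eq, ← A.ψ_eq, A.theta']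

theorem torFix_iff (c : Fin chevG2.rank → Fˣ) : c ∈ A.T.torFix ↔ c i1 = c i0 ^ (3 * 3 ^ m) := by
  rw [Twist.mem_torFix]
  have h : graphG2.ex (G2.data.p i0.val) = 3 ∧ graphG2.ex (G2.data.p i1.val) = 1 := by decide +kernel
  have f0 : ∀ t, A.T.φ i0 t = t ^ (3 * 3 ^ m) := fun t => by
    show A.ψ (t ^ graphG2.ex (G2.data.p i0.val)) = _
    rw [h.1, A.ψ_eq, ← pow_mul]
  have f1 : ∀ t, A.T.φ i1 t = t ^ 3 ^ m := fun t => by
    show A.ψ (t ^ graphG2.ex (G2.data.p i1.val)) = _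
    rw [h.2, pow_one, A.ψ_eq]
  obtain ⟨p0, p1⟩ := pi_vals
  constructor
  · intro h
    have := h i0
    rw [show A.T.π i0 = i1 from p0, f0, ← Units.val_pow_eq_pow_val, Units.val_inj] at this
    exact this
  · intro h i
    show (c (pi i) : F) = _
    rcases fin_cases2 i with rfl | rfl
    · rw [p0, f0, h, Units.val_pow_eq_pow_val]
    · rw [p1, f1, ← Units.val_pow_eq_pow_val, h, A.units_theta]

theorem par_mem (a : Fˣ) : par m a ∈ A.T.torFix := by
  obtain ⟨v0, v1⟩ := par_vals m a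
  rw [A.torFix_iff, v0, v1]

theorem par_of_mem {c : Fin chevG2.rank → Fˣ} (hc : c ∈ A.T.torFix) : c = par m (c i0) := by
  have h := (A.torFix_iff c).1 hc
  obtain ⟨v0, v1⟩ := par_vals m (c i0)
  funext i
  rcases fin_cases2 i with rfl | rfl
  · exact v0.symm
  · rw [v1, h]

theorem card_torFix : Nat.card A.T.torFix = 3 ^ (2 * m + 1) - 1 := by
  classical
  let f : Fˣ → A.T.torFix := fun a => ⟨par m a, A.par_mem a⟩
  have hf : Function.Bijective f := by
    refine ⟨fun a b h => ?_, fun ⟨c, hc⟩ => ⟨c i0, Subtype.ext (A.par_of_mem hc).symm⟩⟩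
    have h' : par m a = par m b := congrArg Subtype.val h
    have := congrFun h' i0
    rwa [(par_vals m a).1, (par_vals m b).1] at this
  rw [← Nat.card_eq_of_bijective f hf, Nat.card_eq_fintype_card, Fintype.card_units, A.card]

theorem nPair_mem (u : F) : nU hK 8 (A.ψ u) * nU hK 10 u ∈ A.grp.G1 := by
  rw [nU_root (by simp), nU_root (by simp), neg_8.1, neg_8.2,
    show ∀ P N Q M : GL chevG2.Idx F, P * (N * P) * (Q * (M * Q)) = P * N * P * (Q * M * Q) from
      fun P N Q M => by group,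
    merge_pnp (A.xU_comm3 (r := 8) (s := 10) (by decide) _ _) (A.xU_comm3 (r := 3) (s := 10) (by decide) _ _)
      (A.xU_comm3 (r := 8) (s := 1) (by decide) _ _)]
  have h1 : xU hK 8 (A.ψ u) * xU hK 10 u ∈ A.grp.G1 := by
    have h := A.ree_mem false 0 u 0
    show _ ∈ twistedG2 F (3 ^ m)
    simpa [ree, nf, tail, z, xU_zero] using h
  have h2 : xU hK 3 (-(A.ψ u)⁻¹) * xU hK 1 (-u⁻¹) ∈ A.grp.G1 := by
    have h := A.ree_mem true 0 u⁻¹ 0
    show _ ∈ twistedG2 F (3 ^ m)
    simpa [ree, nf, tail, z, xU_zero] using h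
  exact mul_mem (mul_mem h1 h2) h1

theorem nU_810_commute (a b : F) (hA : Setup F m) : Commute (nU hK 8 a) (nU hK 10 b) := by
  rw [nU_root (by simp), nU_root (by simp), neg_8.1, neg_8.2]
  have r1 : ∀ x : F, Commute (xU hK 8 x) (xU hK 10 b * (xU hK 1 (-b⁻¹) * xU hK 10 b)) := fun x =>
    (hA.xU_comm3 (r := 8) (s := 10) (by decide) x b).mul_right
      ((hA.xU_comm3 (r := 8) (s := 1) (by decide) x _).mul_right (hA.xU_comm3 (r := 8) (s := 10) (by decide) x b))
  have r2 : ∀ x : F, Commute (xU hK 3 x) (xU hK 10 b * (xU hK 1 (-b⁻¹) * xU hK 10 b)) := fun x =>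
    (hA.xU_comm3 (r := 3) (s := 10) (by decide) x b).mul_right
      ((hA.xU_comm3 (r := 3) (s := 1) (by decide) x _).mul_right (hA.xU_comm3 (r := 3) (s := 10) (by decide) x b))
  exact (r1 a).mul_left ((r2 _).mul_left (r1 a))

/-- the torus parameters reached from the orthogonal pair -/
noncomputable def sqHom (m : ℕ) : Fˣ →* Fˣ := powMonoidHom (3 ^ m + 1)

theorem sq_mem (u : Fˣ) : tFin G2.data chevG2 F (par m (sqHom m u)) ∈ A.grp.G1 := by
  obtain ⟨c0, c1, d0, d1⟩ := coroot_vals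
  have e : par m (sqHom m u) = (fun i : Fin chevG2.rank => hParam G2.data 8 (u ^ 3 ^ m) i.val) *
      fun i : Fin chevG2.rank => hParam G2.data 10 u i.val := by
    obtain ⟨v0, v1⟩ := par_vals m (sqHom m u)
    funext i
    rw [Pi.mul_apply]
    show par m (sqHom m u) i = (u ^ 3 ^ m) ^ G2.data.tab.C 8 i.val * u ^ G2.data.tab.C 10 i.val
    rcases fin_cases2 i with rfl | rfl
    · rw [v0, c0, d0, zpow_one, zpow_one]
      exact pow_succ u _
    · rw [v1, c1, d1, zpow_one]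
      show (u ^ (3 ^ m + 1)) ^ (3 * 3 ^ m) = _
      rw [← pow_mul, add_mul, one_mul, pow_add, mul_comm (3 ^ m) (3 * 3 ^ m), pow_mul u (3 * 3 ^ m), A.units_theta,
        mul_comm]
      congr 1
      rw [mul_comm 3, pow_mul]
      rfl
  rw [e, map_mul, ← tU_eq_tFin hK, ← tU_eq_tFin hK, ← nU_mul_neg_eq_tU hK (lt12 (by norm_num)),
    ← nU_mul_neg_eq_tU hK (lt12 (by norm_num))]
  have sw : ∀ P P' Q Q' : GL chevG2.Idx F, Commute P' Q → P * P' * (Q * Q') = P * Q * (P' * Q') :=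
    fun P P' Q Q' h => by
      calc P * P' * (Q * Q') = P * (P' * Q) * Q' := by group
        _ = _ := by rw [h.eq]; group
  rw [sw _ _ _ _ (nU_810_commute _ _ A), Units.val_pow_eq_pow_val, ← A.ψ_eq]
  refine mul_mem (A.nPair_mem _) ?_
  have h := A.nPair_mem (-1)
  rwa [map_neg, map_one] at h

theorem neg_one_mem : tFin G2.data chevG2 F (par m (-1)) ∈ A.grp.G1 := by
  haveI := A.char3
  have hodd : Odd (3 * 3 ^ m) := by
    have : Odd (3 : ℕ) := by decide
    exact this.mul this.pow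
  have e : par m (-1 : Fˣ) = Pi.mulSingle i0 (-1) * Pi.mulSingle i1 (-1) := by
    obtain ⟨v0, v1⟩ := par_vals m (-1 : Fˣ)
    funext i
    rcases fin_cases2 i with rfl | rfl
    · simp [v0, ne2]
    · rw [v1, hodd.neg_one_pow]; simp [ne2.symm]
  obtain ⟨p0, p1, n0, n1⟩ := p_vals
  rw [e, map_mul, tFin_single_eq hK, tFin_single_eq hK, p0, p1, Units.val_neg, Units.val_one]
  have key : chevG2.wordMat F (([(4, -1), (5, -1), (3, -1), (2, -1)] : List (ℕ × ℤ)).map fun x => (x.1, (x.2 : F))) =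
      chevG2.wordMat F (([(7, 1), (6, 1), (8, 1), (9, 1),
      (8, 1), (3, -1), (8, 1), (10, 1), (1, -1), (10, 1),
      (7, -1), (4, 1), (7, -1), (7, -1), (4, 1), (7, -1), (6, -1), (5, 1), (6, -1), (6, -1), (5, 1), (6, -1),
      (7, -1), (6, -1), (8, -1), (9, 1), (10, 1), (11, -1)] : List (ℕ × ℤ)).map fun x => (x.1, (x.2 : F))) :=
    wordMat_eq_mod chevG2 3 G2.tab_fits (by rw [sizes.2.1]; decide) (by rw [sizes.2.1]; decide) torus_word
  have keyU := Units.ext (((coe_wordU hK _).trans key).trans (coe_wordU hK _).symm)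
  have hV : A.ree true 1 0 0 ∈ A.grp.G1 := A.ree_mem _ _ _ _
  have hW : A.ree false 1 0 0 ∈ A.grp.G1 := A.ree_mem _ _ _ _
  have hW' : A.ree false (-1) 1 (-1) ∈ A.grp.G1 := A.ree_mem _ _ _ _
  have hN : nU hK 8 (1 : F) * nU hK 10 1 ∈ A.grp.G1 := by
    have h := A.nPair_mem 1
    rwa [map_one] at h
  have eV : A.ree true 1 0 0 = wordU hK (([(4, -1), (5, -1), (3, -1), (2, -1)] : List (ℕ × ℤ)).map
      fun x => (x.1, (x.2 : F))) := by
    rw [← A.ree_word_eq]
    simp [tail, z, wordU, xU_zero, mul_assoc]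
  have eW : A.ree false 1 0 0 = wordU hK (([(7, 1), (6, 1), (8, 1), (9, 1)] : List (ℕ × ℤ)).map
      fun x => (x.1, (x.2 : F))) := by
    rw [← A.ree_word_eq]
    simp [tail, z, wordU, xU_zero, mul_assoc]
  have eW' : A.ree false (-1) 1 (-1) = wordU hK (([(7, -1), (6, -1), (8, -1), (9, 1), (10, 1), (11, -1)] :
      List (ℕ × ℤ)).map fun x => (x.1, (x.2 : F))) := by
    have h3 := A.three_zero
    rw [← A.ree_word_eq]
    simp only [map_neg, map_one]
    rw [show -(1 : F) * -1 + 1 = -1 by linear_combination h3,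
      show (-1 : F) ^ 2 * -1 + -1 = 1 by linear_combination -h3]
    simp [tail, z, wordU, mul_assoc]
  have eq : A.ree true 1 0 0 = A.ree false 1 0 0 * (nU hK 8 (1 : F) * nU hK 10 1) *
      (nU hK 7 (-1) * nU hK 7 (-1) * (nU hK 6 (-1) * nU hK 6 (-1))) * A.ree false (-1) 1 (-1) := by
    rw [eV, eW, eW', keyU, nU_root (r := 8) (by simp), nU_root (r := 10) (by simp), nU_root (r := 7) (by simp),
      nU_root (r := 6) (by simp), neg_8.1, neg_8.2, n0, n1]
    simp [wordU, mul_assoc, inv_neg]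
  set h0 := nU hK 7 (-1 : F) * nU hK 7 (-1) * (nU hK 6 (-1) * nU hK 6 (-1))
  have : h0 = (A.ree false 1 0 0 * (nU hK 8 (1 : F) * nU hK 10 1))⁻¹ * A.ree true 1 0 0 *
      (A.ree false (-1) 1 (-1))⁻¹ := by
    rw [eq]; group
  rw [this]
  exact mul_mem (mul_mem (inv_mem (mul_mem hW hN)) hV) (inv_mem hW')

include A in
theorem sq_cover : (sqHom (F := F) m).range ⊔ Subgroup.zpowers (-1 : Fˣ) = ⊤ := by
  classical
  haveI := A.char3
  have hker : ∀ u ∈ (sqHom (F := F) m).ker, u = 1 ∨ u = -1 := by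
    intro u hu
    have h1 : u ^ 3 ^ m = u⁻¹ := by
      rw [eq_inv_iff_mul_eq_one, ← pow_succ]; exact hu
    have h2 : u = u ^ 3 := by
      have h := A.units_theta u
      rw [mul_comm 3, pow_mul, h1, inv_pow, inv_pow, ← pow_mul, mul_comm, pow_mul, h1, inv_pow, inv_inv] at h
      exact h.symm
    have h3 : (u : F) * u = 1 := by
      rw [← Units.val_mul, Units.val_eq_one]
      refine mul_left_cancel (a := u) ?_
      rw [mul_one, ← sq, ← pow_succ', ← h2]
    rcases mul_self_eq_one_iff.1 h3 with h | h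
    · exact Or.inl (Units.ext (by rw [h, Units.val_one]))
    · exact Or.inr (Units.ext (by rw [h, Units.val_neg, Units.val_one]))
  have hidx : (sqHom (F := F) m).range.index ≤ 2 := by
    rw [Subgroup.index_range, Nat.card_eq_fintype_card]
    refine le_trans (Fintype.card_le_of_injective (fun u => decide ((u : Fˣ) = 1)) ?_) (le_of_eq Fintype.card_bool)
    intro u v h
    have h' : ((u : Fˣ) = 1) ↔ ((v : Fˣ) = 1) := decide_eq_decide.1 h
    refine Subtype.ext ?_
    rcases hker _ u.2 with hu | hu <;> rcases hker _ v.2 with hv | hv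
    · rw [hu, hv]
    · rw [hu, h'.1 hu]
    · rw [h'.2 hv, hv]
    · rw [hu, hv]
  set P := (sqHom (F := F) m).range ⊔ Subgroup.zpowers (-1 : Fˣ)
  have hle : (sqHom (F := F) m).range ≤ P := le_sup_left
  have hnot : (-1 : Fˣ) ∉ (sqHom (F := F) m).range := by
    rintro ⟨u, hu⟩
    have h4 : Fintype.card F % 4 = 3 := by
      rw [A.card, pow_succ, pow_mul, Nat.mul_mod, Nat.pow_mod]
      norm_num
    refine FiniteField.isSquare_neg_one_iff.1 ?_ h4
    obtain ⟨k, hk⟩ : Even (3 ^ m + 1) := (Odd.pow (by decide)).add_one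
    refine ⟨((u ^ k : Fˣ) : F), ?_⟩
    rw [← Units.val_mul, ← pow_add, ← hk, show u ^ (3 ^ m + 1) = -1 from hu, Units.val_neg, Units.val_one]
  have h1 := Subgroup.relIndex_mul_index hle
  have hr : (sqHom (F := F) m).range.relIndex P ≠ 1 := fun h =>
    hnot (Subgroup.relIndex_eq_one.1 h (Subgroup.mem_sup_right (Subgroup.mem_zpowers _)))
  have hpos : (sqHom (F := F) m).range.index ≠ 0 := Subgroup.FiniteIndex.index_ne_zero
  rw [← Subgroup.index_eq_one]
  rcases Nat.lt_or_ge P.index 2 with h | h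
  · have : P.index ≠ 0 := fun h0 => hpos (by rw [← h1, h0, mul_zero])
    omega
  · exfalso
    have : 2 ≤ (sqHom (F := F) m).range.relIndex P := by
      have : (sqHom (F := F) m).range.relIndex P ≠ 0 := fun h0 => hpos (by rw [← h1, h0, zero_mul])
      omega
    have := Nat.mul_le_mul this h
    omega

theorem tFin_mem : ∀ c ∈ A.T.torFix, tFin G2.data chevG2 F c ∈ A.grp.G1 := by
  intro c hc
  rw [A.par_of_mem hc]
  let f : Fˣ →* GL chevG2.Idx F :=
    (tFin G2.data chevG2 F).comp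
      { toFun := par m
        map_one' := by funext i; simp [par]
        map_mul' := fun a b => by funext i; by_cases h : i = i0 <;> simp [par, h, mul_pow] }
  have hle : (sqHom (F := F) m).range ⊔ Subgroup.zpowers (-1 : Fˣ) ≤ A.grp.G1.comap f := by
    refine sup_le ?_ (Subgroup.zpowers_le.2 A.neg_one_mem)
    rintro _ ⟨u, rfl⟩
    exact A.sq_mem u
  rw [A.sq_cover] at hle
  exact hle (Subgroup.mem_top (c i0))

theorem ker_trivial : ∀ c ∈ A.T.torFix, tFin G2.data chevG2 F c = 1 → c = 1 :=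
  fun c _ h => tFin_inj (h.trans (map_one _).symm)

theorem card_diagonal :
    Nat.card ↥(chevG2.diagonalSubgroup F ⊓ A.grp.G1) = 3 ^ (2 * m + 1) - 1 := by
  rw [A.grp.card_diagonal_of A.ker_trivial A.tFin_mem, A.card_torFix]

theorem card_XJ (j : Fin 1) :
    Nat.card (A.T.X (A.grp.wJ j)) ^ 2 = (3 ^ (2 * m + 1)) ^ (invSet G2.data chevG2 (A.grp.wJ j)).ncard := by
  classical
  obtain rfl : j = 0 := Subsingleton.elim _ _
  rw [A.grp.X_wJ, A.grp.invSet_wJ]
  obtain ⟨s0, -⟩ := subPos_orb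
  erw [s0]
  let f : F × F × F → ↥(A.T.fix ⊓ genU hK F {r | r ∈ ([6, 7, 8, 9, 10, 11] : List ℕ)}) := fun p =>
    ⟨_, A.ree_fix false p.1 p.2.1 p.2.2, (A.ree_genU p.1 p.2.1 p.2.2).1⟩
  have hf : Function.Bijective f := by
    refine ⟨fun a b h => ?_, ?_⟩
    · obtain ⟨h1, h2, h3⟩ := A.ree_inj (congrArg Subtype.val h)
      exact Prod.ext h1 (Prod.ext h2 h3)
    rintro ⟨g, hg, hu⟩
    obtain ⟨t, u, v, rfl⟩ := A.X0 hg hu
    exact ⟨(t, u, v), rfl⟩
  have hn : ({r | r ∈ ([6, 7, 8, 9, 10, 11] : List ℕ)} : Set ℕ).ncard = 6 := by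
    rw [show ({r | r ∈ ([6, 7, 8, 9, 10, 11] : List ℕ)} : Set ℕ) = ↑([6, 7, 8, 9, 10, 11] : List ℕ).toFinset by
      ext; simp, Set.ncard_coe_finset]
    rfl
  erw [← Nat.card_eq_of_bijective f hf, Nat.card_prod, Nat.card_prod, Nat.card_eq_fintype_card, A.card]
  rw [hn]
  ring

theorem card_pos : Nat.card ↥(chevG2.posUnipotent F ⊓ A.grp.G1) = (3 ^ (2 * m + 1)) ^ 3 := by
  have h := A.grp.card_pos (Q := 3 ^ (2 * m + 1)) (k := 2) A.card_XJ
  have e : chevG2.nroots - G2.data.npos = 6 := by decide +kernel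
  rw [e] at h
  exact (eq_pow_half Nat.prime_three h).2

theorem pos_elems (g : GL chevG2.Idx F) : g ∈ chevG2.posUnipotent F ⊓ A.grp.G1 ↔
    ∃ t u v : F, (g : Matrix chevG2.Idx chevG2.Idx F) = chevG2.wordMat F (reeWordU (3 ^ m) t u v) := by
  constructor
  · intro h
    rw [A.grp.pos_inf_eq] at h
    obtain ⟨hf, hp⟩ := h
    rw [SetLike.mem_coe, hK.posUnipotent_eq] at hp
    obtain ⟨t, u, v, rfl⟩ := A.X0 hf (hK.genU_mono (fun r hr => by
      have := hr.1; have := hr.2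
      rw [sizes.1] at *; rw [sizes.2.1] at *
      simp; omega) hp)
    exact ⟨t, u, v, by rw [A.ree_word, coe_wordU]; rfl⟩
  · rintro ⟨t, u, v, h⟩
    have e : g = A.ree false t u v := Units.ext (by rw [h, A.ree_word, coe_wordU]; rfl)
    rw [e, A.grp.pos_inf_eq]
    refine ⟨A.ree_fix _ _ _ _, ?_⟩
    rw [SetLike.mem_coe, hK.posUnipotent_eq]
    exact hK.genU_mono (fun r hr => by
      show G2.data.npos ≤ r ∧ r < chevG2.nroots
      rw [sizes.1, sizes.2.1]
      simp at hr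
      omega) (A.ree_genU t u v).1

theorem lists' : A.grp.Lists twG2Os twG2Ws := ⟨rfl, fun _ => rfl, twG2_max⟩

theorem card_group :
    Nat.card ↥A.grp.G1 = (3 ^ (2 * m + 1)) ^ 3 * (3 ^ (2 * m + 1) - 1) * ((3 ^ (2 * m + 1)) ^ 3 + 1) := by
  classical
  have hX : ∀ w ∈ A.T.weylFix, 2 ∣ (invSet G2.data chevG2 w).ncard ∧
      Nat.card (A.T.X w) = (3 ^ (2 * m + 1)) ^ ((invSet G2.data chevG2 w).ncard / 2) := fun w hw =>
    eq_pow_half Nat.prime_three (A.grp.card_X (Q := 3 ^ (2 * m + 1)) (k := 2) A.card_XJ hw)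
  set q : ℕ := 3 ^ (2 * m + 1) with hq
  set x : ℝ := Real.sqrt q with hx
  have hx2 : x ^ 2 = (q : ℝ) := Real.sq_sqrt (Nat.cast_nonneg q)
  have hsum : ((∑ᶠ w : A.T.weylFix, Nat.card (A.T.X w.val) : ℕ) : ℝ) =
      lenSum G2.data chevG2 A.T.weylFix x := by
    rw [TwistGrp.sum_X (T := A.T) fun w hw => (hX w hw).2, lenSum, finsum_eq_sum_of_fintype,
      finsum_eq_sum_of_fintype, Nat.cast_sum]
    refine Finset.sum_congr rfl fun w _ => ?_
    rw [Nat.cast_pow, ← hx2, ← pow_mul, Nat.mul_div_cancel' (hX w.1 w.2).1, Nat.card_coe_set_eq]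
  rw [A.grp.card_G1_sum, A.card_pos, A.card_diagonal]
  have h1 : 1 ≤ q := Nat.one_le_pow _ _ (by norm_num)
  have key : ((q ^ 3 * (q - 1) * ∑ᶠ w : A.T.weylFix, Nat.card (A.T.X w.val) : ℕ) : ℝ) =
      ((q ^ 3 * (q - 1) * (q ^ 3 + 1) : ℕ) : ℝ) := by
    rw [Nat.cast_mul, hsum, ← A.grp.fixFirst_all,
      A.lists'.lenSum_level (k := 0) (by norm_num) twG2_level0 twG2_keys0 twG2_lens0, TwistGrp.lenSum_bot]
    simp only [List.map_cons, List.map_nil, List.sum_cons, List.sum_nil]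
    push_cast [Nat.cast_sub h1]
    rw [show x ^ 6 = (x ^ 2) ^ 3 by ring, hx2]
    ring
  exact_mod_cast key

theorem wJ_ne_one : A.grp.wJ 0 ≠ 1 := by
  intro h
  have h2 := A.grp.subPos_ne 0
  rw [h, (hK.invSet_eq_empty_iff (one_mem _)).2 rfl, Set.ncard_empty] at h2
  exact lt_irrefl 0 h2

theorem exists_weylQuot :
    ∃ φ : ↥(chevG2.monomialSubgroup F ⊓ A.grp.G1) →* Multiplicative (ZMod 2), Function.Surjective φ ∧
      φ.ker = (chevG2.diagonalSubgroup F ⊓ A.grp.G1).subgroupOf (chevG2.monomialSubgroup F ⊓ A.grp.G1) := by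
  set w := A.grp.wJ 0 with hw
  have hsq : w * w = 1 := A.grp.wJ_sq 0
  let f : Multiplicative (ZMod 2) →* Equiv.Perm (Fin chevG2.nroots) :=
    MonoidHom.mk' (fun a => if Multiplicative.toAdd a = 0 then 1 else w) (by
      intro a b
      have key : ∀ a b : ZMod 2, (a = 0 ∨ a = 1) ∧ (b = 0 ∨ b = 1) := by decide
      obtain ⟨ha, hb⟩ := key (Multiplicative.toAdd a) (Multiplicative.toAdd b)
      rcases ha with ha | ha <;> rcases hb with hb | hb <;>
        simp [toAdd_mul, ha, hb, hsq, show ((1 : ZMod 2) + 1 = 0) from rfl])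
  refine A.grp.exists_weylQuot f ((injective_iff_map_eq_one f).2 fun a ha => ?_) ?_
  · by_contra hne
    have h0 : Multiplicative.toAdd a ≠ 0 := fun h => hne (Multiplicative.toAdd.injective (by simpa using h))
    have : (if Multiplicative.toAdd a = 0 then (1 : Equiv.Perm (Fin chevG2.nroots)) else w) = 1 := ha
    rw [if_neg h0] at this
    exact A.wJ_ne_one this
  · rw [A.grp.weylFix_eq]
    refine le_antisymm ?_ ((Subgroup.closure_le _).2 ?_)
    · rintro _ ⟨a, rfl⟩
      show (if Multiplicative.toAdd a = 0 then 1 else w) ∈ _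
      split_ifs
      · exact one_mem _
      · exact Subgroup.subset_closure ⟨0, rfl⟩
    · rintro _ ⟨j, rfl⟩
      obtain rfl : j = 0 := Subsingleton.elim _ _
      refine ⟨Multiplicative.ofAdd 1, ?_⟩
      show (if Multiplicative.toAdd (Multiplicative.ofAdd (1 : ZMod 2)) = 0 then 1 else w) = w
      rw [if_neg]
      decide

theorem normalCore :
    ((chevG2.borelSubgroup F ⊓ A.grp.G1).subgroupOf A.grp.G1).normalCore = ⊥ := by
  refine A.grp.normalCore_eq_bot fun j i _ => ?_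
  obtain ⟨p0, p1, -, -⟩ := p_vals
  obtain ⟨t, -, ht, e⟩ := exists_ordProd_sorted hK
    [(6, (1 : F)), (7, 1), (8, 0), (9, 0), (10, 1), (11, 1)] G2.data.npos
    (by rw [sizes.1, sizes.2.1]; simp) (by simp)
  refine ⟨t, ?_, ?_⟩
  · rcases fin_cases2 i with rfl | rfl
    · rw [p0, ht (7, 1) (by simp)]; exact one_ne_zero
    · rw [p1, ht (6, 1) (by simp)]; exact one_ne_zero
  · have h0 := A.ree_fix false 1 0 0
    erw [e]
    simpa [ree, nf, tail, z, wordU, mul_assoc] using h0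

theorem perfect (hm : 1 ≤ m) : commutator ↥A.grp.G1 = ⊤ := by
  refine A.grp.perfect_of fun j => ?_
  obtain rfl : j = 0 := Subsingleton.elim _ _
  obtain ⟨a, ha⟩ : ∃ a : Fˣ, a ^ 2 ≠ 1 := by
    classical
    obtain ⟨g, hg⟩ := IsCyclic.exists_generator (α := Fˣ)
    refine ⟨g, fun h => ?_⟩
    have h3 := orderOf_eq_card_of_forall_mem_zpowers hg
    have h4 := Nat.le_of_dvd (by norm_num) (orderOf_dvd_of_pow_eq_one h)
    rw [h3, Nat.card_eq_fintype_card, Fintype.card_units, A.card] at h4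
    have : 3 ^ 3 ≤ 3 ^ (2 * m + 1) := Nat.pow_le_pow_right (by norm_num) (by omega)
    omega
  have cancel : ∀ {u : Fˣ} {t : F}, (u : F) * t = t → u ≠ 1 → t = 0 := fun {u t} h hu => by
    by_contra hne
    exact hu (Units.ext (mul_right_cancel₀ hne (h.trans (one_mul t).symm)))
  refine A.grp.derived_of_fpf (A.tFin_mem _ (A.par_mem a)) (Twist.tFin_mem hK _) 0 fun g hg hfix => ?_
  rw [A.grp.X_wJ] at hg
  obtain ⟨s0, -⟩ := subPos_orb
  erw [s0] at hg
  obtain ⟨t, u, v, rfl⟩ := A.X0 hg.1 hg.2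
  set h := tFin G2.data chevG2 F (par m a) with hh
  have e : ∀ B C P Q R S : GL chevG2.Idx F, h * (B * (C * (P * (Q * (R * S))))) * h⁻¹ =
      (h * B * h⁻¹) * ((h * C * h⁻¹) * ((h * P * h⁻¹) * ((h * Q * h⁻¹) * ((h * R * h⁻¹) * (h * S * h⁻¹))))) :=
    fun B C P Q R S => by group
  simp only [ree, nf, tail, z, Bool.false_eq_true, if_false] at hfix
  rw [e, hh, tFin_conj_xU hK _ (lt12 (by norm_num)), tFin_conj_xU hK _ (lt12 (by norm_num)),
    tFin_conj_xU hK _ (lt12 (by norm_num)), tFin_conj_xU hK _ (lt12 (by norm_num)),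
    tFin_conj_xU hK _ (lt12 (by norm_num)), tFin_conj_xU hK _ (lt12 (by norm_num))] at hfix
  obtain ⟨h6, -, h8, h9, -, -⟩ := nf_inj (hfix : _ = nf false t (A.ψ t) (A.ψ u) (A.ψ v) _ _)
  have hchi := chi_vals
  simp only [List.map_cons, List.map_nil, List.cons.injEq, and_true] at hchi
  obtain ⟨⟨a6, b6⟩, -, ⟨a8, b8⟩, a9, b9⟩ := hchi
  obtain ⟨v0, v1⟩ := par_vals m a
  rw [prod2, v0, v1, a6, b6] at h6
  rw [prod2, v0, v1, a8, b8] at h8
  rw [prod2, v0, v1, a9, b9] at h9
  have ha1 : a ≠ 1 := fun h => ha (by rw [h, one_pow])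
  have hu0 := cancel h8 (by
    rw [_root_.zpow_neg, zpow_one, zpow_one, Ne, inv_mul_eq_one]
    intro h'
    refine ha ?_
    have hae : a = a ^ 3 ^ m := by
      conv_lhs => rw [← A.units_theta a]
      rw [← h']
    rw [mul_comm 3, pow_mul, ← hae] at h'
    refine mul_left_cancel (a := a) ?_
    rw [mul_one, ← pow_succ', ← h'])
  have hv0 := cancel h9 (by rw [zpow_one, zpow_zero, mul_one]; exact ha1)
  have ht0 := cancel h6 (by
    rw [_root_.zpow_neg, zpow_ofNat, zpow_ofNat, Ne, inv_mul_eq_one]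
    intro h'
    refine ha1 ?_
    have h2 : a ^ 2 = a ^ (3 * 3 ^ m) := by
      have := congrArg (fun y : Fˣ => y ^ 3 ^ m) h'
      rw [← pow_mul (a ^ (3 * 3 ^ m)), mul_comm 2, pow_mul (a ^ (3 * 3 ^ m)), A.units_theta, ← pow_mul] at this
      exact this.symm
    rw [← h2, ← pow_mul] at h'
    refine mul_left_cancel (a := a ^ 3) ?_
    rw [mul_one, ← pow_succ]
    exact h'.symm)
  replace hu0 := (map_eq_zero A.ψ).1 hu0
  replace hv0 := (map_eq_zero A.ψ).1 hv0
  simp [ree, nf, tail, z, ht0, hu0, hv0, xU_zero]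

theorem simple (hm : 1 ≤ m) : IsSimpleGroup ↥A.grp.G1 ∧ ¬ IsMulCommutative ↥A.grp.G1 := by
  refine A.grp.isSimple_of (by norm_num) (fun B ⟨j, hj⟩ ⟨j', hj'⟩ => ?_) A.normalCore (A.perfect hm)
  rw [Subsingleton.elim j j'] at hj
  exact absurd (hj.symm.trans hj') (by decide)

end Setup

end CfsgLib.Chev.TwG2
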