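import Cfsg.Agent.Chev.ParCosets
import Cfsg.Agent.Chev.Presented

/-!
Fixed points of an endomorphism of a Chevalley group which permutes the root subgroups.
-/

set_option autoImplicit false

namespace CfsgLib.Chev

open Cfsg.Lie Fine

variable {K : Data} {D : ChevalleyDatum} {F : Type*} [Field F]

/-- an endomorphism permuting the root subgroups by a symmetry of the fundamental roots -/
structure Twist (K : Data) (D : ChevalleyDatum) (F : Type*) [Field F] where
  hC : Comb K D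
  π : Equiv.Perm (Fin D.rank)
  im : ℕ → ℕ
  σ : ↥(D.group F) →* ↥(D.group F)
  φ : Fin D.rank → F →+* F
  im_lt : ∀ r < D.nroots, im r < D.nroots
  im_inj : ∀ r < D.nroots, ∀ s < D.nroots, im r = im s → r = s
  im_pos : ∀ r < D.nroots, (K.npos ≤ im r ↔ K.npos ≤ r)
  im_neg : ∀ r < D.nroots, im (K.neg r) = K.neg (im r)
  im_p : ∀ i : Fin D.rank, im (K.p i.val) = K.p (π i).val
  im_w : ∀ i : Fin D.rank, ∀ r < D.nroots, im (K.w i.val r) = K.w (π i).val (im r)
  σ_root : ∀ (r : ℕ) (t : F), r < D.nroots → ∃ u : F,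
    (σ ⟨xU hC.fine r t, hC.fine.xU_mem_group r t⟩ : GL D.Idx F) = xU hC.fine (im r) u
  σ_p : ∀ (i : Fin D.rank) (t : F),
    (σ ⟨xU hC.fine (K.p i.val) t, hC.fine.xU_mem_group _ t⟩ : GL D.Idx F) =
      xU hC.fine (K.p (π i).val) (φ i t)
  σ_n : ∀ (i : Fin D.rank) (t : F),
    (σ ⟨xU hC.fine (K.neg (K.p i.val)) t, hC.fine.xU_mem_group _ t⟩ : GL D.Idx F) =
      xU hC.fine (K.neg (K.p (π i).val)) (φ i t)

/-- negatives of the positive roots of a root subsystem -/
def negSub (K : Data) (D : ChevalleyDatum) (J : Set ℕ) : Set ℕ :=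
  {r | r < D.nroots ∧ K.neg r ∈ subPos K D J}

namespace Twist

variable (T : Twist K D F)

/-- the endomorphism on matrices (`1` outside the group) -/
noncomputable def app (g : GL D.Idx F) : GL D.Idx F := by
  classical
  exact if h : g ∈ D.group F then (T.σ ⟨g, h⟩ : GL D.Idx F) else 1

theorem app_of_mem {g : GL D.Idx F} (h : g ∈ D.group F) : T.app g = (T.σ ⟨g, h⟩ : GL D.Idx F) := by
  rw [app, dif_pos h]

theorem app_mem_group {g : GL D.Idx F} (h : g ∈ D.group F) : T.app g ∈ D.group F := by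
  rw [T.app_of_mem h]; exact (T.σ ⟨g, h⟩).2

theorem app_one : T.app 1 = 1 := by
  rw [T.app_of_mem (one_mem _)]
  exact congrArg Subtype.val (map_one T.σ)

theorem app_mul {a b : GL D.Idx F} (ha : a ∈ D.group F) (hb : b ∈ D.group F) :
    T.app (a * b) = T.app a * T.app b := by
  rw [T.app_of_mem ha, T.app_of_mem hb, T.app_of_mem (mul_mem ha hb)]
  exact congrArg Subtype.val (map_mul T.σ ⟨a, ha⟩ ⟨b, hb⟩)

theorem app_inv {a : GL D.Idx F} (ha : a ∈ D.group F) : T.app a⁻¹ = (T.app a)⁻¹ := by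
  rw [T.app_of_mem ha, T.app_of_mem (inv_mem ha)]
  exact congrArg Subtype.val (map_inv T.σ ⟨a, ha⟩)

/-- the fixed points -/
noncomputable def fix : Subgroup (GL D.Idx F) where
  carrier := {g | g ∈ D.group F ∧ T.app g = g}
  one_mem' := ⟨one_mem _, T.app_one⟩
  mul_mem' {a b} ha hb := ⟨mul_mem ha.1 hb.1, by rw [T.app_mul ha.1 hb.1, ha.2, hb.2]⟩
  inv_mem' {a} ha := ⟨inv_mem ha.1, by rw [T.app_inv ha.1, ha.2]⟩

theorem mem_fix {g : GL D.Idx F} : g ∈ T.fix ↔ g ∈ D.group F ∧ T.app g = g := Iff.rfl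

theorem app_xU {r : ℕ} (hr : r < D.nroots) (t : F) :
    ∃ u : F, T.app (xU T.hC.fine r t) = xU T.hC.fine (T.im r) u := by
  rw [T.app_of_mem (T.hC.fine.xU_mem_group r t)]
  exact T.σ_root r t hr

theorem app_p (i : Fin D.rank) (t : F) :
    T.app (xU T.hC.fine (K.p i.val) t) = xU T.hC.fine (K.p (T.π i).val) (T.φ i t) := by
  rw [T.app_of_mem (T.hC.fine.xU_mem_group _ t)]
  exact T.σ_p i t

theorem app_n (i : Fin D.rank) (t : F) :
    T.app (xU T.hC.fine (K.neg (K.p i.val)) t) = xU T.hC.fine (K.neg (K.p (T.π i).val)) (T.φ i t) := by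
  rw [T.app_of_mem (T.hC.fine.xU_mem_group _ t)]
  exact T.σ_n i t

theorem genU_le_group {S : Set ℕ} : genU T.hC.fine F S ≤ D.group F := T.hC.fine.genU_le_group _

theorem app_genU {S S' : Set ℕ} (h : ∀ r ∈ S, r < D.nroots ∧ T.im r ∈ S') {g : GL D.Idx F}
    (hg : g ∈ genU T.hC.fine F S) : T.app g ∈ genU T.hC.fine F S' := by
  induction hg using Subgroup.closure_induction with
  | mem x hx =>
    obtain ⟨r, hr, t, rfl⟩ := hx
    obtain ⟨u, hu⟩ := T.app_xU (h r hr).1 t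
    rw [hu]
    exact T.hC.fine.mem_genU (h r hr).2 u
  | one => rw [T.app_one]; exact one_mem _
  | mul a b ha hb iha ihb =>
    rw [T.app_mul (T.genU_le_group ha) (T.genU_le_group hb)]; exact mul_mem iha ihb
  | inv a ha iha => rw [T.app_inv (T.genU_le_group ha)]; exact inv_mem iha

theorem app_pos {g : GL D.Idx F} (hg : g ∈ D.posUnipotent F) : T.app g ∈ D.posUnipotent F := by
  rw [T.hC.fine.posUnipotent_eq] at hg ⊢
  exact T.app_genU (S' := {r | K.npos ≤ r ∧ r < D.nroots})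
    (fun r hr => ⟨hr.2, (T.im_pos r hr.2).2 hr.1, T.im_lt r hr.2⟩) hg

theorem app_nU (i : Fin D.rank) (a : F) :
    T.app (nU T.hC.fine (K.p i.val) a) = nU T.hC.fine (K.p (T.π i).val) (T.φ i a) := by
  have hG := T.hC.fine.toGood
  have e : ∀ (j : Fin D.rank) (x : F), nU T.hC.fine (K.p j.val) x =
      xU T.hC.fine (K.p j.val) x * xU T.hC.fine (K.neg (K.p j.val)) (-x⁻¹) * xU T.hC.fine (K.p j.val) x :=
    fun j x => by
      simp [nU, wordU, ChevalleyDatum.nWord, hG.neg_eq (hG.p_lt j.isLt), ← hG.Kneg_eq, mul_assoc]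
  have hm : ∀ (r : ℕ) (x : F), xU T.hC.fine r x ∈ D.group F := T.hC.fine.xU_mem_group
  rw [e i, T.app_mul (mul_mem (hm _ _) (hm _ _)) (hm _ _), T.app_mul (hm _ _) (hm _ _), T.app_p, T.app_n,
    e (T.π i), map_neg, map_inv₀]

theorem app_sU (i : Fin D.rank) : T.app (sU T.hC.fine i.val) = sU T.hC.fine (T.π i).val := by
  have h := T.app_nU i 1
  rw [map_one] at h
  rwa [sU, sU, T.hC.fine.toGood.simple_eq i.isLt, T.hC.fine.toGood.simple_eq (T.π i).isLt]

theorem sWord_mem_group (L : List (Fin D.rank)) : sWord T.hC.fine F L ∈ D.group F :=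
  T.hC.fine.monomial_le_group (T.hC.fine.sWord_mem_monomial L)

theorem app_sWord (L : List (Fin D.rank)) :
    T.app (sWord T.hC.fine F L) = sWord T.hC.fine F (L.map T.π) := by
  induction L with
  | nil => exact T.app_one
  | cons i L ih =>
    rw [T.hC.fine.sWord_cons, List.map_cons, T.hC.fine.sWord_cons,
      T.app_mul (T.hC.fine.monomial_le_group (T.hC.fine.sU_mem_monomial i.isLt)) (T.sWord_mem_group L),
      T.app_sU, ih]

/-- the action on parameters of the torus -/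
noncomputable def act : (Fin D.rank → Fˣ) →* (Fin D.rank → Fˣ) where
  toFun c j := Units.map (T.φ (T.π.symm j)).toMonoidHom (c (T.π.symm j))
  map_one' := funext fun j => map_one _
  map_mul' _ _ := funext fun j => map_mul _ _ _

theorem act_apply (c : Fin D.rank → Fˣ) (i : Fin D.rank) :
    (T.act c (T.π i) : F) = T.φ i (c i : F) := by
  show (Units.map (T.φ (T.π.symm (T.π i))).toMonoidHom (c (T.π.symm (T.π i))) : F) = _
  rw [Equiv.symm_apply_apply]
  rfl

theorem tFin_single (hK : Fine K D) (i : Fin D.rank) (a : Fˣ) :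
    tFin K D F (Pi.mulSingle i a) = tU K D (hParam K (K.p i.val) a) := by
  show (tU K D (extC (Pi.mulSingle i a)) : GL D.Idx F) = _
  refine Units.ext ?_
  rw [coe_tU, coe_tU]
  refine dmat_congr fun s _ => ?_
  congr 1
  rw [torusChar, torusChar]
  refine Finset.prod_congr rfl fun k hk => ?_
  have hk' := Finset.mem_range.1 hk
  have h1 := ((hK.coroot_facts.2 i.val i.isLt).2 k hk').1
  simp only [hParam, extC, dif_pos hk', h1]
  by_cases h : i.val = k
  · rw [show (⟨k, hk'⟩ : Fin D.rank) = i from Fin.ext h.symm]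
    simp [h]
  · rw [Pi.mulSingle_eq_of_ne (fun e => h (congrArg Fin.val e).symm)]
    simp [h]

theorem tFin_mem (hK : Fine K D) (c : Fin D.rank → Fˣ) : tFin K D F c ∈ D.diagonalSubgroup F := by
  rw [← hK.tFin_range]; exact ⟨c, rfl⟩

theorem app_tFin (c : Fin D.rank → Fˣ) : T.app (tFin K D F c) = tFin K D F (T.act c) := by
  have hK := T.hC.fine
  let tG : (Fin D.rank → Fˣ) →* ↥(D.group F) :=
    (tFin K D F).codRestrict _ fun x => hK.diagonal_le_group (tFin_mem hK x)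
  suffices h : ((D.group F).subtype.comp T.σ).comp tG = (tFin K D F).comp T.act by
    rw [T.app_of_mem (hK.diagonal_le_group (tFin_mem hK c))]
    exact DFunLike.congr_fun h c
  suffices hsingle : ∀ (i : Fin D.rank) (a : Fˣ), (((D.group F).subtype.comp T.σ).comp tG) (Pi.mulSingle i a) =
      ((tFin K D F).comp T.act) (Pi.mulSingle i a) by
    classical
    refine MonoidHom.ext fun x => ?_
    rw [← Finset.univ_prod_mulSingle x]
    induction (Finset.univ : Finset (Fin D.rank)) using Finset.induction_on with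
    | empty => simp
    | insert j s hj ih => rw [Finset.prod_insert hj, map_mul, map_mul, ih, hsingle]
  intro i a
  show (T.σ ⟨tFin K D F (Pi.mulSingle i a), _⟩ : GL D.Idx F) = tFin K D F (T.act (Pi.mulSingle i a))
  have e : T.act (Pi.mulSingle i a) = Pi.mulSingle (T.π i) (Units.map (T.φ i).toMonoidHom a) := by
    funext j
    obtain ⟨k, rfl⟩ := T.π.surjective j
    refine Units.ext ?_
    rw [T.act_apply]
    by_cases h : k = i
    · subst h; simp
    · rw [Pi.mulSingle_eq_of_ne h, Pi.mulSingle_eq_of_ne (fun e => h (T.π.injective e))]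
      simp
  rw [← T.app_of_mem, tFin_single hK, e, tFin_single hK,
    ← nU_mul_neg_eq_tU hK (hK.toGood.p_lt i.isLt), ← nU_mul_neg_eq_tU hK (hK.toGood.p_lt (T.π i).isLt),
    T.app_mul (show nU hK (K.p i.val) (a : F) ∈ D.group F from hK.wordU_mem_group _)
      (show nU hK (K.p i.val) (-1 : F) ∈ D.group F from hK.wordU_mem_group _), T.app_nU, T.app_nU, map_neg, map_one]
  rfl

theorem app_diagonal {g : GL D.Idx F} (hg : g ∈ D.diagonalSubgroup F) : T.app g ∈ D.diagonalSubgroup F := by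
  rw [← T.hC.fine.tFin_range] at hg ⊢
  obtain ⟨c, rfl⟩ := hg
  exact ⟨_, (T.app_tFin c).symm⟩

theorem app_borel {g : GL D.Idx F} (hg : g ∈ D.borelSubgroup F) : T.app g ∈ D.borelSubgroup F := by
  obtain ⟨u, hu, h, hh, rfl⟩ := T.hC.fine.mem_borel_iff.1 hg
  rw [T.app_mul (T.hC.fine.posUnipotent_le_group hu) (T.hC.fine.diagonal_le_group hh)]
  exact T.hC.fine.mem_borel_iff.2 ⟨_, T.app_pos hu, _, T.app_diagonal hh, rfl⟩

/-! ### The permutation of the roots -/

/-- the permutation of the roots -/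
noncomputable def ρ : Equiv.Perm (Fin D.nroots) :=
  Equiv.ofBijective (fun r : Fin D.nroots => (⟨T.im r.val, T.im_lt r.val r.isLt⟩ : Fin D.nroots))
    (Finite.injective_iff_bijective.1 fun a b h =>
      Fin.ext (T.im_inj a.val a.isLt b.val b.isLt (congrArg Fin.val h)))

theorem ρ_val (r : Fin D.nroots) : (T.ρ r).val = T.im r.val := rfl

theorem ρ_pos (r : Fin D.nroots) : K.npos ≤ (T.ρ r).val ↔ K.npos ≤ r.val := T.im_pos r.val r.isLt

theorem ρ_pFin (i : Fin D.rank) : T.ρ (pFin T.hC.fine i) = pFin T.hC.fine (T.π i) :=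
  Fin.ext (T.im_p i)

theorem ρ_sPerm (i : Fin D.rank) :
    T.ρ * sPerm T.hC.fine i = sPerm T.hC.fine (T.π i) * T.ρ := by
  refine Equiv.ext fun r => Fin.ext ?_
  rw [Equiv.Perm.mul_apply, Equiv.Perm.mul_apply, ρ_val, sPerm_val, sPerm_val, ρ_val]
  exact T.im_w i r.val r.isLt

theorem ρ_wPerm (L : List (Fin D.rank)) :
    T.ρ * wPerm T.hC.fine L = wPerm T.hC.fine (L.map T.π) * T.ρ := by
  induction L with
  | nil => simp [wPerm]
  | cons i L ih =>
    rw [List.map_cons, T.hC.fine.wPerm_cons, T.hC.fine.wPerm_cons, ← mul_assoc, T.ρ_sPerm,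
      mul_assoc, ih, mul_assoc]

/-- Weyl group elements commuting with the permutation of the roots -/
noncomputable def weylFix : Subgroup (Equiv.Perm (Fin D.nroots)) :=
  weylGrp T.hC.fine ⊓ Subgroup.centralizer {T.ρ}

theorem mem_weylFix {w : Equiv.Perm (Fin D.nroots)} :
    w ∈ T.weylFix ↔ w ∈ weylGrp T.hC.fine ∧ T.ρ * w = w * T.ρ := by
  rw [weylFix, Subgroup.mem_inf, Subgroup.mem_centralizer_singleton_iff, eq_comm (a := w * T.ρ)]

theorem permNat_im {w : Equiv.Perm (Fin D.nroots)} (hw : T.ρ * w = w * T.ρ) {r : ℕ} (hr : r < D.nroots) :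
    permNat w (T.im r) = T.im (permNat w r) := by
  have h := congrArg Fin.val (DFunLike.congr_fun hw (⟨r, hr⟩ : Fin D.nroots))
  simp only [Equiv.Perm.mul_apply, ρ_val] at h
  rw [show T.im r = (T.ρ ⟨r, hr⟩).val from rfl, permNat_fin,
    show permNat w r = (w ⟨r, hr⟩).val from permNat_fin _ ⟨r, hr⟩]
  exact h.symm

theorem im_invSet {w : Equiv.Perm (Fin D.nroots)} (hw : T.ρ * w = w * T.ρ) :
    ∀ r ∈ invSet K D w, r < D.nroots ∧ T.im r ∈ invSet K D w := by
  rintro r ⟨⟨h1, h2⟩, h3⟩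
  refine ⟨h2, ⟨(T.im_pos r h2).2 h1, T.im_lt r h2⟩, ?_⟩
  rw [T.permNat_im hw h2]
  exact Nat.lt_of_not_le fun h => Nat.not_le.2 h3 ((T.im_pos _ (permNat_lt h2)).1 h)

theorem im_keepSet {w : Equiv.Perm (Fin D.nroots)} (hw : T.ρ * w = w * T.ρ) :
    ∀ r ∈ keepSet K D w, r < D.nroots ∧ T.im r ∈ keepSet K D w := by
  rintro r ⟨⟨h1, h2⟩, h3⟩
  refine ⟨h2, ⟨(T.im_pos r h2).2 h1, T.im_lt r h2⟩, ?_⟩
  rw [T.permNat_im hw h2]
  exact (T.im_pos _ (permNat_lt h2)).2 h3

/-- a fundamental root and its image descend together -/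
theorem descent_iff {w : Equiv.Perm (Fin D.nroots)} (hw : T.ρ * w = w * T.ρ) (i : Fin D.rank) :
    (w (pFin T.hC.fine (T.π i))).val < K.npos ↔ (w (pFin T.hC.fine i)).val < K.npos := by
  have h := DFunLike.congr_fun hw (pFin T.hC.fine i)
  simp only [Equiv.Perm.mul_apply, T.ρ_pFin] at h
  rw [← h, ← not_le, ← not_le, T.ρ_pos]

/-! ### Decompositions -/

theorem keepSet_le_pos (w : Equiv.Perm (Fin D.nroots)) :
    genU T.hC.fine F (keepSet K D w) ≤ D.posUnipotent F := by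
  rw [T.hC.fine.posUnipotent_eq]; exact T.hC.fine.genU_mono fun r hr => hr.1

theorem keep_inv_unique {w : Equiv.Perm (Fin D.nroots)} (hw : w ∈ weylGrp T.hC.fine)
    {p p' m m' : GL D.Idx F} (hp : p ∈ genU T.hC.fine F (keepSet K D w))
    (hp' : p' ∈ genU T.hC.fine F (keepSet K D w)) (hm : m ∈ genU T.hC.fine F (invSet K D w))
    (hm' : m' ∈ genU T.hC.fine F (invSet K D w)) (h : p * m = p' * m') : p = p' ∧ m = m' := by
  have hK := T.hC.fine
  obtain ⟨L, rfl⟩ := hK.mem_weylGrp_iff.1 hw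
  set n := sWord hK F L
  have e : p'⁻¹ * p = m' * m⁻¹ := by rw [inv_mul_eq_iff_eq_mul, ← mul_assoc, ← h]; group
  have hmem : n * (p'⁻¹ * p) * n⁻¹ ∈ D.borelSubgroup F ⊓ D.negUnipotent F :=
    ⟨Subgroup.mem_sup_left (hK.conj_keepSet_mem_pos (hK.moves_sWord L) (mul_mem (inv_mem hp') hp)),
      e ▸ hK.conj_invSet_mem_neg (hK.moves_sWord L) (mul_mem hm' (inv_mem hm))⟩
  rw [hK.borel_inf_neg, Subgroup.mem_bot, mul_inv_eq_one, mul_eq_left] at hmem
  have hpp : p = p' := (inv_mul_eq_one.1 hmem).symm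
  exact ⟨hpp, by subst hpp; exact mul_left_cancel h⟩

theorem mem_inv_of_conj_neg {w : Equiv.Perm (Fin D.nroots)} (hw : w ∈ weylGrp T.hC.fine)
    {n : GL D.Idx F} (hn : Moves T.hC.fine n w) {u : GL D.Idx F} (hu : u ∈ D.posUnipotent F)
    (h : n * u * n⁻¹ ∈ D.negUnipotent F) : u ∈ genU T.hC.fine F (invSet K D w) := by
  have hK := T.hC.fine
  obtain ⟨L, rfl⟩ := hK.mem_weylGrp_iff.1 hw
  obtain ⟨p, hp, m, hm, rfl⟩ := hK.pos_factor L hu
  have hmem : n * p * n⁻¹ ∈ D.borelSubgroup F ⊓ D.negUnipotent F := by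
    refine ⟨Subgroup.mem_sup_left (hK.conj_keepSet_mem_pos hn hp), ?_⟩
    have h2 := mul_mem h (inv_mem (hK.conj_invSet_mem_neg hn hm))
    rwa [show n * (p * m) * n⁻¹ * (n * m * n⁻¹)⁻¹ = n * p * n⁻¹ by group] at h2
  rw [hK.borel_inf_neg, Subgroup.mem_bot, mul_inv_eq_one, mul_eq_left] at hmem
  rwa [hmem, one_mul]

theorem mem_keep_of_conj_pos {w : Equiv.Perm (Fin D.nroots)} (hw : w ∈ weylGrp T.hC.fine)
    {n : GL D.Idx F} (hn : Moves T.hC.fine n w) {u : GL D.Idx F} (hu : u ∈ D.posUnipotent F)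
    (h : n * u * n⁻¹ ∈ D.borelSubgroup F) : u ∈ genU T.hC.fine F (keepSet K D w) := by
  have hK := T.hC.fine
  obtain ⟨L, rfl⟩ := hK.mem_weylGrp_iff.1 hw
  obtain ⟨p, hp, m, hm, rfl⟩ := hK.pos_factor L hu
  have hmem : n * m * n⁻¹ ∈ D.borelSubgroup F ⊓ D.negUnipotent F := by
    refine ⟨?_, hK.conj_invSet_mem_neg hn hm⟩
    have h2 := mul_mem (inv_mem (Subgroup.mem_sup_left (T := D.diagonalSubgroup F)
      (hK.conj_keepSet_mem_pos hn hp))) h
    rwa [show (n * p * n⁻¹)⁻¹ * (n * (p * m) * n⁻¹) = n * m * n⁻¹ by group] at h2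
  rw [hK.borel_inf_neg, Subgroup.mem_bot, mul_inv_eq_one, mul_eq_left] at hmem
  rwa [hmem, mul_one]

/-- a fixed positive element splits into fixed factors -/
theorem fix_split {w : Equiv.Perm (Fin D.nroots)} (hw : w ∈ T.weylFix) {u : GL D.Idx F}
    (hu : u ∈ D.posUnipotent F) (hf : u ∈ T.fix) :
    ∃ p ∈ T.fix ⊓ genU T.hC.fine F (keepSet K D w), ∃ m ∈ T.fix ⊓ genU T.hC.fine F (invSet K D w),
      u = p * m := by
  obtain ⟨hwW, hwρ⟩ := T.mem_weylFix.1 hw
  obtain ⟨L, hL⟩ := T.hC.fine.mem_weylGrp_iff.1 hwW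
  obtain ⟨p, hp, m, hm, e⟩ := T.hC.fine.pos_factor L hu
  rw [hL] at hp hm
  have h' : T.app p * T.app m = p * m := by
    rw [← T.app_mul (T.genU_le_group hp) (T.genU_le_group hm), ← e]
    exact hf.2
  obtain ⟨e1, e2⟩ := T.keep_inv_unique hwW (T.app_genU (T.im_keepSet hwρ) hp) hp
    (T.app_genU (T.im_invSet hwρ) hm) hm h'
  exact ⟨p, ⟨⟨T.genU_le_group hp, e1⟩, hp⟩, m, ⟨⟨T.genU_le_group hm, e2⟩, hm⟩, e⟩

/-- the normal form of a fixed element has fixed factors -/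
theorem fix_decomp {g : GL D.Idx F} (hg : g ∈ T.fix) :
    ∃ w ∈ T.weylFix, ∃ v ∈ T.fix ⊓ D.posUnipotent F, ∃ n ∈ T.fix ⊓ D.monomialSubgroup F,
      Moves T.hC.fine n w ∧ ∃ m ∈ T.fix ⊓ genU T.hC.fine F (invSet K D w), g = v * n * m := by
  have hK := T.hC.fine
  obtain ⟨hgG, hgf⟩ := hg
  obtain ⟨b, hb, L, u, hu, rfl⟩ := hK.normal_form_exists hgG
  set n0 := sWord hK F L
  have hbG := hK.borel_le_group hb
  have hn0G : n0 ∈ D.group F := T.sWord_mem_group L
  have huG := T.genU_le_group hu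
  rw [T.app_mul (mul_mem hbG hn0G) huG, T.app_mul hbG hn0G, T.app_sWord] at hgf
  have hupos := T.app_pos (hK.invSet_le_pos _ hu)
  have hk := hK.normal_form_index (T.app_borel hb) hb (hK.sWord_mem_monomial _) (hK.sWord_mem_monomial _)
    hupos (hK.invSet_le_pos _ hu) hgf
  set k := (sWord hK F (L.map T.π))⁻¹ * n0
  have hperm : wPerm hK (L.map T.π) = wPerm hK L := inv_mul_eq_one.1
    (hK.moves_unique (hK.moves_diagonal hk)
      (hK.moves_mul (hK.moves_inv (hK.moves_sWord (L.map T.π))) (hK.moves_sWord L))).symm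
  set w := wPerm hK L
  have hwρ : T.ρ * w = w * T.ρ := by rw [T.ρ_wPerm, hperm]
  have hwF : w ∈ T.weylFix := T.mem_weylFix.2 ⟨hK.mem_weylGrp_iff.2 ⟨L, rfl⟩, hwρ⟩
  have h1 : n0 * k⁻¹ * n0⁻¹ ∈ D.borelSubgroup F := Subgroup.mem_sup_right
    ((Subgroup.mem_normalizer_iff.1 (hK.monomial_le_normalizer_diagonal (hK.sWord_mem_monomial L))
      k⁻¹).1 (inv_mem hk))
  have h2 : T.app b * (n0 * k⁻¹ * n0⁻¹) * n0 * T.app u = b * n0 * u := by
    rw [← hgf]
    simp only [k]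
    group
  obtain ⟨e1, e2⟩ := hK.normal_form_factors (hK.moves_sWord L)
    (mul_mem (T.app_borel hb) h1) hb (T.app_genU (T.im_invSet hwρ) hu) hu h2
  obtain ⟨v, hv, h0, hh0, rfl⟩ := hK.mem_borel_iff.1 hb
  have hvG := hK.posUnipotent_le_group hv
  have hh0G := hK.diagonal_le_group hh0
  rw [T.app_mul hvG hh0G] at e1
  have hv2 : T.app v = v := by
    have hmem : v⁻¹ * T.app v ∈ D.posUnipotent F ⊓ D.diagonalSubgroup F := by
      refine ⟨Subgroup.mul_mem _ (Subgroup.inv_mem _ hv) (T.app_pos hv), ?_⟩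
      have e : v⁻¹ * T.app v = h0 * (T.app h0 * (n0 * k⁻¹ * n0⁻¹))⁻¹ := by
        rw [eq_mul_inv_iff_mul_eq, mul_assoc, ← mul_assoc (T.app v), e1]; group
      rw [e]
      exact Subgroup.mul_mem _ hh0 (Subgroup.inv_mem _ (Subgroup.mul_mem _ (T.app_diagonal hh0)
        ((Subgroup.mem_normalizer_iff.1 (hK.monomial_le_normalizer_diagonal (hK.sWord_mem_monomial L))
          k⁻¹).1 (Subgroup.inv_mem _ hk))))
    rw [hK.pos_inf_diagonal, Subgroup.mem_bot] at hmem
    exact (inv_mul_eq_one.1 hmem).symm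
  have hnM : h0 * n0 ∈ D.monomialSubgroup F :=
    mul_mem ((le_sup_left : D.diagonalSubgroup F ≤ D.monomialSubgroup F) hh0) (hK.sWord_mem_monomial L)
  have hnfix : T.app (h0 * n0) = h0 * n0 := by
    rw [T.app_mul hh0G hn0G, T.app_sWord]
    have h3 := hgf
    rw [T.app_mul hvG hh0G, hv2, e2] at h3
    have h4 := mul_right_cancel h3
    rw [mul_assoc v, mul_assoc v] at h4
    exact mul_left_cancel h4
  refine ⟨w, hwF, v, ⟨⟨hvG, hv2⟩, hv⟩, h0 * n0, ⟨⟨hK.monomial_le_group hnM, hnfix⟩, hnM⟩,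
    by simpa using hK.moves_mul (hK.moves_diagonal hh0) (hK.moves_sWord L), u, ⟨⟨huG, e2⟩, hu⟩, ?_⟩
  group

end Twist

end CfsgLib.Chev
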