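import Cfsg.Agent.Chev.TwistGrp
import Cfsg.Agent.Chev.Simple
import Cfsg.Agent.Chev.Coxeter

/-!
The (B,N)-pair of a twisted group, its Weyl group, and simplicity.
-/

set_option autoImplicit false

namespace CfsgLib.Chev

open Cfsg.Lie Fine CfsgLib.Base

variable {K : Data} {D : ChevalleyDatum} {F : Type*} [Field F]

namespace TwistGrp

variable {T : Twist K D F} {n : ℕ} (S : TwistGrp T n)

/-- the rank one decompositions can be taken inside a given monomial group -/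
def RankOne (N' : Subgroup (GL D.Idx F)) : Prop :=
  N' ≤ T.fix ⊓ D.monomialSubgroup F ∧ ∀ (j : Fin n) (x : GL D.Idx F), x ∈ T.fix →
    x ∈ genU T.hC.fine F (negSub K D (S.orb j)) → x ≠ 1 →
      ∃ v ∈ T.fix ⊓ D.posUnipotent F, ∃ g ∈ N', ∃ m ∈ T.X (S.wJ j), x = v * g * m

theorem rankOne_G1 : S.RankOne (S.G1 ⊓ D.monomialSubgroup F) := by
  refine ⟨inf_le_inf_right _ S.le_fix, fun j x hx hxn hne => ?_⟩
  obtain ⟨v, hv, g, hg, -, m, hm, e⟩ := S.neg_decomp j hx hxn hne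
  refine ⟨v, T.X_le_pos _ hv, g, ⟨?_, hg.2⟩, m, hm, e⟩
  show g ∈ S.G1
  rw [show g = v⁻¹ * x * m⁻¹ by rw [e]; group]
  rw [S.X_wJ] at hv hm
  exact mul_mem (mul_mem (inv_mem (S.posX j hv)) (S.negX_mem j hx hxn)) (inv_mem (S.posX j hm))

theorem X_normalized {g : GL D.Idx F} (hg : g ∈ T.fix) (hgH : g ∈ D.diagonalSubgroup F) {x : GL D.Idx F}
    (hx : x ∈ T.fix ⊓ D.posUnipotent F) : g * x * g⁻¹ ∈ T.fix ⊓ D.posUnipotent F :=
  ⟨T.fix_conj' hg hx.1,
    (Subgroup.mem_normalizer_iff.1 (T.hC.fine.diagonal_le_normalizer_pos hgH) x).1 hx.2⟩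

theorem conj_min {j : Fin n} {g : GL D.Idx F} (hg : g ∈ T.fix) {w : Equiv.Perm (Fin D.nroots)}
    (hgw : Moves T.hC.fine g w) (hw : w ∈ weylGrp T.hC.fine) (hmin : MinRep T.hC.fine (S.orb j) w⁻¹)
    {m : GL D.Idx F} (hm : m ∈ T.X (S.wJ j)) : g⁻¹ * m * g ∈ T.fix ⊓ D.posUnipotent F := by
  have hK := T.hC.fine
  refine ⟨T.fix_conj hg hm.1, ?_⟩
  have h := hK.conj_genU_le (hK.moves_inv hgw) (T := {r | K.npos ≤ r ∧ r < D.nroots})
    (fun r hr => ⟨hr.1.2, Comb.MinRep.pos T.hC (inv_mem hw) hmin r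
      (S.invSet_wJ j ▸ hr : r ∈ subPos K D (S.orb j)), permNat_lt hr.1.2⟩) hm.2
  rw [inv_inv] at h
  rwa [SetLike.mem_coe, hK.posUnipotent_eq]

theorem step {N' : Subgroup (GL D.Idx F)} (hN : S.RankOne N') {j : Fin n} {s : GL D.Idx F}
    (hs : s ∈ N') (hsm : Moves T.hC.fine s (S.wJ j)) {g : GL D.Idx F} (hg : g ∈ N')
    {w : Equiv.Perm (Fin D.nroots)} (hgw : Moves T.hC.fine g w) {m : GL D.Idx F}
    (hm : m ∈ T.X (S.wJ j)) :
    ∃ v ∈ T.fix ⊓ D.posUnipotent F, ∃ g' ∈ N', ∃ u ∈ T.fix ⊓ D.posUnipotent F,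
      s * m * g = v * g' * u ∧ (g' = s * g ∨ Moves T.hC.fine g' w) := by
  have hK := T.hC.fine
  have hgf := hN.1 hg
  obtain ⟨hwW, hwρ⟩ := T.mem_weylFix.1 (T.moves_weylFix hgf.1 hgf.2 hgw)
  have hinvρ : T.ρ * w⁻¹ = w⁻¹ * T.ρ :=
    (T.mem_weylFix.1 (inv_mem (T.mem_weylFix.2 ⟨hwW, hwρ⟩))).2
  rcases S.minRep_or_maxRep hinvρ j with hmin | hmax
  · exact ⟨1, one_mem _, s * g, mul_mem hs hg, g⁻¹ * m * g, S.conj_min hgf.1 hgw hwW hmin hm,
      by group, Or.inl rfl⟩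
  by_cases hm1 : m = 1
  · exact ⟨1, one_mem _, s * g, mul_mem hs hg, 1, one_mem _, by rw [hm1]; group, Or.inl rfl⟩
  have hsf := hN.1 hs
  have hxn := S.conj_pos_neg j hsm (S.invSet_wJ j ▸ hm.2 : m ∈ genU T.hC.fine F (subPos K D (S.orb j)))
  have hxf := T.fix_conj' hsf.1 hm.1
  have hxne : s * m * s⁻¹ ≠ 1 := fun h => hm1 (conj_eq_one_iff.1 h)
  obtain ⟨v, hv, g1, hg1, m', hm', e⟩ := hN.2 j _ hxf hxn hxne
  have hg1m : Moves T.hC.fine g1 (S.wJ j) := by
    obtain ⟨v', hv', g2, hg2, hg2m, m2, hm2, e2⟩ := S.neg_decomp j hxf hxn hxne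
    have hH := hK.normal_form_index (Subgroup.mem_sup_left hv.2) (Subgroup.mem_sup_left (T.X_le_pos _ hv').2)
      (hN.1 hg1).2 hg2.2 (T.X_le_pos _ hm').2 (T.X_le_pos _ hm2).2 (e.symm.trans e2)
    obtain ⟨L, hL⟩ := hK.exists_moves (hN.1 hg1).2
    rwa [← inv_mul_eq_one.1 (hK.moves_unique (hK.moves_diagonal hH) (hK.moves_mul (hK.moves_inv hL) hg2m)).symm]
  have hsg := hK.moves_mul hsm hgw
  have hmin' : MinRep T.hC.fine (S.orb j) (S.wJ j * w)⁻¹ := by
    rw [mul_inv_rev, S.wJ_inv]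
    exact S.minRep_mul_wJ (inv_mem hwW) hmax
  refine ⟨v, hv, g1 * (s * g), mul_mem hg1 (mul_mem hs hg), (s * g)⁻¹ * m' * (s * g),
    S.conj_min (hN.1 (mul_mem hs hg)).1 hsg (mul_mem (S.wJ_weyl j) hwW) hmin' hm', ?_, Or.inr ?_⟩
  · rw [show s * m * g = s * m * s⁻¹ * (s * g) by group, e]
    group
  · have h := hK.moves_mul hg1m hsg
    rwa [← mul_assoc (S.wJ j), S.wJ_sq, one_mul] at h

/-- the monomial elements of the group lie in any such monomial group -/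
theorem mon_le {N' : Subgroup (GL D.Idx F)} (hN : S.RankOne N') :
    S.G1 ⊓ D.monomialSubgroup F ≤ N' := by
  classical
  have hK := T.hC.fine
  let Sset : Set (GL D.Idx F) := {g | ∃ v ∈ T.fix ⊓ D.posUnipotent F, ∃ g' ∈ N',
    ∃ u ∈ T.fix ⊓ D.posUnipotent F, g = v * g' * u}
  have hs : ∀ j, ∃ s ∈ N', Moves T.hC.fine s (S.wJ j) := by
    intro j
    obtain ⟨x, hxG, hne, hxn⟩ := S.negX j
    obtain ⟨v, hv, g, hg, m, hm, e⟩ := hN.2 j x (S.le_fix hxG) hxn hne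
    obtain ⟨v', hv', g2, hg2, hg2m, m2, hm2, e2⟩ := S.neg_decomp j (S.le_fix hxG) hxn hne
    have hH := hK.normal_form_index (Subgroup.mem_sup_left hv.2) (Subgroup.mem_sup_left (T.X_le_pos _ hv').2)
      (hN.1 hg).2 hg2.2 (T.X_le_pos _ hm).2 (T.X_le_pos _ hm2).2 (e.symm.trans e2)
    obtain ⟨L, hL⟩ := hK.exists_moves (hN.1 hg).2
    exact ⟨g, hg, by
      rwa [← inv_mul_eq_one.1 (hK.moves_unique (hK.moves_diagonal hH) (hK.moves_mul (hK.moves_inv hL) hg2m)).symm]⟩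
  choose s hsN hsm using hs
  have hpos : ∀ v ∈ T.fix ⊓ D.posUnipotent F, ∀ g ∈ Sset, v * g ∈ Sset := by
    rintro v hv _ ⟨v', hv', g', hg', u, hu, rfl⟩
    exact ⟨v * v', mul_mem hv hv', g', hg', u, hu, by group⟩
  have hdia : ∀ k ∈ N', k ∈ D.diagonalSubgroup F → ∀ g ∈ Sset, k * g ∈ Sset := by
    rintro k hk hkH _ ⟨v, hv, g', hg', u, hu, rfl⟩
    exact ⟨_, X_normalized (hN.1 hk).1 hkH hv, _, mul_mem hk hg', u, hu, by group⟩
  have hnu : ∀ j, ∀ g ∈ Sset, s j * g ∈ Sset := by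
    rintro j _ ⟨v, hv, g', hg', u, hu, rfl⟩
    obtain ⟨p, hp, m, hm, ev⟩ := T.fix_split (S.wJ_fix j) hv.2 hv.1
    obtain ⟨L, hL⟩ := hK.exists_moves (hN.1 hg').2
    obtain ⟨v', hv', g'', hg'', u', hu', e, -⟩ := S.step hN (hsN j) (hsm j) hg' hL hm
    refine ⟨s j * p * (s j)⁻¹ * v', ?_, g'', hg'', u' * u, mul_mem hu' hu, ?_⟩
    · exact mul_mem ⟨T.fix_conj' (hN.1 (hsN j)).1 hp.1, hK.conj_keepSet_mem_pos (hsm j) hp.2⟩ hv'
    · rw [ev, show s j * (p * m * g' * u) = s j * p * (s j)⁻¹ * (s j * m * g') * u by group, e]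
      group
  have hnuinv : ∀ j, ∀ g ∈ Sset, (s j)⁻¹ * g ∈ Sset := by
    intro j g hg
    have hk : (s j * s j)⁻¹ ∈ D.diagonalSubgroup F := by
      refine inv_mem (hK.mem_diagonal_of_moves_one (mul_mem (hN.1 (hsN j)).2 (hN.1 (hsN j)).2) ?_)
      have h := hK.moves_mul (hsm j) (hsm j)
      rwa [S.wJ_sq] at h
    rw [show (s j)⁻¹ * g = (s j * s j)⁻¹ * (s j * g) by group]
    exact hdia _ (inv_mem (mul_mem (hsN j) (hsN j))) hk _ (hnu j g hg)
  have hX : ∀ j, ∀ x ∈ T.fix, x ∈ genU T.hC.fine F (subPos K D (S.orb j)) → ∀ g ∈ Sset, x * g ∈ Sset := by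
    intro j x hx hxp
    refine hpos x ⟨hx, ?_⟩
    rw [SetLike.mem_coe, hK.posUnipotent_eq]
    exact hK.genU_mono (fun r hr => hr.1) hxp
  have hgen : ∀ x ∈ {g | g ∈ T.fix ∧ ∃ j, g ∈ genU T.hC.fine F (subPos K D (S.orb j)) ∨
      g ∈ genU T.hC.fine F (negSub K D (S.orb j))}, ∀ g ∈ Sset, x * g ∈ Sset := by
    rintro x ⟨hx, j, hxp | hxn⟩ g hg
    · exact hX j x hx hxp g hg
    · rw [show x * g = s j * ((s j)⁻¹ * x * s j * ((s j)⁻¹ * g)) by group]
      exact hnu j _ (hX j _ (T.fix_conj (hN.1 (hsN j)).1 hx) (S.conj_neg_pos j (hsm j) hxn) _ (hnuinv j g hg))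
  have hall : ∀ g ∈ S.G1, g ∈ Sset := by
    intro g hg
    have hg' := S.gen hg
    clear hg
    induction hg' using Subgroup.closure_induction_left with
    | one => exact ⟨1, one_mem _, 1, one_mem _, 1, one_mem _, by group⟩
    | mul_left x hx y _ hy => exact hgen x hx y hy
    | inv_mul_cancel x hx y _ hy =>
      refine hgen x⁻¹ ⟨inv_mem hx.1, ?_⟩ y hy
      obtain ⟨j, h | h⟩ := hx.2
      · exact ⟨j, Or.inl (inv_mem h)⟩
      · exact ⟨j, Or.inr (inv_mem h)⟩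
  rintro g ⟨hgG, hgN⟩
  obtain ⟨v, hv, g', hg', u, hu, e⟩ := hall g hgG
  rw [T.cell_mon_eq hv.2 hgN (hN.1 hg').2 hu.2 e]
  exact hg'

/-! ### The pair -/

theorem borel_split {b : GL D.Idx F} (hb : b ∈ D.borelSubgroup F) (hbG : b ∈ S.G1) :
    ∃ v ∈ T.fix ⊓ D.posUnipotent F, ∃ h ∈ S.G1 ⊓ D.diagonalSubgroup F, b = v * h := by
  obtain ⟨v, hv, h, hh, e⟩ := T.fix_borel hb (S.le_fix hbG)
  refine ⟨v, hv, h, ⟨?_, hh.2⟩, e⟩
  show h ∈ S.G1
  rw [show h = v⁻¹ * b by rw [e]; group]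
  exact mul_mem (inv_mem (S.fix_pos_le hv)) hbG

/-- the representatives inside the group -/
noncomputable def nuG (j : Fin n) : ↥S.G1 := ⟨S.nu j, S.nu_mem j⟩

theorem mem_B_iff {b : ↥S.G1} :
    b ∈ (D.borelSubgroup F ⊓ S.G1).subgroupOf S.G1 ↔ (b : GL D.Idx F) ∈ D.borelSubgroup F :=
  Subgroup.mem_subgroupOf.trans ⟨fun h => h.1, fun h => ⟨h, b.2⟩⟩

theorem mem_N_iff {b : ↥S.G1} :
    b ∈ (D.monomialSubgroup F ⊓ S.G1).subgroupOf S.G1 ↔ (b : GL D.Idx F) ∈ D.monomialSubgroup F :=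
  Subgroup.mem_subgroupOf.trans ⟨fun h => h.1, fun h => ⟨h, b.2⟩⟩

theorem wJ_injective : Function.Injective S.wJ := by
  intro j j' h
  obtain ⟨i, hi⟩ := S.orb_ne j
  have hp : K.p i.val ∈ subPos K D (S.orb j) :=
    ⟨⟨T.hC.fine.toGood.npos_le_p i.isLt, T.hC.fine.toGood.p_lt i.isLt⟩, (T.hC.inRootSub_p i.isLt).2 hi⟩
  rw [← S.invSet_wJ, h, S.invSet_wJ] at hp
  exact S.orb_inj j j' _ hi ((T.hC.inRootSub_p i.isLt).1 hp.2)

/-- the (B,N)-pair of the twisted group -/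
noncomputable def bnPair : Cfsg.BNPair ↥S.G1 where
  B := (D.borelSubgroup F ⊓ S.G1).subgroupOf S.G1
  N := (D.monomialSubgroup F ⊓ S.G1).subgroupOf S.G1
  S := Set.range S.nuG
  sup_eq_top := by
    refine eq_top_iff.2 fun g _ => ?_
    obtain ⟨w, -, v, hv, k, hk, -, m, hm, e⟩ := T.fix_decomp (S.le_fix g.2)
    have hvG := S.fix_pos_le hv
    have hmG := S.fix_pos_le (T.X_le_pos _ hm)
    have hkG : k ∈ S.G1 := by
      rw [show k = v⁻¹ * g * m⁻¹ by rw [e]; group]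
      exact mul_mem (mul_mem (inv_mem hvG) g.2) (inv_mem hmG)
    rw [show g = ⟨v, hvG⟩ * ⟨k, hkG⟩ * ⟨m, hmG⟩ from Subtype.ext e]
    exact mul_mem (mul_mem (Subgroup.mem_sup_left (S.mem_B_iff.2 (Subgroup.mem_sup_left hv.2)))
      (Subgroup.mem_sup_right (S.mem_N_iff.2 hk.2)))
      (Subgroup.mem_sup_left (S.mem_B_iff.2 (Subgroup.mem_sup_left (T.X_le_pos _ hm).2)))
  conj_mem k hk t ht := by
    rw [S.mem_B_iff]
    have hk' := S.mem_N_iff.1 hk
    have htH : (t : GL D.Idx F) ∈ D.diagonalSubgroup F := by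
      rw [← T.hC.fine.borel_inf_monomial]
      exact ⟨S.mem_B_iff.1 ht.1, S.mem_N_iff.1 ht.2⟩
    exact Subgroup.mem_sup_right
      ((Subgroup.mem_normalizer_iff.1 (T.hC.fine.monomial_le_normalizer_diagonal hk') _).1 htH)
  subset := by rintro _ ⟨j, rfl⟩; exact S.mem_N_iff.2 (S.nu_mon j)
  sq_mem := by
    rintro _ ⟨j, rfl⟩
    rw [S.mem_B_iff]
    refine Subgroup.mem_sup_right (T.hC.fine.mem_diagonal_of_moves_one (mul_mem (S.nu_mon j) (S.nu_mon j)) ?_)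
    have h := T.hC.fine.moves_mul (S.nu_moves j) (S.nu_moves j)
    rwa [S.wJ_sq] at h
  inj := by
    rintro _ ⟨j, rfl⟩ _ ⟨j', rfl⟩ h
    have hB := S.mem_B_iff.1 h
    have hH : (S.nu j)⁻¹ * S.nu j' ∈ D.diagonalSubgroup F := by
      rw [← T.hC.fine.borel_inf_monomial]
      exact ⟨hB, Subgroup.mul_mem _ (Subgroup.inv_mem _ (S.nu_mon j)) (S.nu_mon j')⟩
    rw [S.wJ_injective (inv_mul_eq_one.1 (T.hC.fine.moves_unique (T.hC.fine.moves_diagonal hH)
      (T.hC.fine.moves_mul (T.hC.fine.moves_inv (S.nu_moves j)) (S.nu_moves j'))).symm)]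
  closure_sup := by
    refine le_antisymm (sup_le ((Subgroup.closure_le _).2 ?_) inf_le_right) fun g hg => ?_
    · rintro _ ⟨j, rfl⟩; exact S.mem_N_iff.2 (S.nu_mon j)
    obtain ⟨L, hL⟩ := T.hC.fine.exists_moves (S.mem_N_iff.1 hg)
    have hw := T.moves_weylFix (S.le_fix g.2) (S.mem_N_iff.1 hg) hL
    revert g hg hL
    refine S.weylFix_induction (P := fun w => ∀ g : ↥S.G1,
      g ∈ (D.monomialSubgroup F ⊓ S.G1).subgroupOf S.G1 → Moves T.hC.fine (g : GL D.Idx F) w →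
      g ∈ Subgroup.closure (Set.range S.nuG) ⊔
        (D.borelSubgroup F ⊓ S.G1).subgroupOf S.G1 ⊓ (D.monomialSubgroup F ⊓ S.G1).subgroupOf S.G1)
      ?_ ?_ hw
    · intro g hg hm
      exact Subgroup.mem_sup_right ⟨S.mem_B_iff.2 (Subgroup.mem_sup_right
        (T.hC.fine.mem_diagonal_of_moves_one (S.mem_N_iff.1 hg) hm)), hg⟩
    · intro j w _ _ ih g hg hm
      rw [show g = g * (S.nuG j)⁻¹ * S.nuG j by group]
      refine mul_mem (ih _ (mul_mem hg (inv_mem (S.mem_N_iff.2 (S.nu_mon j)))) ?_)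
        (Subgroup.mem_sup_left (Subgroup.subset_closure ⟨j, rfl⟩))
      have h := T.hC.fine.moves_mul hm (T.hC.fine.moves_inv (S.nu_moves j))
      rw [mul_inv_cancel_right] at h
      exact h
  mul_mem_union := by
    rintro _ ⟨j, rfl⟩ g hg b hb
    have hK := T.hC.fine
    obtain ⟨v, hv, h, hh, ev⟩ := S.borel_split (S.mem_B_iff.1 hb) b.2
    obtain ⟨p, hp, m, hm, epm⟩ := T.fix_split (S.wJ_fix j) hv.2 hv.1
    have hgN := S.mem_N_iff.1 hg
    obtain ⟨L, hL⟩ := hK.exists_moves hgN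
    have hhM : h ∈ D.monomialSubgroup F := Subgroup.mem_sup_left hh.2
    have hmv : Moves hK (h * (g : GL D.Idx F)) (wPerm hK L) := by
      simpa using hK.moves_mul (hK.moves_diagonal hh.2) hL
    obtain ⟨v', hv', g', hg', u', hu', e, hcase⟩ := S.step S.rankOne_G1 (s := S.nu j)
      ⟨S.nu_mem j, S.nu_mon j⟩ (S.nu_moves j) (g := h * (g : GL D.Idx F))
      ⟨mul_mem hh.1 g.2, mul_mem hhM hgN⟩ hmv hm
    set q := S.nu j * p * (S.nu j)⁻¹
    have hq : q ∈ T.fix ⊓ D.posUnipotent F :=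
      ⟨T.fix_conj' (S.nu_fix j) hp.1, hK.conj_keepSet_mem_pos (S.nu_moves j) hp.2⟩
    have etot : S.nu j * (b : GL D.Idx F) * g = q * v' * g' * u' := by
      rw [ev, epm, show S.nu j * (p * m * h) * (g : GL D.Idx F) = q * (S.nu j * m * (h * g)) by
        simp only [q]; group, e]
      group
    have hu'B : (⟨u', S.fix_pos_le hu'⟩ : ↥S.G1) ∈ (D.borelSubgroup F ⊓ S.G1).subgroupOf S.G1 :=
      S.mem_B_iff.2 (Subgroup.mem_sup_left hu'.2)
    rcases hcase with rfl | hmoves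
    · left
      have hhj : S.nu j * h * (S.nu j)⁻¹ ∈ D.diagonalSubgroup F :=
        (Subgroup.mem_normalizer_iff.1 (hK.monomial_le_normalizer_diagonal (S.nu_mon j)) h).1 hh.2
      refine DoubleCoset.mem_doubleCoset.2
        ⟨⟨q * v' * (S.nu j * h * (S.nu j)⁻¹), mul_mem (mul_mem (S.fix_pos_le hq) (S.fix_pos_le hv'))
          (mul_mem (mul_mem (S.nu_mem j) hh.1) (inv_mem (S.nu_mem j)))⟩, ?_, _, hu'B, Subtype.ext ?_⟩
      · exact S.mem_B_iff.2 (mul_mem (mul_mem (Subgroup.mem_sup_left hq.2) (Subgroup.mem_sup_left hv'.2))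
          (Subgroup.mem_sup_right hhj))
      · show S.nu j * (b : GL D.Idx F) * g = q * v' * (S.nu j * h * (S.nu j)⁻¹) * (S.nu j * g) * u'
        rw [etot]
        group
    · right
      have hk : g' * (g : GL D.Idx F)⁻¹ ∈ D.diagonalSubgroup F := by
        refine hK.mem_diagonal_of_moves_one (mul_mem hg'.2 (inv_mem hgN)) ?_
        have := hK.moves_mul hmoves (hK.moves_inv hL)
        rwa [mul_inv_cancel] at this
      refine DoubleCoset.mem_doubleCoset.2 ⟨⟨q * v' * (g' * (g : GL D.Idx F)⁻¹),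
        mul_mem (mul_mem (S.fix_pos_le hq) (S.fix_pos_le hv')) (mul_mem hg'.1 (inv_mem g.2))⟩,
        ?_, _, hu'B, Subtype.ext ?_⟩
      · exact S.mem_B_iff.2 (mul_mem (mul_mem (Subgroup.mem_sup_left hq.2) (Subgroup.mem_sup_left hv'.2))
          (Subgroup.mem_sup_right hk))
      · show S.nu j * (b : GL D.Idx F) * g = q * v' * (g' * (g : GL D.Idx F)⁻¹) * g * u'
        rw [etot]
        group
  conj_ne := by
    rintro _ ⟨j, rfl⟩ heq
    have hK := T.hC.fine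
    obtain ⟨x, hxG, hne, hxn⟩ := S.negX j
    have hmp := S.conj_neg_pos j (S.nu_moves j) hxn
    have hmB : (S.nuG j)⁻¹ * ⟨x, hxG⟩ * S.nuG j ∈ (D.borelSubgroup F ⊓ S.G1).subgroupOf S.G1 := by
      refine S.mem_B_iff.2 (Subgroup.mem_sup_left ?_)
      show (S.nu j)⁻¹ * x * S.nu j ∈ D.posUnipotent F
      rw [hK.posUnipotent_eq]
      exact hK.genU_mono (fun r hr => hr.1) hmp
    have hb := heq ▸ (Set.mem_image_of_mem (fun b : ↥S.G1 => S.nuG j * b * S.nuG j) hmB)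
    have hb' : S.nu j * ((S.nu j)⁻¹ * x * S.nu j) * S.nu j ∈ D.borelSubgroup F := S.mem_B_iff.1 hb
    have hsq : S.nu j * S.nu j ∈ D.borelSubgroup F := by
      refine Subgroup.mem_sup_right (hK.mem_diagonal_of_moves_one (mul_mem (S.nu_mon j) (S.nu_mon j)) ?_)
      have h := hK.moves_mul (S.nu_moves j) (S.nu_moves j)
      rwa [S.wJ_sq] at h
    refine hne (Subgroup.mem_bot.1 ?_)
    rw [← hK.borel_inf_neg]
    refine ⟨?_, S.negSub_le_neg j hxn⟩
    rw [SetLike.mem_coe,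
      show x = S.nu j * ((S.nu j)⁻¹ * x * S.nu j) * S.nu j * (S.nu j * S.nu j)⁻¹ by group]
    exact Subgroup.mul_mem _ hb' (Subgroup.inv_mem _ hsq)

/-! ### The core of the Borel subgroup -/

theorem tU_conj_ordProd (hK : Fine K D) (c : ℕ → Fˣ) (a : ℕ) (t : ℕ → F) :
    tU K D c * ordProd hK a t * (tU K D c)⁻¹ =
      ordProd hK a (fun r => (torusChar K D c r : F) * t r) := by
  unfold ordProd wordU
  rw [← MulAut.conj_apply, map_list_prod, List.map_map, List.map_map, List.map_map]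
  congr 1
  refine List.map_congr_left fun r hr => ?_
  simp only [Function.comp, MulAut.conj_apply]
  exact hK.tU_conj_xU c (by simp only [List.mem_range'_1] at hr; omega) (t r)

theorem normalCore_eq_bot
    (hcoord : ∀ j, ∀ i : Fin D.rank, i.val ∈ S.orb j →
      ∃ t : ℕ → F, t (K.p i.val) ≠ 0 ∧ ordProd T.hC.fine K.npos t ∈ T.fix) :
    ((D.borelSubgroup F ⊓ S.G1).subgroupOf S.G1).normalCore = ⊥ := by
  have hK := T.hC.fine
  set B := (D.borelSubgroup F ⊓ S.G1).subgroupOf S.G1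
  obtain ⟨w0, hw0, e0⟩ := S.exists_longest_fix
  obtain ⟨g0, hg0, hg0m⟩ := S.exists_moves_G1 hw0
  have hcH : ∀ c ∈ B.normalCore, (c : GL D.Idx F) ∈ D.diagonalSubgroup F := by
    intro c hc
    obtain ⟨v, hv, d, hd, e⟩ := hK.mem_borel_iff.1 (S.mem_B_iff.1 (Subgroup.normalCore_le B hc))
    have hconj : g0 * (c : GL D.Idx F) * g0⁻¹ ∈ D.borelSubgroup F :=
      S.mem_B_iff.1 (Subgroup.normalCore_le B
        ((Subgroup.normalCore_normal B).conj_mem c hc ⟨g0, hg0.1⟩))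
    have hd' : g0 * d * g0⁻¹ ∈ D.borelSubgroup F := Subgroup.mem_sup_right
      ((Subgroup.mem_normalizer_iff.1 (hK.monomial_le_normalizer_diagonal hg0.2) d).1 hd)
    have h1 : g0 * v * g0⁻¹ ∈ D.borelSubgroup F ⊓ D.negUnipotent F := by
      refine ⟨?_, hK.conj_invSet_mem_neg hg0m ?_⟩
      · have h := Subgroup.mul_mem _ hconj (Subgroup.inv_mem _ hd')
        rw [e] at h
        rwa [show g0 * (v * d) * g0⁻¹ * (g0 * d * g0⁻¹)⁻¹ = g0 * v * g0⁻¹ by group] at h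
      · rw [e0, ← hK.posUnipotent_eq]
        exact hv
    rw [hK.borel_inf_neg, Subgroup.mem_bot, mul_inv_eq_one, mul_eq_left] at h1
    rw [e, h1, one_mul]
    exact hd
  rw [Subgroup.eq_bot_iff_forall]
  intro c hc
  obtain ⟨χ, hχ⟩ := hK.mem_diagonal_iff.1 (hcH c hc)
  have hone : ∀ i < D.rank, torusChar K D χ (K.p i) = 1 := by
    intro i hi
    obtain ⟨j, hj⟩ := S.orb_cover ⟨i, hi⟩
    obtain ⟨t, ht, htf⟩ := hcoord j ⟨i, hi⟩ hj
    have htU : ordProd hK K.npos t ∈ D.posUnipotent F := hK.ordProd_mem_pos t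
    let x : ↥S.G1 := ⟨_, S.fix_pos_le ⟨htf, htU⟩⟩
    have hmem : c * x * c⁻¹ * x⁻¹ ∈ B.normalCore := by
      have h1 := (Subgroup.normalCore_normal B).conj_mem _ (inv_mem hc) x
      have h2 := mul_mem hc h1
      convert h2 using 1
      group
    have hcom : (c : GL D.Idx F) * ordProd hK K.npos t * (c : GL D.Idx F)⁻¹ * (ordProd hK K.npos t)⁻¹ ∈
        D.posUnipotent F ⊓ D.diagonalSubgroup F :=
      ⟨Subgroup.mul_mem _ ((Subgroup.mem_normalizer_iff.1 (hK.diagonal_le_normalizer_pos (hcH c hc)) _).1 htU)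
        (Subgroup.inv_mem _ htU), hcH _ hmem⟩
    rw [hK.pos_inf_diagonal, Subgroup.mem_bot, mul_inv_eq_one, ← hχ, tU_conj_ordProd] at hcom
    have hh := hK.ordProd_inj _ K.npos rfl le_rfl _ _ hcom (K.p i) (hK.toGood.npos_le_p hi)
      (hK.toGood.p_lt hi)
    exact Units.ext (mul_right_cancel₀ ht (hh.trans (one_mul _).symm))
  refine Subtype.ext ?_
  rw [← hχ]
  refine Units.ext ?_
  rw [coe_tU, OneMemClass.coe_one, Units.val_one, ← dmat_one (D := D)]
  exact dmat_congr fun r hr => by rw [hK.torusChar_eq_one hone r hr, Units.val_one]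

/-! ### Perfectness and simplicity -/

theorem perfect_of (h : ∀ j, ∀ g ∈ T.fix ⊓ genU T.hC.fine F (subPos K D (S.orb j)), g ∈ ⁅S.G1, S.G1⁆) :
    commutator ↥S.G1 = ⊤ := by
  have hnorm : ∀ a ∈ S.G1, ∀ x ∈ ⁅S.G1, S.G1⁆, a * x * a⁻¹ ∈ ⁅S.G1, S.G1⁆ := by
    intro a ha x hx
    have hxG : x ∈ S.G1 := (Subgroup.commutator_le (H₁ := S.G1) (H₂ := S.G1) (H₃ := S.G1)).2
      (fun a ha b hb => mul_mem (mul_mem (mul_mem ha hb) (inv_mem ha)) (inv_mem hb)) hx
    have h2 := mul_mem (Subgroup.commutator_mem_commutator ha hxG) hx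
    rwa [commutatorElement_def, inv_mul_cancel_right] at h2
  refine Subgroup.map_injective S.G1.subtype_injective ?_
  rw [Subgroup.map_subtype_commutator, ← MonoidHom.range_eq_map, Subgroup.range_subtype]
  refine le_antisymm ((Subgroup.commutator_le).2 fun a ha b hb => ?_) (le_trans S.gen ?_)
  · exact mul_mem (mul_mem (mul_mem ha hb) (inv_mem ha)) (inv_mem hb)
  refine (Subgroup.closure_le _).2 ?_
  rintro g ⟨hg, j, hp | hn⟩
  · exact h j g ⟨hg, hp⟩
  · have h2 := hnorm _ (S.nu_mem j) _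
      (h j _ ⟨T.fix_conj (S.nu_fix j) hg, S.conj_neg_pos j (S.nu_moves j) hn⟩)
    rwa [show ∀ a : GL D.Idx F, a * (a⁻¹ * g * a) * a⁻¹ = g from fun a => by group] at h2

theorem irreducible
    (h : ∀ A : Fin n → Bool, (∃ j, A j = true) → (∃ j, A j = false) →
      ∃ j j', A j = true ∧ A j' = false ∧ S.wJ j * S.wJ j' ≠ S.wJ j' * S.wJ j) :
    S.bnPair.Irreducible := by
  classical
  intro J hJ hne hne'
  obtain ⟨s0, hs0⟩ := hne
  obtain ⟨s1, hs1⟩ := hne'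
  obtain ⟨j0, rfl⟩ := hJ hs0
  obtain ⟨j1, rfl⟩ := hs1.1
  obtain ⟨j, j', hj, hj', hc⟩ := h (fun j => decide (S.nuG j ∈ J)) ⟨j0, by simp [hs0]⟩ ⟨j1, by simp [hs1.2]⟩
  simp only [decide_eq_true_eq, decide_eq_false_iff_not] at hj hj'
  refine ⟨_, hj, S.nuG j', ⟨⟨j', rfl⟩, hj'⟩, fun hB => hc ?_⟩
  have hK := T.hC.fine
  have hN : S.nu j * S.nu j' * (S.nu j)⁻¹ * (S.nu j')⁻¹ ∈ D.monomialSubgroup F :=
    mul_mem (mul_mem (mul_mem (S.nu_mon j) (S.nu_mon j')) (inv_mem (S.nu_mon j))) (inv_mem (S.nu_mon j'))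
  have hH : S.nu j * S.nu j' * (S.nu j)⁻¹ * (S.nu j')⁻¹ ∈ D.diagonalSubgroup F := by
    rw [← hK.borel_inf_monomial]
    exact ⟨S.mem_B_iff.1 hB, hN⟩
  have e := hK.moves_unique (hK.moves_diagonal hH)
    (hK.moves_mul (hK.moves_mul (hK.moves_mul (S.nu_moves j) (S.nu_moves j'))
      (hK.moves_inv (S.nu_moves j))) (hK.moves_inv (S.nu_moves j')))
  have e' := e.symm
  rw [mul_inv_eq_one, mul_inv_eq_iff_eq_mul] at e'
  exact e'

theorem isSimple_of (hn : 0 < n)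
    (hirr : ∀ A : Fin n → Bool, (∃ j, A j = true) → (∃ j, A j = false) →
      ∃ j j', A j = true ∧ A j' = false ∧ S.wJ j * S.wJ j' ≠ S.wJ j' * S.wJ j)
    (hcore : ((D.borelSubgroup F ⊓ S.G1).subgroupOf S.G1).normalCore = ⊥)
    (hperf : commutator ↥S.G1 = ⊤) :
    IsSimpleGroup ↥S.G1 ∧ ¬ IsMulCommutative ↥S.G1 := by
  haveI : Nontrivial ↥S.G1 := by
    obtain ⟨x, hx, hne, -⟩ := S.negX ⟨0, hn⟩
    exact ⟨⟨x, hx⟩, 1, fun e => hne (congrArg Subtype.val e)⟩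
  refine ⟨CfsgLib.Base.BN.simple_of_irreducible S.bnPair (S.irreducible hirr) ?_ hperf hcore, fun h => ?_⟩
  · haveI := T.hC.fine.borel_isSolvable (F := F)
    let f : ↥((D.borelSubgroup F ⊓ S.G1).subgroupOf S.G1) →* ↥(D.borelSubgroup F) :=
      { toFun := fun b => ⟨((b : ↥S.G1) : GL D.Idx F), S.mem_B_iff.1 b.2⟩
        map_one' := rfl
        map_mul' := fun _ _ => rfl }
    exact Group.isSolvable_of_isSolvable_injective (f := f) fun a b h => Subtype.ext (Subtype.ext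
      (congrArg (fun z : ↥(D.borelSubgroup F) => (z : GL D.Idx F)) h))
  · have hbot : commutator ↥S.G1 = ⊥ := by
      rw [commutator_def, Subgroup.commutator_eq_bot_iff_le_centralizer]
      intro a _ b _
      exact h.is_comm.comm b a
    exact bot_ne_top (hbot.symm.trans hperf)

/-! ### The Weyl group -/

/-- the permutation attached to a monomial element of the group -/
noncomputable def monMap : ↥(D.monomialSubgroup F ⊓ S.G1) →* Equiv.Perm (Fin D.nroots) :=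
  (T.hC.fine.monPerm F).comp (Subgroup.inclusion inf_le_left)

theorem monMap_moves (g : ↥(D.monomialSubgroup F ⊓ S.G1)) :
    Moves T.hC.fine (g : GL D.Idx F) (S.monMap g) :=
  T.hC.fine.monPerm_moves F (Subgroup.inclusion inf_le_left g)

theorem exists_weylQuot {Γ : Type*} [Group Γ] (ψ : Γ →* Equiv.Perm (Fin D.nroots))
    (hinj : Function.Injective ψ) (hr : ψ.range = T.weylFix) :
    ∃ φ : ↥(D.monomialSubgroup F ⊓ S.G1) →* Γ, Function.Surjective φ ∧
      φ.ker = (D.diagonalSubgroup F ⊓ S.G1).subgroupOf (D.monomialSubgroup F ⊓ S.G1) := by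
  have hK := T.hC.fine
  have hmem : ∀ g, S.monMap g ∈ ψ.range := fun g =>
    hr ▸ T.moves_weylFix (S.le_fix g.2.2) g.2.1 (S.monMap_moves g)
  let φ : ↥(D.monomialSubgroup F ⊓ S.G1) →* Γ :=
    (MonoidHom.ofInjective hinj).symm.toMonoidHom.comp (S.monMap.codRestrict ψ.range hmem)
  have hφ : ∀ g, ψ (φ g) = S.monMap g := fun g => MonoidHom.apply_ofInjective_symm hinj ⟨_, hmem g⟩
  refine ⟨φ, fun x => ?_, ?_⟩
  · obtain ⟨g, hg, hgm⟩ := S.exists_moves_G1 (w := ψ x) (hr ▸ ⟨x, rfl⟩)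
    refine ⟨⟨g, ⟨hg.2, hg.1⟩⟩, hinj ?_⟩
    rw [hφ]
    exact hK.moves_unique (S.monMap_moves _) hgm
  · ext g
    rw [MonoidHom.mem_ker, ← hinj.eq_iff, hφ, map_one, Subgroup.mem_subgroupOf]
    constructor
    · intro h
      exact ⟨hK.mem_diagonal_of_moves_one g.2.1 (h ▸ S.monMap_moves g), g.2.2⟩
    · intro h
      exact hK.moves_unique (S.monMap_moves g) (hK.moves_diagonal h.1)

include S in
/-- the fixed Weyl group is the Coxeter group of the orders of the products of the longest elements -/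
theorem exists_coxeter (M : CoxeterMatrix (Fin n))
    (hM : ∀ i j, 0 < M i j ∧ orderOf (S.wJ i * S.wJ j) = M i j) :
    ∃ ψ : M.Group →* Equiv.Perm (Fin D.nroots), Function.Injective ψ ∧ ψ.range = T.weylFix := by
  classical
  set P := S.bnPair
  let lab : Fin n → P.S := fun i => ⟨S.nuG i, i, rfl⟩
  let cs := M.toCoxeterSystem
  have hlift : CoxeterMatrix.IsLiftable M S.wJ := fun i j => by
    rw [← (hM i j).2]; exact pow_orderOf_eq_one _
  let ψ := cs.lift ⟨S.wJ, hlift⟩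
  have hψ : ∀ i, ψ (M.simple i) = S.wJ i := fun i => cs.lift_apply_simple hlift i
  let perm : P.N →* Equiv.Perm (Fin D.nroots) := S.monMap.comp
    { toFun := fun g => ⟨((g : ↥S.G1) : GL D.Idx F), S.mem_N_iff.1 g.2, (g : ↥S.G1).2⟩
      map_one' := rfl
      map_mul' := fun _ _ => rfl }
  have hperm : ∀ g : P.N, Moves T.hC.fine ((g : ↥S.G1) : GL D.Idx F) (perm g) := fun g =>
    S.monMap_moves ⟨((g : ↥S.G1) : GL D.Idx F), S.mem_N_iff.1 g.2, (g : ↥S.G1).2⟩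
  have hker : ∀ g : P.N, perm g = 1 ↔ BN.π P g = 1 := by
    intro g
    rw [BN.π_eq_one]
    constructor
    · intro h
      exact S.mem_B_iff.2 (Subgroup.mem_sup_right
        (T.hC.fine.mem_diagonal_of_moves_one (S.mem_N_iff.1 g.2) (h ▸ hperm g)))
    · intro h
      refine T.hC.fine.moves_unique (hperm g) (T.hC.fine.moves_diagonal ?_)
      rw [← T.hC.fine.borel_inf_monomial]
      exact ⟨S.mem_B_iff.1 h, S.mem_N_iff.1 g.2⟩
  have hlab : ∀ i, perm ⟨(lab i : ↥S.G1), P.subset (lab i).2⟩ = S.wJ i := fun i =>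
    T.hC.fine.moves_unique (hperm _) (S.nu_moves i)
  obtain ⟨M', cs', hcs'⟩ := BN.exists_coxeterSystem P
  have hlift2 : CoxeterMatrix.IsLiftable M fun i => BN.gen P (lab i) := by
    intro i j
    have e : BN.π P ((⟨(lab i : ↥S.G1), P.subset (lab i).2⟩ *
        ⟨(lab j : ↥S.G1), P.subset (lab j).2⟩ : P.N) ^ M i j) = 1 := by
      rw [← hker, map_pow, map_mul, hlab, hlab, hlift i j]
    exact e
  let θ2 := cs.lift ⟨fun i => BN.gen P (lab i), hlift2⟩
  have hθ2 : ∀ i, θ2 (M.simple i) = BN.gen P (lab i) := fun i => cs.lift_apply_simple hlift2 i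
  have hsurj : ∀ s : P.S, ∃ i, lab i = s := by
    rintro ⟨_, i, rfl⟩
    exact ⟨i, rfl⟩
  have hlift3 : CoxeterMatrix.IsLiftable M' fun s => M.simple (hsurj s).choose := by
    intro s t
    set i := (hsurj s).choose
    set j := (hsurj t).choose
    have hs : lab i = s := (hsurj s).choose_spec
    have ht : lab j = t := (hsurj t).choose_spec
    have h1 : (BN.gen P (lab i) * BN.gen P (lab j)) ^ M' s t = 1 := by
      rw [hs, ht, ← hcs' s, ← hcs' t]; exact cs'.simple_mul_simple_pow s t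
    have h2 : (S.wJ i * S.wJ j) ^ M' s t = 1 := by
      rw [← hlab i, ← hlab j, ← map_mul, ← map_pow, hker]
      exact h1
    obtain ⟨k, hk⟩ : M i j ∣ M' s t := by
      rw [← (hM i j).2]
      exact orderOf_dvd_of_pow_eq_one h2
    show (M.simple i * M.simple j) ^ M' s t = 1
    rw [hk, pow_mul, show (M.simple i * M.simple j) ^ M i j = 1 from cs.simple_mul_simple_pow i j, one_pow]
  let θ := cs'.lift ⟨_, hlift3⟩
  have hinj_lab : ∀ i j, lab i = lab j → i = j := fun i j h => by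
    have h' := congrArg (fun s : P.S => ((s : ↥S.G1) : GL D.Idx F)) h
    refine S.wJ_injective (T.hC.fine.moves_unique (S.nu_moves i) ?_)
    show Moves T.hC.fine (S.nu i) (S.wJ j)
    rw [show S.nu i = S.nu j from h']
    exact S.nu_moves j
  have hθ : θ.comp θ2 = MonoidHom.id M.Group := by
    refine cs.ext_simple fun i => ?_
    show θ (θ2 (M.simple i)) = M.simple i
    rw [hθ2, ← hcs' (lab i)]
    show cs'.lift ⟨_, hlift3⟩ (cs'.simple (lab i)) = _
    rw [cs'.lift_apply_simple hlift3, hinj_lab _ i (hsurj (lab i)).choose_spec]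
  have hrel : ∀ x : M.Group, ∃ g : P.N, BN.π P g = θ2 x ∧ perm g = ψ x := by
    intro x
    induction x using cs.simple_induction_left with
    | one => exact ⟨1, by rw [map_one]; rfl, by rw [map_one, map_one]⟩
    | mul_simple_left w i ih =>
      obtain ⟨g, h1, h2⟩ := ih
      refine ⟨⟨(lab i : ↥S.G1), P.subset (lab i).2⟩ * g, ?_, ?_⟩
      · rw [map_mul, show cs.simple i = M.simple i from rfl, hθ2, ← h1]; rfl
      · rw [map_mul, map_mul, show cs.simple i = M.simple i from rfl, hψ, hlab, h2]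
  refine ⟨ψ, ?_, ?_⟩
  · rw [injective_iff_map_eq_one]
    intro x hx
    obtain ⟨g, h1, h2⟩ := hrel x
    have hx1 : θ2 x = 1 := by rw [← h1, ← hker, h2, hx]
    have := DFunLike.congr_fun hθ x
    simp only [MonoidHom.comp_apply, MonoidHom.id_apply, hx1, map_one] at this
    exact this.symm
  · rw [S.weylFix_eq, MonoidHom.range_eq_map, ← cs.subgroup_closure_range_simple, MonoidHom.map_closure]
    congr 1
    ext σ
    constructor
    · rintro ⟨_, ⟨i, rfl⟩, rfl⟩; exact ⟨i, (hψ i).symm⟩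
    · rintro ⟨i, rfl⟩; exact ⟨_, ⟨i, rfl⟩, hψ i⟩

end TwistGrp

end CfsgLib.Chev
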