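import Cfsg.Agent.Chev.TwistBN
import Cfsg.Agent.Chev.TwistTab
import Cfsg.Agent.Chev.GraphAut
import Cfsg.Agent.Chev.FieldMap

/-!
Twists from a graph table and a field endomorphism; products of root elements of commuting roots.
-/

set_option autoImplicit false

namespace CfsgLib.Chev

open Cfsg.Lie Fine

variable {K : Data} {D : ChevalleyDatum} {F : Type*} [Field F]

/-- the data of a twist: table, symmetry and exponents -/
structure TwistTab (K : Data) (D : ChevalleyDatum) (F : Type*) [Field F] (Tb : RootTab) (m : ℕ)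
    (π : Equiv.Perm (Fin D.rank)) : Prop where
  data : GraphData K D Tb m
  expOK : ExpOK F m
  sym : ∃ pl : List ℕ, K.symTabOK Tb pl = true ∧ ∀ i : Fin D.rank, pl.getD i.val 0 = (π i).val

namespace TwistTab

variable {Tb : RootTab} {m : ℕ} {π : Equiv.Perm (Fin D.rank)}

theorem facts (h : TwistTab K D F Tb m π) :
    (∀ r < D.nroots, (K.npos ≤ Tb.im r ↔ K.npos ≤ r)) ∧
    ∀ i : Fin D.rank, Tb.im (K.p i.val) = K.p (π i).val ∧ Tb.sg (K.p i.val) = 1 ∧
      ∀ r < D.nroots, Tb.im (K.w i.val r) = K.w (π i).val (Tb.im r) := by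
  obtain ⟨pl, hok, hpl⟩ := h.sym
  have hG := h.data.lift.comb.fine.toGood
  simp only [Data.symTabOK, Bool.and_eq_true, List.all_eq_true, List.mem_range, Bool.or_eq_true,
    Nat.ble_eq, Nat.blt_eq, intEq_iff, hG.n_eq, hG.l_eq] at hok
  refine ⟨fun r hr => ?_, fun i => ?_⟩
  · rcases hok.1 r hr with ⟨a, b⟩ | ⟨a, b⟩ <;> omega
  · obtain ⟨⟨h1, h2⟩, h3⟩ := hok.2 i.val i.isLt
    rw [hpl i] at h1 h3
    exact ⟨Nat.eq_of_beq_eq_true h1, h2, fun r hr => Nat.eq_of_beq_eq_true (h3 r hr)⟩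

/-- the exponent map as a ring endomorphism -/
noncomputable def powHom (h : TwistTab K D F Tb m π) (r : Fin D.nroots) : F →+* F where
  toFun x := x ^ Tb.ex r.val
  map_one' := one_pow _
  map_mul' a b := mul_pow a b _
  map_zero' := zero_pow (h.data.ex_pos r.isLt)
  map_add' := h.data.ex_add h.expOK r.isLt

/-- the graph endomorphism followed by a field endomorphism -/
noncomputable def sigma (h : TwistTab K D F Tb m π) (ψ : F →+* F) : ↥(D.group F) →* ↥(D.group F) :=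
  ((fieldMap D ψ).comp (h.data.exists_hom h.expOK).choose).codRestrict (D.group F) fun g =>
    h.data.lift.comb.fine.fieldMap_mem_group ψ
      ((h.data.exists_hom h.expOK).choose_spec.1.le (MonoidHom.mem_range.2 ⟨g, rfl⟩))

theorem sigma_x (h : TwistTab K D F Tb m π) (ψ : F →+* F) {r : ℕ} (hr : r < D.nroots) (t : F) :
    (h.sigma ψ ⟨xU h.data.lift.comb.fine r t, h.data.lift.comb.fine.xU_mem_group r t⟩ : GL D.Idx F) =
      xU h.data.lift.comb.fine (Tb.im r) (ψ ((Tb.sg r : F) * t ^ Tb.ex r)) := by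
  show fieldMap D ψ ((h.data.exists_hom h.expOK).choose _) = _
  rw [(h.data.exists_hom h.expOK).choose_spec.2 r t hr, h.data.lift.comb.fine.fieldMap_xU]

/-- the twist -/
noncomputable def toTwist (h : TwistTab K D F Tb m π) (ψ : F →+* F) : Twist K D F where
  hC := h.data.lift.comb
  π := π
  im := Tb.im
  σ := h.sigma ψ
  φ i := ψ.comp (h.powHom (pFin h.data.lift.comb.fine i))
  im_lt r hr := (h.data.root hr).1
  im_inj r hr s hs e := by
    have hb : Function.Bijective (fun r : Fin D.nroots => (⟨Tb.im r.val, (h.data.root r.isLt).1⟩ : Fin D.nroots)) := by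
      refine Finite.surjective_iff_bijective.1 fun y => ?_
      obtain ⟨x, hx, e'⟩ := (h.data.root y.isLt).2.2.2.2.2.2
      exact ⟨⟨x, hx⟩, Fin.ext e'⟩
    exact congrArg Fin.val (hb.1 (a₁ := ⟨r, hr⟩) (a₂ := ⟨s, hs⟩) (Fin.ext e))
  im_pos := h.facts.1
  im_neg r hr := (h.data.root hr).2.2.2.1
  im_p i := (h.facts.2 i).1
  im_w i := (h.facts.2 i).2.2
  σ_root r t hr := ⟨_, h.sigma_x ψ hr t⟩
  σ_p i t := by
    rw [h.sigma_x ψ (h.data.lift.comb.fine.toGood.p_lt i.isLt), (h.facts.2 i).1, (h.facts.2 i).2.1,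
      Int.cast_one, one_mul]
    rfl
  σ_n i t := by
    have hp := h.data.lift.comb.fine.toGood.p_lt i.isLt
    obtain ⟨-, -, -, h4, h5, h6, -⟩ := h.data.root hp
    rw [h.sigma_x ψ (h.data.lift.comb.fine.toGood.Kneg_lt hp), h4, h5, h6, (h.facts.2 i).1,
      (h.facts.2 i).2.1, Int.cast_one, one_mul]
    rfl

theorem toTwist_app (h : TwistTab K D F Tb m π) (ψ : F →+* F) {r : ℕ} (hr : r < D.nroots) (t : F) :
    (h.toTwist ψ).app (xU h.data.lift.comb.fine r t) =
      xU h.data.lift.comb.fine (Tb.im r) (ψ ((Tb.sg r : F) * t ^ Tb.ex r)) := by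
  rw [(h.toTwist ψ).app_of_mem (h.data.lift.comb.fine.xU_mem_group r t)]
  exact h.sigma_x ψ hr t

end TwistTab

/-! ### Commuting root elements -/

namespace Fine

theorem xU_commute (hK : Fine K D) {r s : ℕ} (hr : r < D.nroots) (hs : s < D.nroots) (hsr : s ≠ r)
    (hneg : s ≠ K.neg r) (h : K.comm r s = []) (t u : F) : Commute (xU hK r t) (xU hK s u) := by
  have e := hK.conj_formula hr hs hsr hneg t u
  simp only [ChevalleyDatum.commWord, hK.toGood.commTerms_eq hr hs, h, List.map_nil, wordU, List.prod_nil,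
    mul_one] at e
  rw [commute_iff_eq, mul_assoc, inv_mul_eq_iff_eq_mul] at *
  exact e.symm

theorem xU_param_inj (hK : Fine K D) {r : ℕ} (hr : r < D.nroots) {t u : F}
    (h : xU hK r t = xU hK r u) : t = u := by
  have h2 : xU hK r (t + -u) = 1 := by rw [← xU_mul, h, ← xU_inv, mul_inv_cancel]
  exact add_neg_eq_zero.1 ((hK.xU_eq_one_iff hr _).1 h2)

theorem xU_pair_inj (hK : Fine K D) {r s : ℕ} (hr : r < D.nroots) (hs : s < D.nroots) (hrs : r ≠ s)
    {t u t' u' : F} (h : xU hK r t * xU hK s u = xU hK r t' * xU hK s u') : t = t' ∧ u = u' := by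
  have e : xU hK r (-t' + t) = xU hK s (u' + -u) := by
    rw [← xU_mul, ← xU_mul, ← xU_inv, ← xU_inv, eq_mul_inv_iff_mul_eq, mul_assoc, h, inv_mul_cancel_left]
  have ht : -t' + t = 0 := by
    by_contra hne
    exact hrs (hK.root_inj hr hs hne e)
  rw [ht, xU_zero] at e
  have hu := (hK.xU_eq_one_iff hs _).1 e.symm
  exact ⟨(neg_add_eq_zero.1 ht).symm, (add_neg_eq_zero.1 hu).symm⟩

theorem mem_genU_single (hK : Fine K D) {r : ℕ} {g : GL D.Idx F} (hg : g ∈ genU hK F ({r} : Set ℕ)) :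
    ∃ t : F, g = xU hK r t := by
  induction hg using Subgroup.closure_induction with
  | mem x hx => obtain ⟨r', hr', t, rfl⟩ := hx; rw [Set.mem_singleton_iff] at hr'; exact ⟨t, by rw [hr']⟩
  | one => exact ⟨0, (xU_zero hK r).symm⟩
  | mul a b _ _ ha hb =>
    obtain ⟨t, rfl⟩ := ha
    obtain ⟨u, rfl⟩ := hb
    exact ⟨t + u, xU_mul hK r t u⟩
  | inv a _ ha =>
    obtain ⟨t, rfl⟩ := ha
    exact ⟨-t, xU_inv hK r t⟩

theorem mem_genU_pair (hK : Fine K D) {r s : ℕ} (hc : ∀ t u : F, Commute (xU hK r t) (xU hK s u))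
    {g : GL D.Idx F} (hg : g ∈ genU hK F ({r, s} : Set ℕ)) : ∃ t u : F, g = xU hK r t * xU hK s u := by
  induction hg using Subgroup.closure_induction with
  | mem x hx =>
    obtain ⟨r', hr', t, rfl⟩ := hx
    rcases hr' with rfl | hr'
    · exact ⟨t, 0, by rw [xU_zero, mul_one]⟩
    · rw [Set.mem_singleton_iff] at hr'
      exact ⟨0, t, by rw [hr', xU_zero, one_mul]⟩
  | one => exact ⟨0, 0, by rw [xU_zero, xU_zero, one_mul]⟩
  | mul a b _ _ ha hb =>
    obtain ⟨t, u, rfl⟩ := ha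
    obtain ⟨t', u', rfl⟩ := hb
    refine ⟨t + t', u + u', ?_⟩
    rw [← xU_mul, ← xU_mul, mul_assoc, ← mul_assoc (xU hK s u), ← (hc t' u).eq]
    simp only [mul_assoc]
  | inv a _ ha =>
    obtain ⟨t, u, rfl⟩ := ha
    exact ⟨-t, -u, by rw [mul_inv_rev, ← xU_inv, ← xU_inv, ((hc t u).inv_inv).eq]⟩

theorem mem_genU_triple (hK : Fine K D) {r s v : ℕ} (h1 : ∀ t u : F, Commute (xU hK r t) (xU hK s u))
    (h2 : ∀ t u : F, Commute (xU hK r t) (xU hK v u)) (h3 : ∀ t u : F, Commute (xU hK s t) (xU hK v u))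
    {g : GL D.Idx F} (hg : g ∈ genU hK F ({r, s, v} : Set ℕ)) :
    ∃ t u z : F, g = xU hK r t * (xU hK s u * xU hK v z) := by
  induction hg using Subgroup.closure_induction with
  | mem x hx =>
    obtain ⟨r', hr', t, rfl⟩ := hx
    rcases hr' with rfl | rfl | hr'
    · exact ⟨t, 0, 0, by simp [xU_zero]⟩
    · exact ⟨0, t, 0, by simp [xU_zero]⟩
    · rw [Set.mem_singleton_iff] at hr'
      exact ⟨0, 0, t, by simp [xU_zero, hr']⟩
  | one => exact ⟨0, 0, 0, by simp [xU_zero]⟩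
  | mul a b _ _ ha hb =>
    obtain ⟨t, u, z, rfl⟩ := ha
    obtain ⟨t', u', z', rfl⟩ := hb
    refine ⟨t + t', u + u', z + z', ?_⟩
    rw [← xU_mul, ← xU_mul, ← xU_mul,
      show xU hK r t * (xU hK s u * xU hK v z) * (xU hK r t' * (xU hK s u' * xU hK v z')) =
        xU hK r t * ((xU hK s u * xU hK v z) * xU hK r t') * (xU hK s u' * xU hK v z') by group,
      ← (((h1 t' u).mul_right (h2 t' z))).eq,
      show xU hK r t * (xU hK r t' * (xU hK s u * xU hK v z)) * (xU hK s u' * xU hK v z') =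
        xU hK r t * xU hK r t' * (xU hK s u * (xU hK v z * xU hK s u') * xU hK v z') by group,
      ← (h3 u' z).eq]
    group
  | inv a _ ha =>
    obtain ⟨t, u, z, rfl⟩ := ha
    refine ⟨-t, -u, -z, ?_⟩
    rw [← xU_inv, ← xU_inv, ← xU_inv, ((h1 t u).mul_right (h2 t z)).eq, mul_inv_rev]
    congr 1
    rw [(h3 u z).eq, mul_inv_rev]

theorem xU_triple_inj (hK : Fine K D) {r s v : ℕ} (hr : r < D.nroots) (hs : s < D.nroots) (hv : v < D.nroots)
    (hrp : K.npos ≤ r) (hsp : K.npos ≤ s) (hvp : K.npos ≤ v)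
    (hrs : r ≠ s) (hrv : r ≠ v) (hsv : s ≠ v)
    (hS : ClosedPos hK ({s, v} : Set ℕ))
    {t u z t' u' z' : F} (h : xU hK r t * (xU hK s u * xU hK v z) = xU hK r t' * (xU hK s u' * xU hK v z')) :
    t = t' ∧ u = u' ∧ z = z' := by
  have ht : -t' + t = 0 := by
    by_contra hne
    have e : xU hK r (-t' + t) = xU hK s u' * xU hK v z' * (xU hK s u * xU hK v z)⁻¹ := by
      rw [eq_mul_inv_iff_mul_eq, ← xU_mul, ← xU_inv, mul_assoc, h, inv_mul_cancel_left]
    have hmem : ∀ a b : F, xU hK s a * xU hK v b ∈ genU hK F ({s, v} : Set ℕ) := fun a b =>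
      Subgroup.mul_mem _ (hK.mem_genU (show s ∈ ({s, v} : Set ℕ) from Or.inl rfl) a)
        (hK.mem_genU (show v ∈ ({s, v} : Set ℕ) from Or.inr rfl) b)
    have hm : xU hK r (-t' + t) ∈ genU hK F ({s, v} : Set ℕ) := by
      rw [e]; exact Subgroup.mul_mem _ (hmem u' z') (Subgroup.inv_mem _ (hmem u z))
    have h2 := hK.mem_of_xU_mem_genU hS hrp hr hne hm
    rcases Set.mem_insert_iff.1 h2 with h' | h'
    · exact hrs h'
    · exact hrv h'
  have htt : t = t' := (neg_add_eq_zero.1 ht).symm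
  subst htt
  obtain ⟨a, b⟩ := hK.xU_pair_inj hs hv hsv (mul_left_cancel h)
  exact ⟨rfl, a, b⟩

end Fine

end CfsgLib.Chev
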