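import Cfsg.Agent.Chev.TwistBN
import Cfsg.Agent.Chev.TwistCheck
import Cfsg.Agent.Chev.Poincare

/-!
The length sum over the fixed Weyl group, and the order of a twisted group.
-/

set_option autoImplicit false

namespace CfsgLib.Chev

open Cfsg.Lie Fine

variable {K : Data} {D : ChevalleyDatum} {F : Type*} [Field F]

/-- a list of numbers as a word in the fundamental reflections -/
def finWord (D : ChevalleyDatum) (L : List ℕ) : List (Fin D.rank) :=
  L.filterMap fun i => if h : i < D.rank then some ⟨i, h⟩ else none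

theorem finWord_append (L M : List ℕ) : finWord D (L ++ M) = finWord D L ++ finWord D M :=
  List.filterMap_append

theorem finWord_val : ∀ {L : List ℕ}, (∀ i ∈ L, i < D.rank) → (finWord D L).map Fin.val = L := by
  intro L
  induction L with
  | nil => intro _; rfl
  | cons a L ih =>
    intro h
    have e : finWord D (a :: L) = ⟨a, h a (by simp)⟩ :: finWord D L := by simp [finWord, h a (by simp)]
    rw [e, List.map_cons, ih fun i hi => h i (List.mem_cons_of_mem _ hi)]

namespace TwistGrp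

variable {T : Twist K D F} {n : ℕ} (S : TwistGrp T n)

/-- the orbits and words for their longest elements, as lists -/
structure Lists (Os Ws : List (List ℕ)) : Prop where
  len : Os.length = n
  orb : ∀ j : Fin n, S.orb j = {i | i ∈ Os.getD j.val []}
  maxOK : K.twMaxOK Os Ws = true

variable {S} {Os Ws : List (List ℕ)}

theorem Lists.letters (hL : S.Lists Os Ws) (j : Fin n) : ∀ a ∈ Ws.getD j.val [], a ∈ S.orb j := by
  intro a ha
  have h := hL.maxOK
  simp only [Data.twMaxOK, List.all_eq_true, List.mem_range, Bool.and_eq_true, List.any_eq_true] at h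
  obtain ⟨b, hb, e⟩ := (h j.val (hL.len ▸ j.isLt)).1 a ha
  rw [hL.orb, Set.mem_setOf_eq, Nat.eq_of_beq_eq_true e]
  exact hb

theorem Lists.word_lt (hL : S.Lists Os Ws) {d : List ℕ} (hd : ∀ a ∈ d, a < n) :
    ∀ i ∈ Data.twWord Ws d, i < D.rank := by
  intro i hi
  obtain ⟨a, ha, hia⟩ := List.mem_flatMap.1 hi
  exact S.orb_lt ⟨a, hd a ha⟩ i (hL.letters ⟨a, hd a ha⟩ i hia)

theorem Lists.app_eq (hL : S.Lists Os Ws) {d : List ℕ} (hd : ∀ a ∈ d, a < n) (r : Fin D.nroots) :
    (wPerm T.hC.fine (finWord D (Data.twWord Ws d)) r).val = K.appW (Data.twWord Ws d) r.val := by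
  rw [T.hC.fine.appW_eq, finWord_val (hL.word_lt hd)]

theorem Lists.wPerm_eq (hL : S.Lists Os Ws) (j : Fin n) :
    wPerm T.hC.fine (finWord D (Data.twWord Ws [j.val])) = S.wJ j := by
  have hj : ∀ a ∈ [j.val], a < n := by simp
  refine T.hC.maxRep_unique ?_ (S.wJ_mem j) ?_ (S.wJ_max j)
  · refine Subgroup.list_prod_mem _ fun x hx => ?_
    obtain ⟨i, hi, rfl⟩ := List.mem_map.1 hx
    refine T.hC.sPerm_mem_weylSub (hL.letters j i.val ?_)
    have h2 : i.val ∈ (finWord D (Data.twWord Ws [j.val])).map Fin.val := List.mem_map_of_mem hi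
    rw [finWord_val (hL.word_lt hj)] at h2
    simpa [Data.twWord] using h2
  · intro i hi
    have h := hL.maxOK
    simp only [Data.twMaxOK, List.all_eq_true, List.mem_range, Bool.and_eq_true, Nat.blt_eq] at h
    rw [hL.orb] at hi
    have := ((h j.val (hL.len ▸ j.isLt)).2 i.val hi).2
    rw [hL.app_eq hj, show Data.twWord Ws [j.val] = Ws.getD j.val [] by simp [Data.twWord]]
    exact this

variable (S) in
/-- the element spelled by a list of orbits -/
noncomputable def twPerm (d : List ℕ) : Equiv.Perm (Fin D.nroots) :=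
  (d.map fun a => if h : a < n then S.wJ ⟨a, h⟩ else 1).prod

theorem Lists.twPerm_eq (hL : S.Lists Os Ws) : ∀ {d : List ℕ}, (∀ a ∈ d, a < n) →
    S.twPerm d = wPerm T.hC.fine (finWord D (Data.twWord Ws d)) := by
  intro d
  induction d with
  | nil => intro _; simp [twPerm, Data.twWord, finWord, wPerm]
  | cons a d ih =>
    intro hd
    have ha : a < n := hd a (by simp)
    have e : Data.twWord Ws (a :: d) = Data.twWord Ws [a] ++ Data.twWord Ws d := by simp [Data.twWord]
    rw [e, finWord_append, T.hC.fine.wPerm_append, hL.wPerm_eq ⟨a, ha⟩,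
      ← ih fun b hb => hd b (List.mem_cons_of_mem _ hb)]
    simp [twPerm, ha]

theorem twPerm_mem (d : List ℕ) : S.twPerm d ∈ T.weylFix := by
  refine Subgroup.list_prod_mem _ fun x hx => ?_
  obtain ⟨a, -, rfl⟩ := List.mem_map.1 hx
  split
  · exact S.wJ_fix _
  · exact one_mem _

variable (S) in
/-- the subgroup generated by the first orbits -/
noncomputable def fixFirst (k : ℕ) : Subgroup (Equiv.Perm (Fin D.nroots)) :=
  Subgroup.closure {w | ∃ j : Fin n, j.val < k ∧ w = S.wJ j}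

variable (S) in
/-- the fundamental roots in the first orbits -/
def firstSet (k : ℕ) : Set ℕ := {i | ∃ j : Fin n, j.val < k ∧ i ∈ S.orb j}

theorem fixFirst_le_weylSub (k : ℕ) : S.fixFirst k ≤ weylSub T.hC.fine (S.firstSet k) := by
  refine (Subgroup.closure_le _).2 ?_
  rintro _ ⟨j, hj, rfl⟩
  refine (Subgroup.closure_le _).2 ?_ (S.wJ_mem j)
  rintro σ ⟨i, hi, rfl⟩
  exact T.hC.sPerm_mem_weylSub (J := S.firstSet k) ⟨j, hj, hi⟩

theorem fixFirst_le (k : ℕ) : S.fixFirst k ≤ T.weylFix :=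
  (Subgroup.closure_le _).2 fun _ ⟨j, _, e⟩ => e ▸ S.wJ_fix j

theorem fixFirst_zero : S.fixFirst 0 = ⊥ := by
  refine eq_bot_iff.2 ((Subgroup.closure_le _).2 ?_)
  rintro _ ⟨j, hj, -⟩
  omega

theorem fixFirst_all : S.fixFirst n = T.weylFix := by
  rw [S.weylFix_eq, fixFirst]
  congr 1
  ext w
  exact ⟨fun ⟨j, _, e⟩ => ⟨j, e.symm⟩, fun ⟨j, e⟩ => ⟨j, j.isLt, e.symm⟩⟩

theorem lenSum_bot {R : Type*} [CommSemiring R] (x : R) :
    lenSum K D (S.fixFirst 0) x = 1 := by
  classical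
  have he : invSet K D (1 : Equiv.Perm (Fin D.nroots)) = ∅ :=
    (T.hC.fine.invSet_eq_empty_iff (one_mem _)).2 rfl
  rw [fixFirst_zero, lenSum, finsum_eq_sum_of_fintype]
  simp [he, Subgroup.mem_bot, show ((default : (⊥ : Subgroup (Equiv.Perm (Fin D.nroots)))) : Equiv.Perm (Fin D.nroots)) = 1 from rfl]

theorem Lists.lenSum_level (hL : S.Lists Os Ws) {k : ℕ} (hk : k < n) {R : List (List ℕ)}
    (hlev : K.twLevelOK Os Ws k R = true) (hnd : (R.map (K.twKey Ws)).Nodup)
    {lens : List ℕ} (hlens : R.map (K.twLen Ws) = lens) {Q : Type*} [CommSemiring Q] (x : Q) :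
    lenSum K D (S.fixFirst (k + 1)) x = (lens.map fun e => x ^ e).sum * lenSum K D (S.fixFirst k) x := by
  classical
  have hK := T.hC.fine
  simp only [Data.twLevelOK, Bool.and_eq_true, List.any_eq_true, List.all_eq_true, List.mem_range,
    Nat.blt_eq, Nat.ble_eq, hK.toGood.l_eq, List.isEmpty_iff] at hlev
  obtain ⟨⟨d1, hd1, e1⟩, hR⟩ := hlev
  subst e1
  have hlet : ∀ d ∈ R, ∀ a ∈ d, a < n := fun d hd a ha => by
    have := (hR d hd).1.1 a ha
    omega
  have hmem : ∀ d ∈ R, S.twPerm d ∈ S.fixFirst (k + 1) := fun d hd => by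
    refine Subgroup.list_prod_mem _ fun g hg => ?_
    obtain ⟨a, ha, rfl⟩ := List.mem_map.1 hg
    rw [dif_pos (hlet d hd a ha)]
    exact Subgroup.subset_closure ⟨_, (hR d hd).1.1 a ha, rfl⟩
  have hW : ∀ d ∈ R, S.twPerm d ∈ weylGrp hK := fun d hd => (T.mem_weylFix.1 (twPerm_mem d)).1
  have hmin : ∀ d ∈ R, MinRep hK (S.firstSet k) (S.twPerm d) := by
    rintro d hd i ⟨j, hj, hi⟩
    rw [hL.orb] at hi
    rw [hL.twPerm_eq (hlet d hd), hL.app_eq (hlet d hd)]
    exact (hR d hd).1.2 j.val hj i.val hi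
  have hclos : ∀ d ∈ R, ∀ j : Fin n, j.val < k + 1 →
      ∃ d' ∈ R, ∃ v ∈ S.fixFirst k, S.wJ j * S.twPerm d = S.twPerm d' * v := by
    intro d hd j hj
    obtain ⟨d', hd', c, hc, he⟩ := (hR d hd).2 j.val hj
    have hcl : ∀ a ∈ c, a < k := by
      rcases List.mem_cons.1 hc with rfl | hc'
      · simp
      · obtain ⟨a, ha, rfl⟩ := List.mem_map.1 hc'
        simpa using List.mem_range.1 ha
    have h1 : ∀ a ∈ j.val :: d, a < n := by
      intro a ha
      rcases List.mem_cons.1 ha with rfl | ha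
      · exact j.isLt
      · exact hlet d hd a ha
    have h2 : ∀ a ∈ d' ++ c, a < n := by
      intro a ha
      rcases List.mem_append.1 ha with ha | ha
      · exact hlet d' hd' a ha
      · exact lt_trans (hcl a ha) hk
    refine ⟨d', hd', S.twPerm c, ?_, ?_⟩
    · refine Subgroup.list_prod_mem _ fun g hg => ?_
      obtain ⟨a, ha, rfl⟩ := List.mem_map.1 hg
      rw [dif_pos (lt_trans (hcl a ha) hk)]
      exact Subgroup.subset_closure ⟨_, hcl a ha, rfl⟩
    · have e1 : S.wJ j * S.twPerm d = S.twPerm (j.val :: d) := by simp [twPerm]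
      have e2 : S.twPerm d' * S.twPerm c = S.twPerm (d' ++ c) := by simp [twPerm]
      rw [e1, e2]
      refine hK.weyl_ext (T.mem_weylFix.1 (twPerm_mem _)).1 (T.mem_weylFix.1 (twPerm_mem _)).1
        fun i => Fin.ext ?_
      rw [hL.twPerm_eq h1, hL.twPerm_eq h2, hL.app_eq h1, hL.app_eq h2]
      exact Nat.eq_of_beq_eq_true (he i.val i.isLt)
  -- the cosets exhaust the subgroup
  have hcover : ∀ g ∈ S.fixFirst (k + 1), ∃ d ∈ R, ∃ v ∈ S.fixFirst k, g = S.twPerm d * v := by
    intro g hg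
    induction hg using Subgroup.closure_induction_left with
    | one => exact ⟨[], hd1, 1, one_mem _, by simp [twPerm]⟩
    | mul_left a ha y _ hy =>
      obtain ⟨j, hj, rfl⟩ := ha
      obtain ⟨d, hd, v, hv, rfl⟩ := hy
      obtain ⟨d', hd', v', hv', e⟩ := hclos d hd j hj
      exact ⟨d', hd', v' * v, mul_mem hv' hv, by rw [← mul_assoc, e, mul_assoc]⟩
    | inv_mul_cancel a ha y _ hy =>
      obtain ⟨j, hj, rfl⟩ := ha
      obtain ⟨d, hd, v, hv, rfl⟩ := hy
      obtain ⟨d', hd', v', hv', e⟩ := hclos d hd j hj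
      exact ⟨d', hd', v' * v, mul_mem hv' hv, by rw [S.wJ_inv, ← mul_assoc, e, mul_assoc]⟩
  -- different representatives give different cosets
  have hinj : ∀ (a b : Fin R.length) (v v' : Equiv.Perm (Fin D.nroots)), v ∈ S.fixFirst k →
      v' ∈ S.fixFirst k → S.twPerm R[a.val] * v = S.twPerm R[b.val] * v' → a = b ∧ v = v' := by
    intro a b v v' hv hv' h
    have ha := List.getElem_mem a.isLt
    have hb := List.getElem_mem b.isLt
    have e : S.twPerm R[b.val] = S.twPerm R[a.val] * (v * v'⁻¹) := by rw [← mul_assoc, h]; group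
    have hp := T.hC.minRep_unique (hW _ ha) (hmin _ ha) (hmin _ hb)
      (fixFirst_le_weylSub k (mul_mem hv (inv_mem hv'))) e
    have hab : a = b := by
      refine Fin.ext ((List.Nodup.getElem_inj_iff hnd (hi := by simp) (hj := by simp)).1 ?_)
      simp only [List.getElem_map]
      refine List.map_congr_left fun i hi => ?_
      rw [List.mem_range, hK.toGood.l_eq] at hi
      have h3 := congrArg Fin.val (DFunLike.congr_fun hp (pFin hK ⟨i, hi⟩))
      rw [hL.twPerm_eq (hlet _ ha), hL.twPerm_eq (hlet _ hb), hL.app_eq (hlet _ ha),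
        hL.app_eq (hlet _ hb)] at h3
      exact h3.symm
    subst hab
    exact ⟨rfl, mul_left_cancel h⟩
  have hle : S.fixFirst k ≤ S.fixFirst (k + 1) := by
    refine Subgroup.closure_mono ?_
    rintro w ⟨j, hj, e⟩
    exact ⟨j, Nat.lt_succ_of_lt hj, e⟩
  let f : Fin R.length × S.fixFirst k → S.fixFirst (k + 1) := fun p =>
    ⟨S.twPerm R[p.1.val] * p.2.val, mul_mem (hmem _ (List.getElem_mem p.1.isLt)) (hle p.2.2)⟩
  have hf : Function.Bijective f := by
    constructor
    · rintro ⟨a, v⟩ ⟨b, v'⟩ h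
      obtain ⟨e1, e2⟩ := hinj a b v v' v.2 v'.2 (congrArg Subtype.val h)
      exact Prod.ext e1 (Subtype.ext e2)
    · rintro ⟨g, hg⟩
      obtain ⟨d, hd, v, hv, rfl⟩ := hcover g hg
      obtain ⟨i, hi, rfl⟩ := List.getElem_of_mem hd
      exact ⟨(⟨i, hi⟩, ⟨v, hv⟩), rfl⟩
  have hN : ∀ d ∈ R, ∀ v ∈ S.fixFirst k, Nat.card (invSet K D (S.twPerm d * v)) =
      K.twLen Ws d + Nat.card (invSet K D v) := by
    intro d hd v hv
    rw [Nat.card_coe_set_eq, Nat.card_coe_set_eq,
      T.hC.invSet_mul (hW d hd) (hmin d hd) (fixFirst_le_weylSub k hv), Nat.add_comm]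
    congr 1
    rw [show invSet K D (S.twPerm d) = ↑((Finset.range K.n).filter fun r =>
      (Nat.ble K.npos r && Nat.blt (K.appW (Data.twWord Ws d) r) K.npos) = true) from ?_,
      Set.ncard_coe_finset]
    · rw [Data.twLen, ← List.toFinset_card_of_nodup ((List.nodup_range).filter _), List.toFinset_filter,
        List.toFinset_range]
    ext r
    simp only [invSet, Set.mem_setOf_eq, Finset.coe_filter, Finset.mem_range, hK.toGood.n_eq,
      Bool.and_eq_true, Nat.ble_eq, Nat.blt_eq]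
    constructor
    · rintro ⟨⟨h1, h2⟩, h3⟩
      rw [show permNat (S.twPerm d) r = (S.twPerm d ⟨r, h2⟩).val from permNat_fin _ ⟨r, h2⟩,
        hL.twPerm_eq (hlet d hd), hL.app_eq (hlet d hd)] at h3
      exact ⟨h2, h1, h3⟩
    · rintro ⟨h2, h1, h3⟩
      refine ⟨⟨h1, h2⟩, ?_⟩
      rw [show permNat (S.twPerm d) r = (S.twPerm d ⟨r, h2⟩).val from permNat_fin _ ⟨r, h2⟩,
        hL.twPerm_eq (hlet d hd), hL.app_eq (hlet d hd)]
      exact h3
  have hsum : (lens.map fun e => x ^ e).sum = ∑ i : Fin R.length, x ^ K.twLen Ws R[i.val] := by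
    rw [← hlens, List.map_map, Fin.sum_univ_fun_getElem R (fun d => x ^ K.twLen Ws d)]
    rfl
  rw [lenSum, lenSum, finsum_eq_sum_of_fintype, finsum_eq_sum_of_fintype, hsum,
    ← (Equiv.ofBijective f hf).sum_comp, Fintype.sum_prod_type, Finset.sum_mul]
  refine Finset.sum_congr rfl fun i _ => ?_
  rw [Finset.mul_sum]
  refine Finset.sum_congr rfl fun v _ => ?_
  rw [← pow_add, ← hN _ (List.getElem_mem i.isLt) _ v.2]
  rfl

theorem Lists.orderOf_pair (hL : S.Lists Os Ws) (i j : Fin n) {m : ℕ} (hm : 0 < m)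
    (h : K.wordOrdOK (Data.twWord Ws [i.val, j.val]) m = true) : orderOf (S.wJ i * S.wJ j) = m := by
  have hd : ∀ a ∈ [i.val, j.val], a < n := by simp
  have e : S.wJ i * S.wJ j = S.twPerm [i.val, j.val] := by simp [twPerm]
  rw [e, hL.twPerm_eq hd]
  exact T.hC.fine.orderOf_wPerm _ (by rw [finWord_val (hL.word_lt hd)]; exact h) hm

variable (S) in
/-- the order of the twisted group as a sum over the fixed Weyl group -/
theorem card_G1_sum [Fintype F] :
    Nat.card ↥S.G1 = Nat.card ↥(D.posUnipotent F ⊓ S.G1) * Nat.card ↥(D.diagonalSubgroup F ⊓ S.G1) *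
      ∑ᶠ w : T.weylFix, Nat.card (T.X w.val) := by
  classical
  have hK := T.hC.fine
  choose rep hrep hrepm using fun w : T.weylFix => S.exists_moves_G1 w.2
  let f : (Σ w : T.weylFix, (↥(D.posUnipotent F ⊓ S.G1) × ↥(D.diagonalSubgroup F ⊓ S.G1)) × T.X w.val) → ↥S.G1 :=
    fun p => ⟨p.2.1.1.val * p.2.1.2.val * rep p.1 * p.2.2.val,
      mul_mem (mul_mem (mul_mem p.2.1.1.2.2 p.2.1.2.2.2) (hrep p.1).1) (S.X_le_G1 p.1.2 p.2.2.2)⟩
  have hf : Function.Bijective f := by
    constructor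
    · rintro ⟨w, ⟨v, h⟩, u⟩ ⟨w', ⟨v', h'⟩, u'⟩ e
      have e' : v.val * h.val * rep w * u.val = v'.val * h'.val * rep w' * u'.val := congrArg Subtype.val e
      have hb : v.val * h.val ∈ D.borelSubgroup F := hK.mem_borel_iff.2 ⟨_, v.2.1, _, h.2.1, rfl⟩
      have hb' : v'.val * h'.val ∈ D.borelSubgroup F := hK.mem_borel_iff.2 ⟨_, v'.2.1, _, h'.2.1, rfl⟩
      have hH := hK.normal_form_index hb hb' (hrep w).2 (hrep w').2
        (hK.invSet_le_pos _ u.2.2) (hK.invSet_le_pos _ u'.2.2) e'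
      obtain rfl : w = w' := Subtype.ext (inv_mul_eq_one.1 (hK.moves_unique (hK.moves_diagonal hH)
        (hK.moves_mul (hK.moves_inv (hrepm w)) (hrepm w'))).symm)
      obtain ⟨e1, e2⟩ := hK.normal_form_factors (hrepm w) hb hb' u.2.2 u'.2.2 e'
      have hmem : v'.val⁻¹ * v.val ∈ D.posUnipotent F ⊓ D.diagonalSubgroup F := by
        refine ⟨Subgroup.mul_mem _ (Subgroup.inv_mem _ v'.2.1) v.2.1, ?_⟩
        rw [show v'.val⁻¹ * v.val = h'.val * h.val⁻¹ by
          rw [eq_mul_inv_iff_mul_eq, mul_assoc, e1, inv_mul_cancel_left]]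
        exact Subgroup.mul_mem _ h'.2.1 (Subgroup.inv_mem _ h.2.1)
      rw [hK.pos_inf_diagonal, Subgroup.mem_bot] at hmem
      have hv : v = v' := Subtype.ext (inv_mul_eq_one.1 hmem).symm
      subst hv
      rw [Subtype.ext (mul_left_cancel e1), Subtype.ext e2]
    · rintro ⟨g, hg⟩
      obtain ⟨w, hw, v, hv, k, hk, hkm, m, hm, e⟩ := T.fix_decomp (S.le_fix hg)
      have hvG := S.fix_pos_le hv
      have hmG := S.X_le_G1 hw hm
      have hkG : k ∈ S.G1 := by
        rw [show k = v⁻¹ * g * m⁻¹ by rw [e]; group]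
        exact mul_mem (mul_mem (inv_mem hvG) hg) (inv_mem hmG)
      have hH : k * (rep ⟨w, hw⟩)⁻¹ ∈ D.diagonalSubgroup F := by
        refine hK.mem_diagonal_of_moves_one (mul_mem hk.2 (inv_mem (hrep ⟨w, hw⟩).2)) ?_
        have := hK.moves_mul hkm (hK.moves_inv (hrepm ⟨w, hw⟩))
        rwa [mul_inv_cancel] at this
      refine ⟨⟨⟨w, hw⟩, ⟨⟨v, hv.2, hvG⟩, ⟨_, hH, Subgroup.mul_mem _ hkG (Subgroup.inv_mem _ (hrep ⟨w, hw⟩).1)⟩⟩, ⟨m, hm⟩⟩,
        Subtype.ext ?_⟩
      show v * (k * (rep ⟨w, hw⟩)⁻¹) * rep ⟨w, hw⟩ * m = g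
      rw [e]; group
  rw [← Nat.card_eq_of_bijective f hf, Nat.card_sigma, finsum_eq_sum_of_fintype, Finset.mul_sum]
  exact Finset.sum_congr rfl fun w _ => by rw [Nat.card_prod, Nat.card_prod]

variable (S) in
theorem sum_X {b : ℕ} {e : Equiv.Perm (Fin D.nroots) → ℕ}
    (h : ∀ w ∈ T.weylFix, Nat.card (T.X w) = b ^ e w) :
    ∑ᶠ w : T.weylFix, Nat.card (T.X w.val) = ∑ᶠ w : T.weylFix, b ^ e w.val :=
  finsum_congr fun w => h _ w.2

end TwistGrp

end CfsgLib.Chev
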