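import Cfsg.Agent.Chev.TwistBuild
import Cfsg.Agent.Chev.TwistSum

/-!
Tools for the individual twisted types: fixed fields, sorted words, the fixed torus, perfectness.
-/

set_option autoImplicit false

namespace CfsgLib.Chev

open Cfsg.Lie Fine

variable {K : Data} {D : ChevalleyDatum} {F : Type*} [Field F]

/-! ### Finite fields -/

theorem exists_powHom_of_card [Fintype F] {q k : ℕ} (hq : IsPrimePow q) (hk : k ≠ 0)
    (hcard : Fintype.card F = q ^ k) :
    ∃ p e : ℕ, p.Prime ∧ CharP F p ∧ q = p ^ e ∧ ∃ ψ : F →+* F, ∀ x, ψ x = x ^ q := by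
  obtain ⟨p, hp⟩ := CharP.exists F
  obtain ⟨n, hpp, hn⟩ := FiniteField.card F p
  obtain ⟨r, e, hr, -, rfl⟩ := hq
  rw [← Nat.prime_iff] at hr
  have hrp : r = p := by
    have he : e ≠ 0 := by
      rintro rfl
      rw [pow_zero, one_pow] at hcard
      exact Fintype.one_lt_card.ne' hcard
    have h1 : r ∣ p ^ (n : ℕ) := by
      rw [← hn, hcard, ← pow_mul]
      exact dvd_pow_self r (Nat.mul_ne_zero he hk)
    exact (Nat.prime_dvd_prime_iff_eq hr hpp).1 (hr.dvd_of_dvd_pow h1)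
  subst hrp
  haveI : Fact r.Prime := ⟨hr⟩
  haveI := hp
  exact ⟨r, e, hr, hp, rfl, iterateFrobenius F r e, fun x => iterateFrobenius_def r e x⟩

/-- the invariants of a power map on the units -/
theorem card_units_fixed [Fintype F] {q k : ℕ} (hq : 1 ≤ q) (hcard : Fintype.card F = q ^ k) :
    Nat.card {x : Fˣ // x ^ q = x} = q - 1 := by
  classical
  have e : Nat.card {x : Fˣ // x ^ q = x} = Nat.card (powMonoidHom (q - 1) : Fˣ →* Fˣ).ker := by
    refine Nat.card_congr (Equiv.subtypeEquivRight fun x => ?_)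
    rw [MonoidHom.mem_ker, powMonoidHom_apply]
    conv_lhs => rw [← Nat.sub_add_cancel hq, pow_succ]
    exact mul_eq_right
  rw [e, IsCyclic.card_powMonoidHom_ker, Nat.card_eq_fintype_card, Fintype.card_units, hcard]
  exact Nat.gcd_eq_right (Nat.sub_one_dvd_pow_sub_one q k)

theorem card_field_fixed [Fintype F] {q k : ℕ} (hq : 2 ≤ q) (hcard : Fintype.card F = q ^ k) :
    Nat.card {x : F // x ^ q = x} = q := by
  classical
  let f : Option {x : Fˣ // x ^ q = x} → {x : F // x ^ q = x} := fun o =>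
    o.elim ⟨0, zero_pow (by omega)⟩ fun u => ⟨(u.1 : F), by
      rw [← Units.val_pow_eq_pow_val, u.2]⟩
  have hf : Function.Bijective f := by
    constructor
    · rintro (_ | u) (_ | v) h
      · rfl
      · exact absurd (congrArg Subtype.val h).symm v.1.ne_zero
      · exact absurd (congrArg Subtype.val h) u.1.ne_zero
      · exact congrArg some (Subtype.ext (Units.ext (congrArg Subtype.val h)))
    · rintro ⟨x, hx⟩
      by_cases h : x = 0
      · exact ⟨none, Subtype.ext h.symm⟩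
      · exact ⟨some ⟨Units.mk0 x h, Units.ext (by simpa using hx)⟩, Subtype.ext rfl⟩
  rw [← Nat.card_eq_of_bijective f hf, Finite.card_option, card_units_fixed (by omega) hcard]
  omega

theorem exists_unit_ne_one [Fintype F] (h : 2 < Fintype.card F) : ∃ a : Fˣ, a ≠ 1 := by
  classical
  haveI : Nontrivial Fˣ := by
    rw [← Fintype.one_lt_card_iff_nontrivial, Fintype.card_units]
    omega
  exact exists_ne 1

/-! ### Generated subgroups and sorted words -/

theorem genSubgroup_eq (hK : Fine K D) (S : Set (List (ℕ × F))) :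
    D.genSubgroup F S = Subgroup.closure (wordU hK '' S) := by
  rw [ChevalleyDatum.genSubgroup]
  congr 1
  ext g
  constructor
  · rintro ⟨w, hw, e⟩
    exact ⟨w, hw, Units.ext ((coe_wordU hK w).trans e.symm)⟩
  · rintro ⟨w, hw, rfl⟩
    exact ⟨w, hw, coe_wordU hK w⟩

theorem exists_ordProd_sorted (hK : Fine K D) : ∀ (L : List (ℕ × F)) (a : ℕ),
    (∀ p ∈ L, a ≤ p.1 ∧ p.1 < D.nroots) → (L.map Prod.fst).Pairwise (· < ·) →
      ∃ t : ℕ → F, (∀ r, r < a → t r = 0) ∧ (∀ p ∈ L, t p.1 = p.2) ∧ ordProd hK a t = wordU hK L := by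
  intro L
  induction L with
  | nil =>
    intro a _ _
    refine ⟨0, fun _ _ => rfl, by simp, ?_⟩
    rw [hK.ordProd_zero (t := (0 : ℕ → F)) _ a rfl fun _ _ _ => rfl]
    rfl
  | cons p L ih =>
    intro a hL hs
    rw [List.map_cons, List.pairwise_cons] at hs
    obtain ⟨ha, hp⟩ := hL p (by simp)
    have hgt : ∀ q ∈ L, p.1 + 1 ≤ q.1 ∧ q.1 < D.nroots := fun q hq =>
      ⟨hs.1 q.1 (List.mem_map_of_mem hq), (hL q (List.mem_cons_of_mem _ hq)).2⟩
    obtain ⟨t, h1, h2, h3⟩ := ih (p.1 + 1) hgt hs.2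
    refine ⟨fun r => if r = p.1 then p.2 else t r, fun r hr => ?_, fun q hq => ?_, ?_⟩
    · show (if r = p.1 then p.2 else t r) = 0
      rw [if_neg (by omega)]; exact h1 r (by omega)
    · rcases List.mem_cons.1 hq with rfl | hq
      · exact if_pos rfl
      · have h4 := (hgt q hq).1
        show (if q.1 = p.1 then p.2 else t q.1) = q.2
        rw [if_neg (by omega)]
        exact h2 q hq
    · have e : ordProd hK (p.1 + 1) (fun r => if r = p.1 then p.2 else t r) = ordProd hK (p.1 + 1) t := by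
        unfold ordProd
        congr 1
        refine List.map_congr_left fun r hr => ?_
        simp only [List.mem_range'_1] at hr
        show (r, if r = p.1 then p.2 else t r) = (r, t r)
        rw [if_neg (by omega)]
      rw [hK.ordProd_at hp _ a rfl ha (fun x hx1 hx2 => by rw [if_neg (by omega)]; exact h1 x (by omega)),
        e, h3, if_pos rfl]
      rfl

theorem wordU_sorted_inj (hK : Fine K D) {R : List ℕ} {v v' : List F}
    (hR : R.Pairwise (· < ·)) (hb : ∀ r ∈ R, K.npos ≤ r ∧ r < D.nroots)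
    (hv : v.length = R.length) (hv' : v'.length = R.length)
    (h : wordU hK (R.zip v) = wordU hK (R.zip v')) : v = v' := by
  have hfst : ∀ u : List F, u.length = R.length → (R.zip u).map Prod.fst = R := fun u hu =>
    List.map_fst_zip hu.ge
  have hmem : ∀ u : List F, ∀ p ∈ R.zip u, K.npos ≤ p.1 ∧ p.1 < D.nroots := fun u p hp =>
    hb p.1 (List.of_mem_zip hp).1
  obtain ⟨t, -, ht, et⟩ := exists_ordProd_sorted hK _ K.npos (hmem v) (by rw [hfst v hv]; exact hR)
  obtain ⟨t', -, ht', et'⟩ := exists_ordProd_sorted hK _ K.npos (hmem v') (by rw [hfst v' hv']; exact hR)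
  rw [← et, ← et'] at h
  have hh := hK.ordProd_inj _ K.npos rfl le_rfl _ _ h
  refine List.ext_getElem (by omega) fun i h1 h2 => ?_
  have hi : i < R.length := hv ▸ h1
  have a1 := ht (R[i], v[i]) (List.mem_iff_getElem.2 ⟨i, by simp; omega, List.getElem_zip⟩)
  have a2 := ht' (R[i], v'[i]) (List.mem_iff_getElem.2 ⟨i, by simp; omega, List.getElem_zip⟩)
  obtain ⟨b1, b2⟩ := hb R[i] (List.getElem_mem hi)
  exact a1.symm.trans ((hh _ b1 b2).trans a2)

theorem tU_conj_wordU (hK : Fine K D) (c : ℕ → Fˣ) {L : List (ℕ × F)} (hL : ∀ p ∈ L, p.1 < D.nroots) :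
    tU K D c * wordU hK L * (tU K D c)⁻¹ =
      wordU hK (L.map fun p => (p.1, (torusChar K D c p.1 : F) * p.2)) := by
  unfold wordU
  rw [← MulAut.conj_apply, map_list_prod, List.map_map, List.map_map]
  congr 1
  refine List.map_congr_left fun p hp => ?_
  simp only [Function.comp, MulAut.conj_apply]
  exact hK.tU_conj_xU c (hL p hp) p.2

theorem tFin_conj_xU (hK : Fine K D) (c : Fin D.rank → Fˣ) {r : ℕ} (hr : r < D.nroots) (t : F) :
    tFin K D F c * xU hK r t * (tFin K D F c)⁻¹ =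
      xU hK r (((∏ k : Fin D.rank, c k ^ K.tab.A k.val r : Fˣ) : F) * t) := by
  rw [show tFin K D F c = tU K D (extC c) from rfl, hK.tU_conj_xU (extC c) hr t, hK.torusChar_extC]

/-! ### Root subsystems as lists -/

theorem subPos_eq (hC : Comb K D) (O : List ℕ) :
    subPos K D {i | i ∈ O} = {r | r ∈ K.subPosL O} := by
  have hG := hC.fine.toGood
  ext r
  simp only [subPos, Set.mem_setOf_eq, Data.subPosL, List.mem_filter, List.mem_range, Bool.and_eq_true,
    Nat.ble_eq, List.all_eq_true, Bool.or_eq_true, List.any_eq_true, intEq_iff, hG.n_eq, hG.l_eq]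
  constructor
  · rintro ⟨⟨h1, h2⟩, h3⟩
    refine ⟨h2, h1, fun i hi => ?_⟩
    by_cases hi' : i ∈ O
    · exact Or.inl ⟨i, hi', Nat.beq_refl i⟩
    · exact Or.inr ((hC.inRootSub_iff h2).1 h3 i hi hi')
  · rintro ⟨h2, h1, h3⟩
    refine ⟨⟨h1, h2⟩, (hC.inRootSub_iff h2).2 fun i hi hi' => ?_⟩
    exact (h3 i hi).resolve_left fun ⟨j, hj, e⟩ => hi' (Nat.eq_of_beq_eq_true e ▸ hj)

theorem negSub_eq (hC : Comb K D) (O : List ℕ) :
    negSub K D {i | i ∈ O} = {r | r ∈ K.negSubL O} := by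
  ext r
  simp only [negSub, subPos_eq hC, Set.mem_setOf_eq, Data.negSubL, List.mem_filter, List.mem_range,
    List.any_eq_true, hC.fine.toGood.n_eq]
  exact and_congr_right fun _ => ⟨fun h => ⟨_, h, Nat.beq_refl _⟩,
    fun ⟨s, hs, e⟩ => Nat.eq_of_beq_eq_true e ▸ hs⟩

/-! ### The fixed torus -/

namespace Twist

variable (T : Twist K D F)

/-- fixed parameters of the torus -/
noncomputable def torFix : Subgroup (Fin D.rank → Fˣ) := T.act.eqLocus (MonoidHom.id _)

theorem mem_torFix {c : Fin D.rank → Fˣ} :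
    c ∈ T.torFix ↔ ∀ i, (c (T.π i) : F) = T.φ i (c i : F) := by
  constructor
  · intro h i
    rw [← T.act_apply, show T.act c = c from h]
  · intro h
    refine funext fun j => ?_
    obtain ⟨i, rfl⟩ := T.π.surjective j
    exact Units.ext ((T.act_apply c i).trans (h i).symm)

theorem tFin_fix {c : Fin D.rank → Fˣ} (hc : c ∈ T.torFix) : tFin K D F c ∈ T.fix :=
  ⟨T.hC.fine.diagonal_le_group (Twist.tFin_mem T.hC.fine c), by
    rw [T.app_tFin, show T.act c = c from hc]⟩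

/-- if no nontrivial fixed parameter is killed, every fixed diagonal element has fixed parameters -/
theorem fix_diagonal [Fintype F] (hker : ∀ c ∈ T.torFix, tFin K D F c = 1 → c = 1)
    {h : GL D.Idx F} (hh : h ∈ D.diagonalSubgroup F) (hf : h ∈ T.fix) :
    ∃ c ∈ T.torFix, tFin K D F c = h := by
  rw [← T.hC.fine.tFin_range] at hh
  obtain ⟨c, rfl⟩ := hh
  let Kr := (tFin K D F).ker
  have hinv : ∀ k ∈ Kr, T.act k ∈ Kr := fun k hk => by
    rw [MonoidHom.mem_ker, ← T.app_tFin, MonoidHom.mem_ker.1 hk, T.app_one]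
  let g : Kr → Kr := fun k => ⟨k.1⁻¹ * T.act k.1, mul_mem (inv_mem k.2) (hinv _ k.2)⟩
  have hg : Function.Injective g := by
    intro a b e
    have e' : a.1⁻¹ * T.act a.1 = b.1⁻¹ * T.act b.1 := congrArg Subtype.val e
    have h1 : b.1 * a.1⁻¹ ∈ T.torFix := by
      show T.act (b.1 * a.1⁻¹) = b.1 * a.1⁻¹
      rw [map_mul, map_inv]
      calc T.act b.1 * (T.act a.1)⁻¹
          = b.1 * (b.1⁻¹ * T.act b.1) * (a.1 * (a.1⁻¹ * T.act a.1))⁻¹ := by group
        _ = b.1 * a.1⁻¹ := by rw [e', mul_inv_rev, mul_assoc, mul_inv_cancel_left]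
    have h2 := hker _ h1 (MonoidHom.mem_ker.1 (mul_mem b.2 (inv_mem a.2)))
    exact (Subtype.ext (mul_inv_eq_one.1 h2)).symm
  have hz : c⁻¹ * T.act c ∈ Kr := by
    rw [MonoidHom.mem_ker, map_mul, map_inv, ← T.app_tFin, hf.2, inv_mul_cancel]
  obtain ⟨k, hk⟩ := (Finite.injective_iff_surjective.1 hg) ⟨_, hz⟩
  have hk' : k.1⁻¹ * T.act k.1 = c⁻¹ * T.act c := congrArg Subtype.val hk
  refine ⟨c * k.1⁻¹, ?_, by rw [map_mul, map_inv, MonoidHom.mem_ker.1 k.2, inv_one, mul_one]⟩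
  show T.act (c * k.1⁻¹) = c * k.1⁻¹
  rw [map_mul, map_inv]
  calc T.act c * (T.act k.1)⁻¹
      = c * (c⁻¹ * T.act c) * (k.1 * (k.1⁻¹ * T.act k.1))⁻¹ := by group
    _ = c * k.1⁻¹ := by rw [hk', mul_inv_rev, mul_assoc, mul_inv_cancel_left]

end Twist

namespace TwistGrp

variable {T : Twist K D F} {n : ℕ} (S : TwistGrp T n)

theorem card_diagonal_of [Fintype F] (hker : ∀ c ∈ T.torFix, tFin K D F c = 1 → c = 1)
    (hsub : ∀ c ∈ T.torFix, tFin K D F c ∈ S.G1) :
    Nat.card ↥(D.diagonalSubgroup F ⊓ S.G1) = Nat.card T.torFix := by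
  let f : T.torFix → ↥(D.diagonalSubgroup F ⊓ S.G1) := fun c =>
    ⟨tFin K D F c.1, Twist.tFin_mem T.hC.fine c.1, hsub c.1 c.2⟩
  refine (Nat.card_eq_of_bijective f ⟨fun a b h => ?_, ?_⟩).symm
  · have e : tFin K D F a.1 = tFin K D F b.1 := congrArg Subtype.val h
    exact Subtype.ext (mul_inv_eq_one.1 (hker _ (mul_mem a.2 (inv_mem b.2))
      (by rw [map_mul, map_inv, e, mul_inv_cancel])))
  · rintro ⟨h, hh, hG⟩
    obtain ⟨c, hc, rfl⟩ := T.fix_diagonal hker hh (S.le_fix hG)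
    exact ⟨⟨c, hc⟩, rfl⟩

theorem fix_neg_le : T.fix ⊓ D.negUnipotent F ≤ S.G1 := by
  have hK := T.hC.fine
  obtain ⟨w, hw, e⟩ := S.exists_longest_fix
  obtain ⟨g, hg, hgm⟩ := S.exists_moves_G1 hw
  rintro x ⟨hx, hxn⟩
  have hW := (T.mem_weylFix.1 hw).1
  have hpos : g⁻¹ * x * g ∈ D.posUnipotent F := by
    rw [SetLike.mem_coe, hK.negUnipotent_eq] at hxn
    rw [hK.posUnipotent_eq]
    have h := hK.conj_genU_le (hK.moves_inv hgm) (T := {r | K.npos ≤ r ∧ r < D.nroots})
      (fun r (hr : r < K.npos) => ?_) hxn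
    · rwa [inv_inv] at h
    have hn := hK.toGood.nroots_eq_two_mul
    have hrn : r < D.nroots := by omega
    refine ⟨hrn, ?_, permNat_lt hrn⟩
    by_contra hc
    have hs : permNat w⁻¹ r < D.nroots := permNat_lt hrn
    have hmem : K.neg (permNat w⁻¹ r) ∈ invSet K D w := by
      rw [e]
      exact ⟨(T.hC.neg_lt_iff hs).2.2 (Nat.lt_of_not_le hc), hK.toGood.Kneg_lt hs⟩
    have h2 := hmem.2
    rw [T.hC.permNat_neg hW hs, ← Comb.permNat_comp _ _ hrn, mul_inv_cancel] at h2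
    simp [permNat, hrn] at h2
    have := (T.hC.neg_lt_iff hrn).2.1
    have := (T.hC.neg_lt_iff (hK.toGood.Kneg_lt hrn)).2.1
    rw [hK.toGood.Kneg_eq] at h2
    omega
  have hf : g⁻¹ * x * g ∈ S.G1 := S.fix_pos_le ⟨T.fix_conj (S.le_fix hg.1) hx, hpos⟩
  have h2 := Subgroup.mul_mem _ (Subgroup.mul_mem _ hg.1 hf) (Subgroup.inv_mem _ hg.1)
  rwa [show ∀ a : GL D.Idx F, a * (a⁻¹ * x * a) * a⁻¹ = x from fun a => by group] at h2

/-- a torus element without fixed points puts a root group in the derived group -/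
theorem derived_of_fpf [Fintype F] {h : GL D.Idx F} (hh : h ∈ S.G1) (hhH : h ∈ D.diagonalSubgroup F)
    (j : Fin n) (hfpf : ∀ g ∈ T.X (S.wJ j), h * g * h⁻¹ = g → g = 1) :
    ∀ g ∈ T.fix ⊓ genU T.hC.fine F (subPos K D (S.orb j)), g ∈ ⁅S.G1, S.G1⁆ := by
  classical
  have hK := T.hC.fine
  rw [← S.X_wJ]
  have hin : ∀ g ∈ T.X (S.wJ j), h * g * h⁻¹ * g⁻¹ ∈ T.X (S.wJ j) := fun g hg =>
    Subgroup.mul_mem _ ⟨T.fix_conj' (S.le_fix hh) hg.1,
      (Subgroup.mem_normalizer_iff.1 (hK.diagonal_le_normalizer_genU _ hhH) g).1 hg.2⟩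
      (Subgroup.inv_mem _ hg)
  let f : T.X (S.wJ j) → T.X (S.wJ j) := fun g => ⟨_, hin _ g.2⟩
  have hf : Function.Injective f := by
    intro a b e
    have e' : h * a.1 * h⁻¹ * a.1⁻¹ = h * b.1 * h⁻¹ * b.1⁻¹ := congrArg Subtype.val e
    have e2 : h * (b.1⁻¹ * a.1) * h⁻¹ = b.1⁻¹ * a.1 := by
      calc h * (b.1⁻¹ * a.1) * h⁻¹ = (h * b.1 * h⁻¹)⁻¹ * ((h * a.1 * h⁻¹ * a.1⁻¹) * a.1) := by group
        _ = b.1⁻¹ * a.1 := by rw [e']; group
    exact Subtype.ext (inv_mul_eq_one.1 (hfpf _ (mul_mem (inv_mem b.2) a.2) e2)).symm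
  intro g hg
  obtain ⟨a, ha⟩ := (Finite.injective_iff_surjective.1 hf) ⟨g, hg⟩
  rw [← show h * a.1 * h⁻¹ * a.1⁻¹ = g from congrArg Subtype.val ha]
  have haG : a.1 ∈ S.G1 := S.X_le_G1 (S.wJ_fix j) a.2
  have := Subgroup.commutator_mem_commutator hh haG
  rwa [commutatorElement_def] at this

end TwistGrp

/-! ### Torus elements from root elements -/

theorem tFin_single_eq (hK : Fine K D) (i : Fin D.rank) (a : Fˣ) :
    tFin K D F (Pi.mulSingle i a) = nU hK (K.p i.val) (a : F) * nU hK (K.p i.val) (-1) := by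
  rw [Twist.tFin_single hK, nU_mul_neg_eq_tU hK (hK.toGood.p_lt i.isLt)]

theorem nU_expand (hK : Fine K D) (i : Fin D.rank) (a : F) :
    nU hK (K.p i.val) a =
      xU hK (K.p i.val) a * xU hK (K.neg (K.p i.val)) (-a⁻¹) * xU hK (K.p i.val) a := by
  have hG := hK.toGood
  simp [nU, wordU, ChevalleyDatum.nWord, hG.neg_eq (hG.p_lt i.isLt), ← hG.Kneg_eq, mul_assoc]

/-- merging two commuting `PNP` products -/
theorem merge_pnp {G : Type*} [Group G] {P N Q M : G} (h1 : Commute P Q) (h2 : Commute N Q) (h3 : Commute P M) :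
    P * N * P * (Q * M * Q) = P * Q * (N * M) * (P * Q) := by
  calc P * N * P * (Q * M * Q) = P * N * (P * Q) * M * Q := by group
    _ = P * (N * Q) * (P * M) * Q := by rw [h1.eq]; group
    _ = P * (Q * N) * (M * P) * Q := by rw [h2.eq, h3.eq]
    _ = _ := by group

theorem not_commute_opposite (hK : Fine K D) (i : Fin D.rank) :
    ¬ Commute (xU hK (K.p i.val) (1 : F)) (xU hK (K.neg (K.p i.val)) (-1 : F)) := by
  intro h
  have hG := hK.toGood
  have hp := hG.p_lt i.isLt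
  have hc : Commute (sU hK i.val : GL D.Idx F) (xU hK (K.p i.val) 1) := by
    rw [sU, hG.simple_eq i.isLt, nU_expand hK, inv_one]
    exact ((Commute.refl _).mul_left h.symm).mul_left (Commute.refl _)
  have e := hK.sU_conj_xU (F := F) i.isLt hp 1
  rw [hc.eq, mul_inv_cancel_right] at e
  have hrs := hK.root_inj hp (hG.w_lt i.isLt hp) one_ne_zero e
  rw [hG.w_p i.isLt] at hrs
  have := hK.neg_p_lt i.isLt
  have := hG.npos_le_p i.isLt
  omega

namespace TwistGrp

variable {T : Twist K D F} {n : ℕ} (S : TwistGrp T n)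

/-- root elements obtained as commutators of fixed root elements -/
theorem derived_single [Fintype F] {p r s s0 : ℕ} {z : ℤ} (hr : r < D.nroots) (hs : s < D.nroots)
    (hp : p < D.nroots) (hs0 : s0 < D.nroots) (hsr : s ≠ r) (hneg : s ≠ K.neg r)
    (hcomm : K.comm r s = [(p, z, 1, 1)]) (hz : z = 1 ∨ z = -1)
    {g : GL D.Idx F} (hg : g ∈ S.G1) {w : Equiv.Perm (Fin D.nroots)} (hgw : Moves T.hC.fine g w)
    (hw : (w ⟨p, hp⟩).val = r) {g' : GL D.Idx F} (hg' : g' ∈ S.G1) {w' : Equiv.Perm (Fin D.nroots)}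
    (hgw' : Moves T.hC.fine g' w') (hw' : (w' ⟨s0, hs0⟩).val = s) (hb : xU T.hC.fine s0 (1 : F) ∈ S.G1)
    (hG : ∀ t : F, xU T.hC.fine p t ∈ T.fix → xU T.hC.fine p t ∈ S.G1) :
    ∀ t : F, xU T.hC.fine p t ∈ T.fix → xU T.hC.fine p t ∈ ⁅S.G1, S.G1⁆ := by
  classical
  have hK := T.hC.fine
  obtain ⟨a, ha⟩ := hgw ⟨p, hp⟩
  obtain ⟨b, hb'⟩ := hgw' ⟨s0, hs0⟩
  set c : F := (z : F) * -(a : F) * (b : F) with hc
  have key : ∀ t : F, xU hK p t ∈ T.fix → xU hK p (c * t) ∈ ⁅S.G1, S.G1⁆ := by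
    intro t ht
    have e1 : g * xU hK p t * g⁻¹ = xU hK r ((a : F) * t) := by rw [ha t, hw]
    have e2 : g' * xU hK s0 1 * g'⁻¹ = xU hK s (b : F) := by rw [hb' 1, hw', mul_one]
    have hR : xU hK r ((a : F) * t) ∈ S.G1 := e1 ▸ mul_mem (mul_mem hg (hG t ht)) (inv_mem hg)
    have hS : xU hK s (b : F) ∈ S.G1 := e2 ▸ mul_mem (mul_mem hg' hb) (inv_mem hg')
    have h := hK.conj_formula hr hs hsr hneg ((a : F) * t) (b : F)
    have hm := Subgroup.commutator_mem_commutator (inv_mem hS) (inv_mem hR)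
    rw [commutatorElement_def, inv_inv, inv_inv] at hm
    have e3 : wordU hK (D.commWord F r s ((a : F) * t) (b : F)) = xU hK p (c * t) := by
      simp only [ChevalleyDatum.commWord, hK.toGood.commTerms_eq hr hs, hcomm, List.map_cons, List.map_nil,
        wordU, List.prod_cons, List.prod_nil, mul_one, pow_one]
      congr 1
      rw [hc]
      ring
    rw [← e3, show wordU hK (D.commWord F r s ((a : F) * t) (b : F)) =
      (xU hK s (b : F))⁻¹ * (xU hK r ((a : F) * t))⁻¹ * xU hK s (b : F) * xU hK r ((a : F) * t) by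
        rw [mul_assoc (xU hK s (b : F))⁻¹, mul_assoc (xU hK s (b : F))⁻¹, h]; group]
    exact hm
  have hc0 : c ≠ 0 := by
    rcases hz with h | h <;> simp [hc, h]
  have hle : ⁅S.G1, S.G1⁆ ≤ T.fix := le_trans
    (Subgroup.commutator_le.2 fun x hx y hy => mul_mem (mul_mem (mul_mem hx hy) (inv_mem hx)) (inv_mem hy))
    S.le_fix
  let f : {t : F // xU hK p t ∈ T.fix} → {t : F // xU hK p t ∈ T.fix} :=
    fun t => ⟨c * t.1, hle (key t.1 t.2)⟩
  have hf : Function.Injective f := fun x y e =>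
    Subtype.ext (mul_left_cancel₀ hc0 (congrArg Subtype.val e))
  intro t ht
  obtain ⟨u, hu⟩ := (Finite.injective_iff_surjective.1 hf) ⟨t, ht⟩
  rw [← show c * u.1 = t from congrArg Subtype.val hu]
  exact key u.1 u.2

/-- fixed torus elements of one root from root elements -/
theorem nU_mem (i : Fin D.rank) {a : F} (h1 : xU T.hC.fine (K.p i.val) a ∈ S.G1)
    (h2 : xU T.hC.fine (K.neg (K.p i.val)) (-a⁻¹) ∈ S.G1) : nU T.hC.fine (K.p i.val) a ∈ S.G1 := by
  rw [nU_expand]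
  exact mul_mem (mul_mem h1 h2) h1

end TwistGrp

end CfsgLib.Chev
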