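import Cfsg.Agent.Chev.Twist
import Cfsg.Agent.Chev.Structure
import Cfsg.Agent.Base.BNPairProps
import Cfsg.Agent.Base.BNPairCoxeter

/-!
The subgroup generated by the fixed parts of the root subgroups of the orbits: unipotent part,
Bruhat decomposition, (B,N)-pair.
-/

set_option autoImplicit false

namespace CfsgLib.Chev

open Cfsg.Lie Fine

variable {K : Data} {D : ChevalleyDatum} {F : Type*} [Field F]

/-- orbits of the symmetry on the fundamental roots and the generated subgroup -/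
structure TwistGrp (T : Twist K D F) (n : ℕ) where
  G1 : Subgroup (GL D.Idx F)
  orb : Fin n → Set ℕ
  orb_lt : ∀ j, ∀ i ∈ orb j, i < D.rank
  orb_cover : ∀ i : Fin D.rank, ∃ j, i.val ∈ orb j
  orb_inj : ∀ j j' : Fin n, ∀ i : ℕ, i ∈ orb j → i ∈ orb j' → j = j'
  orb_π : ∀ j, ∀ i : Fin D.rank, i.val ∈ orb j → (T.π i).val ∈ orb j
  orb_trans : ∀ j, ∀ i i' : Fin D.rank, i.val ∈ orb j → i'.val ∈ orb j → ∃ m : ℕ, (T.π ^ m) i = i'
  orb_ne : ∀ j, ∃ i : Fin D.rank, i.val ∈ orb j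
  gen : G1 ≤ Subgroup.closure {g | g ∈ T.fix ∧ ∃ j, g ∈ genU T.hC.fine F (subPos K D (orb j)) ∨
    g ∈ genU T.hC.fine F (negSub K D (orb j))}
  posX : ∀ j, T.fix ⊓ genU T.hC.fine F (subPos K D (orb j)) ≤ G1
  negX : ∀ j, ∃ x ∈ G1, x ≠ 1 ∧ x ∈ genU T.hC.fine F (negSub K D (orb j))

namespace Twist

variable (T : Twist K D F)

theorem fix_conj {a b : GL D.Idx F} (ha : a ∈ T.fix) (hb : b ∈ T.fix) : a⁻¹ * b * a ∈ T.fix :=
  mul_mem (mul_mem (inv_mem ha) hb) ha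

theorem fix_conj' {a b : GL D.Idx F} (ha : a ∈ T.fix) (hb : b ∈ T.fix) : a * b * a⁻¹ ∈ T.fix :=
  mul_mem (mul_mem ha hb) (inv_mem ha)

/-- fixed unipotent elements attached to a Weyl group element -/
noncomputable def X (w : Equiv.Perm (Fin D.nroots)) : Subgroup (GL D.Idx F) :=
  T.fix ⊓ genU T.hC.fine F (invSet K D w)

theorem X_le_pos (w : Equiv.Perm (Fin D.nroots)) : T.X w ≤ T.fix ⊓ D.posUnipotent F :=
  inf_le_inf_left _ (T.hC.fine.invSet_le_pos w)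

theorem maxRep_weylFix {J : Set ℕ} (hJ : ∀ i : Fin D.rank, i.val ∈ J ↔ (T.π i).val ∈ J)
    {v : Equiv.Perm (Fin D.nroots)} (hv : v ∈ weylSub T.hC.fine J) (h : MaxRep T.hC.fine J v) :
    v ∈ T.weylFix := by
  have hconj : T.ρ * v * T.ρ⁻¹ ∈ weylSub T.hC.fine J := by
    clear h
    induction hv using Subgroup.closure_induction with
    | mem x hx =>
      obtain ⟨i, hi, rfl⟩ := hx
      rw [T.ρ_sPerm, mul_inv_cancel_right]
      exact T.hC.sPerm_mem_weylSub ((hJ i).1 hi)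
    | one => simp
    | mul a b _ _ ha hb =>
      rw [show T.ρ * (a * b) * T.ρ⁻¹ = T.ρ * a * T.ρ⁻¹ * (T.ρ * b * T.ρ⁻¹) by group]
      exact mul_mem ha hb
    | inv a _ ha =>
      rw [show T.ρ * a⁻¹ * T.ρ⁻¹ = (T.ρ * a * T.ρ⁻¹)⁻¹ by group]
      exact inv_mem ha
  have hmax : MaxRep T.hC.fine J (T.ρ * v * T.ρ⁻¹) := by
    intro i hi
    obtain ⟨k, rfl⟩ := T.π.surjective i
    rw [show (T.ρ * v * T.ρ⁻¹) (pFin T.hC.fine (T.π k)) = T.ρ (v (T.ρ⁻¹ (pFin T.hC.fine (T.π k))))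
      from rfl, ← T.ρ_pFin, show T.ρ⁻¹ (T.ρ (pFin T.hC.fine k)) = pFin T.hC.fine k from
      T.ρ.symm_apply_apply _, ← not_le, T.ρ_pos, not_le]
    exact h k ((hJ k).2 hi)
  have e := T.hC.maxRep_unique hconj hv hmax h
  exact T.mem_weylFix.2 ⟨T.hC.weylSub_le J hv, mul_inv_eq_iff_eq_mul.1 e⟩

theorem moves_weylFix {g : GL D.Idx F} (hg : g ∈ T.fix) (hgN : g ∈ D.monomialSubgroup F)
    {w : Equiv.Perm (Fin D.nroots)} (hw : Moves T.hC.fine g w) : w ∈ T.weylFix := by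
  have hK := T.hC.fine
  obtain ⟨w', hw', v, hv, g', hg', hm', u, hu, e⟩ := T.fix_decomp hg
  have hH := hK.normal_form_index (Subgroup.mem_sup_left hv.2) (one_mem _) hg'.2 hgN
    (hK.invSet_le_pos _ hu.2) (one_mem _) (show v * g' * u = 1 * g * 1 by rw [← e, one_mul, mul_one])
  rw [inv_mul_eq_one.1
    (hK.moves_unique (hK.moves_diagonal hH) (hK.moves_mul (hK.moves_inv hm') hw)).symm] at hw'
  exact hw'

theorem fix_borel {b : GL D.Idx F} (hb : b ∈ D.borelSubgroup F) (hf : b ∈ T.fix) :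
    ∃ v ∈ T.fix ⊓ D.posUnipotent F, ∃ h ∈ T.fix ⊓ D.diagonalSubgroup F, b = v * h := by
  have hK := T.hC.fine
  obtain ⟨v, hv, h, hh, rfl⟩ := hK.mem_borel_iff.1 hb
  have hvG := hK.posUnipotent_le_group hv
  have hhG := hK.diagonal_le_group hh
  have e : T.app v * T.app h = v * h := by rw [← T.app_mul hvG hhG]; exact hf.2
  have hmem : v⁻¹ * T.app v ∈ D.posUnipotent F ⊓ D.diagonalSubgroup F := by
    refine ⟨Subgroup.mul_mem _ (Subgroup.inv_mem _ hv) (T.app_pos hv), ?_⟩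
    rw [show v⁻¹ * T.app v = h * (T.app h)⁻¹ by rw [eq_mul_inv_iff_mul_eq, mul_assoc, e]; group]
    exact Subgroup.mul_mem _ hh (Subgroup.inv_mem _ (T.app_diagonal hh))
  rw [hK.pos_inf_diagonal, Subgroup.mem_bot] at hmem
  have hv2 : T.app v = v := (inv_mul_eq_one.1 hmem).symm
  rw [hv2] at e
  exact ⟨v, ⟨⟨hvG, hv2⟩, hv⟩, h, ⟨⟨hhG, mul_left_cancel e⟩, hh⟩, rfl⟩

include T in
/-- a fixed monomial element is determined by the cell -/
theorem cell_mon_eq {v g g' u : GL D.Idx F} (hv : v ∈ D.posUnipotent F) (hg : g ∈ D.monomialSubgroup F)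
    (hg' : g' ∈ D.monomialSubgroup F) (hu : u ∈ D.posUnipotent F) (e : g = v * g' * u) : g = g' := by
  have hK := T.hC.fine
  obtain ⟨L, hm⟩ := hK.exists_moves hg
  have hH := hK.normal_form_index (one_mem _) (Subgroup.mem_sup_left hv) hg hg' (one_mem _) hu
    (show 1 * g * 1 = v * g' * u by rw [one_mul, mul_one, e])
  have hk : g' * g⁻¹ ∈ D.diagonalSubgroup F := by
    have := (Subgroup.mem_normalizer_iff.1 (hK.monomial_le_normalizer_diagonal hg) _).1 hH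
    rwa [show g * (g⁻¹ * g') * g⁻¹ = g' * g⁻¹ by group] at this
  have e2 : g * u⁻¹ * g⁻¹ = v * (g' * g⁻¹) := by
    nth_rewrite 1 [e]
    group
  have hb : g * u⁻¹ * g⁻¹ ∈ D.borelSubgroup F :=
    e2 ▸ mul_mem (Subgroup.mem_sup_left hv) (Subgroup.mem_sup_right hk)
  have hk2 := hK.conj_keepSet_mem_pos hm
    (T.mem_keep_of_conj_pos (hK.mem_weylGrp_iff.2 ⟨L, rfl⟩) hm (inv_mem hu) hb)
  have hmem : g' * g⁻¹ ∈ D.posUnipotent F ⊓ D.diagonalSubgroup F := by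
    refine ⟨?_, hk⟩
    rw [show g' * g⁻¹ = v⁻¹ * (g * u⁻¹ * g⁻¹) by rw [e2, inv_mul_cancel_left]]
    exact Subgroup.mul_mem _ (Subgroup.inv_mem _ hv) hk2
  rw [hK.pos_inf_diagonal, Subgroup.mem_bot, mul_inv_eq_one] at hmem
  exact hmem.symm

end Twist

namespace TwistGrp

variable {T : Twist K D F} {n : ℕ} (S : TwistGrp T n)

theorem le_fix : S.G1 ≤ T.fix := le_trans S.gen ((Subgroup.closure_le _).2 fun _ h => h.1)

theorem orb_iff (j : Fin n) (i : Fin D.rank) : i.val ∈ S.orb j ↔ (T.π i).val ∈ S.orb j := by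
  refine ⟨S.orb_π j i, fun h => ?_⟩
  obtain ⟨j', hj'⟩ := S.orb_cover i
  rwa [S.orb_inj j j' _ h (S.orb_π j' i hj')]

/-- all roots of an orbit descend together -/
theorem desc_all {w : Equiv.Perm (Fin D.nroots)} (hw : T.ρ * w = w * T.ρ) {j : Fin n} {i : Fin D.rank}
    (hi : i.val ∈ S.orb j) (hd : (w (pFin T.hC.fine i)).val < K.npos) : MaxRep T.hC.fine (S.orb j) w := by
  intro k hk
  obtain ⟨m, rfl⟩ := S.orb_trans j i k hi hk
  clear hk
  induction m with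
  | zero => simpa using hd
  | succ m ih => rw [pow_succ', Equiv.Perm.mul_apply, T.descent_iff hw]; exact ih

theorem minRep_or_maxRep {w : Equiv.Perm (Fin D.nroots)} (hw : T.ρ * w = w * T.ρ) (j : Fin n) :
    MinRep T.hC.fine (S.orb j) w ∨ MaxRep T.hC.fine (S.orb j) w := by
  refine or_iff_not_imp_left.2 fun h => ?_
  simp only [MinRep, not_forall, not_le] at h
  obtain ⟨i, hi, hd⟩ := h
  exact S.desc_all hw hi hd

/-- the longest element of an orbit -/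
noncomputable def wJ (j : Fin n) : Equiv.Perm (Fin D.nroots) := (T.hC.exists_maxRep (S.orb j)).choose

theorem wJ_mem (j : Fin n) : S.wJ j ∈ weylSub T.hC.fine (S.orb j) :=
  (T.hC.exists_maxRep (S.orb j)).choose_spec.1

theorem wJ_max (j : Fin n) : MaxRep T.hC.fine (S.orb j) (S.wJ j) :=
  (T.hC.exists_maxRep (S.orb j)).choose_spec.2

theorem wJ_weyl (j : Fin n) : S.wJ j ∈ weylGrp T.hC.fine := T.hC.weylSub_le _ (S.wJ_mem j)

theorem wJ_fix (j : Fin n) : S.wJ j ∈ T.weylFix :=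
  T.maxRep_weylFix (S.orb_iff j) (S.wJ_mem j) (S.wJ_max j)

theorem wJ_comm (j : Fin n) : T.ρ * S.wJ j = S.wJ j * T.ρ := (T.mem_weylFix.1 (S.wJ_fix j)).2

theorem invSet_wJ (j : Fin n) : invSet K D (S.wJ j) = subPos K D (S.orb j) :=
  T.hC.invSet_maxRep (S.wJ_mem j) (S.wJ_max j)

theorem X_wJ (j : Fin n) : T.X (S.wJ j) = T.fix ⊓ genU T.hC.fine F (subPos K D (S.orb j)) := by
  rw [Twist.X, S.invSet_wJ]

theorem wJ_inv (j : Fin n) : (S.wJ j)⁻¹ = S.wJ j := by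
  refine T.hC.maxRep_unique (Subgroup.inv_mem _ (S.wJ_mem j)) (S.wJ_mem j) ?_ (S.wJ_max j)
  intro i hi
  have hp : K.p i.val ∈ subPos K D (S.orb j) :=
    ⟨⟨T.hC.fine.toGood.npos_le_p i.isLt, T.hC.fine.toGood.p_lt i.isLt⟩, (T.hC.inRootSub_p i.isLt).2 hi⟩
  rw [← (T.hC.invSet_maxRep_inv (S.wJ_mem j) (S.wJ_max j)).1] at hp
  have h := hp.2
  rwa [show K.p i.val = (pFin T.hC.fine i).val from rfl, permNat_fin] at h

theorem wJ_sq (j : Fin n) : S.wJ j * S.wJ j = 1 := by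
  nth_rewrite 1 [← S.wJ_inv j]
  exact inv_mul_cancel _

theorem wJ_subPos (j : Fin n) {r : ℕ} (hr : r ∈ subPos K D (S.orb j)) :
    r < D.nroots ∧ permNat (S.wJ j) r ∈ negSub K D (S.orb j) := by
  have hlt := Comb.MaxRep.neg T.hC (S.wJ_weyl j) (S.wJ_max j) r hr
  have h2 := permNat_lt (σ := S.wJ j) hr.1.2
  refine ⟨hr.1.2, h2, ⟨(T.hC.neg_lt_iff h2).2.2 hlt, T.hC.fine.toGood.Kneg_lt h2⟩,
    (T.hC.inRootSub_neg h2).2 ?_⟩
  rw [show permNat (S.wJ j) r = (S.wJ j ⟨r, hr.1.2⟩).val from permNat_fin _ ⟨r, hr.1.2⟩]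
  exact (T.hC.weylSub_inRootSub (S.wJ_mem j) ⟨r, hr.1.2⟩).2 hr.2

theorem negSub_lt (j : Fin n) {r : ℕ} (hr : r ∈ negSub K D (S.orb j)) : r < K.npos :=
  (T.hC.neg_lt_iff hr.1).2.1 hr.2.1.1

theorem negSub_le_neg (j : Fin n) :
    genU T.hC.fine F (negSub K D (S.orb j)) ≤ D.negUnipotent F := by
  rw [T.hC.fine.negUnipotent_eq]
  exact T.hC.fine.genU_mono fun r hr => S.negSub_lt j hr

theorem wJ_negSub (j : Fin n) {r : ℕ} (hr : r ∈ negSub K D (S.orb j)) :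
    r < D.nroots ∧ permNat (S.wJ j) r ∈ subPos K D (S.orb j) := by
  obtain ⟨hrn, hsub⟩ := hr
  obtain ⟨h1, h2, h3⟩ := S.wJ_subPos j hsub
  rw [T.hC.permNat_neg (S.wJ_weyl j) hrn, T.hC.fine.toGood.Kneg_Kneg (permNat_lt hrn)] at h3
  exact ⟨hrn, h3⟩

theorem conj_pos_neg (j : Fin n) {g m : GL D.Idx F} (hg : Moves T.hC.fine g (S.wJ j))
    (hm : m ∈ genU T.hC.fine F (subPos K D (S.orb j))) :
    g * m * g⁻¹ ∈ genU T.hC.fine F (negSub K D (S.orb j)) :=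
  T.hC.fine.conj_genU_le hg (fun _ hr => S.wJ_subPos j hr) hm

theorem conj_neg_pos (j : Fin n) {g x : GL D.Idx F} (hg : Moves T.hC.fine g (S.wJ j))
    (hx : x ∈ genU T.hC.fine F (negSub K D (S.orb j))) :
    g⁻¹ * x * g ∈ genU T.hC.fine F (subPos K D (S.orb j)) := by
  have h := T.hC.fine.conj_genU_le (T.hC.fine.moves_inv hg)
    (T := subPos K D (S.orb j)) (fun r hr => by rw [S.wJ_inv]; exact S.wJ_negSub j hr) hx
  rwa [inv_inv] at h

theorem genU_levi (J : Set ℕ) {R : Set ℕ} (hR : ∀ r ∈ R, D.InRootSub J r) :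
    genU T.hC.fine F R ≤ D.leviSubgroup F J := by
  refine (Subgroup.closure_le _).2 ?_
  rintro g ⟨r, hr, t, rfl⟩
  exact Subgroup.mem_sup_right (Subgroup.subset_closure ⟨r, t, hR r hr, coe_xU _ _ _⟩)

theorem monSub_levi (J : Set ℕ) : monSub T.hC.fine F J ≤ D.leviSubgroup F J := by
  have hG := T.hC.fine.toGood
  refine sup_le le_sup_left ((Subgroup.closure_le _).2 ?_)
  rintro g ⟨i, hi, rfl⟩
  refine genU_levi (T := T) (R := {r | D.InRootSub J r}) J (fun r hr => hr) ?_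
  refine T.hC.fine.wordU_mem_genU fun p hp => ?_
  have h1 : D.InRootSub J (K.p i.val) := (T.hC.inRootSub_p i.isLt).2 hi
  simp only [ChevalleyDatum.nWord, hG.simple_eq i.isLt, hG.neg_eq (hG.p_lt i.isLt), ← hG.Kneg_eq,
    List.mem_cons, List.not_mem_nil, or_false] at hp
  rcases hp with rfl | rfl | rfl
  · exact h1
  · exact (T.hC.inRootSub_neg (hG.p_lt i.isLt)).2 h1
  · exact h1

/-- the rank one decomposition -/
theorem neg_decomp (j : Fin n) {x : GL D.Idx F} (hx : x ∈ T.fix)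
    (hxn : x ∈ genU T.hC.fine F (negSub K D (S.orb j))) (hne : x ≠ 1) :
    ∃ v ∈ T.X (S.wJ j), ∃ g ∈ T.fix ⊓ D.monomialSubgroup F, Moves T.hC.fine g (S.wJ j) ∧
      ∃ m ∈ T.X (S.wJ j), x = v * g * m := by
  have hK := T.hC.fine
  set J := S.orb j
  obtain ⟨w, hw, v, hv, g, hg, hgm, m, hm, e⟩ := T.fix_decomp hx
  obtain ⟨hwW, hwρ⟩ := T.mem_weylFix.1 hw
  -- the monomial factor lies in the parabolic subgroup
  have hxP : x ∈ D.parabolicSubgroup F J := by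
    have hg0 : Moves hK (nOf hK F ⟨S.wJ j, S.wJ_weyl j⟩) (S.wJ j) := T.hC.nOf_moves ⟨S.wJ j, S.wJ_weyl j⟩
    have hin := T.hC.pos_le_parabolic J
      (by rw [hK.posUnipotent_eq]; exact hK.genU_mono (fun r hr => hr.1) (S.conj_neg_pos j hg0 hxn) :
        (nOf hK F ⟨S.wJ j, S.wJ_weyl j⟩)⁻¹ * x * nOf hK F ⟨S.wJ j, S.wJ_weyl j⟩ ∈ D.posUnipotent F)
    have hP : nOf hK F ⟨S.wJ j, S.wJ_weyl j⟩ ∈ D.parabolicSubgroup F J :=
      (T.hC.nOf_mem_parabolic_iff J _).2 (S.wJ_mem j)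
    have h := mul_mem (mul_mem hP hin) (inv_mem hP)
    rwa [show ∀ a b : GL D.Idx F, a * (a⁻¹ * b * a) * a⁻¹ = b from fun a b => by group] at h
  have hgP : g ∈ D.parabolicSubgroup F J := by
    rw [show g = v⁻¹ * x * m⁻¹ by rw [e]; group]
    exact mul_mem (mul_mem (inv_mem (T.hC.pos_le_parabolic J hv.2)) hxP)
      (inv_mem (T.hC.pos_le_parabolic J (hK.invSet_le_pos _ hm.2)))
  obtain ⟨L, h0, hh0, eL⟩ := hK.exists_sWord hg.2
  have hwL : w = wPerm hK L := by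
    have := hK.moves_mul (hK.moves_diagonal hh0) (hK.moves_sWord (F := F) L)
    rw [one_mul, ← eL] at this
    exact hK.moves_unique hgm this
  have hLP : sWord hK F L ∈ D.parabolicSubgroup F J := by
    rw [show sWord hK F L = h0⁻¹ * g by rw [eL]; group]
    exact mul_mem (inv_mem (T.hC.diagonal_le_parabolic J hh0)) hgP
  have hwJ' : wPerm hK L ∈ weylSub hK J := (T.hC.sWord_mem_parabolic_iff J L).1 hLP
  -- it is the longest element
  have hw1 : w ≠ 1 := by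
    intro h1
    have hgH : g ∈ D.diagonalSubgroup F := hK.mem_diagonal_of_moves_one hg.2 (h1 ▸ hgm)
    have hxB : x ∈ D.borelSubgroup F := by
      rw [e]
      exact mul_mem (mul_mem (Subgroup.mem_sup_left hv.2) (Subgroup.mem_sup_right hgH))
        (Subgroup.mem_sup_left (hK.invSet_le_pos _ hm.2))
    refine hne (Subgroup.mem_bot.1 ?_)
    rw [← hK.borel_inf_neg]
    exact ⟨hxB, S.negSub_le_neg j hxn⟩
  obtain ⟨i, hi⟩ := hK.exists_descent L.length L le_rfl (hwL ▸ hw1)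
  have hiJ : i.val ∈ J := T.hC.descent_mem (T.hC.weylSub_outSet hwJ') hi
  rw [← hwL] at hi hwJ'
  have hww : w = S.wJ j :=
    T.hC.maxRep_unique hwJ' (S.wJ_mem j) (S.desc_all hwρ hiJ hi) (S.wJ_max j)
  subst hww
  obtain ⟨p, hp, v', hv', ev⟩ := T.fix_split hw hv.2 hv.1
  have hout : keepSet K D (S.wJ j) ⊆ outSet K D J := fun r hr => by
    refine (Comb.mem_subPos_or_outSet J hr.1.1 hr.1.2).resolve_left fun hs => ?_
    have := Comb.MaxRep.neg T.hC hwW (S.wJ_max j) r hs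
    have := hr.2
    omega
  have hp1 : p = 1 := by
    refine Subgroup.mem_bot.1 ?_
    rw [← T.hC.radical_inf_levi J]
    refine ⟨by rw [SetLike.mem_coe, T.hC.unipotentRadical_eq]; exact hK.genU_mono hout hp.2, ?_⟩
    have hUJ : ∀ {y : GL D.Idx F}, y ∈ genU hK F (invSet K D (S.wJ j)) → y ∈ D.leviSubgroup F J :=
      fun hy => genU_levi (T := T) J (fun r hr => (S.invSet_wJ j ▸ hr : r ∈ subPos K D J).2) hy
    have hgL : g ∈ D.leviSubgroup F J := by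
      rw [eL]
      exact Subgroup.mul_mem _ (Subgroup.mem_sup_left hh0) (monSub_levi (T := T) J
        ((T.hC.stab_outSet (F := F) L.length L le_rfl (T.hC.weylSub_outSet (hwL ▸ S.wJ_mem j))).1))
    have hxL : x ∈ D.leviSubgroup F J :=
      genU_levi (T := T) J (fun r hr => (T.hC.inRootSub_neg hr.1).1 hr.2.2) hxn
    show p ∈ D.leviSubgroup F J
    rw [show p = x * m⁻¹ * g⁻¹ * v'⁻¹ by rw [e, ev]; group]
    exact mul_mem (mul_mem (mul_mem hxL (inv_mem (hUJ hm.2))) (inv_mem hgL)) (inv_mem (hUJ hv'.2))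
  refine ⟨v', hv', g, hg, hgm, m, hm, ?_⟩
  rw [e, ev, hp1, one_mul]

theorem neg_mem_G1_aux (j : Fin n) :
    ∃ g ∈ S.G1 ⊓ D.monomialSubgroup F, Moves T.hC.fine g (S.wJ j) := by
  obtain ⟨x, hxG, hne, hxn⟩ := S.negX j
  obtain ⟨v, hv, g, hg, hgm, m, hm, e⟩ := S.neg_decomp j (S.le_fix hxG) hxn hne
  refine ⟨g, ⟨?_, hg.2⟩, hgm⟩
  show g ∈ S.G1
  rw [show g = v⁻¹ * x * m⁻¹ by rw [e]; group]
  rw [S.X_wJ] at hv hm
  exact mul_mem (mul_mem (inv_mem (S.posX j hv)) hxG) (inv_mem (S.posX j hm))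

/-- representatives of the longest elements of the orbits -/
noncomputable def nu (j : Fin n) : GL D.Idx F := (S.neg_mem_G1_aux j).choose

theorem nu_mem (j : Fin n) : S.nu j ∈ S.G1 := (S.neg_mem_G1_aux j).choose_spec.1.1

theorem nu_mon (j : Fin n) : S.nu j ∈ D.monomialSubgroup F := (S.neg_mem_G1_aux j).choose_spec.1.2

theorem nu_moves (j : Fin n) : Moves T.hC.fine (S.nu j) (S.wJ j) := (S.neg_mem_G1_aux j).choose_spec.2

theorem nu_fix (j : Fin n) : S.nu j ∈ T.fix := S.le_fix (S.nu_mem j)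

theorem negX_mem (j : Fin n) {x : GL D.Idx F} (hx : x ∈ T.fix)
    (hxn : x ∈ genU T.hC.fine F (negSub K D (S.orb j))) : x ∈ S.G1 := by
  have h := S.posX j (show (S.nu j)⁻¹ * x * S.nu j ∈ _ from
    ⟨T.fix_conj (S.nu_fix j) hx, S.conj_neg_pos j (S.nu_moves j) hxn⟩)
  have h2 := mul_mem (mul_mem (S.nu_mem j) h) (inv_mem (S.nu_mem j))
  rwa [show ∀ a : GL D.Idx F, a * (a⁻¹ * x * a) * a⁻¹ = x from fun a => by group] at h2

/-! ### Induction over the fixed Weyl group elements -/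

theorem minRep_mul_wJ {w : Equiv.Perm (Fin D.nroots)} (hw : w ∈ weylGrp T.hC.fine) {j : Fin n}
    (h : MaxRep T.hC.fine (S.orb j) w) : MinRep T.hC.fine (S.orb j) (w * S.wJ j) := by
  intro i hi
  obtain ⟨-, hn⟩ := S.wJ_subPos j (r := K.p i.val)
    ⟨⟨T.hC.fine.toGood.npos_le_p i.isLt, T.hC.fine.toGood.p_lt i.isLt⟩, (T.hC.inRootSub_p i.isLt).2 hi⟩
  rw [show K.p i.val = (pFin T.hC.fine i).val from rfl, permNat_fin] at hn
  obtain ⟨hlt, hsub⟩ := hn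
  have h2 := Comb.MaxRep.neg T.hC hw h _ hsub
  rw [T.hC.permNat_neg hw hlt, permNat_fin] at h2
  rw [Equiv.Perm.mul_apply]
  by_contra hc
  have := (T.hC.neg_lt_iff (w (S.wJ j (pFin T.hC.fine i))).isLt).2.2 (Nat.lt_of_not_le hc)
  omega

theorem subPos_ne (j : Fin n) : 0 < (invSet K D (S.wJ j)).ncard := by
  rw [S.invSet_wJ, Set.ncard_pos ((Set.finite_Iio D.nroots).subset fun r hr => hr.1.2)]
  obtain ⟨i, hi⟩ := S.orb_ne j
  exact ⟨K.p i.val, ⟨T.hC.fine.toGood.npos_le_p i.isLt, T.hC.fine.toGood.p_lt i.isLt⟩,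
    (T.hC.inRootSub_p i.isLt).2 hi⟩

theorem weylFix_induction {P : Equiv.Perm (Fin D.nroots) → Prop} (h1 : P 1)
    (hs : ∀ (j : Fin n) (w : Equiv.Perm (Fin D.nroots)), w ∈ T.weylFix →
      MinRep T.hC.fine (S.orb j) w → P w → P (w * S.wJ j))
    {w : Equiv.Perm (Fin D.nroots)} (hw : w ∈ T.weylFix) : P w := by
  suffices key : ∀ (k : ℕ) (w : Equiv.Perm (Fin D.nroots)), w ∈ T.weylFix →
      (invSet K D w).ncard = k → P w from key _ w hw rfl
  intro k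
  induction k using Nat.strong_induction_on with
  | _ k ih =>
    intro w hw hk
    by_cases hw1 : w = 1
    · rw [hw1]; exact h1
    obtain ⟨hwW, hwρ⟩ := T.mem_weylFix.1 hw
    obtain ⟨L, hL⟩ := T.hC.fine.mem_weylGrp_iff.1 hwW
    obtain ⟨i, hi⟩ := T.hC.fine.exists_descent L.length L le_rfl (hL ▸ hw1)
    rw [hL] at hi
    obtain ⟨j, hj⟩ := S.orb_cover i
    have hmin := S.minRep_mul_wJ hwW (S.desc_all hwρ hj hi)
    have hw' := mul_mem hw (S.wJ_fix j)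
    have hN := T.hC.invSet_mul (T.mem_weylFix.1 hw').1 hmin (S.wJ_mem j)
    rw [mul_assoc, S.wJ_sq, mul_one] at hN
    have hlt : (invSet K D (w * S.wJ j)).ncard < k := by
      have := S.subPos_ne j
      omega
    have := hs j _ hw' hmin (ih _ hlt _ hw' rfl)
    rwa [mul_assoc, S.wJ_sq, mul_one] at this

theorem weylFix_eq : T.weylFix = Subgroup.closure (Set.range S.wJ) := by
  refine le_antisymm (fun w hw => ?_) ((Subgroup.closure_le _).2 ?_)
  · exact S.weylFix_induction (P := fun w => w ∈ Subgroup.closure (Set.range S.wJ)) (one_mem _)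
      (fun j _ _ _ h => mul_mem h (Subgroup.subset_closure ⟨j, rfl⟩)) hw
  · rintro _ ⟨j, rfl⟩
    exact S.wJ_fix j

theorem exists_moves_G1 {w : Equiv.Perm (Fin D.nroots)} (hw : w ∈ T.weylFix) :
    ∃ g ∈ S.G1 ⊓ D.monomialSubgroup F, Moves T.hC.fine g w :=
  S.weylFix_induction (P := fun w => ∃ g ∈ S.G1 ⊓ D.monomialSubgroup F, Moves T.hC.fine g w)
    ⟨1, one_mem _, T.hC.fine.moves_one⟩
    (fun j _ _ _ ⟨g, hg, hgm⟩ => ⟨g * S.nu j, mul_mem hg ⟨S.nu_mem j, S.nu_mon j⟩,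
      T.hC.fine.moves_mul hgm (S.nu_moves j)⟩) hw

/-- the splitting of a fixed unipotent group along an orbit -/
theorem X_step {j : Fin n} {w : Equiv.Perm (Fin D.nroots)} (hw : w ∈ T.weylFix)
    (hmin : MinRep T.hC.fine (S.orb j) w) :
    (∀ a ∈ T.X w, (S.nu j)⁻¹ * a * S.nu j ∈ genU T.hC.fine F (keepSet K D (S.wJ j))) ∧
    (∀ a ∈ T.X w, ∀ b ∈ T.X (S.wJ j), (S.nu j)⁻¹ * a * S.nu j * b ∈ T.X (w * S.wJ j)) ∧
    (∀ u ∈ T.X (w * S.wJ j), ∃ a ∈ T.X w, ∃ b ∈ T.X (S.wJ j), u = (S.nu j)⁻¹ * a * S.nu j * b) := by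
  have hK := T.hC.fine
  obtain ⟨hwW, -⟩ := T.mem_weylFix.1 hw
  have hJ := S.wJ_weyl j
  obtain ⟨g, hg⟩ : ∃ g : GL D.Idx F, Moves hK g w := ⟨_, T.hC.nOf_moves ⟨w, hwW⟩⟩
  have hgn := hK.moves_mul hg (S.nu_moves j)
  have hsub : invSet K D (S.wJ j) ⊆ invSet K D (w * S.wJ j) := by
    intro r hr
    refine ⟨hr.1, ?_⟩
    rw [Comb.permNat_comp _ _ hr.1.2]
    obtain ⟨h1, h2⟩ := S.wJ_subPos j (S.invSet_wJ j ▸ hr : r ∈ subPos K D (S.orb j))
    have hpos := Comb.MinRep.pos T.hC hwW hmin _ h2.2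
    rw [T.hC.permNat_neg hwW h2.1] at hpos
    by_contra hc
    have := (T.hC.neg_lt_iff (permNat_lt (σ := w) h2.1)).1.2 (Nat.le_of_not_lt hc)
    omega
  have hout : invSet K D w ⊆ outSet K D (S.orb j) := fun r hr =>
    (Comb.mem_subPos_or_outSet _ hr.1.1 hr.1.2).resolve_left fun hs => by
      have := Comb.MinRep.pos T.hC hwW hmin r hs
      have := hr.2
      omega
  have hinv : ∀ a ∈ T.X w, (S.nu j)⁻¹ * a * S.nu j ∈ D.posUnipotent F := by
    intro a ha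
    have h := hK.conj_genU_le (hK.moves_inv (S.nu_moves j))
      (T := {r | K.npos ≤ r ∧ r < D.nroots}) (fun r hr => ?_) ha.2
    · rw [inv_inv] at h
      rwa [hK.posUnipotent_eq]
    · refine ⟨hr.1.2, ?_, permNat_lt hr.1.2⟩
      have h' := hout hr
      rw [← (T.hC.invSet_maxRep_inv (S.wJ_mem j) (S.wJ_max j)).2] at h'
      exact h'.2
  have hcc : ∀ a : GL D.Idx F, S.nu j * ((S.nu j)⁻¹ * a * S.nu j) * (S.nu j)⁻¹ = a := fun a => by group
  refine ⟨fun a ha => ?_, fun a ha b hb => ?_, fun u hu => ?_⟩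
  · refine T.mem_keep_of_conj_pos hJ (S.nu_moves j) (hinv a ha) ?_
    rw [hcc]
    exact Subgroup.mem_sup_left (hK.invSet_le_pos _ ha.2)
  · refine Subgroup.mul_mem _ ⟨T.fix_conj (S.nu_fix j) ha.1, ?_⟩
      ⟨hb.1, hK.genU_mono hsub hb.2⟩
    refine T.mem_inv_of_conj_neg (mul_mem hwW hJ) hgn (hinv a ha) ?_
    rw [show g * S.nu j * ((S.nu j)⁻¹ * a * S.nu j) * (g * S.nu j)⁻¹ = g * a * g⁻¹ by group]
    exact hK.conj_invSet_mem_neg hg ha.2
  · obtain ⟨p, hp, b, hb, e⟩ := T.fix_split (S.wJ_fix j) (hK.invSet_le_pos _ hu.2) hu.1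
    refine ⟨S.nu j * p * (S.nu j)⁻¹, ⟨T.fix_conj' (S.nu_fix j) hp.1, ?_⟩,
      b, hb, by rw [e]; group⟩
    refine T.mem_inv_of_conj_neg hwW hg (hK.conj_keepSet_mem_pos (S.nu_moves j) hp.2) ?_
    have h1 := hK.conj_invSet_mem_neg hgn hu.2
    have h2 := hK.conj_invSet_mem_neg hgn (hK.genU_mono hsub hb.2)
    have h3 := mul_mem h1 (inv_mem h2)
    rwa [show g * S.nu j * u * (g * S.nu j)⁻¹ * (g * S.nu j * b * (g * S.nu j)⁻¹)⁻¹ =
      g * (S.nu j * p * (S.nu j)⁻¹) * g⁻¹ by rw [e]; group] at h3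

theorem X_le_G1 {w : Equiv.Perm (Fin D.nroots)} (hw : w ∈ T.weylFix) : T.X w ≤ S.G1 := by
  refine S.weylFix_induction (P := fun w => T.X w ≤ S.G1) ?_ ?_ hw
  · rintro g ⟨-, hg⟩
    rw [SetLike.mem_coe, show invSet K D (1 : Equiv.Perm (Fin D.nroots)) = ∅ from
      (T.hC.fine.invSet_eq_empty_iff (one_mem _)).2 rfl, genU] at hg
    simp at hg
    rw [hg]
    exact one_mem _
  · intro j w hw hmin ih u hu
    obtain ⟨a, ha, b, hb, rfl⟩ := (S.X_step hw hmin).2.2 u hu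
    rw [S.X_wJ] at hb
    exact mul_mem (mul_mem (mul_mem (inv_mem (S.nu_mem j)) (ih ha)) (S.nu_mem j)) (S.posX j hb)

theorem card_X {Q k : ℕ} (hX : ∀ j, Nat.card (T.X (S.wJ j)) ^ k = Q ^ (invSet K D (S.wJ j)).ncard)
    {w : Equiv.Perm (Fin D.nroots)} (hw : w ∈ T.weylFix) :
    Nat.card (T.X w) ^ k = Q ^ (invSet K D w).ncard := by
  refine S.weylFix_induction (P := fun w => Nat.card (T.X w) ^ k = Q ^ (invSet K D w).ncard) ?_ ?_ hw
  · have he : invSet K D (1 : Equiv.Perm (Fin D.nroots)) = ∅ :=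
      (T.hC.fine.invSet_eq_empty_iff (one_mem _)).2 rfl
    rw [Twist.X, he, genU]
    simp
  · intro j w hw hmin ih
    obtain ⟨hkeep, hmap, hsurj⟩ := S.X_step hw hmin
    let f : T.X w × T.X (S.wJ j) → T.X (w * S.wJ j) := fun x => ⟨_, hmap _ x.1.2 _ x.2.2⟩
    have hf : Function.Bijective f := by
      constructor
      · rintro ⟨a, b⟩ ⟨a', b'⟩ h
        obtain ⟨e1, e2⟩ := T.keep_inv_unique (S.wJ_weyl j) (hkeep _ a.2) (hkeep _ a'.2) b.2.2 b'.2.2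
          (congrArg Subtype.val h)
        exact Prod.ext (Subtype.ext (mul_left_cancel (mul_right_cancel e1))) (Subtype.ext e2)
      · rintro ⟨u, hu⟩
        obtain ⟨a, ha, b, hb, e⟩ := hsurj u hu
        exact ⟨(⟨a, ha⟩, ⟨b, hb⟩), Subtype.ext e.symm⟩
    rw [← Nat.card_eq_of_bijective f hf, Nat.card_prod, mul_pow, ih, hX j,
      T.hC.invSet_mul (T.mem_weylFix.1 hw).1 hmin (S.wJ_mem j), pow_add, mul_comm]

include S in
/-- the fixed longest element -/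
theorem exists_longest_fix : ∃ w ∈ T.weylFix, invSet K D w = {r | K.npos ≤ r ∧ r < D.nroots} := by
  obtain ⟨v, hv, hmax⟩ := T.hC.exists_maxRep (Set.univ : Set ℕ)
  refine ⟨v, T.maxRep_weylFix (fun i => by simp) hv hmax, ?_⟩
  rw [T.hC.invSet_maxRep hv hmax]
  ext r
  exact ⟨fun h => h.1, fun h => ⟨h, h.2, fun i _ hi => absurd (Set.mem_univ i) hi⟩⟩

/-- the fixed positive unipotent elements -/
theorem pos_inf_eq : D.posUnipotent F ⊓ S.G1 = T.fix ⊓ D.posUnipotent F := by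
  refine le_antisymm (fun g hg => ⟨S.le_fix hg.2, hg.1⟩) fun g hg => ⟨hg.2, ?_⟩
  obtain ⟨w, hw, e⟩ := S.exists_longest_fix
  refine S.X_le_G1 hw ⟨hg.1, ?_⟩
  rw [SetLike.mem_coe, e, ← T.hC.fine.posUnipotent_eq]
  exact hg.2

theorem fix_pos_le : T.fix ⊓ D.posUnipotent F ≤ S.G1 := by
  rw [← S.pos_inf_eq]; exact inf_le_right

theorem card_pos {Q k : ℕ} (hX : ∀ j, Nat.card (T.X (S.wJ j)) ^ k = Q ^ (invSet K D (S.wJ j)).ncard) :
    Nat.card ↥(D.posUnipotent F ⊓ S.G1) ^ k = Q ^ (D.nroots - K.npos) := by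
  obtain ⟨w, hw, e⟩ := S.exists_longest_fix
  have h := S.card_X hX hw
  rw [show T.X w = D.posUnipotent F ⊓ S.G1 by rw [S.pos_inf_eq, Twist.X, e, ← T.hC.fine.posUnipotent_eq]]
    at h
  rw [h, e]
  congr 1
  rw [show {r | K.npos ≤ r ∧ r < D.nroots} = Set.Ico K.npos D.nroots from rfl, ← Finset.coe_Ico,
    Set.ncard_coe_finset, Nat.card_Ico]

end TwistGrp

end CfsgLib.Chev
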