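import Cfsg.Agent.Chev.TwistCommon
import Mathlib.GroupTheory.SpecificGroups.Dihedral

/-!
Sorted words of root elements, swapping two root elements, dihedral groups from two involutions.
-/

set_option autoImplicit false
set_option linter.style.haveILetI false

namespace CfsgLib.Chev

open Cfsg.Lie Fine

variable {K : Data} {D : ChevalleyDatum} {F : Type*} [Field F]

namespace Fine

/-- an ordered product supported on a sorted list is that word -/
theorem ordProd_support (hK : Fine K D) {t : ℕ → F} : ∀ (R : List ℕ) (a : ℕ),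
    (∀ r ∈ R, a ≤ r ∧ r < D.nroots) → R.Pairwise (· < ·) →
    (∀ r, a ≤ r → r < D.nroots → r ∉ R → t r = 0) →
      ordProd hK a t = wordU hK (R.map fun r => (r, t r)) := by
  intro R
  induction R with
  | nil =>
    intro a _ _ h
    exact hK.ordProd_zero _ a rfl fun r h1 h2 => h r h1 h2 (List.not_mem_nil)
  | cons p R ih =>
    intro a hR hs h
    rw [List.pairwise_cons] at hs
    obtain ⟨ha, hp⟩ := hR p (by simp)
    rw [hK.ordProd_at hp _ a rfl ha (fun x hx1 hx2 => h x hx1 (by omega) (by
        intro hm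
        rcases List.mem_cons.1 hm with rfl | hm
        · omega
        · have := hs.1 x hm
          omega)),
      ih (p + 1) (fun r hr => ⟨hs.1 r hr, (hR r (List.mem_cons_of_mem _ hr)).2⟩) hs.2 (fun r h1 h2 h3 =>
        h r (by omega) h2 (by
          intro hm
          rcases List.mem_cons.1 hm with rfl | hm
          · omega
          · exact h3 hm))]
    rfl

/-- elements of a closed set of positive roots as sorted words -/
theorem genU_sorted (hK : Fine K D) {R : List ℕ} (hs : R.Pairwise (· < ·))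
    (hS : ClosedPos hK {r | r ∈ R}) {g : GL D.Idx F} (hg : g ∈ genU hK F {r | r ∈ R}) :
    ∃ t : ℕ → F, g = wordU hK (R.map fun r => (r, t r)) := by
  have hsub : ∀ r ∈ {r | r ∈ R}, r ∈ {r | r ∈ {r | r ∈ R} ∧ K.npos ≤ r} := fun r hr => ⟨hr, (hS.pos r hr).1⟩
  obtain ⟨t, ht, rfl⟩ := hK.exists_ordProd hS _ K.npos rfl g (hK.genU_mono hsub hg)
  exact ⟨t, hK.ordProd_support R K.npos (fun r hr => hS.pos r hr) hs fun r _ _ hr => ht r (Or.inl hr)⟩

/-- moving `x_s` past `x_r` -/
theorem xU_swap (hK : Fine K D) {r s : ℕ} (hr : r < D.nroots) (hs : s < D.nroots) (hsr : s ≠ r)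
    (hneg : s ≠ K.neg r) (t u : F) :
    xU hK s u * xU hK r t = xU hK r t * (xU hK s u *
      wordU hK ((K.comm r s).map fun c => (c.1, (c.2.1 : F) * (-t) ^ c.2.2.1 * u ^ c.2.2.2))) := by
  have h := hK.conj_formula hr hs hsr hneg t u
  rw [show (D.commWord F r s t u) =
    (K.comm r s).map fun c => (c.1, (c.2.1 : F) * (-t) ^ c.2.2.1 * u ^ c.2.2.2) by
      rw [ChevalleyDatum.commWord, hK.toGood.commTerms_eq hr hs]] at h
  rw [← h]
  group

end Fine

/-- a hom from a dihedral group given two involutions -/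
theorem exists_dihedral_hom {G : Type*} [Group G] {s t : G} {n : ℕ} (hn : 3 ≤ n) (hs : s * s = 1) (ht : t * t = 1)
    (ho : orderOf (s * t) = n) :
    ∃ f : DihedralGroup n →* G, Function.Injective f ∧ f.range = Subgroup.closure {s, t} := by
  haveI : NeZero n := ⟨by omega⟩
  set x := s * t with hx
  have hxn : x ^ n = 1 := by rw [← ho, pow_orderOf_eq_one]
  let p : ZMod n → G := fun i => x ^ i.val
  have padd : ∀ i j, p (i + j) = p i * p j := fun i j => by
    show x ^ (i + j).val = x ^ i.val * x ^ j.val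
    rw [← pow_add, ZMod.val_add, ← pow_mod_orderOf x (i.val + j.val), ho]
  have p0 : p 0 = 1 := by show x ^ (0 : ZMod n).val = 1; rw [ZMod.val_zero, pow_zero]
  have pneg : ∀ i, p (-i) = (p i)⁻¹ := fun i => by
    rw [eq_inv_iff_mul_eq_one, ← padd, neg_add_cancel, p0]
  have hsinv : s⁻¹ = s := inv_eq_of_mul_eq_one_right hs
  have htinv : t⁻¹ = t := inv_eq_of_mul_eq_one_right ht
  have hsx : s * x * s = x⁻¹ := by
    rw [hx, ← mul_assoc, hs, one_mul, mul_inv_rev, htinv, hsinv]
  have hps : ∀ i, p i * s = s * p (-i) := fun i => by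
    rw [pneg]
    show x ^ i.val * s = s * (x ^ i.val)⁻¹
    have : s * x ^ i.val * s⁻¹ = (x ^ i.val)⁻¹ := by
      rw [← MulAut.conj_apply, map_pow, MulAut.conj_apply, hsinv, hsx, inv_pow]
    rw [← this, hsinv, ← mul_assoc, ← mul_assoc, hs, one_mul]
  let fn : DihedralGroup n → G := fun g => match g with
    | .r i => p i
    | .sr i => s * p i
  let f : DihedralGroup n →* G := MonoidHom.mk' fn (by
    rintro (i | i) (j | j)
    · exact padd i j
    · show s * p (j - i) = p i * (s * p j)
      rw [← mul_assoc, hps, sub_eq_neg_add, padd, mul_assoc]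
    · show s * p (i + j) = s * p i * p j
      rw [padd, mul_assoc]
    · show p (j - i) = s * p i * (s * p j)
      rw [mul_assoc s, ← mul_assoc (p i), hps, ← mul_assoc, ← mul_assoc, hs, one_mul, sub_eq_neg_add, padd])
  have hp1 : p 1 = x := by
    show x ^ (1 : ZMod n).val = x
    haveI : Fact (1 < n) := ⟨by omega⟩
    rw [ZMod.val_one, pow_one]
  refine ⟨f, (injective_iff_map_eq_one _).2 ?_, ?_⟩
  · rintro (i | i) h
    · have h' : x ^ i.val = 1 := h
      have hd := orderOf_dvd_of_pow_eq_one h'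
      rw [ho] at hd
      have := Nat.eq_zero_of_dvd_of_lt hd i.val_lt
      rw [ZMod.val_eq_zero] at this
      rw [this]
      rfl
    · exfalso
      have h' : s * x ^ i.val = 1 := h
      have hsm : s = (x ^ i.val)⁻¹ := eq_inv_of_mul_eq_one_left h'
      have hc : s * x = x * s := by
        rw [hsm]
        exact ((Commute.refl x).pow_left i.val).inv_left.eq
      rw [hc, mul_assoc, hs, mul_one] at hsx
      have h2 : x ^ 2 = 1 := by rw [sq]; nth_rewrite 1 [hsx]; rw [inv_mul_cancel]
      have := Nat.le_of_dvd (by norm_num) (ho ▸ orderOf_dvd_of_pow_eq_one h2)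
      omega
  · refine le_antisymm ?_ ((Subgroup.closure_le _).2 ?_)
    · rintro _ ⟨g, rfl⟩
      have hxm : x ∈ Subgroup.closure ({s, t} : Set G) :=
        mul_mem (Subgroup.subset_closure (Or.inl rfl)) (Subgroup.subset_closure (Or.inr rfl))
      rcases g with i | i
      · exact pow_mem hxm _
      · exact mul_mem (Subgroup.subset_closure (Or.inl rfl)) (pow_mem hxm _)
    · rintro g (rfl | rfl)
      · exact ⟨.sr 0, by show g * p 0 = g; rw [p0, mul_one]⟩
      · exact ⟨.sr 1, by show s * p 1 = _; rw [hp1, hx, ← mul_assoc, hs, one_mul]⟩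

/-- a square root of an even power of an odd power of a prime -/
theorem eq_pow_half {p k c N : ℕ} (hp : p.Prime) (h : c ^ 2 = (p ^ (2 * k + 1)) ^ N) :
    2 ∣ N ∧ c = (p ^ (2 * k + 1)) ^ (N / 2) := by
  rw [← pow_mul] at h
  obtain ⟨j, -, rfl⟩ := (Nat.dvd_prime_pow hp).1 (h ▸ dvd_pow_self c two_ne_zero)
  rw [← pow_mul] at h
  have e := Nat.pow_right_injective hp.two_le h
  have h2 : 2 ∣ N := by
    have : 2 ∣ (2 * k + 1) * N := ⟨j, by omega⟩
    exact (Nat.Coprime.dvd_of_dvd_mul_left (by simp) this)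
  obtain ⟨d, rfl⟩ := h2
  refine ⟨dvd_mul_right 2 d, ?_⟩
  rw [← pow_mul, Nat.mul_div_cancel_left _ (by norm_num : 0 < 2)]
  have : (2 * k + 1) * (2 * d) = 2 * ((2 * k + 1) * d) := by ring
  rw [show j = (2 * k + 1) * d by omega]

end CfsgLib.Chev
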