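import Cfsg.Agent.Chev.Groups

/-!
Subgroups generated by positive root elements: normal form, unitriangularity, nilpotency.
-/

set_option autoImplicit false

namespace CfsgLib.Chev

open Cfsg.Lie Matrix

variable {K : Data} {D : ChevalleyDatum} {F : Type*} [Field F]

/-- the subgroup generated by the root elements of a set of roots -/
def genU (hK : Fine K D) (F : Type*) [Field F] (T : Set ℕ) : Subgroup (GL D.Idx F) :=
  Subgroup.closure {g | ∃ r ∈ T, ∃ t : F, g = xU hK r t}

theorem colList_split (D : ChevalleyDatum) (r j : ℕ) :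
    ∃ L, colList D r j = (j, 0, 1) :: L ∧ ∀ e ∈ L, 0 < e.2.1 := by
  rw [colList]
  split_ifs
  · exact ⟨_, rfl, by simp⟩
  · exact ⟨_, rfl, by simp⟩
  · exact ⟨_, rfl, by simp⟩
  · refine ⟨_, rfl, fun e he => ?_⟩
    simp only [chainCol, List.mem_flatMap, List.mem_map] at he
    obtain ⟨_, -, q, -, rfl⟩ := he
    simp

/-- matrices with unit diagonal raising the weight `f` by at least `d` off the diagonal -/
def Raise (D : ChevalleyDatum) (f : ℕ → ℤ) (d : ℤ) (M : Matrix D.Idx D.Idx F) : Prop :=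
  (∀ a, M a a = 1) ∧ ∀ a b, a ≠ b → M a b ≠ 0 → wt D f b + d ≤ wt D f a

theorem raise_one (f : ℕ → ℤ) (d : ℤ) : Raise D f d (1 : Matrix D.Idx D.Idx F) :=
  ⟨fun a => Matrix.one_apply_eq a, fun a b hab h => absurd (Matrix.one_apply_ne hab) h⟩

theorem Raise.mul {f : ℕ → ℤ} {d : ℤ} (hd : 0 < d) {M N : Matrix D.Idx D.Idx F}
    (hM : Raise D f d M) (hN : Raise D f d N) : Raise D f d (M * N) := by
  refine ⟨fun a => ?_, fun a b hab h => ?_⟩
  · rw [Matrix.mul_apply, Finset.sum_eq_single a, hM.1, hN.1, one_mul]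
    · intro c _ hc
      by_contra h
      have h1 := hM.2 a c (Ne.symm hc) (left_ne_zero_of_mul h)
      have h2 := hN.2 c a hc (right_ne_zero_of_mul h)
      omega
    · simp
  · rw [Matrix.mul_apply] at h
    obtain ⟨c, -, hc⟩ := Finset.exists_ne_zero_of_sum_ne_zero h
    by_cases h1 : a = c
    · subst h1; exact hN.2 a b hab (right_ne_zero_of_mul hc)
    by_cases h2 : c = b
    · subst h2; exact hM.2 a c hab (left_ne_zero_of_mul hc)
    have g1 := hM.2 a c h1 (left_ne_zero_of_mul hc)
    have g2 := hN.2 c b h2 (right_ne_zero_of_mul hc)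
    omega

namespace Fine

theorem mem_genU (hK : Fine K D) {T : Set ℕ} {r : ℕ} (hr : r ∈ T) (t : F) :
    xU hK r t ∈ genU hK F T := Subgroup.subset_closure ⟨r, hr, t, rfl⟩

theorem genU_mono (hK : Fine K D) {S T : Set ℕ} (h : S ⊆ T) : genU hK F S ≤ genU hK F T :=
  Subgroup.closure_mono fun _ ⟨r, hr, t, e⟩ => ⟨r, h hr, t, e⟩

theorem wordU_mem_genU (hK : Fine K D) {T : Set ℕ} {w : List (ℕ × F)} (h : ∀ p ∈ w, p.1 ∈ T) :
    wordU hK w ∈ genU hK F T := by
  refine Subgroup.list_prod_mem _ ?_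
  intro x hx
  obtain ⟨p, hp, rfl⟩ := List.mem_map.1 hx
  exact hK.mem_genU (h p hp) _

theorem genU_le_group (hK : Fine K D) (T : Set ℕ) : genU hK F T ≤ D.group F := by
  rw [genU, Subgroup.closure_le]
  rintro g ⟨r, -, t, rfl⟩
  exact hK.xU_mem_group r t

theorem posUnipotent_eq (hK : Fine K D) :
    D.posUnipotent F = genU hK F {r | K.npos ≤ r ∧ r < D.nroots} := by
  unfold ChevalleyDatum.posUnipotent genU
  congr 1
  ext g
  constructor
  · rintro ⟨r, t, hr, hg⟩; exact ⟨r, (hK.toGood.isPosRoot_iff r).1 hr, t, eq_xU hK hg⟩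
  · rintro ⟨r, hr, t, rfl⟩; exact ⟨r, t, (hK.toGood.isPosRoot_iff r).2 hr, coe_xU hK r t⟩

theorem negUnipotent_eq (hK : Fine K D) :
    D.negUnipotent F = genU hK F {r | r < K.npos} := by
  unfold ChevalleyDatum.negUnipotent genU
  congr 1
  ext g
  constructor
  · rintro ⟨r, t, hr, hg⟩; exact ⟨r, (hK.toGood.isNegRoot_iff r).1 hr, t, eq_xU hK hg⟩
  · rintro ⟨r, hr, t, rfl⟩; exact ⟨r, t, (hK.toGood.isNegRoot_iff r).2 hr, coe_xU hK r t⟩

/-! ### Commutator targets -/

theorem entry_weight (hK : Fine K D) {M : Type*} [AddCommGroup M] {f : ℕ → M} (hf : IsLin K D f)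
    {r s i k : ℕ} (hr : r < D.nroots) (hs : s < D.nroots) (hi : 0 < i)
    (h : K.croot r s i = some k) : f k = i • f r + f s := by
  rw [Data.croot, Option.map_eq_some_iff] at h
  obtain ⟨q, hq, rfl⟩ := h
  rw [Data.entry, List.getElem?_map, Option.map_eq_some_iff] at hq
  obtain ⟨q', hq', rfl⟩ := hq
  have hm := List.mem_of_getElem? hq'
  rw [hK.toGood.l_eq, hf.chain r hr s hs q' hm]
  congr 2
  rw [← hK.toGood.fits.chain_eq r hr s hs, chainCol] at hq'
  have hsingle := hK.toGood.fits.chain_single r hr s hs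
  revert hq' hsingle
  generalize ((D.chain.getD r #[]).toList.filter fun e => decide (e.1 = s)) = L
  intro hq' hsingle
  match L with
  | [] => simp at hq'
  | [e] =>
    rw [List.flatMap_cons, List.flatMap_nil, List.append_nil, List.getElem?_map,
      Option.map_eq_some_iff] at hq'
    obtain ⟨p, hp, rfl⟩ := hq'
    rw [List.getElem?_zipIdx, Option.map_eq_some_iff] at hp
    obtain ⟨v, -, rfl⟩ := hp
    simp only
    omega
  | e :: e' :: L => simp at hsingle

theorem comm_weight (hK : Fine K D) {M : Type*} [AddCommGroup M] {f : ℕ → M} (hf : IsLin K D f)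
    {r s : ℕ} (hr : r < D.nroots) (hs : s < D.nroots) {c : ℕ × ℤ × ℕ × ℕ} (hc : c ∈ K.comm r s) :
    f c.1 = c.2.2.1 • f r + c.2.2.2 • f s := by
  have hG := hK.toGood
  simp only [Data.comm, List.mem_filterMap, List.mem_cons, List.not_mem_nil, or_false] at hc
  obtain ⟨x, hx, hxc⟩ := hc
  rw [Option.map_eq_some_iff] at hxc
  obtain ⟨k, hk, rfl⟩ := hxc
  rcases hx with rfl | rfl | rfl | rfl | rfl | rfl | rfl
  · simpa [one_nsmul] using hK.entry_weight hf hr hs one_pos hk
  · simpa [one_nsmul] using hK.entry_weight hf hr hs two_pos hk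
  · simpa [one_nsmul, add_comm] using hK.entry_weight hf hs hr two_pos hk
  · simpa [one_nsmul] using hK.entry_weight hf hr hs (by norm_num : (0 : ℕ) < 3) hk
  · simpa [one_nsmul, add_comm] using hK.entry_weight hf hs hr (by norm_num : (0 : ℕ) < 3) hk
  · obtain ⟨k', hk1, hk2⟩ := Option.bind_eq_some_iff.1 hk
    have h1 := hK.entry_weight hf hr hs (by norm_num : (0 : ℕ) < 3) hk1
    have h2 := hK.entry_weight hf (hG.croot_lt hr hs hk1) hs one_pos hk2
    simp only [h2, h1, one_nsmul, two_nsmul]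
    abel
  · obtain ⟨k', hk1, hk2⟩ := Option.bind_eq_some_iff.1 hk
    have h1 := hK.entry_weight hf hs hr (by norm_num : (0 : ℕ) < 3) hk1
    have h2 := hK.entry_weight hf (hG.croot_lt hs hr hk1) hr one_pos hk2
    simp only [h2, h1, one_nsmul, two_nsmul]
    abel

theorem phi_inj (hK : Fine K D) {r s : ℕ} (hr : r < D.nroots) (hs : s < D.nroots)
    (h : K.phi r = K.phi s) : r = s := by
  rcases Nat.lt_trichotomy r s with h' | h' | h'
  · exact absurd h (hK.toGood.phi_lt_phi h' hs).ne
  · exact h'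
  · exact absurd h.symm (hK.toGood.phi_lt_phi h' hr).ne

theorem lt_of_phi_lt (hK : Fine K D) {r s : ℕ} (hr : r < D.nroots) (h : K.phi r < K.phi s) :
    r < s := by
  by_contra h'
  rcases Nat.lt_or_eq_of_le (Nat.le_of_not_lt h') with h'' | rfl
  · exact lt_asymm h (hK.toGood.phi_lt_phi h'' hr)
  · exact lt_irrefl _ h

/-- the targets for two positive roots come after both -/
theorem comm_gt (hK : Fine K D) {r s : ℕ} (hr : r < D.nroots) (hs : s < D.nroots)
    (hr' : K.npos ≤ r) (hs' : K.npos ≤ s) {c : ℕ × ℤ × ℕ × ℕ} (hc : c ∈ K.comm r s) :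
    r < c.1 ∧ s < c.1 ∧ c.1 < D.nroots := by
  have h := hK.comm_weight hK.isLin_phi hr hs hc
  obtain ⟨h1, h2, h3⟩ := hK.toGood.comm_mem hr hs hc
  have p1 := hK.toGood.phi_pos hr' hr
  have p2 := hK.toGood.phi_pos hs' hs
  simp only [nsmul_eq_mul] at h
  have a1 : (1 : ℤ) ≤ (c.2.2.1 : ℤ) := by exact_mod_cast h2
  have a2 : (1 : ℤ) ≤ (c.2.2.2 : ℤ) := by exact_mod_cast h3
  exact ⟨hK.lt_of_phi_lt hr (by nlinarith), hK.lt_of_phi_lt hs (by nlinarith), h1⟩

/-! ### Normalising -/

theorem conj_formula (hK : Fine K D) {r s : ℕ} (hr : r < D.nroots) (hs : s < D.nroots)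
    (hsr : s ≠ r) (hneg : s ≠ K.neg r) (t u : F) :
    (xU hK r t)⁻¹ * xU hK s u * xU hK r t =
      xU hK s u * wordU hK (D.commWord F r s t u) := by
  have h : xU hK s u * xU hK r t = xU hK r t * xU hK s u * wordU hK (D.commWord F r s t u) := by
    refine Units.ext ?_
    simp only [Units.val_mul, coe_xU, coe_wordU]
    exact hK.toGood.commutator_formula hr hs hsr (by rw [hK.toGood.neg_eq hr, ← hK.toGood.Kneg_eq]; exact hneg) t u
  rw [mul_assoc, h]; group

theorem commWord_mem (hK : Fine K D) {T : Set ℕ} {r s : ℕ} (hr : r < D.nroots) (hs : s < D.nroots)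
    (h : ∀ c ∈ K.comm r s, c.1 ∈ T) (t u : F) :
    wordU hK (D.commWord F r s t u) ∈ genU hK F T := by
  refine hK.wordU_mem_genU fun p hp => ?_
  simp only [ChevalleyDatum.commWord, List.mem_map] at hp
  obtain ⟨c, hc, rfl⟩ := hp
  rw [hK.toGood.commTerms_eq hr hs] at hc
  exact h c hc

/-- `r` normalises the group generated by `T` -/
theorem xU_mem_normalizer (hK : Fine K D) {T : Set ℕ} {r : ℕ} (hr : r < D.nroots)
    (h : ∀ s ∈ T, s < D.nroots → (s = r ∨ (s ≠ K.neg r ∧ ∀ c ∈ K.comm r s, c.1 ∈ T))) (t : F) :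
    xU hK r t ∈ Subgroup.normalizer (genU hK F T : Set (GL D.Idx F)) := by
  have key : ∀ (t : F) (g : GL D.Idx F), g ∈ genU hK F T →
      (xU hK r t)⁻¹ * g * xU hK r t ∈ genU hK F T := by
    intro t g hg
    induction hg using Subgroup.closure_induction with
    | mem x hx =>
      obtain ⟨s, hs, u, rfl⟩ := hx
      by_cases hsn : s < D.nroots
      · by_cases hsr : s = r
        · subst hsr
          rw [xU_inv, xU_mul, xU_mul]
          exact hK.mem_genU hs _
        · rcases h s hs hsn with h' | ⟨h1, h2⟩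
          · exact absurd h' hsr
          · rw [hK.conj_formula hr hsn hsr h1]
            exact mul_mem (hK.mem_genU hs _) (hK.commWord_mem hr hsn h2 t u)
      · rw [xU_of_not_lt hK hsn, mul_one, inv_mul_cancel]; exact one_mem _
    | one => simp
    | mul a b _ _ ha hb =>
      have := mul_mem ha hb
      simpa [mul_assoc] using this
    | inv a _ ha =>
      have := inv_mem ha
      simpa [mul_assoc] using this
  rw [Subgroup.mem_normalizer_iff]
  intro g
  constructor
  · intro hg
    have := key (-t) g hg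
    rwa [← xU_inv, inv_inv] at this
  · intro hg
    have := key t _ hg
    have e : (xU hK r t)⁻¹ * (xU hK r t * g * (xU hK r t)⁻¹) * xU hK r t = g := by group
    rwa [e] at this

/-! ### Closed sets and the normal form -/

/-- a set of positive roots closed under the commutator targets -/
structure ClosedPos (hK : Fine K D) (S : Set ℕ) : Prop where
  pos : ∀ r ∈ S, K.npos ≤ r ∧ r < D.nroots
  closed : ∀ r ∈ S, ∀ s ∈ S, ∀ c ∈ K.comm r s, c.1 ∈ S

theorem closedPos_tail (hK : Fine K D) {S : Set ℕ} (hS : ClosedPos hK S) (a : ℕ) :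
    ClosedPos hK {r | r ∈ S ∧ a ≤ r} where
  pos r hr := hS.pos r hr.1
  closed r hr s hs c hc := by
    refine ⟨hS.closed r hr.1 s hs.1 c hc, ?_⟩
    have := hK.comm_gt (hS.pos r hr.1).2 (hS.pos s hs.1).2 (hS.pos r hr.1).1 (hS.pos s hs.1).1 hc
    exact le_trans hr.2 this.1.le

theorem pos_ne_neg (hK : Fine K D) {r s : ℕ} (hr : K.npos ≤ r) (hrn : r < D.nroots)
    (hs : K.npos ≤ s) : s ≠ K.neg r := by
  rw [hK.toGood.Kneg_eq]; have := hK.toGood.nroots_eq_two_mul; omega

theorem closedPos_all (hK : Fine K D) : ClosedPos hK {r | K.npos ≤ r ∧ r < D.nroots} where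
  pos r hr := hr
  closed r hr s hs c hc := by
    have := hK.comm_gt hr.2 hs.2 hr.1 hs.1 hc
    exact ⟨le_trans hr.1 this.1.le, this.2.2⟩

/-- the ordered product -/
def ordProd (hK : Fine K D) (a : ℕ) (t : ℕ → F) : GL D.Idx F :=
  wordU hK ((List.range' a (D.nroots - a)).map fun r => (r, t r))

theorem ordProd_step (hK : Fine K D) {a : ℕ} (ha : a < D.nroots) (t : ℕ → F) :
    ordProd hK a t = xU hK a (t a) * ordProd hK (a + 1) t := by
  unfold ordProd wordU
  rw [show D.nroots - a = (D.nroots - (a + 1)) + 1 by omega, List.range'_succ]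
  simp

theorem ordProd_top (hK : Fine K D) {a : ℕ} (ha : D.nroots ≤ a) (t : ℕ → F) :
    ordProd hK a t = 1 := by
  unfold ordProd wordU
  rw [show D.nroots - a = 0 by omega]
  rfl

theorem exists_ordProd (hK : Fine K D) {S : Set ℕ} (hS : ClosedPos hK S) :
    ∀ (k a : ℕ), D.nroots - a = k → ∀ g ∈ genU hK F {r | r ∈ S ∧ a ≤ r},
      ∃ t : ℕ → F, (∀ r, (r ∉ S ∨ r < a) → t r = 0) ∧ g = ordProd hK a t := by
  intro k
  induction k with
  | zero =>
    intro a ha g hg
    refine ⟨0, fun _ _ => rfl, ?_⟩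
    rw [hK.ordProd_top (by omega)]
    induction hg using Subgroup.closure_induction with
    | mem x hx =>
      obtain ⟨r, ⟨hrS, hra⟩, t, rfl⟩ := hx
      have := (hS.pos r hrS).2
      omega
    | one => rfl
    | mul a b _ _ h1 h2 => rw [h1, h2, one_mul]
    | inv a _ h1 => rw [h1, inv_one]
  | succ k ih =>
    intro a ha g hg
    have han : a < D.nroots := by omega
    by_cases haS : a ∈ S
    · have hnorm : D.rootSubgroup F a ≤
          Subgroup.normalizer (genU hK F {r | r ∈ S ∧ a + 1 ≤ r} : Set (GL D.Idx F)) := by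
        intro x hx
        obtain ⟨t, rfl⟩ := hK.mem_rootSubgroup_iff.1 hx
        refine hK.xU_mem_normalizer han (fun s hs hsn => ?_) t
        refine Or.inr ⟨hK.pos_ne_neg (hS.pos a haS).1 han (hS.pos s hs.1).1, fun c hc => ?_⟩
        have := hK.comm_gt han hsn (hS.pos a haS).1 (hS.pos s hs.1).1 hc
        exact ⟨hS.closed a haS s hs.1 c hc, this.1⟩
      have hle : genU hK F {r | r ∈ S ∧ a ≤ r} ≤
          D.rootSubgroup F a ⊔ genU hK F {r | r ∈ S ∧ a + 1 ≤ r} := by
        rw [genU, Subgroup.closure_le]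
        rintro x ⟨r, ⟨hrS, hra⟩, t, rfl⟩
        rcases Nat.lt_or_eq_of_le hra with h | rfl
        · exact Subgroup.mem_sup_right
            (hK.mem_genU (show r ∈ {r | r ∈ S ∧ a + 1 ≤ r} from ⟨hrS, h⟩) t)
        · exact Subgroup.mem_sup_left (hK.xU_mem_rootSubgroup a t)
      have hg' : g ∈ ((D.rootSubgroup F a ⊔ genU hK F {r | r ∈ S ∧ a + 1 ≤ r} : Subgroup _) :
          Set (GL D.Idx F)) := hle hg
      rw [Subgroup.coe_mul_of_left_le_normalizer_right _ _ hnorm] at hg'
      obtain ⟨x, hx, y, hy, rfl⟩ := hg'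
      obtain ⟨c, rfl⟩ := hK.mem_rootSubgroup_iff.1 hx
      obtain ⟨t, ht, rfl⟩ := ih (a + 1) (by omega) y hy
      refine ⟨Function.update t a c, fun r hr => ?_, ?_⟩
      · have hra : r ≠ a := by
          rintro rfl
          rcases hr with hr | hr
          · exact hr haS
          · omega
        rw [Function.update_of_ne hra]
        exact ht r (hr.imp id (by omega))
      · rw [hK.ordProd_step han, Function.update_self]
        congr 1
        unfold ordProd
        congr 1
        refine List.map_congr_left fun r hr => ?_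
        rw [Function.update_of_ne]
        rw [List.mem_range'_1] at hr
        omega
    · have e : {r | r ∈ S ∧ a ≤ r} = {r | r ∈ S ∧ a + 1 ≤ r} := by
        ext r
        simp only [Set.mem_setOf_eq, and_congr_right_iff]
        intro hrS
        constructor
        · intro h
          rcases Nat.lt_or_eq_of_le h with h' | rfl
          · exact h'
          · exact absurd hrS haS
        · omega
      rw [e] at hg
      obtain ⟨t, ht, rfl⟩ := ih (a + 1) (by omega) g hg
      refine ⟨t, fun r hr => ?_, ?_⟩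
      · exact ht r (hr.imp id (by omega))
      · rw [hK.ordProd_step han, ht a (Or.inl haS), xU_zero, one_mul]

/-! ### Unitriangularity -/

theorem xU_raise (hK : Fine K D) {f : ℕ → ℤ} (hf : IsLin K D f) {r : ℕ} (hr : r < D.nroots)
    {d : ℤ} (hd : 0 < d) (h : d ≤ f r) (t : F) :
    Raise D f d (xU hK r t : Matrix D.Idx D.Idx F) := by
  have hG := hK.toGood
  rw [coe_xU, x_of_lt D hr]
  have key : ∀ (a b : D.Idx) (e : ℕ × ℕ × ℤ), e ∈ colList D r (code D b) → e.1 = code D a →
      0 < e.2.1 → wt D f b + d ≤ wt D f a := by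
    intro a b e he hea hk
    rw [hG.col_weight hf hr a b he hea, nsmul_eq_mul]
    have : (1 : ℤ) ≤ (e.2.1 : ℤ) := by exact_mod_cast hk
    nlinarith
  refine ⟨fun a => ?_, fun a b hab hne => ?_⟩
  · obtain ⟨L, hL, hk⟩ := colList_split D r (code D a)
    have hz : evalCol t L (code D a) = 0 := by
      refine List.sum_eq_zero fun x hx => ?_
      obtain ⟨e, he, rfl⟩ := List.mem_map.1 hx
      by_cases hea : e.1 = code D a
      · have := key a a e (by rw [hL]; exact List.mem_cons_of_mem _ he) hea (hk e he)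
        omega
      · exact if_neg hea
    rw [xMat_apply_eq_evalCol, hL, evalCol_cons, hz]
    simp
  · obtain ⟨L, hL, hk⟩ := colList_split D r (code D b)
    have hne' : evalCol t L (code D a) ≠ 0 := by
      rw [xMat_apply_eq_evalCol, hL, evalCol_cons,
        if_neg (fun h => hab (code_injective D h).symm), zero_add] at hne
      exact hne
    obtain ⟨x, hx, hx0⟩ : ∃ x ∈ L.map (fun e => if e.1 = code D a then (e.2.2 : F) * t ^ e.2.1 else 0),
        x ≠ 0 := by
      by_contra hcon
      push_neg at hcon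
      exact hne' (List.sum_eq_zero hcon)
    obtain ⟨e, he, rfl⟩ := List.mem_map.1 hx
    by_cases hea : e.1 = code D a
    · exact key a b e (by rw [hL]; exact List.mem_cons_of_mem _ he) hea (hk e he)
    · exact absurd (if_neg hea) hx0

theorem genU_raise (hK : Fine K D) {f : ℕ → ℤ} (hf : IsLin K D f) {d : ℤ} (hd : 0 < d) {T : Set ℕ}
    (hT : ∀ r ∈ T, r < D.nroots → d ≤ f r) {g : GL D.Idx F} (hg : g ∈ genU hK F T) :
    Raise D f d (g : Matrix D.Idx D.Idx F) := by
  have hgen : ∀ r ∈ T, ∀ t : F, Raise D f d (xU hK r t : Matrix D.Idx D.Idx F) := by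
    intro r hr t
    by_cases hrn : r < D.nroots
    · exact hK.xU_raise hf hrn hd (hT r hr hrn) t
    · rw [xU_of_not_lt hK hrn, Units.val_one]; exact raise_one f d
  induction hg using Subgroup.closure_induction_left with
  | one => rw [Units.val_one]; exact raise_one f d
  | mul_left x hx y _ hy =>
    obtain ⟨r, hr, t, rfl⟩ := hx
    rw [Units.val_mul]; exact (hgen r hr t).mul hd hy
  | inv_mul_cancel x hx y _ hy =>
    obtain ⟨r, hr, t, rfl⟩ := hx
    rw [xU_inv, Units.val_mul]; exact (hgen r hr (-t)).mul hd hy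

theorem coroot_ne_zero (hK : Fine K D) (F : Type*) [Field F] {r : ℕ} (hr : r < D.nroots) :
    ∃ i < D.rank, ((K.tab.C r i : ℤ) : F) ≠ 0 := by
  by_contra hcon
  push_neg at hcon
  obtain ⟨p, hp⟩ := CharP.exists F
  have hdvd : ∀ i < D.rank, p ∣ (K.tab.C r i).natAbs := fun i hi => by
    have := (CharP.intCast_eq_zero_iff F p _).1 (hcon i hi)
    exact Int.natCast_dvd.1 this
  have h1 : p ∣ 1 := by
    rw [← (hK.coroot_facts.1 r hr).1]
    have : ∀ L : List ℕ, (∀ x ∈ L, p ∣ x) → p ∣ L.foldr Nat.gcd 0 := by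
      intro L
      induction L with
      | nil => intro _; exact dvd_zero p
      | cons x L ih =>
        intro h
        exact Nat.dvd_gcd (h x (by simp)) (ih fun y hy => h y (List.mem_cons_of_mem _ hy))
    refine this _ fun x hx => ?_
    obtain ⟨i, hi, rfl⟩ := List.mem_map.1 hx
    exact hdvd i (List.mem_range.1 hi)
  rw [Nat.dvd_one] at h1
  exact CharP.char_ne_one F p h1

theorem x_coroot_entry (hK : Fine K D) {a : ℕ} (ha : a < D.nroots) (i : Fin D.rank) (c : F) :
    (xU hK a c : Matrix D.Idx D.Idx F) (Sum.inl i) (Sum.inr ⟨K.neg a, hK.toGood.Kneg_lt ha⟩) =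
      (K.tab.C a i.val : F) * c := by
  have hG := hK.toGood
  rw [coe_xU, x_of_lt D ha]
  have h2 : (⟨K.neg a, hG.Kneg_lt ha⟩ : Fin D.nroots) ≠ ⟨a, ha⟩ := by
    intro h
    have := congrArg Fin.val h
    simp only [hG.Kneg_eq] at this
    have := hG.nroots_eq_two_mul
    omega
  simp only [ChevalleyDatum.xMat, Matrix.of_apply, if_neg h2]
  rw [if_pos (by rw [hG.fits.neg_eq a ha, hG.Kneg_eq]), hG.fits.coroot_eq a ha i.val i.isLt]

theorem coord_entry (hK : Fine K D) {a : ℕ} (ha : a < D.nroots) (hpos : K.npos ≤ a) {g : GL D.Idx F}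
    (hg : g ∈ genU hK F {r | a < r}) (c : F) (i : Fin D.rank) :
    (xU hK a c * g : GL D.Idx F).val (Sum.inl i) (Sum.inr ⟨K.neg a, hK.toGood.Kneg_lt ha⟩) =
      (K.tab.C a i.val : F) * c := by
  have hG := hK.toGood
  set b : D.Idx := Sum.inr ⟨K.neg a, hG.Kneg_lt ha⟩ with hb
  have hpa := hG.phi_pos hpos ha
  have hR := hK.genU_raise hK.isLin_phi (d := K.phi a + 1) (by omega)
    (fun r (hr : a < r) hrn => by have := hG.phi_lt_phi hr hrn; omega) hg
  have hX := hK.xU_raise (F := F) hK.isLin_phi ha hpa le_rfl c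
  have hwb : wt D K.phi b = - K.phi a := by
    rw [hb, wt_inr]; exact hK.isLin_phi.neg a ha
  rw [Units.val_mul, Matrix.mul_apply, Finset.sum_eq_single b]
  · rw [hR.1, mul_one, hb, hK.x_coroot_entry ha]
  · intro j _ hj
    by_contra h
    have g2 := hR.2 j b hj (right_ne_zero_of_mul h)
    by_cases hji : (Sum.inl i : D.Idx) = j
    · rw [← hji, hwb, wt_inl] at g2
      omega
    · have g1 := hX.2 _ j hji (left_ne_zero_of_mul h)
      rw [hwb] at g2
      rw [wt_inl] at g1
      omega
  · simp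

theorem ordProd_mem (hK : Fine K D) {a : ℕ} {t : ℕ → F} {T : Set ℕ}
    (h : ∀ r, a ≤ r → r < D.nroots → r ∈ T ∨ t r = 0) : ordProd hK a t ∈ genU hK F T := by
  refine Subgroup.list_prod_mem _ ?_
  intro x hx
  obtain ⟨p, hp, rfl⟩ := List.mem_map.1 hx
  obtain ⟨r, hr, rfl⟩ := List.mem_map.1 hp
  rw [List.mem_range'_1] at hr
  rcases h r hr.1 (by omega) with h | h
  · exact hK.mem_genU h _
  · rw [show ((r, t r) : ℕ × F).2 = 0 from h, xU_zero]; exact one_mem _

theorem ordProd_inj (hK : Fine K D) : ∀ (k a : ℕ), D.nroots - a = k → K.npos ≤ a →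
    ∀ t u : ℕ → F, ordProd hK a t = ordProd hK a u → ∀ r, a ≤ r → r < D.nroots → t r = u r := by
  intro k
  induction k with
  | zero => intro a ha _ t u _ r h1 h2; omega
  | succ k ih =>
    intro a ha hpos t u h r h1 h2
    have han : a < D.nroots := by omega
    have hm : ∀ v : ℕ → F, ordProd hK (a + 1) v ∈ genU hK F {r | a < r} := fun v =>
      hK.ordProd_mem fun r hr _ => Or.inl hr
    have heq : t a = u a := by
      obtain ⟨i, hi, hC⟩ := hK.coroot_ne_zero F han
      have e1 := hK.coord_entry han hpos (hm t) (t a) ⟨i, hi⟩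
      have e2 := hK.coord_entry han hpos (hm u) (u a) ⟨i, hi⟩
      rw [← hK.ordProd_step han, h, hK.ordProd_step han, e2] at e1
      exact (mul_left_cancel₀ hC e1).symm
    rcases Nat.lt_or_eq_of_le h1 with h' | rfl
    · rw [hK.ordProd_step han, hK.ordProd_step han, heq, mul_right_inj] at h
      exact ih (a + 1) (by omega) (by omega) t u h r h' h2
    · exact heq

theorem xU_eq_one_iff (hK : Fine K D) {r : ℕ} (hr : r < D.nroots) (t : F) :
    xU hK r t = 1 ↔ t = 0 := by
  refine ⟨fun h => ?_, fun h => h ▸ xU_zero hK r⟩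
  obtain ⟨i, hi, hC⟩ := hK.coroot_ne_zero F hr
  have e := hK.x_coroot_entry hr ⟨i, hi⟩ t
  rw [h, Units.val_one, Matrix.one_apply_ne (by simp)] at e
  exact (mul_eq_zero.1 e.symm).resolve_left hC

end Fine

end CfsgLib.Chev
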