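import Cfsg.Agent.Chev.Borel

/-!
The action of the monomial group on the roots; the monomial group modulo the diagonal group.
-/

set_option autoImplicit false

namespace CfsgLib.Chev

open Cfsg.Lie Matrix

variable {K : Data} {D : ChevalleyDatum} {F : Type*} [Field F]

/-- product of the elements `n_i` along a list of indices -/
def sWord (hK : Fine K D) (F : Type*) [Field F] (L : List (Fin D.rank)) : GL D.Idx F :=
  (L.map fun i => sU hK i.val).prod

/-- the reflection as a permutation of the roots -/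
noncomputable def sPerm (hK : Fine K D) (i : Fin D.rank) : Equiv.Perm (Fin D.nroots) :=
  Function.Involutive.toPerm (fun r => ⟨K.w i.val r.val, hK.toGood.w_lt i.isLt r.isLt⟩)
    (fun r => Fin.ext (hK.toGood.w_w i.isLt r.isLt))

theorem sPerm_val (hK : Fine K D) (i : Fin D.rank) (r : Fin D.nroots) :
    (sPerm hK i r).val = K.w i.val r.val := rfl

/-- the permutation of a word -/
noncomputable def wPerm (hK : Fine K D) (L : List (Fin D.rank)) : Equiv.Perm (Fin D.nroots) :=
  (L.map (sPerm hK)).prod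

/-- negation of a root index -/
noncomputable def negFin (hK : Fine K D) (r : Fin D.nroots) : Fin D.nroots :=
  ⟨K.neg r.val, hK.toGood.Kneg_lt r.isLt⟩

/-- the fundamental root as an element of `Fin` -/
noncomputable def pFin (hK : Fine K D) (i : Fin D.rank) : Fin D.nroots := ⟨K.p i.val, hK.toGood.p_lt i.isLt⟩

/-- conjugation by `n` moves the root subgroups as `σ` does -/
def Moves (hK : Fine K D) (n : GL D.Idx F) (σ : Equiv.Perm (Fin D.nroots)) : Prop :=
  ∀ r : Fin D.nroots, ∃ a : Fˣ, ∀ t : F, n * xU hK r.val t * n⁻¹ = xU hK (σ r).val ((a : F) * t)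

namespace Fine

theorem moves_one (hK : Fine K D) : Moves hK (1 : GL D.Idx F) 1 :=
  fun r => ⟨1, fun t => by simp⟩

theorem moves_mul (hK : Fine K D) {m n : GL D.Idx F} {σ τ : Equiv.Perm (Fin D.nroots)}
    (hm : Moves hK m σ) (hn : Moves hK n τ) : Moves hK (m * n) (σ * τ) := by
  intro r
  obtain ⟨a, ha⟩ := hn r
  obtain ⟨b, hb⟩ := hm (τ r)
  refine ⟨b * a, fun t => ?_⟩
  rw [show m * n * xU hK r.val t * (m * n)⁻¹ = m * (n * xU hK r.val t * n⁻¹) * m⁻¹ by group,
    ha, hb, Units.val_mul, mul_assoc, Equiv.Perm.mul_apply]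

theorem moves_inv (hK : Fine K D) {n : GL D.Idx F} {σ : Equiv.Perm (Fin D.nroots)}
    (hn : Moves hK n σ) : Moves hK n⁻¹ σ⁻¹ := by
  intro r
  obtain ⟨a, ha⟩ := hn (σ⁻¹ r)
  refine ⟨a⁻¹, fun t => ?_⟩
  have h := ha ((a : F)⁻¹ * t)
  rw [show σ (σ⁻¹ r) = r from σ.apply_symm_apply r, ← mul_assoc, mul_inv_cancel₀ a.ne_zero,
    one_mul] at h
  rw [← h, Units.val_inv_eq_inv_val]
  group

theorem moves_sU (hK : Fine K D) (i : Fin D.rank) :
    Moves hK (sU hK i.val : GL D.Idx F) (sPerm hK i) := by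
  intro r
  refine ⟨Units.mk0 (K.eta i.val r.val : F) (Good.eta_ne_zero K _ _), fun t => ?_⟩
  rw [hK.sU_conj_xU i.isLt r.isLt, sPerm_val, Units.val_mk0]

theorem moves_diagonal (hK : Fine K D) {h : GL D.Idx F} (hh : h ∈ D.diagonalSubgroup F) :
    Moves hK h 1 := by
  obtain ⟨c, rfl⟩ := hK.mem_diagonal_iff.1 hh
  exact fun r => ⟨torusChar K D c r.val, fun t => hK.tU_conj_xU c r.isLt t⟩

theorem moves_sWord (hK : Fine K D) (L : List (Fin D.rank)) :
    Moves hK (sWord hK F L) (wPerm hK L) := by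
  induction L with
  | nil => exact hK.moves_one
  | cons i L ih =>
    rw [sWord, wPerm, List.map_cons, List.map_cons, List.prod_cons, List.prod_cons]
    exact hK.moves_mul (hK.moves_sU i) ih

/-- different roots give different root subgroups -/
theorem root_inj (hK : Fine K D) {r s : ℕ} (hr : r < D.nroots) (hs : s < D.nroots) {t u : F}
    (ht : t ≠ 0) (h : xU hK r t = xU hK s u) : r = s := by
  by_contra hne
  obtain ⟨i, hi, hC⟩ := hK.coroot_ne_zero F hr
  have e := hK.x_coroot_entry hr ⟨i, hi⟩ t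
  rw [h, coe_xU, x_of_lt D hs] at e
  have hns : (⟨K.neg r, hK.toGood.Kneg_lt hr⟩ : Fin D.nroots).val ≠ D.negIdx.getD s 0 := by
    rw [hK.toGood.fits.neg_eq s hs]
    show K.neg r ≠ _
    rw [hK.toGood.Kneg_eq]
    omega
  simp only [ChevalleyDatum.xMat, Matrix.of_apply] at e
  split_ifs at e with h1
  all_goals first
    | exact mul_ne_zero hC ht e.symm
    | exact hns h1

theorem moves_unique (hK : Fine K D) {n : GL D.Idx F} {σ τ : Equiv.Perm (Fin D.nroots)}
    (h1 : Moves hK n σ) (h2 : Moves hK n τ) : σ = τ := by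
  refine Equiv.ext fun r => Fin.ext ?_
  obtain ⟨a, ha⟩ := h1 r
  obtain ⟨b, hb⟩ := h2 r
  exact hK.root_inj (σ r).isLt (τ r).isLt (mul_ne_zero a.ne_zero one_ne_zero) ((ha 1).symm.trans (hb 1))

theorem sPerm_mul_self (hK : Fine K D) (i : Fin D.rank) : sPerm hK i * sPerm hK i = 1 :=
  Equiv.ext fun r => Fin.ext (hK.toGood.w_w i.isLt r.isLt)

theorem sPerm_inv (hK : Fine K D) (i : Fin D.rank) : (sPerm hK i)⁻¹ = sPerm hK i :=
  inv_eq_of_mul_eq_one_right (hK.sPerm_mul_self i)

theorem wPerm_cons (hK : Fine K D) (i : Fin D.rank) (L : List (Fin D.rank)) :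
    wPerm hK (i :: L) = sPerm hK i * wPerm hK L := by simp [wPerm]

theorem wPerm_append (hK : Fine K D) (L M : List (Fin D.rank)) :
    wPerm hK (L ++ M) = wPerm hK L * wPerm hK M := by simp [wPerm]

theorem sWord_cons (hK : Fine K D) (i : Fin D.rank) (L : List (Fin D.rank)) :
    sWord hK F (i :: L) = sU hK i.val * sWord hK F L := by simp [sWord]

theorem sWord_append (hK : Fine K D) (L M : List (Fin D.rank)) :
    sWord hK F (L ++ M) = sWord hK F L * sWord hK F M := by simp [sWord]

theorem negFin_negFin (hK : Fine K D) (r : Fin D.nroots) : negFin hK (negFin hK r) = r :=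
  Fin.ext (hK.toGood.Kneg_Kneg r.isLt)

theorem sPerm_negFin (hK : Fine K D) (i : Fin D.rank) (r : Fin D.nroots) :
    sPerm hK i (negFin hK r) = negFin hK (sPerm hK i r) :=
  Fin.ext (hK.toGood.w_neg i.isLt r.isLt)

theorem wPerm_negFin (hK : Fine K D) (L : List (Fin D.rank)) (r : Fin D.nroots) :
    wPerm hK L (negFin hK r) = negFin hK (wPerm hK L r) := by
  induction L with
  | nil => rfl
  | cons i L ih =>
    rw [hK.wPerm_cons, Equiv.Perm.mul_apply, Equiv.Perm.mul_apply, ih, hK.sPerm_negFin]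

theorem sPerm_pFin (hK : Fine K D) (i : Fin D.rank) :
    sPerm hK i (pFin hK i) = negFin hK (pFin hK i) :=
  Fin.ext (hK.toGood.w_p i.isLt)

theorem negFin_pos_iff (hK : Fine K D) (r : Fin D.nroots) :
    K.npos ≤ (negFin hK r).val ↔ r.val < K.npos := by
  show K.npos ≤ K.neg r.val ↔ _
  rw [hK.toGood.Kneg_eq]
  have := hK.toGood.nroots_eq_two_mul
  have := r.isLt
  omega

theorem sWord_nU (hK : Fine K D) (L : List (Fin D.rank)) (r : Fin D.nroots) :
    sWord hK F L * nU hK r.val 1 * (sWord hK F L)⁻¹ = nU hK (wPerm hK L r).val 1 ∨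
    sWord hK F L * nU hK r.val 1 * (sWord hK F L)⁻¹ = (nU hK (wPerm hK L r).val 1)⁻¹ := by
  induction L with
  | nil => left; simp [sWord, wPerm]
  | cons i L ih =>
    rw [hK.sWord_cons, hK.wPerm_cons, Equiv.Perm.mul_apply, sPerm_val]
    set m := (sWord hK F L)
    set r' := wPerm hK L r
    have e : sU hK i.val * m * nU hK r.val 1 * (sU hK i.val * m)⁻¹ =
        sU hK i.val * (m * nU hK r.val 1 * m⁻¹) * (sU hK i.val)⁻¹ := by group
    have hc := hK.sU_conj_nU (F := F) i.isLt r'.isLt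
    rw [e]
    rcases nU_inv_sign hK (F := F) (K.w i.val r'.val) (Good.eta_eq_or K i.val r'.val) with hη | hη
    · rcases ih with h | h
      · left; rw [h, hc, hη]
      · right; rw [h, ← hη, ← hc]; group
    · rcases ih with h | h
      · right; rw [h, hc, hη]
      · left
        have hconj : ∀ x y : GL D.Idx F, x * y⁻¹ * x⁻¹ = (x * y * x⁻¹)⁻¹ := fun x y => by group
        rw [h, hconj, hc, hη, inv_inv]

theorem nU_pFin (hK : Fine K D) (i : Fin D.rank) :
    nU hK (pFin hK i).val (1 : F) = sU hK i.val := by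
  rw [sU, hK.toGood.simple_eq i.isLt]; rfl

theorem sU_sq_mem (hK : Fine K D) (i : Fin D.rank) :
    (sU hK i.val : GL D.Idx F) * sU hK i.val ∈ D.diagonalSubgroup F := by
  have hp := hK.toGood.p_lt i.isLt
  have e : ((sU hK i.val : GL D.Idx F) * sU hK i.val)⁻¹ = tU K D (hParam K (K.p i.val) (-1)) := by
    refine Units.ext ?_
    rw [hK.coe_tU_hParam hp, _root_.mul_inv_rev, Units.val_mul, Units.val_neg, Units.val_one, sU,
      hK.toGood.simple_eq i.isLt, ← nU_neg_one, coe_nU]
    simp [ChevalleyDatum.hMat, ChevalleyDatum.hWord, ChevalleyDatum.nMat, wordMat_append]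
  rw [← inv_mem_iff, e]
  exact hK.tU_mem_diagonal _

theorem sU_normalizes (hK : Fine K D) (i : Fin D.rank) {h : GL D.Idx F}
    (hh : h ∈ D.diagonalSubgroup F) :
    ∃ h' ∈ D.diagonalSubgroup F, sU hK i.val * h = h' * sU hK i.val :=
  ⟨_, (hK.sU_conj_diagonal i.isLt hh).1, by group⟩

/-- exchange -/
theorem exchange_word (hK : Fine K D) : ∀ (L : List (Fin D.rank)) (j : Fin D.rank),
    (wPerm hK L (pFin hK j)).val < K.npos →
    ∃ L' : List (Fin D.rank), L'.length + 1 = L.length ∧ wPerm hK L' = wPerm hK L * sPerm hK j ∧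
      ∃ h ∈ D.diagonalSubgroup F, sWord hK F L * sU hK j.val = h * sWord hK F L' := by
  intro L
  induction L with
  | nil =>
    intro j h
    exfalso
    have := hK.toGood.npos_le_p j.isLt
    simp [wPerm, pFin] at h
    omega
  | cons i L ih =>
    intro j h
    rw [hK.wPerm_cons, Equiv.Perm.mul_apply] at h
    by_cases hneg : (wPerm hK L (pFin hK j)).val < K.npos
    · obtain ⟨L', hlen, hperm, t, ht, hword⟩ := ih j hneg
      obtain ⟨t', ht', hcomm⟩ := hK.sU_normalizes i ht
      refine ⟨i :: L', by simp [hlen], by rw [hK.wPerm_cons, hperm, hK.wPerm_cons, mul_assoc],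
        t', ht', ?_⟩
      rw [hK.sWord_cons, hK.sWord_cons, mul_assoc, hword, ← mul_assoc, hcomm, mul_assoc]
    · have heq : wPerm hK L (pFin hK j) = pFin hK i := by
        refine Fin.ext ?_
        by_contra hne
        have := hK.toGood.npos_le_w i.isLt (wPerm hK L (pFin hK j)).isLt (Nat.le_of_not_lt hneg) hne
        rw [sPerm_val] at h
        omega
      refine ⟨L, by simp, ?_, ?_⟩
      · rw [hK.wPerm_cons]
        -- conjugation of a reflection
        obtain ⟨n, hn⟩ : ∃ n : GL D.Idx ℚ, n = sWord hK ℚ L := ⟨_, rfl⟩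
        have hm : Moves hK (n * sU hK j.val * n⁻¹) (wPerm hK L * sPerm hK j * (wPerm hK L)⁻¹) :=
          hK.moves_mul (hK.moves_mul (hn ▸ hK.moves_sWord L) (hK.moves_sU j))
            (hK.moves_inv (hn ▸ hK.moves_sWord L))
        have hm' : Moves hK (n * sU hK j.val * n⁻¹) (sPerm hK i) := by
          have hc := hK.sWord_nU (F := ℚ) L (pFin hK j)
          rw [heq, hK.nU_pFin, hK.nU_pFin, ← hn] at hc
          rcases hc with hc | hc <;> rw [hc]
          · exact hK.moves_sU i
          · have := hK.moves_inv (hK.moves_sU (F := ℚ) i)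
            rwa [hK.sPerm_inv] at this
        rw [← hK.moves_unique hm hm']
        rw [mul_assoc (wPerm hK L * sPerm hK j), inv_mul_cancel, mul_one, mul_assoc,
          hK.sPerm_mul_self, mul_one]
      · have hc := hK.sWord_nU (F := F) L (pFin hK j)
        rw [heq, hK.nU_pFin, hK.nU_pFin] at hc
        rw [hK.sWord_cons]
        rcases hc with hc | hc
        · refine ⟨_, hK.sU_sq_mem i, ?_⟩
          rw [mul_assoc (sU hK i.val) (sWord hK F L), mul_inv_eq_iff_eq_mul.1 hc, mul_assoc]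
        · refine ⟨1, one_mem _, ?_⟩
          rw [mul_assoc (sU hK i.val) (sWord hK F L), mul_inv_eq_iff_eq_mul.1 hc, ← mul_assoc,
            mul_inv_cancel]

/-- a word with trivial permutation lies in `H` -/
theorem sWord_mem_diagonal (hK : Fine K D) : ∀ (m : ℕ) (L : List (Fin D.rank)),
    L.length ≤ m → wPerm hK L = 1 → sWord hK F L ∈ D.diagonalSubgroup F := by
  intro m
  induction m with
  | zero => intro L hL _; rw [List.length_eq_zero_iff.1 (Nat.le_zero.1 hL)]; exact one_mem _
  | succ m ih =>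
    intro L hL hperm
    rcases List.eq_nil_or_concat L with rfl | ⟨L0, j, rfl⟩
    · exact one_mem _
    rw [List.concat_eq_append] at hperm hL ⊢
    rw [hK.wPerm_append, show wPerm hK [j] = sPerm hK j by simp [wPerm]] at hperm
    have h0 : wPerm hK L0 = sPerm hK j := by
      rw [eq_inv_of_mul_eq_one_left hperm, hK.sPerm_inv]
    have hneg : (wPerm hK L0 (pFin hK j)).val < K.npos := by
      rw [h0, hK.sPerm_pFin]
      have := hK.toGood.npos_le_p j.isLt
      show K.neg (K.p j.val) < K.npos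
      rw [hK.toGood.Kneg_eq]
      have := hK.toGood.nroots_eq_two_mul
      have := hK.toGood.p_lt j.isLt
      omega
    obtain ⟨L', hlen, hperm', t, ht, hword⟩ := hK.exchange_word (F := F) L0 j hneg
    rw [hK.sWord_append, show sWord hK F [j] = sU hK j.val by simp [sWord], hword]
    simp at hL
    exact mul_mem ht (ih L' (by omega) (by rw [hperm', hperm]))

theorem exists_sWord (hK : Fine K D) {n : GL D.Idx F} (hn : n ∈ D.monomialSubgroup F) :
    ∃ L : List (Fin D.rank), ∃ h ∈ D.diagonalSubgroup F, n = h * sWord hK F L := by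
  rw [hK.monomial_eq, ← Subgroup.closure_eq (D.diagonalSubgroup F), ← Subgroup.closure_union] at hn
  induction hn using Subgroup.closure_induction_left with
  | one => exact ⟨[], 1, one_mem _, by simp [sWord]⟩
  | mul_left x hx y _ hy =>
    obtain ⟨L, h, hh, rfl⟩ := hy
    rcases hx with hx | ⟨i, hi, rfl⟩
    · exact ⟨L, x * h, mul_mem hx hh, by rw [mul_assoc]⟩
    · obtain ⟨h', hh', e⟩ := hK.sU_normalizes ⟨i, hi⟩ hh
      exact ⟨⟨i, hi⟩ :: L, h', hh', by rw [hK.sWord_cons, ← mul_assoc, e, mul_assoc]⟩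
  | inv_mul_cancel x hx y _ hy =>
    obtain ⟨L, h, hh, rfl⟩ := hy
    rcases hx with hx | ⟨i, hi, rfl⟩
    · exact ⟨L, x⁻¹ * h, mul_mem (inv_mem hx) hh, by rw [mul_assoc]⟩
    · obtain ⟨h', hh', e⟩ := hK.sU_normalizes ⟨i, hi⟩ hh
      have hsq := inv_mem (hK.sU_sq_mem (F := F) ⟨i, hi⟩)
      refine ⟨⟨i, hi⟩ :: L, _, mul_mem hsq hh', ?_⟩
      rw [hK.sWord_cons, mul_assoc, ← mul_assoc h', ← e]
      group

theorem exists_moves (hK : Fine K D) {n : GL D.Idx F} (hn : n ∈ D.monomialSubgroup F) :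
    ∃ L : List (Fin D.rank), Moves hK n (wPerm hK L) := by
  obtain ⟨L, h, hh, rfl⟩ := hK.exists_sWord hn
  exact ⟨L, by simpa using hK.moves_mul (hK.moves_diagonal hh) (hK.moves_sWord L)⟩

theorem mem_diagonal_of_moves_one (hK : Fine K D) {n : GL D.Idx F}
    (hn : n ∈ D.monomialSubgroup F) (h : Moves hK n 1) : n ∈ D.diagonalSubgroup F := by
  obtain ⟨L, t, ht, rfl⟩ := hK.exists_sWord hn
  have := hK.moves_mul (hK.moves_diagonal ht) (hK.moves_sWord (F := F) L)
  have hL : wPerm hK L = 1 := by simpa using (hK.moves_unique this h)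
  exact mul_mem ht (hK.sWord_mem_diagonal L.length L le_rfl hL)

/-- a reduced word for a non-trivial permutation sends some fundamental root to a negative one -/
theorem exists_descent (hK : Fine K D) : ∀ (m : ℕ) (L : List (Fin D.rank)), L.length ≤ m →
    wPerm hK L ≠ 1 → ∃ j : Fin D.rank, (wPerm hK L (pFin hK j)).val < K.npos := by
  intro m
  induction m with
  | zero => intro L hL h; rw [List.length_eq_zero_iff.1 (Nat.le_zero.1 hL)] at h; simp [wPerm] at h
  | succ m ih =>
    intro L hL h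
    rcases List.eq_nil_or_concat L with rfl | ⟨L0, j, rfl⟩
    · simp [wPerm] at h
    rw [List.concat_eq_append] at h hL ⊢
    simp at hL
    by_cases hneg : (wPerm hK L0 (pFin hK j)).val < K.npos
    · obtain ⟨L', hlen, hperm', -⟩ := hK.exchange_word (F := ℚ) L0 j hneg
      have e : wPerm hK (L0 ++ [j]) = wPerm hK L' := by
        rw [hperm', hK.wPerm_append]; simp [wPerm]
      rw [e] at h ⊢
      exact ih L' (by omega) h
    · refine ⟨j, ?_⟩
      rw [hK.wPerm_append, Equiv.Perm.mul_apply, show wPerm hK [j] = sPerm hK j by simp [wPerm],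
        hK.sPerm_pFin, hK.wPerm_negFin]
      show K.neg _ < K.npos
      rw [hK.toGood.Kneg_eq]
      have := hK.toGood.nroots_eq_two_mul
      have := (wPerm hK L0 (pFin hK j)).isLt
      omega

theorem borel_inf_monomial (hK : Fine K D) :
    D.borelSubgroup F ⊓ D.monomialSubgroup F = D.diagonalSubgroup F := by
  refine le_antisymm ?_ (le_inf le_sup_right le_sup_left)
  rintro n ⟨hb, hn⟩
  obtain ⟨L, hL⟩ := hK.exists_moves hn
  by_cases h1 : wPerm hK L = 1
  · exact hK.mem_diagonal_of_moves_one hn (h1 ▸ hL)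
  exfalso
  obtain ⟨j, hj⟩ := hK.exists_descent L.length L le_rfl h1
  obtain ⟨a, ha⟩ := hL (pFin hK j)
  have hx : xU hK (pFin hK j).val (1 : F) ∈ D.borelSubgroup F :=
    Subgroup.mem_sup_left (hK.xU_mem_pos (hK.toGood.npos_le_p j.isLt) 1)
  have hmem : xU hK (wPerm hK L (pFin hK j)).val ((a : F) * 1) ∈
      D.borelSubgroup F ⊓ D.negUnipotent F :=
    ⟨ha 1 ▸ Subgroup.mul_mem _ (Subgroup.mul_mem _ hb hx) (Subgroup.inv_mem _ hb),
      hK.xU_mem_neg hj _⟩
  rw [hK.borel_inf_neg, Subgroup.mem_bot] at hmem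
  exact mul_ne_zero a.ne_zero one_ne_zero ((hK.xU_eq_one_iff (wPerm hK L (pFin hK j)).isLt _).1 hmem)

theorem pos_inf_monomial (hK : Fine K D) : D.posUnipotent F ⊓ D.monomialSubgroup F = ⊥ := by
  refine eq_bot_iff.2 fun g hg => ?_
  rw [← hK.pos_inf_diagonal, ← hK.borel_inf_monomial]
  exact ⟨hg.1, Subgroup.mem_sup_left hg.1, hg.2⟩

end Fine

end CfsgLib.Chev
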